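import Cfsg.Agent.InvCentPSL.PSLFacts
import Cfsg.Agent.TwoTimesPSL.PSLFacts

/-!
# The facts about a torus of `PSL₂(q)`, `q ≡ ±3 (mod 8)`, used by the local analysis
-/

set_option autoImplicit false
set_option linter.unusedSectionVars false
set_option linter.style.haveILetI false

namespace CfsgLib.JT

open Subgroup
open CfsgLib.Linear.SmallSub (P2)
open CfsgLib.NormCyclic (Inv)

/-- Two commuting involutions generate a four-group. -/
theorem closure_pair {G : Type*} [Group G] [Finite G] {a b : G} (ha : Inv a) (hb : Inv b) (hne : a ≠ b)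
    (hc : Commute a b) :
    IsKleinFour (closure ({a, b} : Set G)) ∧
      ∀ z ∈ closure ({a, b} : Set G), z = 1 ∨ z = a ∨ z = b ∨ z = a * b := by
  obtain ⟨V, hV, haV, hbV, hmem⟩ :=
    CfsgLib.Linear.FourGroups.exists_klein ha.1 ha.2 hb.1 hb.2 hne hc.eq
  have e : closure ({a, b} : Set G) = V := le_antisymm ((closure_le _).2 (by
      rintro z (rfl | rfl)
      exacts [haV, hbV])) fun z hz => by
    rcases hmem z hz with rfl | rfl | rfl | rfl
    exacts [one_mem _, subset_closure (Or.inl rfl), subset_closure (Or.inr rfl),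
      mul_mem (subset_closure (Or.inl rfl)) (subset_closure (Or.inr rfl))]
  rw [e]
  exact ⟨hV, hmem⟩

/-- The properties of `L = PSL₂(q)` around a torus that are used locally. -/
structure LShape {L : Type*} [Group L] (A : Subgroup L) (i0 j0 : L) : Prop where
  hi : Inv i0
  hj : Inv j0
  ne : i0 ≠ j0
  ij : Commute i0 j0
  Aodd : Odd (Nat.card A)
  Acomm : ∀ a ∈ A, ∀ b ∈ A, Commute a b
  Ai : ∀ a ∈ A, Commute i0 a
  Aj : ∀ a ∈ A, j0 * a * j0⁻¹ = a⁻¹
  cent : ∀ g, Commute g i0 → ∃ a ∈ A, g = a ∨ g = i0 * a ∨ g = j0 * a ∨ g = i0 * j0 * a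
  torus : ∀ a ∈ A, a ≠ 1 → ∀ g, Commute g a → Commute g i0
  cycle : ∃ c, Odd (orderOf c) ∧ c * i0 * c⁻¹ = j0 ∧ c * j0 * c⁻¹ = i0 * j0

variable {F : Type} [Field F] [Fintype F]

theorem card_cent_invol (hodd : Odd (Fintype.card F)) {v : P2 F} (hv : Inv v) :
    Nat.card (centralizer ({v} : Set (P2 F))) =
      if Fintype.card F % 4 = 1 then Fintype.card F - 1 else Fintype.card F + 1 := by
  obtain ⟨x, U, m, hx, hx1, -, -, -, hm, -, hC, -, -⟩ :=
    CfsgLib.Linear.FourGroups.centralizer_shape (F := F) hodd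
  obtain ⟨g, rfl⟩ :=
    isConj_iff.1 (CfsgLib.Linear.FourGroups.involutions_conj hodd hx hx1 hv.1 hv.2)
  have e : centralizer ({g * x * g⁻¹} : Set (P2 F)) =
      (centralizer ({x} : Set (P2 F))).map (MulAut.conj g).toMonoidHom := by
    ext z
    constructor
    · intro hz
      refine ⟨g⁻¹ * z * g, mem_centralizer_singleton_iff.2 ?_, by simp [mul_assoc]⟩
      have := mem_centralizer_singleton_iff.1 hz
      calc g⁻¹ * z * g * x = g⁻¹ * (z * (g * x * g⁻¹)) * g := by group
        _ = g⁻¹ * (g * x * g⁻¹ * z) * g := by rw [this]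
        _ = x * (g⁻¹ * z * g) := by group
    · rintro ⟨w, hw, rfl⟩
      exact mem_centralizer_singleton_iff.2
        ((Commute.conj_iff g).2 (mem_centralizer_singleton_iff.1 hw))
  rw [e, card_map_of_injective (MulAut.conj g).injective, hC, hm]

/-- The torus of a four-group of `PSL₂(q)`. -/
theorem lshape (h8 : Fintype.card F % 8 = 3 ∨ Fintype.card F % 8 = 5) {A : Subgroup (P2 F)}
    {i0 j0 : P2 F} (hi : orderOf i0 = 2) (hj : orderOf j0 = 2) (hij : i0 * j0 = j0 * i0)
    (hAc : ∀ a ∈ A, ∀ b ∈ A, a * b = b * a) (hAi : ∀ a ∈ A, i0 * a = a * i0)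
    (hAj : ∀ a ∈ A, j0 * a * j0⁻¹ = a⁻¹)
    (hA1 : 1 < Nat.card A) (hcard : 4 * Nat.card A =
      if Fintype.card F % 4 = 1 then Fintype.card F - 1 else Fintype.card F + 1) :
    LShape A i0 j0 := by
  classical
  have hodd : Odd (Fintype.card F) := Nat.odd_iff.2 (by omega)
  have hiI := Inv.of_orderOf hi
  have hjI := Inv.of_orderOf hj
  have hAodd : Odd (Nat.card A) := by
    rw [Nat.odd_iff]
    split_ifs at hcard <;> omega
  have hoa : ∀ a ∈ A, Odd (orderOf a) := fun a ha =>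
    hAodd.of_dvd_nat (orderOf_dvd_natCard _ ha)
  have hnot : ∀ w : P2 F, Inv w → w ∈ A → False := fun w hw hwA =>
    hw.2 (CfsgLib.DGroup.eq_one_of_sq hw.1 (hoa w hwA))
  have hne : i0 ≠ j0 := by
    intro e
    have hA : A = ⊥ := (Subgroup.eq_bot_iff_forall A).2 fun a ha =>
      CfsgLib.DGroup.eq_one_of_inv_eq (by
        rw [← hAj a ha, ← e, hAi a ha, mul_inv_cancel_right]) (hoa a ha)
    rw [hA, Subgroup.card_bot] at hA1
    exact lt_irrefl 1 hA1
  obtain ⟨hK, hKmem⟩ := closure_pair hiI hjI hne hij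
  set V := closure ({i0, j0} : Set (P2 F)) with hV
  have hiV : i0 ∈ V := subset_closure (Or.inl rfl)
  have hjV : j0 ∈ V := subset_closure (Or.inr rfl)
  refine ⟨hiI, hjI, hne, hij, hAodd, hAc, hAi, hAj, ?_, ?_, ?_⟩
  · intro g hg
    set S := centralizer ({i0} : Set (P2 F))
    let f : V × A → S := fun p => ⟨(p.1 : P2 F) * p.2, mul_mem (by
      rcases hKmem _ p.1.2 with e | e | e | e <;> rw [e]
      exacts [one_mem _, mem_centralizer_singleton_iff.2 rfl,
        mem_centralizer_singleton_iff.2 hij.symm,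
        mul_mem (mem_centralizer_singleton_iff.2 rfl) (mem_centralizer_singleton_iff.2 hij.symm)])
      (mem_centralizer_singleton_iff.2 (hAi _ p.2.2).symm)⟩
    have hinj : Function.Injective f := by
      rintro ⟨⟨v, hv⟩, ⟨a, ha⟩⟩ ⟨⟨w, hw⟩, ⟨b, hb⟩⟩ h
      have h' : v * a = w * b := congrArg Subtype.val h
      have h1 : w⁻¹ * v = b * a⁻¹ := by
        calc w⁻¹ * v = w⁻¹ * (v * a) * a⁻¹ := by group
          _ = b * a⁻¹ := by rw [h']; group
      have h2 : w⁻¹ * v = 1 := by
        by_contra h3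
        exact hnot _ ⟨CfsgLib.Linear.FourGroups.klein_sq hK (mul_mem (inv_mem hw) hv), h3⟩
          (h1 ▸ mul_mem hb (inv_mem ha))
      have h3 : v = w := (inv_mul_eq_one.1 h2).symm
      subst h3
      exact Prod.ext rfl (Subtype.ext (mul_left_cancel h'))
    have hbij := hinj.bijective_of_nat_card_le (le_of_eq (by
      rw [card_cent_invol hodd hiI, Nat.card_prod, hK.card_four, hcard]))
    obtain ⟨⟨⟨v, hv⟩, ⟨a, ha⟩⟩, he⟩ := hbij.2 ⟨g, mem_centralizer_singleton_iff.2 hg.eq⟩
    have he' : v * a = g := congrArg Subtype.val he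
    refine ⟨a, ha, ?_⟩
    rcases hKmem v hv with e | e | e | e <;> rw [e] at he'
    · exact Or.inl (by rw [← he', one_mul])
    · exact Or.inr (Or.inl he'.symm)
    · exact Or.inr (Or.inr (Or.inl he'.symm))
    · exact Or.inr (Or.inr (Or.inr he'.symm))
  · intro a ha ha1 g hg
    have h1 : Commute a (g * i0 * g⁻¹) := by
      have := (Commute.conj_iff g).2 ((show Commute i0 a from hAi a ha).symm)
      rwa [hg.eq, mul_inv_cancel_right] at this
    have h2 := (CfsgLib.InvCentPSL.dhyp hodd).inv_unique (CfsgLib.InvCentPSL.ti hodd) hiI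
      (hiI.conj g) (hoa a ha) ha1 (show Commute i0 a from hAi a ha).symm h1
    exact mul_inv_eq_iff_eq_mul.1 h2
  · haveI := Fact.mk Nat.prime_two
    obtain ⟨P, hP⟩ := (IsPGroup.of_card (G := V) (p := 2) (n := 2) (by rw [hK.card_four]; rfl)).exists_le_sylow
    have hPK := CfsgLib.Linear.SylowTwoSL.isKleinFour_sylow_psl rfl h8 P
    have hPV : (P : Subgroup (P2 F)) = V :=
      (eq_of_le_of_card_ge hP (by rw [hPK.card_four, hK.card_four])).symm
    obtain ⟨r, hr⟩ := CfsgLib.TwoTimesPSL.elemL_of_klein P hPK fun a b h1 h2 h3 h4 =>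
      CfsgLib.Linear.FourGroups.involutions_conj hodd h1 h2 h3 h4
    obtain ⟨n, hn⟩ := hr.rtrans i0 (hP hiV) j0 (hP hjV) hiI.2 hjI.2
    refine ⟨r ^ n, hr.rodd.of_dvd_nat (orderOf_pow_dvd n), hn, ?_⟩
    set c := r ^ n with hc
    have hcP : c * j0 * c⁻¹ ∈ V := by
      have := (mem_normalizer_iff.1 (pow_mem hr.rN n) j0).1 (hP hjV)
      rwa [hPV] at this
    rcases hKmem _ hcP with e | e | e | e
    · exact absurd (conj_eq_one_iff.1 e) hjI.2
    · exfalso
      obtain ⟨m, hm⟩ : Odd (orderOf c) := hr.rodd.of_dvd_nat (orderOf_pow_dvd n)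
      have h2 : Commute (c * c) i0 := mul_inv_eq_iff_eq_mul.1 (by
        rw [show c * c * i0 * (c * c)⁻¹ = c * (c * i0 * c⁻¹) * c⁻¹ by group, hn, e])
      have h3 : c * i0 * c⁻¹ = i0 := by
        have h4 : c = ((c * c) ^ (m + 1)) := by
          rw [← pow_two, ← pow_mul, show 2 * (m + 1) = orderOf c + 1 by omega, pow_succ,
            pow_orderOf_eq_one, one_mul]
        rw [h4, (h2.pow_left _).eq, mul_inv_cancel_right]
      exact hne (h3.symm.trans hn)
    · exfalso
      exact hne (mul_left_cancel (mul_right_cancel (hn.trans e.symm)))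
    · exact e

end CfsgLib.JT
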