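import Cfsg.Agent.JankoThompson.Local
import Cfsg.Agent.JankoThompson.LocalPSL

/-!
# The local configuration inside a group with an involution centraliser `C₂ × L`
-/

set_option autoImplicit false
set_option linter.unusedSectionVars false
set_option linter.style.haveILetI false

namespace CfsgLib.JT

open Subgroup
open CfsgLib.NormCyclic (Inv)

variable {G : Type*} [Group G] [Finite G] {L : Type*} [Group L] {A₀ : Subgroup L} {i0 j0 : L}

theorem mul_zmod_two : ∀ a b : Multiplicative (ZMod 2), a ≠ 1 → b ≠ 1 → a = b := by decide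

theorem mem_normalizer_of_maps (H : Subgroup G) {g : G} (h : ∀ x ∈ H, g * x * g⁻¹ ∈ H) :
    g ∈ normalizer (H : Set G) := by
  have hk : ∀ (k : ℕ), ∀ x ∈ H, g ^ k * x * (g ^ k)⁻¹ ∈ H := by
    intro k
    induction k with
    | zero => intro x hx; simpa using hx
    | succ k ih =>
      intro x hx
      rw [pow_succ', show g * g ^ k * x * (g * g ^ k)⁻¹ = g * (g ^ k * x * (g ^ k)⁻¹) * g⁻¹ by group]
      exact h _ (ih x hx)
  refine mem_normalizer_iff.2 fun x => ⟨h x, fun hx => ?_⟩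
  have h1 := hk (orderOf g - 1) _ hx
  rwa [show g ^ (orderOf g - 1) = g⁻¹ from eq_inv_of_mul_eq_one_left (by
    rw [← pow_succ, Nat.sub_add_cancel (orderOf_pos g), pow_orderOf_eq_one]), inv_inv,
    show g⁻¹ * (g * x * g⁻¹) * g = x by group] at h1

theorem LShape.center_trivial [Finite L] (hL : LShape A₀ i0 j0) (hA1 : A₀ ≠ ⊥) {l : L}
    (hl : ∀ g, Commute l g) : l = 1 := by
  obtain ⟨⟨a, ha⟩, ha1'⟩ := A₀.ne_bot_iff_exists_ne_one.1 hA1
  have ha1 : a ≠ 1 := fun e => ha1' (Subtype.ext e)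
  have hodd : ∀ b ∈ A₀, b⁻¹ = b → b = 1 := fun b hb h => CfsgLib.DGroup.eq_one_of_inv_eq h
    (hL.Aodd.of_dvd_nat (orderOf_dvd_natCard _ hb))
  have hinv : ∀ b ∈ A₀, Commute j0 b → b = 1 := fun b hb h => hodd b hb (by
    rw [← hL.Aj b hb, h.eq, mul_inv_cancel_right])
  obtain ⟨c, -, hc1, -⟩ := hL.cycle
  obtain ⟨b, hb, h | h | h | h⟩ := hL.cent l (hl i0)
  · rw [h]; exact hinv b hb (h ▸ (hl j0).symm)
  · exfalso
    have hb1 : b = 1 := hinv b hb (by
      have h1 := ((hl j0).symm)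
      rw [h] at h1
      have := hL.ij.symm.inv_right.mul_right h1
      rwa [← mul_assoc, inv_mul_cancel, one_mul] at this)
    rw [hb1, mul_one] at h
    exact hL.ne ((show c * i0 * c⁻¹ = i0 by rw [← h, (hl c).symm.eq, mul_inv_cancel_right]).symm.trans hc1)
  · exfalso
    refine ha1 (hinv a ha ?_)
    have h1 := hl a
    rw [h] at h1
    have h2 := (hL.Acomm a ha _ (inv_mem hb)).symm
    have := h1.mul_left h2
    rwa [mul_inv_cancel_right] at this
  · exfalso
    refine ha1 (hinv a ha ?_)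
    have h1 := hl a
    rw [h] at h1
    have h2 := (hL.Acomm a ha _ (inv_mem hb)).symm
    have h3 := h1.mul_left h2
    rw [mul_inv_cancel_right] at h3
    have := (hL.Ai a ha).mul_left h3
    rwa [← mul_assoc, hL.hi.1, one_mul] at this

variable {t : G} (ht : orderOf t = 2)
  (e : centralizer ({t} : Set G) ≃* Multiplicative (ZMod 2) × L)

/-- The copy of `L` inside `C(t)`. -/
def emb : L →* G :=
  (centralizer ({t} : Set G)).subtype.comp (e.symm.toMonoidHom.comp (MonoidHom.inr _ L))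

theorem emb_injective : Function.Injective (emb e) := fun a b h => by
  have h' : e.symm (1, a) = e.symm (1, b) := Subtype.ext h
  exact congrArg Prod.snd (e.symm.injective h')

theorem emb_cent (l : L) : Commute (emb e l) t :=
  mem_centralizer_singleton_iff.1 (e.symm (1, l)).2

set_option maxHeartbeats 2000000 in
include ht in
/-- The configuration. -/
theorem exists_loc (hL : LShape A₀ i0 j0) (hA1 : A₀ ≠ ⊥)
    (hsyl : ∀ P : Sylow 2 G, Nat.card (P : Subgroup G) = 8 ∧ ∀ x ∈ (P : Subgroup G), x * x = 1)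
    (hconj : ∀ z : G, orderOf z = 2 → IsConj t z) :
    ∃ D : Loc G, D.t = t ∧ D.U = closure ({t, emb e i0} : Set G) ∧ D.A = A₀.map (emb e) ∧
      D.y * t * D.y⁻¹ = emb e i0 ∧ (D.x = t * emb e j0 ∨ D.x = t * emb e i0 * emb e j0) := by
  classical
  haveI := Fact.mk Nat.prime_two
  haveI : Finite L := Finite.of_injective _ (emb_injective e)
  set i := emb e i0 with hi
  set j := emb e j0 with hj
  have htI := Inv.of_orderOf ht
  have hI : ∀ l : L, Inv l → Inv (emb e l) := fun l hl =>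
    ⟨by rw [← map_mul, hl.1, map_one], fun h => hl.2 (emb_injective e (by rw [h, map_one]))⟩
  have hiI : Inv i := hI _ hL.hi
  have hjI : Inv j := hI _ hL.hj
  -- `t` is the central factor
  have htc : t ∈ centralizer ({t} : Set G) := mem_centralizer_singleton_iff.2 rfl
  obtain ⟨σ, hσ⟩ : ∃ σ, e ⟨t, htc⟩ = (σ, 1) := by
    refine ⟨(e ⟨t, htc⟩).1, Prod.ext rfl (hL.center_trivial hA1 fun l => ?_)⟩
    have h1 : Commute (⟨t, htc⟩ : centralizer ({t} : Set G)) (e.symm (1, l)) :=
      Subtype.ext (emb_cent e l).symm.eq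
    have := h1.map e.toMonoidHom
    simp only [MulEquiv.coe_toMonoidHom, MulEquiv.apply_symm_apply] at this
    exact congrArg Prod.snd this.eq
  have hσ1 : σ ≠ 1 := fun h => htI.2 (congrArg Subtype.val
    (e.injective (hσ.trans (by rw [h, map_one]; rfl)) : (⟨t, htc⟩ : centralizer ({t} : Set G)) = 1))
  have hnot : ∀ l : L, t ≠ emb e l := fun l h => hσ1 (by
    have h1 : e ⟨t, htc⟩ = (1, l) := by
      rw [show (⟨t, htc⟩ : centralizer ({t} : Set G)) = e.symm (1, l) from Subtype.ext h,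
        e.apply_symm_apply]
    exact congrArg Prod.fst (hσ.symm.trans h1))
  have hsplit : ∀ g : G, Commute g t → ∃ l : L, g = emb e l ∨ g = t * emb e l := by
    intro g hg
    set gc : centralizer ({t} : Set G) := ⟨g, mem_centralizer_singleton_iff.2 hg.eq⟩
    refine ⟨(e gc).2, ?_⟩
    by_cases h : (e gc).1 = 1
    · left
      show g = ((e.symm (1, (e gc).2) : centralizer ({t} : Set G)) : G)
      rw [← h, Prod.mk.eta, e.symm_apply_apply]
    · right
      have hz := mul_zmod_two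
      show g = ((⟨t, htc⟩ * e.symm (1, (e gc).2) : centralizer ({t} : Set G)) : G)
      have h1 : (⟨t, htc⟩ : centralizer ({t} : Set G)) * e.symm (1, (e gc).2) = gc := by
        apply e.injective
        rw [map_mul, e.apply_symm_apply, hσ, Prod.mk_mul_mk, mul_one, one_mul, hz σ _ hσ1 h]
      rw [h1]
  have hit : Commute t i := (emb_cent e i0).symm
  have hjt : Commute t j := (emb_cent e j0).symm
  have hij : Commute i j := hL.ij.map (emb e)
  -- the Sylow subgroup `T`
  obtain ⟨hV, hVmem⟩ := closure_pair hiI hjI (fun h => hL.ne (emb_injective e h)) hij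
  set V := closure ({i, j} : Set G) with hVdef
  have hiV : i ∈ V := subset_closure (Or.inl rfl)
  have hjV : j ∈ V := subset_closure (Or.inr rfl)
  have hVt : ∀ v ∈ V, Commute t v := by
    intro v hv
    rcases hVmem v hv with h | h | h | h <;> rw [h]
    exacts [Commute.one_right _, hit, hjt, hit.mul_right hjt]
  have hVl : ∀ v ∈ V, ∃ l : L, v = emb e l := by
    intro v hv
    rcases hVmem v hv with h | h | h | h
    exacts [⟨1, by rw [h, map_one]⟩, ⟨i0, h⟩, ⟨j0, h⟩, ⟨i0 * j0, by rw [h, map_mul]⟩]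
  have htV : t ∉ V := fun h => (hVl t h).elim hnot
  have hp2 : IsPGroup 2 (zpowers t ⊔ V : Subgroup G) :=
    IsPGroup.to_sup_of_normal_right' (IsPGroup.of_card (n := 1) (by rw [Nat.card_zpowers, ht, pow_one]))
      (IsPGroup.of_card (n := 2) (by rw [hV.card_four]; rfl)) (by
        rw [zpowers_le]
        exact centralizer_le_normalizer _ (mem_centralizer_iff.2 fun v hv => (hVt v hv).symm.eq))
  obtain ⟨T, hT⟩ := hp2.exists_le_sylow
  have hTsq : ∀ x ∈ (T : Subgroup G), x * x = 1 := (hsyl T).2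
  haveI hTc : IsMulCommutative (T : Subgroup G) := ⟨⟨fun a b => Subtype.ext (by
    have h := hTsq _ (mul_mem a.2 b.2)
    calc (a : G) * b = ((a : G) * b)⁻¹ := (inv_eq_of_mul_eq_one_right h).symm
      _ = (b : G) * a := by
        rw [mul_inv_rev, inv_eq_of_mul_eq_one_right (hTsq _ a.2),
          inv_eq_of_mul_eq_one_right (hTsq _ b.2)])⟩⟩
  have habel : ∀ P : Sylow 2 G, IsMulCommutative (P : Subgroup G) := fun P => ⟨⟨fun a b => Subtype.ext (by
    have h := (hsyl P).2 _ (mul_mem a.2 b.2)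
    calc (a : G) * b = ((a : G) * b)⁻¹ := (inv_eq_of_mul_eq_one_right h).symm
      _ = (b : G) * a := by
        rw [mul_inv_rev, inv_eq_of_mul_eq_one_right ((hsyl P).2 _ a.2),
          inv_eq_of_mul_eq_one_right ((hsyl P).2 _ b.2)])⟩⟩
  have htT : t ∈ (T : Subgroup G) := hT (mem_sup_left (mem_zpowers t))
  have hVT : V ≤ (T : Subgroup G) := le_sup_right.trans hT
  have hTcomm : ∀ a ∈ (T : Subgroup G), ∀ b ∈ (T : Subgroup G), Commute a b := fun a ha b hb =>
    congrArg Subtype.val (hTc.is_comm.comm ⟨a, ha⟩ ⟨b, hb⟩)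
  have hTcases : ∀ x ∈ (T : Subgroup G), x ∈ V ∨ t * x ∈ V := by
    intro x hx
    haveI := Fintype.ofFinite G
    set s : Finset G := Finset.univ.filter fun g => g ∈ V ∨ t * g ∈ V
    set s' : Finset G := Finset.univ.filter fun g => g ∈ (T : Subgroup G)
    have hss : s ⊆ s' := fun g hg => by
      simp only [s, s', Finset.mem_filter, Finset.mem_univ, true_and] at hg ⊢
      rcases hg with h | h
      · exact hVT h
      · simpa [← mul_assoc, htI.1] using mul_mem htT (hVT h)
    have hcard : s'.card ≤ s.card := by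
      rw [show s'.card = 8 by
        rw [← Fintype.card_subtype, ← Nat.card_eq_fintype_card]; exact (hsyl T).1]
      have hsplit' : s = (Finset.univ.filter fun g => g ∈ V) ∪
          (Finset.univ.filter fun g => g ∈ V).image (t * ·) := by
        ext g
        simp only [s, Finset.mem_filter, Finset.mem_univ, true_and, Finset.mem_union, Finset.mem_image]
        refine or_congr_right ⟨fun h => ⟨t * g, h, by rw [← mul_assoc, htI.1, one_mul]⟩, ?_⟩
        rintro ⟨v, hv, rfl⟩
        rwa [← mul_assoc, htI.1, one_mul]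
      rw [hsplit', Finset.card_union_of_disjoint, Finset.card_image_of_injective _ (mul_right_injective t),
        show (Finset.univ.filter fun g => g ∈ V).card = 4 by
          rw [← Fintype.card_subtype, ← Nat.card_eq_fintype_card]; exact hV.card_four]
      rw [Finset.disjoint_left]
      intro g hg hg'
      simp only [Finset.mem_filter, Finset.mem_univ, true_and, Finset.mem_image] at hg hg'
      obtain ⟨v, hv, rfl⟩ := hg'
      exact htV (by simpa using mul_mem hg (inv_mem hv))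
    have hxs : x ∈ s := by rw [Finset.eq_of_subset_of_card_le hss hcard]; simp [s', hx]
    simpa [s] using hxs
  set N := normalizer ((T : Subgroup G) : Set G) with hN
  have htrans : ∀ z ∈ (T : Subgroup G), z ≠ 1 → ∃ n ∈ N, n * t * n⁻¹ = z := by
    intro z hz hz1
    obtain ⟨g, hg⟩ := isConj_iff.1 (hconj z (orderOf_eq_prime (by rw [pow_two, hTsq z hz]) hz1))
    obtain ⟨n, hn, hne⟩ := T.conj_eq_normalizer_conj_of_mem t g⁻¹ htT (by rwa [inv_inv, hg])
    refine ⟨n⁻¹, inv_mem hn, ?_⟩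
    rw [inv_inv, ← hne, inv_inv, hg]
  -- the element of order three fixing `t`
  obtain ⟨c, hcodd, hc1, hc2⟩ := hL.cycle
  set p := emb e c with hpdef
  have hpt : p * t * p⁻¹ = t := by rw [(emb_cent e c).eq, mul_inv_cancel_right]
  have hp1 : p * i * p⁻¹ = j := by rw [hi, hj, hpdef, ← map_inv, ← map_mul, ← map_mul, hc1]
  have hp2' : p * j * p⁻¹ = i * j := by
    rw [hi, hj, hpdef, ← map_inv, ← map_mul, ← map_mul, hc2, map_mul]
  have hp3 : p * (i * j) * p⁻¹ = i := by
    rw [show p * (i * j) * p⁻¹ = p * i * p⁻¹ * (p * j * p⁻¹) by group, hp1, hp2', ← mul_assoc,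
      hij.symm.eq, mul_assoc, hjI.1, mul_one]
  have hpV : ∀ v ∈ V, p * v * p⁻¹ ∈ V := by
    intro v hv
    rcases hVmem v hv with h | h | h | h <;> rw [h]
    · simp
    · rwa [hp1]
    · rw [hp2']; exact mul_mem hiV hjV
    · rwa [hp3]
  have hpN : p ∈ N := by
    refine CfsgLib.JT.mem_normalizer_of_maps _ fun x hx => ?_
    rcases hTcases x hx with h | h
    · exact hVT (hpV x h)
    · have h1 := mul_mem htT (hVT (hpV _ h))
      rwa [show p * (t * x) * p⁻¹ = p * t * p⁻¹ * (p * x * p⁻¹) by group, hpt, ← mul_assoc, htI.1,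
        one_mul] at h1
  have hporb : ∀ u ∈ V, u ≠ 1 → ∃ k : ℕ, p ^ k * i * (p ^ k)⁻¹ = u := by
    intro u hu hu1
    rcases hVmem u hu with h | h | h | h
    · exact absurd h hu1
    · exact ⟨0, by simp [h]⟩
    · exact ⟨1, by rw [pow_one, hp1, h]⟩
    · exact ⟨2, by rw [conj_two, hp1, hp2', h]⟩ -- A
  have hporb' : ∀ u ∈ V, u ≠ 1 → ∃ k : ℕ, p ^ k * u * (p ^ k)⁻¹ = i := by
    intro u hu hu1
    rcases hVmem u hu with h | h | h | h
    · exact absurd h hu1
    · exact ⟨0, by simp [h]⟩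
    · exact ⟨2, by rw [conj_two, h, hp2', hp3]⟩
    · exact ⟨1, by rw [pow_one, h, hp3]⟩
  have hppow : ∀ k : ℕ, p ^ k * t * (p ^ k)⁻¹ = t := fun k => by
    rw [((emb_cent e c).pow_left k).eq, mul_inv_cancel_right]
  have hNconj : ∀ {n : G}, n ∈ N → ∀ {x : G}, x ∈ (T : Subgroup G) → n * x * n⁻¹ ∈ (T : Subgroup G) :=
    fun {n} hn {x} hx => (mem_normalizer_iff.1 hn x).1 hx
  -- move `V` onto the four-group `⟨t, i⟩`
  obtain ⟨m₁, hm₁, hm₁e⟩ := htrans i (hVT hiV) hiI.2
  have hm₁t : m₁⁻¹ * i * m₁ = t := by rw [← hm₁e]; group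
  obtain ⟨n₁, hn₁, hn₁V⟩ : ∃ n ∈ N, ∃ u ∈ V, n * u * n⁻¹ = t := ⟨m₁⁻¹, inv_mem hm₁, i, hiV, by
    rw [inv_inv, hm₁t]⟩
  obtain ⟨n, hnN, hnV, hni⟩ : ∃ n ∈ N, (∃ u ∈ V, n * u * n⁻¹ = t) ∧ ∃ u ∈ V, n * u * n⁻¹ = i := by
    obtain ⟨u, hu, hut⟩ := hn₁V
    have huI : u ≠ 1 := fun h => htI.2 (by rw [← hut, h]; simp)
    obtain ⟨v, hv, hvne⟩ : ∃ v ∈ V, v ≠ 1 ∧ v ≠ u := by
      by_cases h : u = i
      · exact ⟨j, hjV, hjI.2, fun h' => hL.ne (emb_injective e (h.symm.trans h'.symm))⟩
      · exact ⟨i, hiV, hiI.2, Ne.symm h⟩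
    have hw : n₁ * v * n₁⁻¹ ∈ (T : Subgroup G) := hNconj hn₁ (hVT hv)
    have hwne : n₁ * v * n₁⁻¹ ≠ 1 ∧ n₁ * v * n₁⁻¹ ≠ t :=
      ⟨fun h => hvne.1 (conj_eq_one_iff.1 h), fun h => hvne.2 (by
        have := h.trans hut.symm
        exact mul_left_cancel (mul_right_cancel this))⟩
    obtain ⟨u', hu', hu'e⟩ : ∃ u' ∈ V, n₁ * u' * n₁⁻¹ ∈ V ∧ n₁ * u' * n₁⁻¹ ≠ 1 := by
      rcases hTcases _ hw with h | h
      · exact ⟨v, hv, h, hwne.1⟩
      · refine ⟨u * v, mul_mem hu hv, ?_, ?_⟩ <;>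
          rw [show n₁ * (u * v) * n₁⁻¹ = n₁ * u * n₁⁻¹ * (n₁ * v * n₁⁻¹) by group, hut]
        · exact h
        · exact fun h' => hwne.2 (by rw [eq_inv_of_mul_eq_one_right h', htI.inv_eq])
    obtain ⟨k, hk⟩ := hporb' _ hu'e.1 hu'e.2
    refine ⟨p ^ k * n₁, mul_mem (pow_mem hpN k) hn₁, ⟨u, hu, ?_⟩, u', hu', ?_⟩
    · rw [show p ^ k * n₁ * u * (p ^ k * n₁)⁻¹ = p ^ k * (n₁ * u * n₁⁻¹) * (p ^ k)⁻¹ by group, hut,
        hppow]
    · rw [show p ^ k * n₁ * u' * (p ^ k * n₁)⁻¹ = p ^ k * (n₁ * u' * n₁⁻¹) * (p ^ k)⁻¹ by group, hk]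
  obtain ⟨hU, hUmem⟩ := closure_pair htI hiI (hnot i0) hit
  set U := closure ({t, i} : Set G) with hUdef
  have htU : t ∈ U := subset_closure (Or.inl rfl)
  have hiU : i ∈ U := subset_closure (Or.inr rfl)
  have hmap : V.map (MulAut.conj n).toMonoidHom = U := by
    refine (eq_of_le_of_card_ge ?_ (le_of_eq ?_)).symm
    · rw [closure_le]
      rintro z (rfl | rfl)
      · obtain ⟨u, hu, hue⟩ := hnV; exact ⟨u, hu, by simpa using hue⟩
      · obtain ⟨u, hu, hue⟩ := hni; exact ⟨u, hu, by simpa using hue⟩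
    · rw [card_map_of_injective (MulAut.conj n).injective, hV.card_four, hU.card_four]
  have hUT : U ≤ (T : Subgroup G) := (closure_le _).2 (by
    rintro z (rfl | rfl)
    exacts [htT, hVT hiV])
  set x := n * t * n⁻¹ with hxdef
  have hxT : x ∈ (T : Subgroup G) := hNconj hnN htT
  have hxI : Inv x := htI.conj n
  have hxU : x ∉ U := by
    intro h
    rw [← hmap] at h
    obtain ⟨v, hv, hve⟩ := h
    have hvt : v = t := mul_left_cancel (mul_right_cancel (show n * v * n⁻¹ = n * t * n⁻¹ from hve))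
    exact htV (hvt ▸ hv)
  set y0 := n * p * n⁻¹ with hy0
  have hy0U : ∀ u ∈ U, y0 * u * y0⁻¹ ∈ U := by
    intro u hu
    rw [← hmap] at hu ⊢
    obtain ⟨v, hv, rfl⟩ := hu
    exact ⟨p * v * p⁻¹, hpV v hv, by simp [hy0, mul_assoc]⟩
  have hy0x : Commute y0 x := (Commute.conj_iff n).2 (emb_cent e c)
  have hy0odd : Odd (orderOf y0) := by
    rw [hy0, show n * p * n⁻¹ = MulAut.conj n p from rfl, MulEquiv.orderOf_eq, hpdef,
      orderOf_injective _ (emb_injective e)]
    exact hcodd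
  have hy0free : ∀ u ∈ U, y0 * u * y0⁻¹ = u → u = 1 := by
    intro u hu h
    rw [← hmap] at hu
    obtain ⟨v, hv, rfl⟩ := hu
    simp only [MulEquiv.coe_toMonoidHom, MulAut.conj_apply] at h ⊢
    have hv' : p * v * p⁻¹ = v := mul_left_cancel (mul_right_cancel
      (show n * (p * v * p⁻¹) * n⁻¹ = n * v * n⁻¹ by rw [← h, hy0]; group))
    suffices v = 1 by rw [this]; simp
    rcases hVmem v hv with e1 | e1 | e1 | e1
    · exact e1
    · rw [e1, hp1] at hv'; exact absurd (emb_injective e hv') hL.ne.symm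
    · rw [e1, hp2'] at hv'; exact absurd (mul_eq_right.1 hv') hiI.2
    · rw [e1, hp3] at hv'; exact absurd (mul_eq_left.1 hv'.symm) hjI.2
  obtain ⟨y, hyU, hyx, hyodd, hyfree, hyt⟩ : ∃ y : G, (∀ u ∈ U, y * u * y⁻¹ ∈ U) ∧ Commute y x ∧
      Odd (orderOf y) ∧ (∀ u ∈ U, y * u * y⁻¹ = u → u = 1) ∧ y * t * y⁻¹ = i := by
    by_cases h : y0 * t * y0⁻¹ = i
    · exact ⟨y0, hy0U, hy0x, hy0odd, hy0free, h⟩
    refine ⟨y0 ^ 2, fun u hu => ?_, hy0x.pow_left 2, hy0odd.of_dvd_nat (orderOf_pow_dvd 2), ?_, ?_⟩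
    · rw [conj_two]; exact hy0U _ (hy0U u hu)
    · intro u hu hh
      refine hy0free u hu ?_
      obtain ⟨m, hm⟩ := hy0odd
      have h2 : Commute (y0 ^ 2) u := mul_inv_eq_iff_eq_mul.1 hh
      have h4 : y0 = (y0 ^ 2) ^ (m + 1) := by
        rw [← pow_mul, show 2 * (m + 1) = orderOf y0 + 1 by omega, pow_succ, pow_orderOf_eq_one,
          one_mul]
      rw [h4, (h2.pow_left _).eq, mul_inv_cancel_right]
    · rw [conj_two]
      rcases hUmem _ (hy0U t htU) with e1 | e1 | e1 | e1
      · exact absurd (conj_eq_one_iff.1 e1) htI.2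
      · exact absurd (hy0free t htU e1) htI.2
      · exact absurd e1 h
      · rw [e1]
        rcases hUmem _ (hy0U _ (mul_mem htU hiU)) with e2 | e2 | e2 | e2
        · exact absurd (conj_eq_one_iff.1 e2) fun e3 => hnot i0
            ((eq_inv_of_mul_eq_one_left e3).trans hiI.inv_eq)
        · exfalso
          have h5 : y0 * i * y0⁻¹ = i := by
            have h6 : y0 * (t * i) * y0⁻¹ = t * i * (y0 * i * y0⁻¹) := by
              rw [show y0 * (t * i) * y0⁻¹ = y0 * t * y0⁻¹ * (y0 * i * y0⁻¹) by group, e1]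
            rw [e2, mul_assoc] at h6
            exact (eq_inv_of_mul_eq_one_right (mul_eq_left.1 h6.symm)).trans hiI.inv_eq
          exact hiI.2 (hy0free i hiU h5)
        · exact e2
        · exact absurd (hy0free _ (mul_mem htU hiU) e2) fun e3 => hnot i0
            ((eq_inv_of_mul_eq_one_left e3).trans hiI.inv_eq)
  -- which involution is `x`
  have hxj : x = t * j ∨ x = t * i * j := by
    rcases hTcases x hxT with h | h
    · exfalso
      -- an element exchanging `t` and `i`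
      obtain ⟨k, hk⟩ := hporb' x h hxI.2
      obtain ⟨u, hu, hut⟩ := hnV
      obtain ⟨l, hl⟩ := hporb u hu (fun h' => htI.2 (by rw [← hut, h']; simp))
      set g := p ^ k * n * p ^ l with hg
      have hg1 : g * t * g⁻¹ = i := by
        rw [hg, show p ^ k * n * p ^ l * t * (p ^ k * n * p ^ l)⁻¹ =
          p ^ k * (n * (p ^ l * t * (p ^ l)⁻¹) * n⁻¹) * (p ^ k)⁻¹ by group, hppow, ← hxdef, hk]
      have hg2 : g * i * g⁻¹ = t := by
        rw [hg, show p ^ k * n * p ^ l * i * (p ^ k * n * p ^ l)⁻¹ =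
          p ^ k * (n * (p ^ l * i * (p ^ l)⁻¹) * n⁻¹) * (p ^ k)⁻¹ by group, hl, hut, hppow]
      have hgN : g ∈ N := mul_mem (mul_mem (pow_mem hpN k) hnN) (pow_mem hpN l)
      obtain ⟨a, d, hd, hord⟩ := Nat.exists_eq_two_pow_mul_odd (orderOf_pos g).ne'
      have hsq : Commute (g * g) t := mul_inv_eq_iff_eq_mul.1 (by
        rw [show g * g * t * (g * g)⁻¹ = g * (g * t * g⁻¹) * g⁻¹ by group, hg1, hg2])
      have hd' : g ^ d * t * (g ^ d)⁻¹ = i := by
        obtain ⟨q, rfl⟩ := hd
        rw [pow_succ', pow_mul, pow_two, show g * (g * g) ^ q * t * (g * (g * g) ^ q)⁻¹ =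
          g * ((g * g) ^ q * t * ((g * g) ^ q)⁻¹) * g⁻¹ by group, (hsq.pow_left q).eq,
          mul_inv_cancel_right, hg1]
      have hz : IsPGroup 2 (zpowers (g ^ d)) := by
        have hdv : orderOf (g ^ d) ∣ 2 ^ a := orderOf_dvd_of_pow_eq_one (by
          rw [← pow_mul, mul_comm, ← hord, pow_orderOf_eq_one])
        obtain ⟨b, -, hb⟩ := (Nat.dvd_prime_pow Nat.prime_two).1 hdv
        exact IsPGroup.of_card (n := b) (by rw [Nat.card_zpowers, hb])
      obtain ⟨P, hP⟩ := (hz.to_sup_of_normal_right' T.isPGroup'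
        (zpowers_le.2 (pow_mem hgN d))).exists_le_sylow
      have hc' := (habel P).is_comm.comm ⟨g ^ d, hP (mem_sup_left (mem_zpowers _))⟩
        ⟨t, hP (mem_sup_right htT)⟩
      have hc'' : g ^ d * t = t * g ^ d := congrArg Subtype.val hc'
      rw [hc'', mul_inv_cancel_right] at hd'
      exact hnot i0 hd'
    · rcases hVmem _ h with h' | h' | h' | h'
      · exact absurd (by rw [eq_inv_of_mul_eq_one_right h', htI.inv_eq]; exact htU) hxU
      · exact absurd (by
          rw [show x = t * i by rw [← h', ← mul_assoc, htI.1, one_mul]]; exact mul_mem htU hiU) hxU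
      · exact Or.inl (by rw [← h', ← mul_assoc, htI.1, one_mul])
      · exact Or.inr (by rw [mul_assoc, ← h', ← mul_assoc, htI.1, one_mul])
  have hA : ∀ a ∈ A₀.map (emb e), Commute a t ∧ Commute a i ∧ x * a * x⁻¹ = a⁻¹ := by
    rintro _ ⟨b, hb, rfl⟩
    refine ⟨emb_cent e b, (hL.Ai b hb).symm.map (emb e), ?_⟩
    have h1 : j * emb e b * j⁻¹ = (emb e b)⁻¹ := by
      rw [hj, ← map_inv, ← map_mul, ← map_mul, hL.Aj b hb, map_inv]
    have h2 : Commute t (emb e b) := (emb_cent e b).symm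
    have h3 : Commute i (emb e b) := (hL.Ai b hb).map (emb e)
    rcases hxj with h' | h' <;> rw [h']
    · rw [show t * j * emb e b * (t * j)⁻¹ = t * (j * emb e b * j⁻¹) * t⁻¹ by group, h1,
        h2.inv_right.eq, mul_inv_cancel_right]
    · rw [show t * i * j * emb e b * (t * i * j)⁻¹ =
        t * (i * (j * emb e b * j⁻¹) * i⁻¹) * t⁻¹ by group, h1, h3.inv_right.eq,
        mul_inv_cancel_right, h2.inv_right.eq, mul_inv_cancel_right]
  refine ⟨⟨t, U, A₀.map (emb e), x, y, htI, htU, hU.card_four, fun u hu => hTsq u (hUT hu),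
    hyU, hyfree, hyodd, hyx, hxI, hxU, fun u hu => hTcomm x hxT u (hUT hu), ?_, ?_,
    fun a ha u hu => ?_, fun a ha => (hA a ha).2.2, ?_, ?_, habel⟩, rfl, rfl, rfl, hyt, hxj⟩
  · rw [card_map_of_injective (emb_injective e)]; exact hL.Aodd
  · rintro _ ⟨a, ha, rfl⟩ _ ⟨b, hb, rfl⟩
    exact (hL.Acomm a ha b hb).map (emb e)
  · rcases hUmem u hu with h | h | h | h <;> rw [h]
    exacts [Commute.one_right _, (hA a ha).1, (hA a ha).2.1, (hA a ha).1.mul_right (hA a ha).2.1]
  · intro g hg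
    have hgt := hg t htU
    obtain ⟨l, hl⟩ := hsplit g hgt
    have hli : Commute l i0 := by
      refine emb_injective e ?_
      rw [map_mul, map_mul]
      have h1 := hg i hiU
      rcases hl with h | h <;> rw [h] at h1
      · exact h1.eq
      · have h2 := hit.inv_left.mul_left h1
        rw [← mul_assoc, inv_mul_cancel, one_mul] at h2
        exact h2.eq
    obtain ⟨a, ha, hcases⟩ := hL.cent l hli
    -- write `g` as an element of `T` times an element of `A`
    obtain ⟨w, hw, hge⟩ : ∃ w ∈ (T : Subgroup G), g = w * emb e a := by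
      have hml : ∃ v ∈ V, emb e l = v * emb e a := by
        rcases hcases with h | h | h | h <;> rw [h]
        · exact ⟨1, one_mem _, by rw [one_mul]⟩
        · exact ⟨i, hiV, map_mul _ _ _⟩
        · exact ⟨j, hjV, map_mul _ _ _⟩
        · exact ⟨i * j, mul_mem hiV hjV, by rw [map_mul, map_mul]⟩
      obtain ⟨v, hv, hve⟩ := hml
      rcases hl with h | h
      · exact ⟨v, hVT hv, by rw [h, hve]⟩
      · exact ⟨t * v, mul_mem htT (hVT hv), by rw [h, hve, mul_assoc]⟩
    have hTU : w ∈ U ∨ x * w ∈ U := by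
      have hmemV : ∀ v ∈ V, v ∈ U ∨ t * j * v ∈ U ∧ t * i * j * v ∈ U := by
        intro v hv
        have e1 : ∀ z, j * (i * z) = i * (j * z) := fun z => by rw [← mul_assoc, ← hij.eq, mul_assoc]
        rcases hVmem v hv with h | h | h | h <;> rw [h]
        · exact Or.inl (one_mem _)
        · exact Or.inl hiU
        · refine Or.inr ⟨?_, ?_⟩ <;> simp only [mul_assoc, hjI.1, mul_one]
          exacts [htU, mul_mem htU hiU]
        · refine Or.inr ⟨?_, ?_⟩ <;> simp only [mul_assoc, e1, hjI.1, mul_one]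
          · exact mul_mem htU hiU
          · rw [hiI.1, mul_one]; exact htU
      have hxcase : ∀ v ∈ V, v ∈ U ∨ x * v ∈ U := fun v hv => (hmemV v hv).imp_right fun h => by
        rcases hxj with h' | h' <;> rw [h']
        exacts [h.1, h.2]
      rcases hTcases w hw with h | h
      · exact hxcase w h
      · rcases hxcase _ h with h' | h'
        · left; simpa [← mul_assoc, htI.1] using mul_mem htU h'
        · right
          have := mul_mem htU h'
          rwa [← mul_assoc, (hTcomm t htT x hxT).eq, mul_assoc, ← mul_assoc t, htI.1, one_mul] at this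
    rcases hTU with h | h
    · exact ⟨w, h, _, mem_map_of_mem _ ha, Or.inl hge⟩
    · exact ⟨x * w, h, _, mem_map_of_mem _ ha, Or.inr (by
        rw [hge, ← mul_assoc x, ← mul_assoc x, hxI.1, one_mul])⟩
  · rintro _ ⟨a, ha, rfl⟩ ha1 g hgt hga
    obtain ⟨l, hl⟩ := hsplit g hgt
    have hla : Commute l a := by
      refine emb_injective e ?_
      rw [map_mul, map_mul]
      rcases hl with h | h <;> rw [h] at hga
      · exact hga.eq
      · have h2 := (emb_cent e a).symm.inv_left.mul_left hga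
        rw [← mul_assoc, inv_mul_cancel, one_mul] at h2
        exact h2.eq
    obtain ⟨b, hb, hcases⟩ := hL.cent l (hL.torus a ha (fun h => ha1 (by rw [h, map_one])) l hla)
    have hbad : ¬ Commute j0 a := fun h => ha1 (by
      rw [CfsgLib.DGroup.eq_one_of_inv_eq (by rw [← hL.Aj a ha, h.eq, mul_inv_cancel_right])
        (hL.Aodd.of_dvd_nat (orderOf_dvd_natCard _ ha)), map_one])
    have hba : Commute b⁻¹ a := (hL.Acomm b hb a ha).inv_left
    rcases hcases with h | h | h | h
    · rcases hl with hg | hg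
      · exact ⟨1, one_mem _, _, mem_map_of_mem _ hb, by rw [hg, h, one_mul]⟩
      · exact ⟨t, htU, _, mem_map_of_mem _ hb, by rw [hg, h]⟩
    · rcases hl with hg | hg
      · exact ⟨i, hiU, _, mem_map_of_mem _ hb, by rw [hg, h, map_mul]⟩
      · exact ⟨t * i, mul_mem htU hiU, _, mem_map_of_mem _ hb, by rw [hg, h, map_mul, mul_assoc]⟩
    · rw [h] at hla
      have := hla.mul_left hba
      rw [mul_inv_cancel_right] at this
      exact absurd this hbad
    · rw [h] at hla
      have h3 := hla.mul_left hba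
      rw [mul_inv_cancel_right] at h3
      have := (hL.Ai a ha).mul_left h3
      rw [← mul_assoc, hL.hi.1, one_mul] at this
      exact absurd this hbad

end CfsgLib.JT
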