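import Cfsg.Agent.Char.Induction
import Cfsg.Agent.Char.Generalized
import Cfsg.Agent.Char.CliffordCorrespondence
import Cfsg.Agent.Char.ClassProducts

/-!
Induction along an injective homomorphism of functions supported on a set with controlled fusion, and the
counting equation for pairs of involutions tested against a virtual character.
-/

set_option autoImplicit false
set_option linter.style.haveILetI false

namespace CfsgLib.JT

open CfsgLib.Char Finset
open scoped ComplexConjugate

universe u v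

variable {G : Type u} [Group G] {D : Type v} [Group D] (ψ : D →* G) (hψ : Function.Injective ψ)

/-- The function induced along an injective homomorphism. -/
noncomputable def indH [Fintype G] (f : D → ℂ) : G → ℂ :=
  Cfsg.indFun ψ.range fun x => f ((MonoidHom.ofInjective hψ).symm x)

variable [Fintype G]

theorem isClassFunction_indH (f : D → ℂ) : Cfsg.IsClassFunction G (indH ψ hψ f) :=
  isClassFunction_indFun _ _

theorem isGeneralized_indH {f : D → ℂ} (hf : Cfsg.IsGeneralizedCharacter D f) :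
    Cfsg.IsGeneralizedCharacter G (indH ψ hψ f) :=
  IsGeneralized.indFun (IsGeneralized.comp hf (MonoidHom.ofInjective hψ).symm.toMonoidHom)

theorem indH_one (f : D → ℂ) (hf : f 1 = 0) : indH ψ hψ f 1 = 0 := by
  rw [indH, indFun_one, map_one, hf, mul_zero]

/-- Frobenius reciprocity. -/
theorem classInner_indH [Fintype D] (f : D → ℂ) {χ : G → ℂ} (hχ : Cfsg.IsClassFunction G χ) :
    Cfsg.classInner (indH ψ hψ f) χ = Cfsg.classInner f fun d => χ (ψ d) := by
  classical
  rw [indH, classInner_indFun _ hχ, classInner_def, classInner_def,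
    Nat.card_congr (MonoidHom.ofInjective hψ).symm.toEquiv]
  congr 1
  refine (Fintype.sum_equiv (MonoidHom.ofInjective hψ).toEquiv _ _ fun d => ?_).symm
  show _ = f ((MonoidHom.ofInjective hψ).symm (MonoidHom.ofInjective hψ d)) * _
  rw [MulEquiv.symm_apply_apply]
  rfl

/-- The induced function vanishes away from the conjugates of the support. -/
theorem indH_eq_zero (f : D → ℂ) {g : G} (hg : ∀ (x : G) (d : D), f d ≠ 0 → x⁻¹ * g * x ≠ ψ d) :
    indH ψ hψ f g = 0 := by
  classical
  rw [indH, indFun_def, Finset.sum_eq_zero fun x _ => ?_, mul_zero]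
  rw [extendByZero_eq]
  split_ifs with hm
  · by_contra hne
    refine hg x _ hne ?_
    exact (congrArg Subtype.val ((MonoidHom.ofInjective hψ).apply_symm_apply ⟨_, hm⟩)).symm
  · rfl

/-- The value on the support, when fusion is controlled by the cosets `rep i * ψ D`. -/
theorem indH_apply [Fintype D] {ι : Type*} [Fintype ι] (f : D → ℂ) (hf : Cfsg.IsClassFunction D f)
    (S : Set D) (hS : ∀ d, d ∉ S → f d = 0) (rep : ι → G) (act : ι → D → D)
    (hact : ∀ i d, ψ (act i d) = (rep i)⁻¹ * ψ d * rep i)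
    (hinj : ∀ i j, (rep i)⁻¹ * rep j ∈ ψ.range → i = j)
    (hfus : ∀ (x : G), ∀ d ∈ S, ∀ d' ∈ S, x⁻¹ * ψ d * x = ψ d' → ∃ i c, x = rep i * ψ c)
    {d : D} (hd : d ∈ S) : indH ψ hψ f (ψ d) = ∑ i, f (act i d) := by
  classical
  rw [indH, indFun_def]
  set F : G → ℂ := fun x =>
    Cfsg.extendByZero ψ.range (fun y => f ((MonoidHom.ofInjective hψ).symm y)) (x⁻¹ * ψ d * x)
  have hval : ∀ e : D, Cfsg.extendByZero ψ.range (fun y => f ((MonoidHom.ofInjective hψ).symm y)) (ψ e) = f e := by
    intro e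
    rw [extendByZero_of_mem _ (⟨e, rfl⟩ : ψ e ∈ ψ.range)]
    exact congrArg f ((MonoidHom.ofInjective hψ).symm_apply_apply e)
  have hmap : ∀ p : ι × D, F (rep p.1 * ψ p.2) = f (act p.1 d) := by
    rintro ⟨i, c⟩
    simp only [F]
    rw [show (rep i * ψ c)⁻¹ * ψ d * (rep i * ψ c) = ψ (c⁻¹ * act i d * c) by
      rw [map_mul, map_mul, map_inv, hact]; group, hval]
    have := hf (act i d) c⁻¹
    rwa [inv_inv] at this
  have hinj' : Function.Injective fun p : ι × D => rep p.1 * ψ p.2 := by
    rintro ⟨i, a⟩ ⟨j, b⟩ hab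
    have hij : i = j := hinj i j ⟨a * b⁻¹, by
      have h2 : (rep i)⁻¹ * (rep i * ψ a) = (rep i)⁻¹ * (rep j * ψ b) := by simp only at hab; rw [hab]
      rw [inv_mul_cancel_left] at h2
      rw [map_mul, map_inv, h2]; group⟩
    subst hij
    exact Prod.ext rfl (hψ (mul_left_cancel hab))
  rw [show ∑ x : G, _ = ∑ x : G, F x from rfl,
    ← Finset.sum_subset (Finset.subset_univ (Finset.univ.image fun p : ι × D => rep p.1 * ψ p.2)) (fun x _ hx => ?_),
    Finset.sum_image fun p _ q _ h => hinj' h, Finset.sum_congr rfl fun p _ => hmap p,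
    Fintype.sum_prod_type]
  · simp only [Finset.sum_const, Finset.card_univ, nsmul_eq_mul]
    rw [← Finset.mul_sum, Nat.card_congr (MonoidHom.ofInjective hψ).symm.toEquiv, Nat.card_eq_fintype_card,
      inv_mul_cancel_left₀ (Nat.cast_ne_zero.2 Fintype.card_ne_zero)]
  · simp only [F]
    rw [extendByZero_eq]
    split_ifs with hm
    · by_contra hne
      set d' := (MonoidHom.ofInjective hψ).symm ⟨_, hm⟩ with hd'
      have e : x⁻¹ * ψ d * x = ψ d' :=
        (congrArg Subtype.val ((MonoidHom.ofInjective hψ).apply_symm_apply ⟨_, hm⟩)).symm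
      obtain ⟨i, c, rfl⟩ := hfus x d hd d' (by by_contra h; exact hne (hS d' h)) e
      exact hx (Finset.mem_image.2 ⟨(i, c), Finset.mem_univ _, rfl⟩)
    · rfl

/-- The inner product of two induced functions. -/
theorem classInner_indH_indH [Fintype D] {ι : Type*} [Fintype ι] (f f' : D → ℂ)
    (hf' : Cfsg.IsClassFunction D f') (S : Set D) (hS : ∀ d, d ∉ S → f d = 0) (hS' : ∀ d, d ∉ S → f' d = 0)
    (rep : ι → G) (act : ι → D → D) (hact : ∀ i d, ψ (act i d) = (rep i)⁻¹ * ψ d * rep i)
    (hinj : ∀ i j, (rep i)⁻¹ * rep j ∈ ψ.range → i = j)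
    (hfus : ∀ (x : G), ∀ d ∈ S, ∀ d' ∈ S, x⁻¹ * ψ d * x = ψ d' → ∃ i c, x = rep i * ψ c) :
    Cfsg.classInner (indH ψ hψ f) (indH ψ hψ f') =
      ∑ i, Cfsg.classInner f fun d => f' (act i d) := by
  classical
  rw [classInner_indH ψ hψ f (isClassFunction_indH ψ hψ f')]
  simp only [classInner_def, ← Finset.mul_sum]
  congr 1
  rw [Finset.sum_comm]
  refine Finset.sum_congr rfl fun d _ => ?_
  by_cases hd : d ∈ S
  · rw [indH_apply ψ hψ f' hf' S hS' rep act hact hinj hfus hd, map_sum, Finset.mul_sum]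
  · simp [hS d hd]

/-- The number of ways of writing `g` as a product of two conjugates of `t`. -/
noncomputable def pairsN (t g : G) : ℂ :=
  (Nat.card {p : G × G // IsConj t p.1 ∧ IsConj t p.2 ∧ p.1 * p.2 = g} : ℂ)

theorem pairsN_eq_sum [DecidableEq G] (t g : G) : pairsN t g = ∑ χ ∈ irrFinset G,
    ((Nat.card {x : G // IsConj t x} : ℂ) ^ 2 / (Nat.card G : ℂ) * (χ t * χ t / χ 1)) * conj (χ g) := by
  rw [pairsN, card_class_products, Finset.mul_sum]
  exact Finset.sum_congr rfl fun χ _ => by ring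

theorem isClassFunction_pairsN (t : G) : Cfsg.IsClassFunction G (pairsN t) := by
  classical
  intro g x
  rw [pairsN_eq_sum, pairsN_eq_sum]
  exact Finset.sum_congr rfl fun χ hχ => by rw [IsIrrCharacter.isClassFunction (mem_irrFinset.1 hχ) g x]

/-- The counting equation. -/
theorem classInner_pairsN (t : G) {f : G → ℂ} (z : (G → ℂ) → ℤ)
    (hz : ∀ χ ∈ irrFinset G, χ t = z χ) :
    Cfsg.classInner f (pairsN t) = (Nat.card {x : G // IsConj t x} : ℂ) ^ 2 / (Nat.card G : ℂ) *
      ∑ χ ∈ irrFinset G, Cfsg.classInner f χ * (z χ : ℂ) ^ 2 / χ 1 := by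
  classical
  have hreal : ∀ g, pairsN t g = ∑ χ ∈ irrFinset G,
      ((Nat.card {x : G // IsConj t x} : ℂ) ^ 2 / (Nat.card G : ℂ) * ((z χ : ℂ) ^ 2 / χ 1)) * χ g := by
    intro g
    have h := congrArg conj (pairsN_eq_sum t g)
    rw [pairsN, Complex.conj_natCast, map_sum] at h
    rw [pairsN, h]
    refine Finset.sum_congr rfl fun χ hχ => ?_
    obtain ⟨n, -, hn⟩ := IsIrrCharacter.exists_degree (mem_irrFinset.1 hχ)
    rw [map_mul, Complex.conj_conj, hz χ hχ, hn]
    simp only [map_mul, map_div₀, Complex.conj_natCast, map_intCast, pow_two]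
  rw [classInner_def, Finset.mul_sum]
  simp only [classInner_def, hreal, map_sum, Finset.mul_sum, Finset.sum_mul, Finset.sum_div]
  rw [Finset.sum_comm]
  refine Finset.sum_congr rfl fun χ hχ => ?_
  refine Finset.sum_congr rfl fun g _ => ?_
  obtain ⟨n, -, hn⟩ := IsIrrCharacter.exists_degree (mem_irrFinset.1 hχ)
  rw [map_mul, hn]
  simp only [map_mul, map_div₀, map_pow, Complex.conj_natCast, map_intCast]
  ring

end CfsgLib.JT
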