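import Cfsg.Agent.JankoThompson.Setting
import Cfsg.Agent.JankoThompson.Induce
import Cfsg.Agent.Char.GaloisTwist
import Cfsg.Agent.Char.PowTwist

/-!
The virtual characters of the section of an involution `t` with centraliser `C₂ × L`.
-/

set_option autoImplicit false
set_option linter.style.haveILetI false
set_option linter.unusedSectionVars false

namespace CfsgLib.JT

open CfsgLib.Char Finset
open scoped ComplexConjugate

universe u v

/-- An involution with centraliser `C₂ × L`, all involutions being conjugate. -/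
structure Ctx (G : Type u) [Group G] (L : Type v) [Group L] where
  t : G
  ht : orderOf t = 2
  e : ↥(Subgroup.centralizer ({t} : Set G)) ≃* Multiplicative (ZMod 2) × L
  et : e ⟨t, Subgroup.mem_centralizer_singleton_iff.2 rfl⟩ = (Multiplicative.ofAdd 1, 1)
  conjInv : ∀ x : G, orderOf x = 2 → IsConj t x

variable {G : Type u} [Group G] {L : Type v} [Group L] (K : Ctx G L)

/-- The embedding of `C₂ × L`. -/
noncomputable def Ctx.psi : Multiplicative (ZMod 2) × L →* G :=
  (Subgroup.centralizer ({K.t} : Set G)).subtype.comp K.e.symm.toMonoidHom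

theorem Ctx.psi_inj : Function.Injective K.psi :=
  Subtype.val_injective.comp K.e.symm.injective

/-- The embedding of `L`. -/
noncomputable def Ctx.emb : L →* G := K.psi.comp (MonoidHom.inr _ _)

theorem Ctx.emb_inj : Function.Injective K.emb := fun a b h => (Prod.ext_iff.1 (K.psi_inj h)).2

theorem Ctx.psi_t : K.psi (Multiplicative.ofAdd 1, 1) = K.t := by
  show ((K.e.symm (Multiplicative.ofAdd 1, 1) : ↥(Subgroup.centralizer ({K.t} : Set G))) : G) = K.t
  rw [← K.et, K.e.symm_apply_apply]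

theorem mult_two_cases : ∀ a : Multiplicative (ZMod 2), a = 1 ∨ a = Multiplicative.ofAdd 1 := by
  decide

theorem Ctx.psi_apply (a : Multiplicative (ZMod 2)) (l : L) :
    K.psi (a, l) = (if a = 1 then 1 else K.t) * K.emb l := by
  rcases mult_two_cases a with rfl | rfl
  · rw [if_pos rfl, one_mul]; rfl
  · rw [if_neg (by decide), ← K.psi_t]
    show _ = K.psi _ * K.psi (1, l)
    rw [← map_mul, Prod.mk_mul_mk, mul_one, one_mul]

theorem Ctx.mem_range_psi {g : G} (h : g * K.t = K.t * g) : g ∈ K.psi.range :=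
  ⟨K.e ⟨g, Subgroup.mem_centralizer_singleton_iff.2 h⟩, by
    show ((K.e.symm (K.e _) : ↥(Subgroup.centralizer ({K.t} : Set G))) : G) = g
    rw [K.e.symm_apply_apply]⟩

theorem Ctx.psi_comm (d : Multiplicative (ZMod 2) × L) : K.psi d * K.t = K.t * K.psi d :=
  Subgroup.mem_centralizer_singleton_iff.1 (K.e.symm d).2

theorem Ctx.t_mul_self : K.t * K.t = 1 := by
  rw [← sq, ← K.ht, pow_orderOf_eq_one]

theorem Ctx.t_ne : K.t ≠ 1 := fun h => by simpa [h] using K.ht

theorem Ctx.t_pow_odd {m : ℕ} (hm : Odd m) : K.t ^ m = K.t := by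
  obtain ⟨j, rfl⟩ := hm
  rw [pow_succ, pow_mul, pow_two, K.t_mul_self, one_pow, one_mul]

/-- An odd power kills `l` and leaves `t`. -/
theorem Ctx.pow_special (l : L) {m : ℕ} (hm : Odd m) (hl : l ^ m = 1) :
    K.psi (Multiplicative.ofAdd 1, l) ^ m = K.t := by
  rw [← map_pow, Prod.pow_mk, hl]
  have : (Multiplicative.ofAdd (1 : ZMod 2)) ^ m = Multiplicative.ofAdd 1 := by
    obtain ⟨j, rfl⟩ := hm
    rw [pow_succ, pow_mul, show (Multiplicative.ofAdd (1 : ZMod 2)) ^ 2 = 1 by decide, one_pow, one_mul]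
  rw [this, K.psi_t]

/-- A function on `C₂ × L` which kills the first factor. -/
noncomputable def lift2 (Φ : L → ℂ) : Multiplicative (ZMod 2) × L → ℂ := fun d => if d.1 = 1 then 0 else 2 * Φ d.2

/-- The sign of `C₂`. -/
def sgnTwo : Multiplicative (ZMod 2) →* ℂˣ where
  toFun a := if a = 1 then 1 else -1
  map_one' := if_pos rfl
  map_mul' a b := by
    rcases mult_two_cases a with rfl | rfl <;> rcases mult_two_cases b with rfl | rfl <;> simp +decide

theorem isGeneralized_lift2 {Φ : L → ℂ} (h : Cfsg.IsGeneralizedCharacter L Φ) :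
    Cfsg.IsGeneralizedCharacter (Multiplicative (ZMod 2) × L) (lift2 Φ) := by
  have h2 := IsGeneralized.mul
    (IsGeneralized.sub (isGeneralized_one (G := Multiplicative (ZMod 2) × L))
      (IsCharacter.isGeneralized (isCharacter_ofHom (sgnTwo.comp (MonoidHom.fst _ L)))))
    (IsGeneralized.comp h (MonoidHom.snd (Multiplicative (ZMod 2)) L))
  convert h2 using 1
  funext d
  rcases mult_two_cases d.1 with e | e <;>
    simp +decide [lift2, sgnTwo, Pi.mul_apply, e] <;> norm_num

variable [Fintype G]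

/-- The virtual character of the section attached to `Φ`. -/
noncomputable def Ctx.sect (Φ : L → ℂ) : G → ℂ := indH K.psi K.psi_inj (lift2 Φ)

theorem Ctx.isGeneralized_sect {Φ : L → ℂ} (h : Cfsg.IsGeneralizedCharacter L Φ) :
    Cfsg.IsGeneralizedCharacter G (K.sect Φ) := isGeneralized_indH _ _ (isGeneralized_lift2 h)

theorem Ctx.sect_one (Φ : L → ℂ) : K.sect Φ 1 = 0 := indH_one _ _ _ (by simp [lift2])

theorem Ctx.classInner_sect [Fintype L] (Φ : L → ℂ) {χ : G → ℂ} (hχ : Cfsg.IsClassFunction G χ) :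
    Cfsg.classInner (K.sect Φ) χ = (Nat.card L : ℂ)⁻¹ * ∑ l : L, Φ l * conj (χ (K.t * K.emb l)) := by
  classical
  rw [Ctx.sect, classInner_indH _ _ _ hχ, classInner_def, Fintype.sum_prod_type, Finset.sum_comm,
    Nat.card_prod, Nat.cast_mul, show Nat.card (Multiplicative (ZMod 2)) = 2 by simp,
    mul_inv, mul_comm ((2 : ℕ) : ℂ)⁻¹, mul_assoc]
  congr 1
  rw [Finset.mul_sum]
  refine Finset.sum_congr rfl fun l _ => ?_
  rw [show (Finset.univ : Finset (Multiplicative (ZMod 2))) = {1, Multiplicative.ofAdd 1} by decide,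
    Finset.sum_pair (by decide), K.psi_apply (Multiplicative.ofAdd 1) l, if_neg (by decide)]
  simp only [lift2, if_neg (show (Multiplicative.ofAdd (1 : ZMod 2)) ≠ 1 by decide), if_true, zero_mul,
    zero_add, Nat.cast_ofNat]
  ring

theorem Ctx.sect_apply [Fintype L] {Φ : L → ℂ} (hc : Cfsg.IsClassFunction L Φ)
    (h0 : ∀ x, Even (orderOf x) → Φ x = 0) {l : L} (hl : Odd (orderOf l)) :
    K.sect Φ (K.t * K.emb l) = 2 * Φ l := by
  classical
  have he : K.t * K.emb l = K.psi (Multiplicative.ofAdd 1, l) := by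
    rw [K.psi_apply, if_neg (by decide)]
  rw [he, Ctx.sect, indH_apply K.psi K.psi_inj (lift2 Φ) ?_ {d | d.1 ≠ 1 ∧ Odd (orderOf d.2)} ?_
    (fun _ : Unit => (1 : G)) (fun _ d => d) (by simp) (fun _ _ _ => rfl) ?_
    (show (Multiplicative.ofAdd (1 : ZMod 2), l) ∈ {d : Multiplicative (ZMod 2) × L | d.1 ≠ 1 ∧ Odd (orderOf d.2)} from ⟨show Multiplicative.ofAdd (1 : ZMod 2) ≠ 1 by decide, hl⟩), Fintype.sum_unique]
  · simp +decide [lift2]
  · intro d c
    simp only [lift2, Prod.fst_mul, Prod.fst_inv, Prod.snd_mul, Prod.snd_inv, mul_inv_cancel_comm]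
    rw [hc d.2 c.2]
  · intro d hd
    rcases d with ⟨a, x⟩
    simp only [Set.mem_ofPred_eq, not_and, Nat.not_odd_iff_even] at hd
    rcases mult_two_cases a with rfl | rfl
    · simp [lift2]
    · simp [lift2, h0 x (hd (by decide))]
  · rintro x ⟨a, p⟩ ⟨ha, hp⟩ ⟨b, p'⟩ ⟨hb, hp'⟩ hx
    obtain rfl := (mult_two_cases a).resolve_left ha
    obtain rfl := (mult_two_cases b).resolve_left hb
    have hm : Odd (orderOf p * orderOf p') := hp.mul hp'
    have h1 := K.pow_special p hm (by rw [pow_mul, pow_orderOf_eq_one, one_pow])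
    have h2 := K.pow_special p' hm (by rw [mul_comm, pow_mul, pow_orderOf_eq_one, one_pow])
    rw [← hx] at h2
    have e3 := conj_pow (i := orderOf p * orderOf p') (a := x⁻¹) (b := K.psi (Multiplicative.ofAdd 1, p))
    rw [inv_inv, h1, h2] at e3
    obtain ⟨c, hc'⟩ := K.mem_range_psi (g := x) (by
      calc x * K.t = x * (x⁻¹ * K.t * x) := by rw [← e3]
        _ = K.t * x := by group)
    exact ⟨(), c, by rw [hc', one_mul]⟩

theorem Ctx.sect_eq_zero_of_odd {Φ : L → ℂ} (h0 : ∀ x, Even (orderOf x) → Φ x = 0) {g : G}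
    (hg : Odd (orderOf g)) : K.sect Φ g = 0 := by
  refine indH_eq_zero _ _ _ fun x d hd hx => ?_
  rcases d with ⟨a, p⟩
  have ha : a ≠ 1 := fun e => hd (by simp [lift2, e])
  obtain rfl := (mult_two_cases a).resolve_left ha
  have hp : Odd (orderOf p) := by
    rw [← Nat.not_even_iff_odd]
    exact fun he => hd (by simp [lift2, h0 p he])
  have h1 := K.pow_special p (hp.mul hg) (by rw [pow_mul, pow_orderOf_eq_one, one_pow])
  rw [← hx] at h1
  have e3 := conj_pow (i := orderOf p * orderOf g) (a := x⁻¹) (b := g)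
  rw [inv_inv, h1, mul_comm (orderOf p), pow_mul, pow_orderOf_eq_one, one_pow, mul_one, inv_mul_cancel] at e3
  exact K.t_ne e3

theorem Ctx.classInner_sect_sect [Fintype L] {Φ Ψ : L → ℂ} (h0 : ∀ x, Even (orderOf x) → Φ x = 0)
    (hc' : Cfsg.IsClassFunction L Ψ) (h0' : ∀ x, Even (orderOf x) → Ψ x = 0) :
    Cfsg.classInner (K.sect Φ) (K.sect Ψ) = 2 * Cfsg.classInner Φ Ψ := by
  rw [K.classInner_sect Φ (show Cfsg.IsClassFunction G (K.sect Ψ) from isClassFunction_indH _ _ _), classInner_def, mul_left_comm, Finset.mul_sum _ _ (2 : ℂ)]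
  congr 1
  refine Finset.sum_congr rfl fun l _ => ?_
  rcases Nat.even_or_odd (orderOf l) with hl | hl
  · simp [h0 l hl]
  · rw [K.sect_apply hc' h0' hl, map_mul, Complex.conj_ofNat]; ring

theorem Ctx.classInner_sect_one [Fintype L] (Φ : L → ℂ) :
    Cfsg.classInner (K.sect Φ) (fun _ => 1) = Cfsg.classInner Φ (fun _ => 1) := by
  rw [K.classInner_sect Φ (IsIrrCharacter.isClassFunction isIrrCharacter_one), classInner_def]

theorem Ctx.isConj_iff_involution {x : G} : IsConj K.t x ↔ orderOf x = 2 :=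
  ⟨fun h => by
    obtain ⟨c, rfl⟩ := isConj_iff.1 h
    rw [show c * K.t * c⁻¹ = MulAut.conj c K.t from rfl, MulEquiv.orderOf_eq, K.ht], K.conjInv x⟩

/-- Pairs of involutions with product in the section of `t`. -/
theorem Ctx.pairsN_sect {l : L} (hl : Odd (orderOf l)) : pairsN K.t (K.t * K.emb l) =
    2 * (Nat.card {x : L // orderOf x = 2 ∧ x * l * x⁻¹ = l⁻¹} : ℂ) := by
  classical
  have hone : K.t * K.emb l = K.psi (Multiplicative.ofAdd 1, l) := by
    rw [K.psi_apply, if_neg (by decide)]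
  rw [pairsN, show (2 : ℂ) = ((2 : ℕ) : ℂ) by norm_num, ← Nat.cast_mul]
  congr 1
  rw [show ∀ n : ℕ, 2 * n = Nat.card (Multiplicative (ZMod 2)) * n by intro n; simp, ← Nat.card_prod]
  have hord : ∀ (a : Multiplicative (ZMod 2)) (x : L), x * x = 1 → (a, x) ≠ 1 →
      orderOf (K.psi (a, x)) = 2 := by
    intro a x hx hne
    rw [orderOf_injective K.psi K.psi_inj]
    refine orderOf_eq_prime ?_ hne
    rw [sq, Prod.mk_mul_mk, hx]
    rcases mult_two_cases a with rfl | rfl <;> rfl
  have hinv : ∀ {x : L}, x * x = 1 → x * l * x⁻¹ = l⁻¹ → (x * l) * (x * l) = 1 := by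
    intro x hx hxl
    rw [show x * l * (x * l) = x * l * x⁻¹ * (x * x) * l by group, hxl, hx]; group
  refine (Nat.card_congr (Equiv.ofBijective (fun p : Multiplicative (ZMod 2) ×
      {x : L // orderOf x = 2 ∧ x * l * x⁻¹ = l⁻¹} =>
    (⟨(K.psi (p.1, (p.2 : L)), K.psi (p.1 * Multiplicative.ofAdd 1, (p.2 : L) * l)), ?_⟩ :
      {q : G × G // IsConj K.t q.1 ∧ IsConj K.t q.2 ∧ q.1 * q.2 = K.t * K.emb l})) ⟨?_, ?_⟩)).symm
  · have hx : (p.2 : L) * p.2 = 1 := by
      have h2 := pow_orderOf_eq_one (p.2 : L)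
      rwa [p.2.2.1, sq] at h2
    have hx1 : (p.2 : L) ≠ 1 := fun h => by simpa [h] using p.2.2.1
    refine ⟨K.conjInv _ (hord _ _ hx fun h => hx1 (Prod.ext_iff.1 h).2),
      K.conjInv _ (hord _ _ (hinv hx p.2.2.2) fun h => ?_), ?_⟩
    · obtain ⟨h1, h2⟩ := Prod.ext_iff.1 h
      have h3 : l * l = 1 := by
        have := p.2.2.2
        rw [show (p.2 : L) = l⁻¹ from mul_eq_one_iff_eq_inv.1 h2] at this
        have h4 : l = l⁻¹ := by simpa using this
        nth_rw 2 [h4]; exact mul_inv_cancel l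
      have hl1 : l = 1 := by
        rw [← orderOf_eq_one_iff]
        rcases (Nat.dvd_prime Nat.prime_two).1 (orderOf_dvd_of_pow_eq_one (show l ^ 2 = 1 by rw [sq, h3])) with e | e
        · exact e
        · exact absurd (e ▸ hl) (by decide)
      exact hx1 (by simpa [hl1] using h2)
    · rw [hone, ← map_mul, Prod.mk_mul_mk, ← mul_assoc, ← mul_assoc, hx, one_mul]
      refine congrArg K.psi (Prod.ext ?_ rfl)
      rcases mult_two_cases p.1 with e | e <;> rw [e] <;> rfl
  · rintro ⟨a, x⟩ ⟨b, y⟩ h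
    have h1 := Prod.ext_iff.1 (K.psi_inj (congrArg (fun q => (q : _).val.1) h))
    exact Prod.ext h1.1 (Subtype.ext h1.2)
  · rintro ⟨⟨a, b⟩, ha, hb, hab⟩
    have ha2 : a * a = 1 := by rw [← sq, ← K.isConj_iff_involution.1 ha, pow_orderOf_eq_one]
    have hb2 : b * b = 1 := by rw [← sq, ← K.isConj_iff_involution.1 hb, pow_orderOf_eq_one]
    have hat : a * K.t = K.t * a := by
      have hw : a * (a * b) * a⁻¹ = (a * b)⁻¹ := by
        rw [inv_eq_of_mul_eq_one_right ha2, mul_inv_rev, inv_eq_of_mul_eq_one_right ha2,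
          inv_eq_of_mul_eq_one_right hb2, ← mul_assoc, ha2, one_mul]
      have e3 := conj_pow (i := orderOf l) (a := a) (b := a * b)
      rw [hw, inv_pow, hab, hone, K.pow_special l hl (pow_orderOf_eq_one l),
        inv_eq_of_mul_eq_one_right K.t_mul_self] at e3
      calc a * K.t = a * K.t * a⁻¹ * a := by group
        _ = K.t * a := by rw [← e3]
    obtain ⟨⟨c, x⟩, rfl⟩ := K.mem_range_psi hat
    have hbe : b = K.psi ((c, x) * (Multiplicative.ofAdd 1, l)) := by
      rw [map_mul, ← hone, ← hab, ← mul_assoc, ha2, one_mul]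
    have hx2 : x * x = 1 := (Prod.ext_iff.1 (K.psi_inj (ha2.trans (map_one K.psi).symm |> fun h => (map_mul K.psi _ _).trans h))).2
    have hy2 : x * l * (x * l) = 1 := by
      rw [hbe, ← map_mul, ← map_one K.psi] at hb2
      exact (Prod.ext_iff.1 (K.psi_inj hb2)).2
    have hx1 : x ≠ 1 := by
      rintro rfl
      have h3 : l ^ 2 = 1 := by rw [sq]; simpa using hy2
      have hl1 : l = 1 := by
        rw [← orderOf_eq_one_iff]
        rcases (Nat.dvd_prime Nat.prime_two).1 (orderOf_dvd_of_pow_eq_one h3) with e | e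
        · exact e
        · exact absurd (e ▸ hl) (by decide)
      subst hl1
      rcases mult_two_cases c with rfl | rfl
      · exact absurd (K.isConj_iff_involution.1 ha) (by rw [show ((1 : Multiplicative (ZMod 2)), (1 : L)) = 1 from rfl, map_one, orderOf_one]; norm_num)
      · refine absurd (K.isConj_iff_involution.1 hb) ?_
        have hb1 : b = 1 := by
          rw [hbe, show ((Multiplicative.ofAdd (1 : ZMod 2), (1 : L)) * (Multiplicative.ofAdd 1, 1)) = 1 from
            Prod.ext (by simp +decide) (one_mul 1), map_one]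
        show ¬ orderOf b = 2
        rw [hb1, orderOf_one]
        norm_num
    refine ⟨⟨c, x, orderOf_eq_prime (by rw [sq, hx2]) hx1, ?_⟩, Subtype.ext (Prod.ext rfl hbe.symm)⟩
    rw [eq_inv_iff_mul_eq_one, inv_eq_of_mul_eq_one_right hx2, mul_assoc (x * l), hy2]

theorem Ctx.classInner_sect_pairs [Fintype L] {Φ : L → ℂ} (h0 : ∀ x, Even (orderOf x) → Φ x = 0) :
    (Nat.card L : ℂ) * Cfsg.classInner (K.sect Φ) (pairsN K.t) =
      2 * ∑ s : L, Φ s * (Nat.card {x : L // orderOf x = 2 ∧ x * s * x⁻¹ = s⁻¹} : ℂ) := by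
  rw [K.classInner_sect Φ (isClassFunction_pairsN K.t), ← mul_assoc,
    mul_inv_cancel₀ (by simp), one_mul, Finset.mul_sum]
  refine Finset.sum_congr rfl fun l _ => ?_
  rcases Nat.even_or_odd (orderOf l) with hl | hl
  · simp [h0 l hl]
  · rw [K.pairsN_sect hl, map_mul, Complex.conj_natCast, Complex.conj_ofNat]; ring

end CfsgLib.JT
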