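import Cfsg.Agent.JankoThompson.LocalFree
import Cfsg.Agent.JankoThompson.LocalSetup
import Cfsg.Agent.JankoThompson.Sect

/-!
# The torus of a four group in the setting of `Ctx`
-/

set_option autoImplicit false
set_option linter.unusedSectionVars false
set_option linter.style.haveILetI false

namespace CfsgLib.JT

open Subgroup

universe u v

variable {G : Type u} [Group G]

/-- The free torus of a local configuration. -/
theorem Loc.freeTorus [Finite G] (D : Loc G) (hF : D.Free) (hA1 : D.A ≠ ⊥)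
    {i : G} (hi : D.y * D.t * D.y⁻¹ = i) (hU : D.U = closure ({D.t, i} : Set G)) :
    FreeTorus D.t i D.x D.y D.A := by
  have htU := D.tU
  have hiU : i ∈ D.U := hi ▸ D.yU _ htU
  have hne : D.t ≠ i := fun h => D.ht.2 (D.yfree _ htU (hi.trans h.symm))
  have hUA : closure ({D.t, i} : Set G) ⊔ D.A = D.UA := by
    rw [← hU]
    refine le_antisymm (sup_le D.U_le_UA D.A_le_UA) ?_
    rintro _ ⟨u, hu, a, ha, rfl⟩
    exact mul_mem (mem_sup_left hu) (mem_sup_right ha)
  refine
    { ht := D.ht.orderOf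
      hi := hi ▸ (D.ht.conj D.y).orderOf
      hne := hne
      hti := (D.U_comm htU hiU).eq
      hA := D.Aodd
      hA1 := hA1
      commA := fun a ha b hb => (D.Acomm a ha b hb).eq
      hAt := fun a ha => (D.AU a ha _ htU).symm.eq
      hAi := fun a ha => (D.AU a ha _ hiU).symm.eq
      hr := D.hx.1
      hrt := (D.xcomm _ htU).eq
      hri := (D.xcomm _ hiU).eq
      hrA := D.xinv
      hy3 := D.y_cubed
      hyt := hi
      hyi := by rw [← hi]; exact D.y_two
      hyA := fun a ha => D.y_conj_A ha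
      hyr := D.yx.eq
      free := hF
      cent := ?_
      norm := ?_ }
  · intro a ha ha1 g hg
    rw [hUA, ← D.cent_A hF ha ha1]
    exact mem_centralizer_singleton_iff.2 hg
  · intro g hg
    obtain ⟨n, hn, hc⟩ := D.norm_U (g := g) fun u hu => by
      rw [hU] at hu ⊢
      exact (mem_normalizer_iff.1 hg u).1 hu
    set c := (D.y ^ n)⁻¹ * g with hcd
    -- move the power of `y` to the right
    set z := D.y ^ n with hz
    have hUA' : ∀ w ∈ D.UA, z * w * z⁻¹ ∈ D.UA := by
      rintro _ ⟨u, hu, a, ha, rfl⟩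
      refine ⟨z * u * z⁻¹, D.y_pow_U n hu, z * a * z⁻¹, D.y_pow_A n ha, by group⟩
    have hzx : Commute z D.x := D.yx.pow_left n
    have hg' : g = z * c * z⁻¹ * z := by rw [hcd]; group
    rcases D.cent_cases hc with hm | hm
    · exact ⟨0, n, z * c * z⁻¹, hUA ▸ hUA' c hm, by norm_num, hn, by rw [pow_zero, mul_one]; exact hg'⟩
    · have hm' := D.x_inv_UA (hUA' _ hm)
      refine ⟨1, n, D.x * (z * (D.x * c) * z⁻¹) * D.x, hUA ▸ hm', by norm_num, hn, ?_⟩
      rw [pow_one, mul_assoc (D.x * _) D.x D.x, D.hx.1, mul_one]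
      conv_lhs => rw [hg']
      congr 1
      rw [show D.x * (z * (D.x * c) * z⁻¹) = D.x * (z * D.x) * c * z⁻¹ by group, hzx.eq,
        ← mul_assoc D.x D.x, D.hx.1, one_mul]

variable {L : Type v} [Group L]

/-- The local configuration in the setting of `Ctx`. -/
theorem Ctx.exists_loc [Finite G] (K : Ctx G L) {A₀ : Subgroup L} {i0 j0 : L}
    (hL : LShape A₀ i0 j0) (hA1 : A₀ ≠ ⊥)
    (hsyl : ∀ P : Sylow 2 G, Nat.card (P : Subgroup G) = 8 ∧ ∀ x ∈ (P : Subgroup G), x * x = 1) :
    ∃ D : Loc G, D.t = K.t ∧ D.U = closure ({K.t, K.emb i0} : Set G) ∧ D.A = A₀.map K.emb ∧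
      D.y * K.t * D.y⁻¹ = K.emb i0 ∧
      (D.x = K.t * K.emb j0 ∨ D.x = K.t * K.emb i0 * K.emb j0) :=
  CfsgLib.JT.exists_loc K.ht K.e hL hA1 hsyl K.conjInv

/-- Either some nontrivial element of the torus is fixed by the element of order three, or the
torus is free. -/
theorem Ctx.freeTorus_of_free [Finite G] (K : Ctx G L) {A₀ : Subgroup L} {i0 j0 : L}
    (hA1 : A₀ ≠ ⊥) (D : Loc G) (ht : D.t = K.t)
    (hU : D.U = closure ({K.t, K.emb i0} : Set G)) (hA : D.A = A₀.map K.emb)
    (hy : D.y * K.t * D.y⁻¹ = K.emb i0) (hF : D.Free) :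
    FreeTorus K.t (K.emb i0) D.x D.y (A₀.map K.emb) := by
  have h := D.freeTorus hF (fun e => hA1 (Subgroup.map_eq_bot_iff_of_injective _ K.emb_inj |>.1
    (hA ▸ e))) (i := K.emb i0) (by rw [ht, hy]) (by rw [ht, hU])
  rwa [ht, hA] at h

end CfsgLib.JT
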