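import Cfsg.Agent.JankoThompson.Induce
import Cfsg.Agent.Char.PowTwist
import Cfsg.Agent.SL2C.AbChar
import Mathlib.Data.Nat.ChineseRemainder

/-!
Integer multiplicities of virtual characters, permutations of the irreducible characters by power maps,
and pairs of inverse linear characters of a group of odd order.
-/

set_option autoImplicit false
set_option linter.style.haveILetI false

namespace CfsgLib.JT

open CfsgLib.Char Finset
open scoped ComplexConjugate Classical

universe u

variable {G : Type u} [Group G] [Fintype G]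

/-- The irreducible characters as an index type. -/
abbrev Irr (G : Type u) [Group G] [Fintype G] : Type u := {χ : G → ℂ // χ ∈ irrFinset G}

/-- The degree. -/
noncomputable def deg (c : Irr G) : ℕ :=
  (IsIrrCharacter.exists_degree (mem_irrFinset.1 c.2)).choose

theorem deg_pos (c : Irr G) : 0 < deg c :=
  (IsIrrCharacter.exists_degree (mem_irrFinset.1 c.2)).choose_spec.1

theorem deg_spec (c : Irr G) : (c : G → ℂ) 1 = (deg c : ℂ) :=
  (IsIrrCharacter.exists_degree (mem_irrFinset.1 c.2)).choose_spec.2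

/-- The trivial character. -/
noncomputable def triv (G : Type u) [Group G] [Fintype G] : Irr G :=
  ⟨fun _ => 1, mem_irrFinset.2 isIrrCharacter_one⟩

theorem deg_triv : deg (triv G) = 1 := by
  have h := deg_spec (triv G)
  simp only [triv] at h
  exact_mod_cast h.symm

theorem isClassFunction_irr (c : Irr G) : Cfsg.IsClassFunction G (c : G → ℂ) :=
  IsIrrCharacter.isClassFunction (mem_irrFinset.1 c.2)

/-- The integer multiplicity. -/
noncomputable def mlt (f : G → ℂ) (c : Irr G) : ℤ :=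
  if h : ∃ n : ℤ, Cfsg.classInner f (c : G → ℂ) = n then h.choose else 0

theorem mlt_spec {f : G → ℂ} (hf : Cfsg.IsGeneralizedCharacter G f) (c : Irr G) :
    Cfsg.classInner f (c : G → ℂ) = (mlt f c : ℂ) := by
  have h : ∃ n : ℤ, Cfsg.classInner f (c : G → ℂ) = n :=
    IsGeneralized.exists_classInner_eq_int hf (IsIrrCharacter.isGeneralized (mem_irrFinset.1 c.2))
  rw [mlt, dif_pos h]
  exact h.choose_spec

theorem sum_mlt_mul {f g : G → ℂ} (hf : Cfsg.IsGeneralizedCharacter G f)
    (hg : Cfsg.IsGeneralizedCharacter G g) :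
    ((∑ c, mlt f c * mlt g c : ℤ) : ℂ) = Cfsg.classInner f g := by
  rw [classInner_eq_sum_irr (IsGeneralized.isClassFunction hf) g,
    ← Finset.sum_attach (irrFinset G), ← Finset.univ_eq_attach]
  push_cast
  refine Finset.sum_congr rfl fun c _ => ?_
  rw [← mlt_spec hf c, ← mlt_spec hg c]
  first
    | rfl
    | (rw [mlt_spec hf c, mlt_spec hg c]; simp)

theorem sum_mlt_deg {f : G → ℂ} (hf : Cfsg.IsGeneralizedCharacter G f) (h1 : f 1 = 0) :
    ∑ c, mlt f c * (deg c : ℤ) = 0 := by
  have h := congrFun (eq_sum_irr (IsGeneralized.isClassFunction hf)) 1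
  rw [h1, Finset.sum_apply, ← Finset.sum_attach (irrFinset G), ← Finset.univ_eq_attach] at h
  have : ((∑ c, mlt f c * (deg c : ℤ) : ℤ) : ℂ) = 0 := by
    rw [h]
    push_cast
    exact Finset.sum_congr rfl fun c _ => by rw [Pi.smul_apply, smul_eq_mul, deg_spec, mlt_spec hf]
  exact_mod_cast this

theorem mlt_triv {f : G → ℂ} (hf : Cfsg.IsGeneralizedCharacter G f) :
    (mlt f (triv G) : ℂ) = Cfsg.classInner f (fun _ => 1) := (mlt_spec hf _).symm

/-- An exponent prime to `n`, congruent to `1` off `p` and to a non-square modulo `p`. -/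
theorem exists_swap_exponent {p n : ℕ} (hp : p.Prime) (hodd : p ≠ 2) (hn : 0 < n) :
    ∃ a : ℕ, a.Coprime n ∧ ¬ IsSquare (a : ZMod p) ∧ ∀ d : ℕ, d ∣ n → ¬ p ∣ d → a % d = 1 % d := by
  haveI := Fact.mk hp
  obtain ⟨b, hb⟩ := FiniteField.exists_nonsquare (F := ZMod p) (by rw [ZMod.ringChar_zmod_n]; exact hodd)
  set m := n / p ^ n.factorization p with hm
  have hcop : p.Coprime m := Nat.coprime_ordCompl hp hn.ne'
  obtain ⟨a, ha1, ha2⟩ := Nat.chineseRemainder hcop b.val 1
  have hap : (a : ZMod p) = b := by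
    rw [(ZMod.natCast_eq_natCast_iff _ _ _).2 ha1, ZMod.natCast_zmod_val]
  refine ⟨a, ?_, by rwa [hap], fun d hd hpd => ?_⟩
  · rw [← Nat.ordProj_mul_ordCompl_eq_self n p]
    refine Nat.Coprime.mul_right (Nat.Coprime.pow_right _ ?_) ?_
    · rw [Nat.coprime_comm, hp.coprime_iff_not_dvd, ← ZMod.natCast_eq_zero_iff]
      rw [hap]; rintro rfl; exact hb ⟨0, by simp⟩
    · exact (Nat.ModEq.gcd_eq ha2).trans (Nat.gcd_one_left _)
  · have hdm : d ∣ m := by
      have hcd : d.Coprime (p ^ n.factorization p) :=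
        (Nat.Coprime.pow_right _ ((hp.coprime_iff_not_dvd.2 hpd).symm))
      refine hcd.dvd_of_dvd_mul_left ?_
      rwa [Nat.ordProj_mul_ordCompl_eq_self n p]
    exact Nat.ModEq.of_dvd hdm ha2

theorem exists_powPerm {a : ℕ} (ha : a.Coprime (Nat.card G)) :
    ∃ s : Equiv.Perm (Irr G), ∀ c g, (s c : G → ℂ) g = (c : G → ℂ) (g ^ a) := by
  have hinj : Function.Injective fun c : Irr G =>
      (⟨fun g => (c : G → ℂ) (g ^ a), mem_irrFinset.2 (PowTwist.isIrrCharacter_pow ha (mem_irrFinset.1 c.2))⟩ : Irr G) := by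
    intro c c' h
    refine Subtype.ext (funext fun g => ?_)
    obtain ⟨x, hx⟩ := (powCoprime (G := G) ha.symm).surjective g
    rw [← hx]
    exact congrFun (congrArg Subtype.val h) x
  exact ⟨Equiv.ofBijective _ ⟨hinj, Finite.injective_iff_surjective.1 hinj⟩, fun c g => rfl⟩

/-- The setoid of inverse pairs. -/
def pairSetoid (A : Type u) [Group A] : Setoid {μ : A →* ℂˣ // μ ≠ 1} where
  r μ ν := ν.1 = μ.1 ∨ ν.1 = μ.1⁻¹
  iseqv :=
    ⟨fun μ => Or.inl rfl, fun {μ ν} h => by
      rcases h with h | h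
      · exact Or.inl h.symm
      · exact Or.inr (MonoidHom.ext fun a => by rw [h]; simp), fun {μ ν ρ} h h' => by
      rcases h with h | h <;> rcases h' with h' | h'
      · exact Or.inl (h'.trans h)
      · exact Or.inr (by rw [h', h])
      · exact Or.inr (h'.trans h)
      · exact Or.inl (MonoidHom.ext fun a => by rw [h', h]; simp)⟩

/-- Pairs of non-trivial linear characters. -/
abbrev Pair (A : Type u) [Group A] : Type u := Quotient (pairSetoid A)

noncomputable instance (A : Type u) [Group A] [Fintype A] : Fintype (Pair A) :=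
  haveI : Finite (Pair A) := Quotient.finite _
  Fintype.ofFinite _

/-- A representative. -/
noncomputable def Pair.rep {A : Type u} [Group A] (m : Pair A) : A →* ℂˣ := (Quotient.out m).1

theorem Pair.rep_ne {A : Type u} [Group A] (m : Pair A) : m.rep ≠ 1 := (Quotient.out m).2

theorem Pair.mk_rep {A : Type u} [Group A] (m : Pair A) (h : m.rep ≠ 1) :
    Quotient.mk (pairSetoid A) ⟨m.rep, h⟩ = m := Quotient.out_eq m

theorem Pair.eq_iff {A : Type u} [Group A] (m n : Pair A) :
    m = n ↔ (n.rep = m.rep ∨ n.rep = m.rep⁻¹) := by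
  constructor
  · rintro rfl; exact Or.inl rfl
  · intro h
    rw [← Pair.mk_rep m m.rep_ne, ← Pair.mk_rep n n.rep_ne]
    exact Quotient.sound h

theorem inv_ne_self {A : Type u} [Group A] [Fintype A] (hodd : Odd (Fintype.card A)) {μ : A →* ℂˣ}
    (h : μ ≠ 1) : μ⁻¹ ≠ μ := by
  intro e
  refine h (MonoidHom.ext fun a => ?_)
  have h2 : μ a * μ a = 1 := by
    nth_rw 1 [← e]; rw [MonoidHom.inv_apply, inv_mul_cancel]
  obtain ⟨j, hj⟩ := hodd
  have h3 : μ a ^ (2 * j + 1) = 1 := by rw [← map_pow, ← hj, pow_card_eq_one, map_one]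
  rwa [pow_succ, pow_mul, pow_two, h2, one_pow, one_mul] at h3

theorem inv_ne_one' {A : Type u} [Group A] {μ : A →* ℂˣ} (h : μ ≠ 1) : μ⁻¹ ≠ 1 := fun e =>
  h (MonoidHom.ext fun a => by simpa using DFunLike.congr_fun e a)

/-- A sum over non-trivial characters invariant under inversion counts each pair twice. -/
theorem sum_ne_one_eq {A : Type u} [Group A] [Fintype A] (hodd : Odd (Fintype.card A))
    {M : Type*} [AddCommMonoid M] (f : (A →* ℂˣ) → M) (hf : ∀ μ, f μ⁻¹ = f μ) :
    ∑ μ ∈ Finset.univ.filter (fun μ : A →* ℂˣ => μ ≠ 1), f μ = 2 • ∑ m : Pair A, f m.rep := by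
  rw [Finset.smul_sum, Finset.sum_subtype _ (p := fun μ : A →* ℂˣ => μ ≠ 1) (by simp) f,
    ← Finset.sum_fiberwise Finset.univ (fun μ => Quotient.mk (pairSetoid A) μ)]
  refine Finset.sum_congr rfl fun (m : Pair A) _ => ?_
  have hne : (⟨m.rep, m.rep_ne⟩ : {μ : A →* ℂˣ // μ ≠ 1}) ≠ ⟨m.rep⁻¹, inv_ne_one' m.rep_ne⟩ :=
    fun e => inv_ne_self hodd m.rep_ne (congrArg Subtype.val e).symm
  rw [show Finset.univ.filter (fun μ => Quotient.mk (pairSetoid A) μ = m) =
      {⟨m.rep, m.rep_ne⟩, ⟨m.rep⁻¹, inv_ne_one' m.rep_ne⟩} from ?_, Finset.sum_pair hne, hf, two_nsmul]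
  ext μ
  rw [Finset.mem_filter, Finset.mem_insert, Finset.mem_singleton]
  constructor
  · rintro ⟨-, h⟩
    have h' : (pairSetoid A).r ⟨m.rep, m.rep_ne⟩ μ :=
      Quotient.exact ((Pair.mk_rep m m.rep_ne).trans h.symm)
    rcases h' with h' | h'
    · exact Or.inl (Subtype.ext h')
    · exact Or.inr (Subtype.ext h')
  · intro h
    refine ⟨Finset.mem_univ _, ?_⟩
    rcases h with rfl | rfl
    · exact Pair.mk_rep m m.rep_ne
    · exact (Quotient.sound (show (pairSetoid A).r ⟨m.rep⁻¹, _⟩ ⟨m.rep, m.rep_ne⟩ from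
        Or.inr (MonoidHom.ext fun a => by simp))).trans (Pair.mk_rep m m.rep_ne)

end CfsgLib.JT
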