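import Cfsg.Agent.JankoThompson.Sect
import Cfsg.Agent.JankoThompson.Mult

/-!
The integer vectors of the involution section.
-/

set_option autoImplicit false
set_option linter.style.haveILetI false
set_option linter.unusedSectionVars false

namespace CfsgLib.JT

open CfsgLib.Char Finset
open scoped ComplexConjugate Classical

universe u v

variable {G : Type u} [Group G] [Fintype G] {L : Type v} [Group L] [Fintype L] {p : ℕ} {Q k h : ℤ}

attribute [local instance] LFns.lamFin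

theorem LFns.phi_cf (Lf : LFns L p Q k h) (i : Fin 3) : Cfsg.IsClassFunction L (Lf.phi i) :=
  IsGeneralized.isClassFunction (Lf.phi_gen i)

theorem LFns.phiM_cf (Lf : LFns L p Q k h) {μ : ↥Lf.A →* ℂˣ} (hμ : μ ≠ 1) :
    Cfsg.IsClassFunction L (Lf.phiM μ) := IsGeneralized.isClassFunction (Lf.phiM_gen μ hμ)

theorem LFns.phiL_cf (Lf : LFns L p Q k h) (l : Lf.lamT) : Cfsg.IsClassFunction L (Lf.phiL l) :=
  IsGeneralized.isClassFunction (Lf.phiL_gen l)

theorem LFns.odd_k (Lf : LFns L p Q k h) : k % 2 = 1 := by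
  have := Lf.hQ8; have := Lf.hk; omega

theorem LFns.odd_card_A (Lf : LFns L p Q k h) : Odd (Fintype.card ↥Lf.A) := by
  rw [Nat.odd_iff]
  have h1 := Lf.cardA
  rw [Nat.card_eq_fintype_card] at h1
  have h2 := Lf.odd_k
  rcases abs_choice k with e | e <;> omega

variable (K : Ctx G L) (Lf : LFns L p Q k h)

/-- The multiplicities in the three functions of the principal block. -/
noncomputable def Ctx.vX (i : Fin 3) (c : Irr G) : ℤ := mlt (K.sect (Lf.phi i)) c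

/-- The multiplicities in the functions of the pairs. -/
noncomputable def Ctx.vTh (m : Pair ↥Lf.A) (c : Irr G) : ℤ := mlt (K.sect (Lf.phiM m.rep)) c

/-- The multiplicities in the remaining functions. -/
noncomputable def Ctx.vTl (l : Lf.lamT) (c : Irr G) : ℤ := mlt (K.sect (Lf.phiL l)) c

/-- The value at `t`. -/
noncomputable def Ctx.vz (c : Irr G) : ℤ :=
  K.vX Lf 0 c + h * (K.vX Lf 1 c + K.vX Lf 2 c) + (Q - 1) * ∑ m, K.vTh Lf m c + (Q + 1) * ∑ l, K.vTl Lf l c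

theorem Ctx.gen_X (i : Fin 3) : Cfsg.IsGeneralizedCharacter G (K.sect (Lf.phi i)) :=
  K.isGeneralized_sect (Lf.phi_gen i)

theorem Ctx.gen_Th (m : Pair ↥Lf.A) : Cfsg.IsGeneralizedCharacter G (K.sect (Lf.phiM m.rep)) :=
  K.isGeneralized_sect (Lf.phiM_gen _ m.rep_ne)

theorem Ctx.gen_Tl (l : Lf.lamT) : Cfsg.IsGeneralizedCharacter G (K.sect (Lf.phiL l)) :=
  K.isGeneralized_sect (Lf.phiL_gen l)

theorem Ctx.vXX (i j : Fin 3) : ∑ c, K.vX Lf i c * K.vX Lf j c = if i = j then 4 else 2 := by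
  have e := sum_mlt_mul (K.gen_X Lf i) (K.gen_X Lf j)
  rw [K.classInner_sect_sect (Lf.phi_even i) (Lf.phi_cf j) (Lf.phi_even j), Lf.phi_phi] at e
  split_ifs with hij
  · rw [if_pos hij] at e; norm_num at e; exact_mod_cast e
  · rw [if_neg hij] at e; norm_num at e; exact_mod_cast e

theorem Ctx.vX_one (i : Fin 3) : K.vX Lf i (triv G) = if i = 0 then 1 else 0 := by
  have e := mlt_triv (K.gen_X Lf i)
  rw [K.classInner_sect_one, Lf.phi_one] at e
  split_ifs with hi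
  · rw [if_pos hi] at e; exact_mod_cast e
  · rw [if_neg hi] at e; exact_mod_cast e

theorem Ctx.vXTh (i : Fin 3) (m : Pair ↥Lf.A) : ∑ c, K.vX Lf i c * K.vTh Lf m c = 0 := by
  have e := sum_mlt_mul (K.gen_X Lf i) (K.gen_Th Lf m)
  rw [K.classInner_sect_sect (Lf.phi_even i) (Lf.phiM_cf m.rep_ne) (Lf.phiM_even _ m.rep_ne),
    Lf.phi_phiM i _ m.rep_ne, mul_zero] at e
  exact_mod_cast e

theorem Ctx.vXTl (i : Fin 3) (l : Lf.lamT) : ∑ c, K.vX Lf i c * K.vTl Lf l c = 0 := by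
  have e := sum_mlt_mul (K.gen_X Lf i) (K.gen_Tl Lf l)
  rw [K.classInner_sect_sect (Lf.phi_even i) (Lf.phiL_cf l) (Lf.phiL_even l), Lf.phi_phiL, mul_zero] at e
  exact_mod_cast e

theorem Ctx.vThTh (m n : Pair ↥Lf.A) : ∑ c, K.vTh Lf m c * K.vTh Lf n c = if m = n then 4 else 0 := by
  have e := sum_mlt_mul (K.gen_Th Lf m) (K.gen_Th Lf n)
  rw [K.classInner_sect_sect (Lf.phiM_even _ m.rep_ne) (Lf.phiM_cf n.rep_ne) (Lf.phiM_even _ n.rep_ne),
    Lf.phiM_phiM _ _ m.rep_ne n.rep_ne] at e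
  split_ifs with hmn
  · rw [if_pos ((Pair.eq_iff m n).1 hmn)] at e; norm_num at e; exact_mod_cast e
  · rw [if_neg (mt (Pair.eq_iff m n).2 hmn), mul_zero] at e; exact_mod_cast e

theorem Ctx.vThTl (m : Pair ↥Lf.A) (l : Lf.lamT) : ∑ c, K.vTh Lf m c * K.vTl Lf l c = 0 := by
  have e := sum_mlt_mul (K.gen_Th Lf m) (K.gen_Tl Lf l)
  rw [K.classInner_sect_sect (Lf.phiM_even _ m.rep_ne) (Lf.phiL_cf l) (Lf.phiL_even l),
    Lf.phiM_phiL _ m.rep_ne, mul_zero] at e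
  exact_mod_cast e

theorem Ctx.vTlTl (l l' : Lf.lamT) :
    ∑ c, K.vTl Lf l c * K.vTl Lf l' c = if l = l' then 2 else 0 := by
  have e := sum_mlt_mul (K.gen_Tl Lf l) (K.gen_Tl Lf l')
  rw [K.classInner_sect_sect (Lf.phiL_even l) (Lf.phiL_cf l') (Lf.phiL_even l'), Lf.phiL_phiL] at e
  split_ifs with hll
  · rw [if_pos hll] at e; norm_num at e; exact_mod_cast e
  · rw [if_neg hll, mul_zero] at e; exact_mod_cast e

theorem Ctx.vTh_one (m : Pair ↥Lf.A) : K.vTh Lf m (triv G) = 0 := by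
  have e := mlt_triv (K.gen_Th Lf m)
  rw [K.classInner_sect_one, Lf.phiM_one _ m.rep_ne] at e
  exact_mod_cast e

theorem Ctx.vTl_one (l : Lf.lamT) : K.vTl Lf l (triv G) = 0 := by
  have e := mlt_triv (K.gen_Tl Lf l)
  rw [K.classInner_sect_one, Lf.phiL_one] at e
  exact_mod_cast e

theorem Ctx.vX_deg (i : Fin 3) : ∑ c, K.vX Lf i c * (deg c : ℤ) = 0 :=
  sum_mlt_deg (K.gen_X Lf i) (K.sect_one _)

theorem Ctx.vTh_deg (m : Pair ↥Lf.A) : ∑ c, K.vTh Lf m c * (deg c : ℤ) = 0 :=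
  sum_mlt_deg (K.gen_Th Lf m) (K.sect_one _)

theorem Ctx.vTl_deg (l : Lf.lamT) : ∑ c, K.vTl Lf l c * (deg c : ℤ) = 0 :=
  sum_mlt_deg (K.gen_Tl Lf l) (K.sect_one _)

/-- The value of an irreducible character at `t`. -/
theorem Ctx.apply_t (c : Irr G) : (c : G → ℂ) K.t = (K.vz Lf c : ℂ) := by
  have hL : (Nat.card L : ℂ) ≠ 0 := by simp
  have hmlt : ∀ Φ : L → ℂ, Cfsg.IsGeneralizedCharacter L Φ →
      ∑ l : L, Φ l * conj ((c : G → ℂ) (K.t * K.emb l)) = (Nat.card L : ℂ) * (mlt (K.sect Φ) c : ℂ) := by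
    intro Φ hΦ
    rw [← mlt_spec (K.isGeneralized_sect hΦ) c, K.classInner_sect Φ (isClassFunction_irr c),
      ← mul_assoc, mul_inv_cancel₀ hL, one_mul]
  have hsum : ∑ l : L, (if l = 1 then 2 * (Nat.card L : ℂ) else 0) * conj ((c : G → ℂ) (K.t * K.emb l)) =
      2 * (Nat.card L : ℂ) * conj ((c : G → ℂ) K.t) := by
    rw [Finset.sum_eq_single (1 : L) (fun l _ hl => by rw [if_neg hl, zero_mul])
      (fun h => absurd (Finset.mem_univ _) h), if_pos rfl, map_one, mul_one]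
  have hpair : ∀ {ι : Type v} (S : Finset ι) (F : ι → L → ℂ), (∀ i ∈ S, Cfsg.IsGeneralizedCharacter L (F i)) →
      ∑ l : L, (∑ i ∈ S, F i l) * conj ((c : G → ℂ) (K.t * K.emb l)) =
        (Nat.card L : ℂ) * ∑ i ∈ S, (mlt (K.sect (F i)) c : ℂ) := by
    intro ι S F hF
    rw [Finset.mul_sum, Finset.sum_congr rfl fun l _ => Finset.sum_mul S (fun i => F i l) _, Finset.sum_comm]
    exact Finset.sum_congr rfl fun i hi => hmlt _ (hF i hi)
  have hlam : ∑ l : L, (∑ i, Lf.phiL i l) * conj ((c : G → ℂ) (K.t * K.emb l)) =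
      (Nat.card L : ℂ) * ∑ i, (mlt (K.sect (Lf.phiL i)) c : ℂ) := by
    rw [Finset.mul_sum, Finset.sum_congr rfl fun l _ => Finset.sum_mul Finset.univ (fun i => Lf.phiL i l) _,
      Finset.sum_comm]
    exact Finset.sum_congr rfl fun i _ => hmlt _ (Lf.phiL_gen i)
  have hM := hpair (Finset.univ.filter fun μ : ↥Lf.A →* ℂˣ => μ ≠ 1) Lf.phiM
    (fun μ hμ => Lf.phiM_gen μ (Finset.mem_filter.1 hμ).2)
  rw [sum_ne_one_eq Lf.odd_card_A (fun μ => (mlt (K.sect (Lf.phiM μ)) c : ℂ))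
      (fun μ => by rw [Lf.phiM_inv])] at hM
  have e : ∀ (w a b d m n : ℂ) (A B : ℂ), (2 * a + 2 * A * (b + d) + B * m + 2 * (B + 2) * n) * w =
      2 * (a * w) + 2 * A * (b * w) + 2 * A * (d * w) + B * (m * w) + 2 * (B + 2) * (n * w) := by
    intros; ring
  simp only [Lf.delta, show ((Q : ℂ) + 1) = ((Q : ℂ) - 1) + 2 by ring, e, Finset.sum_add_distrib,
    ← Finset.mul_sum] at hsum
  rw [hmlt _ (Lf.phi_gen 0), hmlt _ (Lf.phi_gen 1), hmlt _ (Lf.phi_gen 2), hM, hlam] at hsum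
  have hconj : conj ((c : G → ℂ) K.t) = (K.vz Lf c : ℂ) := by
    refine mul_left_cancel₀ (mul_ne_zero (two_ne_zero) hL) ?_
    rw [← hsum]
    simp only [Ctx.vz, Ctx.vX, Ctx.vTh, Ctx.vTl]
    push_cast
    simp only [nsmul_eq_mul, Nat.cast_ofNat]
    ring
  rw [← Complex.conj_conj ((c : G → ℂ) K.t), hconj, map_intCast]

/-- The counting equation at a virtual character. -/
theorem Ctx.sum_mlt_pairs {f : G → ℂ} (hf : Cfsg.IsGeneralizedCharacter G f) :
    ((∑ c, (mlt f c : ℚ) * (K.vz Lf c : ℚ) ^ 2 / (deg c : ℚ) : ℚ) : ℂ) *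
      ((Nat.card G : ℂ) / (2 * (Nat.card L : ℂ)) ^ 2) = Cfsg.classInner f (pairsN K.t) := by
  set z : (G → ℂ) → ℤ := fun χ => if hχ : χ ∈ irrFinset G then K.vz Lf ⟨χ, hχ⟩ else 0 with hz
  rw [classInner_pairsN K.t z (fun χ hχ => by rw [hz]; simp only [dif_pos hχ]; exact K.apply_t Lf ⟨χ, hχ⟩),
    ← Finset.sum_attach (irrFinset G), ← Finset.univ_eq_attach]
  have hcl : (Nat.card {x : G // IsConj K.t x} : ℂ) * (2 * (Nat.card L : ℂ)) = Nat.card G := by
    have h2 := card_conj_class_mul_card_centralizer K.t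
    rw [Nat.card_congr K.e.toEquiv, Nat.card_prod,
      show Nat.card (Multiplicative (ZMod 2)) = 2 by simp] at h2
    exact_mod_cast h2
  have hG : (Nat.card G : ℂ) ≠ 0 := by simp
  have hL : (Nat.card L : ℂ) ≠ 0 := by simp
  rw [mul_comm]
  congr 1
  · rw [← hcl]; field_simp
  · push_cast
    refine Finset.sum_congr rfl fun c _ => ?_
    rw [mlt_spec hf c, deg_spec c, hz]
    simp only [dif_pos c.2]

theorem Ctx.vX_pairs (i : Fin 3) :
    ((∑ c, (K.vX Lf i c : ℚ) * (K.vz Lf c : ℚ) ^ 2 / (deg c : ℚ) : ℚ) : ℂ) *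
      ((Nat.card G : ℂ) / (2 * (Nat.card L : ℂ)) ^ 2) * (Nat.card L : ℂ) =
    2 * ∑ s : L, Lf.phi i s * (Nat.card {x : L // orderOf x = 2 ∧ x * s * x⁻¹ = s⁻¹} : ℂ) := by
  rw [show (∑ c, (K.vX Lf i c : ℚ) * (K.vz Lf c : ℚ) ^ 2 / (deg c : ℚ)) =
    ∑ c, (mlt (K.sect (Lf.phi i)) c : ℚ) * (K.vz Lf c : ℚ) ^ 2 / (deg c : ℚ) from rfl,
    K.sum_mlt_pairs Lf (K.gen_X Lf i), mul_comm, K.classInner_sect_pairs (Lf.phi_even i)]

/-- The power map with the exponent `a` on the section functions. -/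
theorem Ctx.mlt_sect_pow {a : ℕ} (ha : a.Coprime (Nat.card G)) {Φ Ψ : L → ℂ}
    (hΦ : Cfsg.IsGeneralizedCharacter L Φ) (hΨ : Cfsg.IsGeneralizedCharacter L Ψ)
    (hpow : ∀ x, Φ (x ^ a) = Ψ x) {s : Equiv.Perm (Irr G)}
    (hs : ∀ c g, (s c : G → ℂ) g = (c : G → ℂ) (g ^ a)) (c : Irr G) :
    mlt (K.sect Ψ) (s c) = mlt (K.sect Φ) c := by
  have haL : a.Coprime (Nat.card L) :=
    Nat.Coprime.coprime_dvd_right (Subgroup.card_dvd_of_injective K.emb K.emb_inj) ha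
  have haodd : Odd a := by
    rw [← Nat.not_even_iff_odd]
    intro he
    have h2 : 2 ∣ Nat.card G := K.ht ▸ orderOf_dvd_natCard K.t
    exact absurd (Nat.eq_one_of_dvd_coprimes ha he.two_dvd h2) (by norm_num)
  have key : Cfsg.classInner (K.sect Ψ) (s c : G → ℂ) = Cfsg.classInner (K.sect Φ) (c : G → ℂ) := by
    rw [K.classInner_sect Ψ (isClassFunction_irr _), K.classInner_sect Φ (isClassFunction_irr _)]
    congr 1
    refine Fintype.sum_equiv (powCoprime (G := L) haL.symm) _ _ fun l => ?_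
    show Ψ l * conj ((s c : G → ℂ) (K.t * K.emb l)) = Φ (l ^ a) * conj ((c : G → ℂ) (K.t * K.emb (l ^ a)))
    have hcomm : Commute K.t (K.emb l) := (K.psi_comm (1, l)).symm
    rw [hs, hpow, hcomm.mul_pow, K.t_pow_odd haodd, map_pow]
  rw [mlt_spec (K.isGeneralized_sect hΨ) (s c), mlt_spec (K.isGeneralized_sect hΦ) c] at key
  exact_mod_cast key

end CfsgLib.JT
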