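import Cfsg.Agent.JankoThompson.FixedThree
import Cfsg.Agent.JankoThompson.LocalMain
import Cfsg.Agent.JankoThompson.SectVec

/-!
# Conjugacy of the elements of prime order dividing the torus

A prime dividing the order `|k|` of the torus of `L = PSL₂(q)` has its Sylow subgroup inside the
torus, so an element of that order commuting with an involution is conjugate into the torus.
-/

set_option autoImplicit false
set_option linter.unusedSectionVars false
set_option linter.style.haveILetI false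

namespace CfsgLib.JT

open Subgroup

universe u v

variable {G : Type u} [Group G] [Fintype G] {L : Type v} [Group L] [Fintype L] {p : ℕ} {Q k h : ℤ}

/-- The order of `L` as a product. -/
theorem LFns.card_nat (Lf : LFns L p Q k h) :
    Nat.card L = Q.natAbs * (Q - 1).natAbs * 2 * k.natAbs := by
  have h1 := congrArg Int.natAbs Lf.card
  rw [Int.natAbs_mul, Int.natAbs_mul, Int.natAbs_natCast, Int.natAbs_abs,
    show Q ^ 2 - 1 = (Q - 1) * (4 * k) by rw [Lf.hk]; ring, Int.natAbs_mul, Int.natAbs_mul,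
    show Int.natAbs 2 = 2 from rfl, show Int.natAbs 4 = 4 from rfl] at h1
  linarith

/-- A prime dividing `k` is odd and prime to the remaining factors. -/
theorem LFns.prime_dvd_k (Lf : LFns L p Q k h) {l : ℕ} (hl : l.Prime) (hlk : (l : ℤ) ∣ k) :
    l ≠ 2 ∧ ¬ l ∣ Q.natAbs ∧ ¬ l ∣ (Q - 1).natAbs := by
  have h2 : l ≠ 2 := by
    rintro rfl
    have := Lf.odd_k
    push_cast at hlk
    omega
  have hQ1 : (l : ℤ) ∣ Q + 1 := Lf.hk ▸ dvd_mul_of_dvd_right hlk 4
  refine ⟨h2, fun h1 => ?_, fun h1 => ?_⟩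
  · have h3 : (l : ℤ) ∣ 1 := by
      have := dvd_sub hQ1 (Int.natCast_dvd.2 h1)
      simpa using this
    exact hl.not_dvd_one (by exact_mod_cast h3)
  · have h3 : (l : ℤ) ∣ 2 := by
      have h4 := dvd_sub hQ1 (Int.natCast_dvd.2 h1)
      rwa [show Q + 1 - (Q - 1) = 2 by ring] at h4
    exact h2 ((Nat.prime_dvd_prime_iff_eq hl Nat.prime_two).1 (by exact_mod_cast h3))

/-- An element of prime order dividing `k` of `L` is conjugate into the cyclic group it generates in
the torus. -/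
theorem LFns.exists_conj_zpowers (Lf : LFns L p Q k h) [IsCyclic ↥Lf.A] {l : ℕ} [hl : Fact l.Prime]
    (hlk : (l : ℤ) ∣ k) {a : L} (ha : a ∈ Lf.A) (hal : orderOf a = l) {m : L} (hm : orderOf m = l) :
    ∃ g, g * m * g⁻¹ ∈ zpowers a := by
  classical
  obtain ⟨h2, hQ, hQ1⟩ := Lf.prime_dvd_k hl.out hlk
  have hA : Nat.card Lf.A = k.natAbs := by
    have := congrArg Int.natAbs Lf.cardA
    rwa [Int.natAbs_natCast, Int.natAbs_abs] at this
  have hk0 : k.natAbs ≠ 0 := by rw [← hA]; exact Nat.card_pos.ne'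
  obtain ⟨P₀⟩ : Nonempty (Sylow l ↥Lf.A) := inferInstance
  have hcard : Nat.card ((P₀ : Subgroup ↥Lf.A).map Lf.A.subtype) =
      l ^ (Nat.card L).factorization l := by
    rw [Subgroup.card_map_of_injective (K := (P₀ : Subgroup ↥Lf.A)) Subtype.val_injective,
      P₀.card_eq_multiplicity, hA, Lf.card_nat]
    congr 1
    have hQ0 : Q.natAbs ≠ 0 := fun e => hQ (e ▸ dvd_zero l)
    have hQ10 : (Q - 1).natAbs ≠ 0 := fun e => hQ1 (e ▸ dvd_zero l)
    rw [Nat.factorization_mul (by positivity) hk0, Nat.factorization_mul (by positivity) two_ne_zero,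
      Nat.factorization_mul hQ0 hQ10]
    simp only [Finsupp.add_apply, Nat.factorization_eq_zero_of_not_dvd hQ,
      Nat.factorization_eq_zero_of_not_dvd hQ1, Nat.factorization_eq_zero_of_not_dvd
        (fun e => h2 ((Nat.prime_dvd_prime_iff_eq hl.out Nat.prime_two).1 e)), zero_add]
  let P : Sylow l L := Sylow.ofCard ((P₀ : Subgroup ↥Lf.A).map Lf.A.subtype) hcard
  have hpm : IsPGroup l (zpowers m) := IsPGroup.of_card (n := 1) (by rw [Nat.card_zpowers, hm, pow_one])
  obtain ⟨R, hR⟩ := hpm.exists_le_sylow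
  obtain ⟨g, hg⟩ := MulAction.exists_smul_eq L R P
  have hgm : g * m * g⁻¹ ∈ (P : Subgroup L) := by
    rw [← hg, Sylow.coe_subgroup_smul]
    exact Subgroup.smul_mem_pointwise_smul _ (MulAut.conj g) _ (hR (mem_zpowers m))
  have hgA : g * m * g⁻¹ ∈ Lf.A := by
    rw [show (P : Subgroup L) = (P₀ : Subgroup ↥Lf.A).map Lf.A.subtype from rfl] at hgm
    exact map_subtype_le _ hgm
  refine ⟨g, ?_⟩
  -- a cyclic group has at most `l` solutions of `b ^ l = 1`
  haveI := Fintype.ofFinite ↥Lf.A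
  set S := Finset.univ.filter (fun b : ↥Lf.A => b ^ l = 1) with hS
  have hsub : ((zpowers (⟨a, ha⟩ : ↥Lf.A)).carrier.toFinset) ⊆ S := by
    intro b hb
    rw [Set.mem_toFinset] at hb
    obtain ⟨i, rfl⟩ := mem_zpowers_iff.1 hb
    have h1 : (⟨a, ha⟩ : ↥Lf.A) ^ l = 1 := by
      rw [← hal, ← Subgroup.orderOf_mk a ha]; exact pow_orderOf_eq_one _
    simp only [hS, Finset.mem_filter, Finset.mem_univ, true_and]
    rw [← zpow_natCast, ← zpow_mul, mul_comm, zpow_mul, zpow_natCast, h1, one_zpow]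
  have heq := Finset.eq_of_subset_of_card_le hsub (by
    rw [Set.toFinset_card, ← Nat.card_eq_fintype_card,
      show Nat.card (zpowers (⟨a, ha⟩ : ↥Lf.A)).carrier = Nat.card (zpowers (⟨a, ha⟩ : ↥Lf.A)) from rfl,
      Nat.card_zpowers, Subgroup.orderOf_mk, hal]
    exact IsCyclic.card_pow_eq_one_le hl.out.pos)
  have hmem : (⟨g * m * g⁻¹, hgA⟩ : ↥Lf.A) ∈ S := by
    simp only [hS, Finset.mem_filter, Finset.mem_univ, true_and]
    refine Subtype.ext ?_
    rw [Subgroup.coe_pow, conj_pow, ← hm, pow_orderOf_eq_one]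
    simp
  rw [← heq, Set.mem_toFinset] at hmem
  obtain ⟨i, hi⟩ := mem_zpowers_iff.1 hmem
  exact ⟨i, congrArg Subtype.val hi⟩

variable (K : Ctx G L) (Lf : LFns L p Q k h)

/-- An element of prime order dividing `k` commuting with an involution is conjugate into the group
generated by an element of that order of the torus. -/
theorem Ctx.exists_conj_torus [IsCyclic ↥Lf.A] {l : ℕ} [Fact l.Prime] (hlk : (l : ℤ) ∣ k) {x : G}
    (hx : orderOf x = 2) {a : G} (ha : a ∈ Lf.A.map K.emb) (hal : orderOf a = l) {c : G}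
    (hcx : Commute c x) (hcl : orderOf c = l) : ∃ g, g * c * g⁻¹ ∈ zpowers a := by
  obtain ⟨c₀, hc₀⟩ := isConj_iff.1 (K.conjInv x hx)
  obtain ⟨a₀, ha₀, rfl⟩ := ha
  have hcomm : c₀⁻¹ * c * c₀ * K.t = K.t * (c₀⁻¹ * c * c₀) := by
    have h1 := hcx.eq
    rw [← hc₀] at h1
    calc c₀⁻¹ * c * c₀ * K.t = c₀⁻¹ * (c * (c₀ * K.t * c₀⁻¹)) * c₀ := by group
      _ = c₀⁻¹ * ((c₀ * K.t * c₀⁻¹) * c) * c₀ := by rw [h1]
      _ = K.t * (c₀⁻¹ * c * c₀) := by group
  obtain ⟨⟨b, m⟩, hbm⟩ := K.mem_range_psi hcomm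
  have hord : orderOf ((b, m) : Multiplicative (ZMod 2) × L) = l := by
    rw [← orderOf_injective K.psi K.psi_inj, hbm, ← hcl,
      show c₀⁻¹ * c * c₀ = MulAut.conj c₀⁻¹ c by simp]
    exact MulEquiv.orderOf_eq _ c
  have hodd : Odd l := (Fact.out : l.Prime).odd_of_ne_two (Lf.prime_dvd_k Fact.out hlk).1
  have hb : b = 1 := by
    have h1 : b ^ l = 1 := by
      rw [← hord]; exact congrArg Prod.fst (pow_orderOf_eq_one ((b, m) : Multiplicative (ZMod 2) × L))
    rcases mult_two_cases b with rfl | rfl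
    · rfl
    · obtain ⟨j, hj⟩ := hodd
      rw [hj, pow_succ, pow_mul, show (Multiplicative.ofAdd (1 : ZMod 2)) ^ 2 = 1 by decide, one_pow,
        one_mul] at h1
      exact absurd h1 (by decide)
  subst hb
  have hm : orderOf m = l := by rw [← hord, Prod.orderOf_mk, orderOf_one, Nat.lcm_one_left]
  rw [orderOf_injective K.emb K.emb_inj] at hal
  obtain ⟨g, hg⟩ := Lf.exists_conj_zpowers hlk ha₀ hal hm
  obtain ⟨i, hi⟩ := mem_zpowers_iff.1 hg
  refine ⟨K.emb g * c₀⁻¹, mem_zpowers_iff.2 ⟨i, ?_⟩⟩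
  rw [← map_zpow, hi, map_mul, map_mul, map_inv, show K.emb m = K.psi (1, m) from rfl, hbm]
  group

end CfsgLib.JT
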