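import Cfsg.Agent.JankoThompson.FixedNum
import Mathlib.Data.ZMod.Basic

/-!
The functions of a fixed element in the alternating case of degree five are incompatible with the
counting equations.
-/

set_option autoImplicit false

namespace CfsgLib.JT

universe u v w

open Classical

theorem five_residues : ∀ A C : ZMod 5,
    3 * A * A * C * (1 + C) - 16 * A * (A - 1) * ((1 + C) * (1 + C) - C) = 0 →
    3 * ((-1 - A - C) * (-1 - A - C)) * (1 + C) = 0 →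
    -(3 * ((-1 - A - C) * (-1 - A - C)) * A) -
      ((-1 - A - C) - C) * (A * (-1 - A - C) * C + A * (-1 - A - C)) = 0 →
    C * ((1 + C) * ((A - 1) + ((-1 - A - C) - C)) + 2 * (A - 1) * ((-1 - A - C) - C)) = 0 →
    False := by decide

/-- The equations of the five functions have no solution with `Q ≡ 0 (mod 5)`. -/
theorem false_mod_five (Q A B C : ℤ) (T : ℚ) (hQ : (5 : ℤ) ∣ Q) (hT : T ≠ 0) (hA : A ≠ 0)
    (hA1 : A ≠ 1) (hB : B ≠ 0) (hC : C ≠ 0) (hBC : B ≠ C) (hC1 : 1 + C ≠ 0) (hQ1 : (Q : ℚ) + 1 ≠ 0)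
    (d0 : 1 + A + B + C = 0)
    (ep : 16 * T / 15 * ((A : ℚ) * ((A : ℚ) - 1)) = ((A : ℚ) - Q) ^ 2)
    (ek : T / 3 * -1 * ((B : ℚ) * C * ((C : ℚ) - B)) = ((Q : ℚ) * C - B) ^ 2)
    (eX : T * ((Q : ℚ) - 1) / ((Q : ℚ) + 1) = 1 + (Q : ℚ) ^ 2 / A + (Q : ℚ) ^ 2 / B + 1 / (C : ℚ))
    (eii : T * ((3 * (Q : ℚ) - 1) / ((Q : ℚ) + 1) ^ 2 - ((Q : ℚ) - 1) / ((Q : ℚ) + 1) - 1 / 5) =
      ((Q : ℚ) - 1) ^ 2 / (1 + (C : ℚ)) - (1 + (C : ℚ)) / C) : False := by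
  have hA' : (A : ℚ) ≠ 0 := Int.cast_ne_zero.2 hA
  have hB' : (B : ℚ) ≠ 0 := Int.cast_ne_zero.2 hB
  have hC' : (C : ℚ) ≠ 0 := Int.cast_ne_zero.2 hC
  have hC1' : 1 + (C : ℚ) ≠ 0 := by exact_mod_cast hC1
  have hA1' : (A : ℚ) - 1 ≠ 0 := sub_ne_zero.2 (by exact_mod_cast hA1)
  have hBC' : (B : ℚ) - C ≠ 0 := sub_ne_zero.2 (by exact_mod_cast hBC)
  set K : ℤ := 6 * Q ^ 2 - 13 * Q + 1 with hK
  set W : ℤ := (1 + C) ^ 2 - (Q - 1) ^ 2 * C with hW
  -- the equations without denominators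
  have f1 : T * (K : ℚ) * C * (1 + C) = 5 * ((Q : ℚ) + 1) ^ 2 * W := by
    have h2 := eii
    field_simp at h2
    rw [hK, hW]; push_cast
    linear_combination -h2
  have f2 : T * 16 * ((A : ℚ) * (A - 1)) = 15 * ((A : ℚ) - Q) ^ 2 := by linear_combination 15 * ep
  have f3 : T * ((B : ℚ) * C * ((B : ℚ) - C)) = 3 * ((Q : ℚ) * C - B) ^ 2 := by linear_combination 3 * ek
  have f4 : T * ((Q : ℚ) - 1) * (A * B * C) =
      ((Q : ℚ) + 1) * (A * B * C + Q ^ 2 * B * C + Q ^ 2 * A * C + A * B) := by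
    have h2 := eX
    field_simp at h2
    linear_combination h2
  -- eliminate `T`
  have E1q : 3 * ((A : ℚ) - Q) ^ 2 * K * C * (1 + C) = 16 * A * (A - 1) * ((Q : ℚ) + 1) ^ 2 * W := by
    linear_combination (16 * (A : ℚ) * (A - 1) / 5) * f1 - ((K : ℚ) * C * (1 + C) / 5) * f2
  have E2q : 3 * ((Q : ℚ) * C - B) ^ 2 * K * (1 + C) = B * ((B : ℚ) - C) * (5 * ((Q : ℚ) + 1) ^ 2 * W) := by
    linear_combination (B : ℚ) * ((B : ℚ) - C) * f1 - (K : ℚ) * (1 + C) * f3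
  have E3q : 3 * ((Q : ℚ) * C - B) ^ 2 * ((Q : ℚ) - 1) * A =
      ((Q : ℚ) + 1) * ((B : ℚ) - C) * (A * B * C + Q ^ 2 * B * C + Q ^ 2 * A * C + A * B) := by
    linear_combination ((B : ℚ) - C) * f4 - ((Q : ℚ) - 1) * A * f3
  set Z : ℤ := 2 * C * (B - C) * (A - 1) + 2 * (B - C) * (A - 1) + (Q - 1) ^ 2 * C * (A - 1)
    + (Q - 1) ^ 2 * C * (B - C) with hZ
  have f5 : T * (2 * (6 * (Q : ℚ) + 1)) * (C * ((B : ℚ) - C) * (A - 1)) = 5 * ((Q : ℚ) + 1) * Z := by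
    refine mul_left_cancel₀ (mul_ne_zero hA' hB') ?_
    rw [hZ]; push_cast
    linear_combination 5 * ((B : ℚ) - C) * (A - 1) * f4 + 5 * (A : ℚ) * (A - 1) * ((Q : ℚ) + 1) / 3 * f3
      + (B : ℚ) * C * ((B : ℚ) - C) * ((Q : ℚ) + 1) / 3 * f2
  have E4q : (K : ℚ) * (1 + C) * Z =
      2 * (6 * (Q : ℚ) + 1) * ((Q : ℚ) + 1) * ((B : ℚ) - C) * (A - 1) * W := by
    refine mul_left_cancel₀ (mul_ne_zero (show (5 : ℚ) ≠ 0 by norm_num) hQ1) ?_
    linear_combination 2 * (6 * (Q : ℚ) + 1) * ((B : ℚ) - C) * (A - 1) * f1 - (K : ℚ) * (1 + C) * f5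
  have E1 : 3 * (A - Q) ^ 2 * K * C * (1 + C) = 16 * A * (A - 1) * (Q + 1) ^ 2 * W := by exact_mod_cast E1q
  have E2 : 3 * (Q * C - B) ^ 2 * K * (1 + C) = B * (B - C) * (5 * (Q + 1) ^ 2 * W) := by exact_mod_cast E2q
  have E3 : 3 * (Q * C - B) ^ 2 * (Q - 1) * A =
      (Q + 1) * (B - C) * (A * B * C + Q ^ 2 * B * C + Q ^ 2 * A * C + A * B) := by exact_mod_cast E3q
  have E4 : K * (1 + C) * Z = 2 * (6 * Q + 1) * (Q + 1) * (B - C) * (A - 1) * W := by exact_mod_cast E4q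
  have hQ5 : (Q : ZMod 5) = 0 := (ZMod.intCast_zmod_eq_zero_iff_dvd Q 5).2 hQ
  have hB5 : (B : ZMod 5) = -1 - (A : ZMod 5) - C := by
    have h9 : B = -1 - A - C := by omega
    rw [h9]; push_cast; ring
  have h55 : (5 : ZMod 5) = 0 := by decide
  have g1 := congrArg (Int.cast : ℤ → ZMod 5) E1
  have g2 := congrArg (Int.cast : ℤ → ZMod 5) E2
  have g3 := congrArg (Int.cast : ℤ → ZMod 5) E3
  have g4 := congrArg (Int.cast : ℤ → ZMod 5) E4
  simp only [hK, hW, hZ] at g1 g2 g3 g4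
  push_cast at g1 g2 g3 g4
  rw [hQ5] at g1 g2 g3 g4
  rw [h55] at g2
  rw [hB5] at g2 g3 g4
  refine five_residues (A : ZMod 5) (C : ZMod 5) ?_ ?_ ?_ ?_
  · linear_combination g1
  · linear_combination g2
  · linear_combination g3
  · linear_combination g4

variable {ι : Type u} {M : Type v} {Λ : Type w} [Fintype ι] [Fintype M] [Fintype Λ] {Q h : ℤ} {V : SV ι M Λ Q h} {m : M}

/-- The alternating case of degree five. -/
theorem SV.false_five (D : ∀ n, Quad V n 1 (16 * V.T / 15) (V.T / 5) (V.T / 3)) (m : M)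
    (h5 : ((∀ x, (D m).g (V.s x) = (D m).g x) ∧ ∀ x, (D m).g' (V.s x) = (D m).g' x) ∨ (5 : ℤ) ∣ Q)
    (g : ℤ) (hg : ¬ (16 : ℤ) ∣ g)
    (hT : V.T * g = (Q : ℚ) ^ 2 * ((Q : ℚ) ^ 2 - 1) ^ 2 * ((Q : ℚ) + 1)) : False := by
  have hR : V.T / 5 ≠ 0 := div_ne_zero V.T_ne (by norm_num)
  have hA : ∀ A : ℤ, V.T / 3 * ((-1 : ℤ) : ℚ) * (2 * (A : ℚ) - 1) ≠ 16 * V.T / 15 := by
    intro A h'
    have h2 : ((5 * (2 * A - 1) : ℤ) : ℚ) = ((-16 : ℤ) : ℚ) := by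
      refine mul_left_cancel₀ V.T_ne ?_
      push_cast at h' ⊢
      linear_combination -15 * h'
    have : 5 * (2 * A - 1) = -16 := by exact_mod_cast h2
    omega
  have hN := fun n => (D n).normal hR hA fun S hb => S.false_of_swap_fifteenth (D n).P hb g hg hT
  -- each function of a pair vanishes on the three columns
  have hown : ∀ n i x, V.X i x ≠ 0 → V.Th n x = 0 := by
    intro n i x hx
    obtain ⟨σ, hσ, hσo, hσs, q', S, hg', hk'⟩ := hN n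
    have hσ0 : σ x ≠ 0 := fun h' => by have := hσ x; rw [h'] at this; simp at this
    obtain ⟨hc, ha, -, hown⟩ := S.th_values q'.P hg' hk' q'.G q'.K q'.he q'.kg n
    obtain ⟨hb, hu, hw⟩ := hown rfl
    rw [hb, neg_zero] at ha
    generalize hW : V.flip σ hσ hσo hσs = W at q' S hg' hk' hc ha hb hu hw
    have hX : W.X i x ≠ 0 := by rw [← hW]; exact mul_ne_zero hσ0 hx
    suffices W.Th n x = 0 by
      rw [← hW] at this
      exact (mul_eq_zero.1 this).resolve_left hσ0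
    have hu' : W.Th n S.u' = 0 := by rw [← W.s_Th, S.su, hu]
    have hw' : W.Th n S.w' = 0 := by rw [← W.s_Th, S.sw, hw]
    have hmem : x ∈ [W.o, S.a, S.b, S.c, S.u, S.w, S.u', S.w'] := by
      by_contra h'
      simp only [List.mem_cons, List.not_mem_nil, or_false, not_or] at h'
      fin_cases i
      · refine hX ?_
        show W.X 0 x = 0
        rw [S.X0, if_neg (by simp [h'.1, h'.2.1, h'.2.2.1, h'.2.2.2.1])]
      · refine hX ?_
        show W.X 1 x = 0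
        rw [S.X1, if_neg (by simp [h'.2.1, h'.2.2.1, h'.2.2.2.2.1, h'.2.2.2.2.2.1])]
      · refine hX ?_
        show W.X 2 x = 0
        rw [S.X2, if_neg (by simp [h'.2.1, h'.2.2.1, h'.2.2.2.2.2.2.1, h'.2.2.2.2.2.2.2])]
    simp only [List.mem_cons, List.not_mem_nil, or_false] at hmem
    rcases hmem with h' | h' | h' | h' | h' | h' | h' | h' <;> rw [h']
    exacts [W.Th_one n, ha, hb, hc, hu, hw, hu', hw']
  obtain ⟨σ, hσ, hσo, hσs, q', S, hg', hk'⟩ := hN m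
  have hQ5 : (5 : ℤ) ∣ Q := by
    rcases h5 with ⟨h1, h2⟩ | h1
    swap
    · exact h1
    exfalso
    obtain ⟨S₀⟩ := exists_raw (D m).P (D m).po (D m).ps
    rcases S₀.sbc with ⟨hb, -⟩ | ⟨hb, -⟩
    swap
    · exact S₀.false_of_swap_fifteenth (D m).P hb g hg hT
    obtain ⟨τ, hτ, hτo, hτs, ⟨S'⟩⟩ := S₀.exists_shP (D m).ps hb
    let W' := V.flip τ hτ hτo hτs
    let q : Quad W' m 1 (16 * V.T / 15) (V.T / 5) (V.T / 3) := (D m).flip hτ hτo hτs
    exact ShP.orth_false (V := W') (p := q.p) S' q.G q.G' q.he q.pg q.pg' q.ho q.ho'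
      (fun x => by show τ (V.s x) * (D m).g (V.s x) = τ x * (D m).g x; rw [hτs, h1])
      (fun x => by show τ (V.s x) * (D m).g' (V.s x) = τ x * (D m).g' x; rw [hτs, h2]) hR hR q.gg'
  have htl := fun l => S.tl_values q'.P hg' hk' q'.G q'.K q'.he q'.kg l
  generalize hW : V.flip σ hσ hσo hσs = W at q' S hg' hk' htl
  have hTW : W.T = V.T := by rw [← hW]; rfl
  have hz0 : ∀ n i x, W.X i x ≠ 0 → W.Th n x = 0 := fun n i x hx => by
    rw [← hW] at hx ⊢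
    show σ x * V.Th n x = 0
    rw [hown n i x (fun h' => hx (by show σ x * V.X i x = 0; rw [h', mul_zero])), mul_zero]
  have ta : ∀ n, W.Th n S.a = 0 := fun n => hz0 n 0 _ (by rw [S.X0]; simp)
  have tb : ∀ n, W.Th n S.b = 0 := fun n => hz0 n 0 _ (by rw [S.X0]; simp)
  have tc : ∀ n, W.Th n S.c = 0 := fun n => hz0 n 0 _ (by rw [S.X0]; simp)
  have tu : ∀ n, W.Th n S.u = 0 := fun n => hz0 n 1 _ (by rw [S.X1]; simp)
  have tw : ∀ n, W.Th n S.w = 0 := fun n => hz0 n 1 _ (by rw [S.X1]; simp)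
  obtain ⟨za, zb⟩ := S.z_ab (fun l => ⟨(htl l).2.1, (htl l).2.2.1⟩) fun n => by rw [ta, tb, neg_zero]
  simp only [tb, Finset.sum_const_zero, mul_zero, sub_zero, add_zero] at za zb
  have zc := S.z_c tc fun l => (htl l).1
  have nd := S.nd
  simp only [List.nodup_cons, List.mem_cons, List.not_mem_nil, or_false, List.nodup_nil, and_true,
    not_or, not_false_eq_true] at nd
  have zu : W.z S.u = h := by
    rw [W.z_eq, S.X0, S.X1, S.X2, if_neg (by simp; grind), if_pos (by simp), if_neg (by simp; grind)]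
    simp [tu, (htl _).2.2.2.1]
  have zw : W.z S.w = h := by
    rw [W.z_eq, S.X0, S.X1, S.X2, if_neg (by simp; grind), if_pos (by simp), if_neg (by simp; grind)]
    simp [tw, (htl _).2.2.2.2]
  obtain ⟨hA1, hp⟩ := S.p_eq q'.P
  obtain ⟨hBC, hk0⟩ := S.k_eq q'.K hk' q'.he
  obtain ⟨d0, d1⟩ := S.deg_cols
  have hX := S.X0_pairs
  have hX1 := S.X1_pairs
  obtain ⟨gu, gw, r, hr, hr1, g0⟩ := hg'
  simp [ShP.L] at hr
  obtain ⟨dg, -, rg⟩ := q'.G.three (x := S.u) (y := S.w') (w := r) (by simp; grind)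
    (by rw [gu]; norm_num) (by rw [gw]; norm_num) hr1 g0
  have dw : W.d S.w' = W.d S.w := by rw [← W.s_d S.w', S.sw]
  have zw' : W.z S.w' = h := by rw [← W.s_z S.w', S.sw, zw]
  rw [gu, gw, dw, zu, zw'] at rg
  rw [gu, gw, dw] at dg
  rw [za, zb, zc, hTW] at hX
  rw [za, zb, zu, zw, hTW] at hX1
  rw [za] at hp
  rw [zb, zc] at hk0
  have hS : W.d S.u + W.d S.w ≠ 0 := fun h' => by
    refine W.d_ne r ((mul_eq_zero.1 (show q'.g r * W.d r = 0 by linarith)).resolve_left fun h'' => ?_)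
    rw [h''] at hr1; simp at hr1
  have hSC : W.d S.u + W.d S.w = 1 + W.d S.c := by linarith
  obtain ⟨hQ1, hQ2⟩ := W.Q_ne
  have hhq : 2 * (h : ℚ) = (Q : ℚ) - 1 := by exact_mod_cast W.hh
  push_cast at rg hX hk0
  refine false_mod_five Q (W.d S.a) (W.d S.b) (W.d S.c) V.T hQ5 V.T_ne (W.d_ne _) hA1 (W.d_ne _)
    (W.d_ne _) hBC (hSC ▸ hS) hQ2 d0 (by linear_combination hp) (by linear_combination hk0)
    (by linear_combination hX) ?_
  have hU : (W.d S.u : ℚ) ≠ 0 := Int.cast_ne_zero.2 (W.d_ne _)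
  have hV : (W.d S.w : ℚ) ≠ 0 := Int.cast_ne_zero.2 (W.d_ne _)
  have hS' : (W.d S.u : ℚ) + W.d S.w ≠ 0 := by exact_mod_cast hS
  have hC0 : (W.d S.c : ℚ) ≠ 0 := Int.cast_ne_zero.2 (W.d_ne _)
  have e5 : V.T / 5 = (h : ℚ) ^ 2 / W.d S.u + (h : ℚ) ^ 2 / W.d S.w -
      ((Q : ℚ) - 1) ^ 2 / ((W.d S.u : ℚ) + W.d S.w) := by
    rw [← hhq]
    field_simp
    linear_combination 5 * rg
  have hSC' : (W.d S.u : ℚ) + W.d S.w = 1 + W.d S.c := by exact_mod_cast hSC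
  rw [hSC'] at e5
  have e1 : (1 + (W.d S.c : ℚ)) / W.d S.c = 1 + 1 / (W.d S.c : ℚ) := by field_simp; ring
  rw [e1]
  linear_combination hX1 - hX - e5

end CfsgLib.JT
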