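import Cfsg.Agent.JankoThompson.Induce
import Cfsg.Agent.SL2C.AbChar

/-!
# Three virtual characters of a complement

The three functions of `A₄` and of `A₅` that are used at a fixed element of the torus, presented by
their values on the classes.
-/

set_option autoImplicit false
set_option linter.style.haveILetI false

namespace CfsgLib.JT

open CfsgLib.Char Finset
open scoped ComplexConjugate

universe u v

section Classes

variable {M : Type u} [Group M] [Fintype M] {n : ℕ}

/-- A sum of a function of the class. -/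
theorem sum_cls (cls : M → Fin n) (s : Fin n → ℕ)
    (hs : ∀ k, (Finset.univ.filter fun g => cls g = k).card = s k) (F : Fin n → ℂ) :
    ∑ g, F (cls g) = ∑ k, (s k : ℂ) * F k := by
  rw [← Finset.sum_fiberwise Finset.univ cls]
  refine Finset.sum_congr rfl fun k _ => ?_
  rw [Finset.sum_congr rfl (g := fun _ => F k) fun g hg => by rw [(Finset.mem_filter.1 hg).2],
    Finset.sum_const, hs, nsmul_eq_mul]

theorem inner_cls (cls : M → Fin n) (s : Fin n → ℕ)
    (hs : ∀ k, (Finset.univ.filter fun g => cls g = k).card = s k) (F F' : Fin n → ℂ) :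
    Cfsg.classInner (fun g => F (cls g)) (fun g => F' (cls g)) =
      (Nat.card M : ℂ)⁻¹ * ∑ k, (s k : ℂ) * (F k * conj (F' k)) := by
  rw [classInner_def, sum_cls cls s hs fun k => F k * conj (F' k)]

/-- A sum over the pairs of square roots of the identity. -/
theorem sum_pairs_cls [DecidableEq M] (cls : M → Fin n) (s : Fin n → ℕ)
    (hs : ∀ k, ((Finset.univ.filter fun p : M × M => p.1 * p.1 = 1 ∧ p.2 * p.2 = 1).filter
      fun p => cls (p.1 * p.2) = k).card = s k) (F : Fin n → ℂ) :
    ∑ p ∈ Finset.univ.filter (fun p : M × M => p.1 * p.1 = 1 ∧ p.2 * p.2 = 1), F (cls (p.1 * p.2)) =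
      ∑ k, (s k : ℂ) * F k := by
  rw [← Finset.sum_fiberwise _ (fun p : M × M => cls (p.1 * p.2))]
  refine Finset.sum_congr rfl fun k _ => ?_
  rw [Finset.sum_congr rfl (g := fun _ => F k) fun g hg => by rw [(Finset.mem_filter.1 hg).2],
    Finset.sum_const, hs, nsmul_eq_mul]

/-- The value of an induced function as a count. -/
theorem indH_count {D : Type v} [Group D] [Fintype D] [DecidableEq M] (ι : D →* M)
    (hι : Function.Injective ι) (f : D → ℂ) (g : M) :
    (Fintype.card D : ℂ) * indH ι hι f g =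
      ∑ d, ((Finset.univ.filter fun x : M => x⁻¹ * g * x = ι d).card : ℂ) * f d := by
  classical
  rw [indH, indFun_def, Nat.card_congr (MonoidHom.ofInjective hι).symm.toEquiv, Nat.card_eq_fintype_card,
    mul_inv_cancel_left₀ (Nat.cast_ne_zero.2 Fintype.card_ne_zero)]
  have h1 : ∀ x : M, Cfsg.extendByZero ι.range (fun y => f ((MonoidHom.ofInjective hι).symm y))
      (x⁻¹ * g * x) = ∑ d, if x⁻¹ * g * x = ι d then f d else 0 := by
    intro x
    rw [extendByZero_eq]
    split_ifs with hm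
    · obtain ⟨d, hd⟩ := hm
      have e : (MonoidHom.ofInjective hι).symm ⟨x⁻¹ * g * x, d, hd⟩ = d := by
        rw [MulEquiv.symm_apply_eq]; exact Subtype.ext hd.symm
      rw [e, Finset.sum_eq_single d (fun b _ hb => if_neg fun e' => hb (hι (hd.trans e').symm))
        (fun h => absurd (Finset.mem_univ _) h), if_pos hd.symm]
    · exact (Finset.sum_eq_zero fun d _ => if_neg fun e' => hm ⟨d, e'.symm⟩).symm
  rw [Finset.sum_congr rfl fun x _ => h1 x, Finset.sum_comm]
  exact Finset.sum_congr rfl fun d _ => by rw [← Finset.sum_filter, Finset.sum_const, nsmul_eq_mul]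

end Classes

/-- Three orthonormal virtual characters orthogonal to the trivial one, of which the first two are
exchanged or fixed by power maps; `S` and `S'` are the sums over the pairs of square roots of one. -/
structure Tri (R : Type u) [Group R] [Fintype R] [DecidableEq R] (t : R) (e : ℤ) (l : ℕ) (S S' : ℚ) where
  g : R → ℂ
  g' : R → ℂ
  k : R → ℂ
  gen : Cfsg.IsGeneralizedCharacter R g
  gen' : Cfsg.IsGeneralizedCharacter R g'
  genk : Cfsg.IsGeneralizedCharacter R k
  ng : Cfsg.classInner g g = 1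
  ng' : Cfsg.classInner g' g' = 1
  nk : Cfsg.classInner k k = 1
  gg' : Cfsg.classInner g g' = 0
  kg : Cfsg.classInner k g = 0
  g_one : Cfsg.classInner g (fun _ => 1) = 0
  g'_one : Cfsg.classInner g' (fun _ => 1) = 0
  k_one : Cfsg.classInner k (fun _ => 1) = 0
  gt : g t = -(e : ℂ)
  g't : g' t = -(e : ℂ)
  kt : k t = (e : ℂ)
  Sg : ∑ p ∈ Finset.univ.filter (fun p : R × R => p.1 * p.1 = 1 ∧ p.2 * p.2 = 1), g (p.1 * p.2) = (S : ℂ)
  Sg' : ∑ p ∈ Finset.univ.filter (fun p : R × R => p.1 * p.1 = 1 ∧ p.2 * p.2 = 1), g' (p.1 * p.2) = (S : ℂ)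
  Sk : ∑ p ∈ Finset.univ.filter (fun p : R × R => p.1 * p.1 = 1 ∧ p.2 * p.2 = 1), k (p.1 * p.2) = (S' : ℂ)
  kpow : ∀ a : ℕ, a.Coprime (Nat.card R) → ∀ r, k (r ^ a) = k r
  pow : ∀ a : ℕ, a.Coprime (Nat.card R) →
    ((∀ r, g (r ^ a) = g r) ∧ ∀ r, g' (r ^ a) = g' r) ∨ ((∀ r, g' (r ^ a) = g r) ∧ a % l ≠ 1)

/-- Transport along an isomorphism. -/
theorem classInner_mulEquiv {R : Type u} {M : Type v} [Group R] [Fintype R] [Group M] [Fintype M]
    (e : R ≃* M) (f f' : M → ℂ) :
    Cfsg.classInner (fun r => f (e r)) (fun r => f' (e r)) = Cfsg.classInner f f' := by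
  rw [classInner_def, classInner_def, Nat.card_congr e.toEquiv]
  congr 1
  exact e.toEquiv.sum_comp fun m => f m * conj (f' m)

theorem sum_pairs_mulEquiv {R : Type u} {M : Type v} [Group R] [Fintype R] [DecidableEq R] [Group M]
    [Fintype M] [DecidableEq M] (e : R ≃* M) (f : M → ℂ) :
    ∑ p ∈ Finset.univ.filter (fun p : R × R => p.1 * p.1 = 1 ∧ p.2 * p.2 = 1), f (e (p.1 * p.2)) =
      ∑ p ∈ Finset.univ.filter (fun p : M × M => p.1 * p.1 = 1 ∧ p.2 * p.2 = 1), f (p.1 * p.2) := by
  refine Finset.sum_equiv (e.toEquiv.prodCongr e.toEquiv) (fun p => ?_) fun p _ => ?_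
  · simp [← map_mul]
  · simp [map_mul]

/-- The three characters along an isomorphism. -/
def Tri.map {R : Type u} {M : Type v} [Group R] [Fintype R] [DecidableEq R] [Group M] [Fintype M]
    [DecidableEq M] {s : M} {e : ℤ} {l : ℕ} {S S' : ℚ} (T : Tri M s e l S S') (f : R ≃* M) {t : R}
    (hgt : T.g (f t) = T.g s ∧ T.g' (f t) = T.g' s ∧ T.k (f t) = T.k s) : Tri R t e l S S' where
  g r := T.g (f r)
  g' r := T.g' (f r)
  k r := T.k (f r)
  gen := IsGeneralized.comp T.gen f.toMonoidHom
  gen' := IsGeneralized.comp T.gen' f.toMonoidHom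
  genk := IsGeneralized.comp T.genk f.toMonoidHom
  ng := by rw [classInner_mulEquiv, T.ng]
  ng' := by rw [classInner_mulEquiv, T.ng']
  nk := by rw [classInner_mulEquiv, T.nk]
  gg' := by rw [classInner_mulEquiv, T.gg']
  kg := by rw [classInner_mulEquiv, T.kg]
  g_one := by rw [classInner_mulEquiv f T.g fun _ => 1, T.g_one]
  g'_one := by rw [classInner_mulEquiv f T.g' fun _ => 1, T.g'_one]
  k_one := by rw [classInner_mulEquiv f T.k fun _ => 1, T.k_one]
  gt := by rw [hgt.1, T.gt]
  g't := by rw [hgt.2.1, T.g't]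
  kt := by rw [hgt.2.2, T.kt]
  Sg := by rw [sum_pairs_mulEquiv, T.Sg]
  Sg' := by rw [sum_pairs_mulEquiv, T.Sg']
  Sk := by rw [sum_pairs_mulEquiv, T.Sk]
  kpow a ha r := by rw [map_pow, T.kpow a (Nat.card_congr f.toEquiv ▸ ha)]
  pow a ha := by
    rcases T.pow a (Nat.card_congr f.toEquiv ▸ ha) with ⟨h1, h2⟩ | ⟨h1, h2⟩
    · exact Or.inl ⟨fun r => by rw [map_pow, h1], fun r => by rw [map_pow, h2]⟩
    · exact Or.inr ⟨fun r => by rw [map_pow, h1], h2⟩

end CfsgLib.JT
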