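import Cfsg.Agent.JankoThompson.TorusVec
import Mathlib.GroupTheory.Perm.Cycle.Type

/-!
A free torus gives the integer vectors of `Vecs`.
-/

set_option autoImplicit false
set_option linter.style.haveILetI false
set_option linter.unusedSectionVars false

namespace CfsgLib.JT

open CfsgLib.Char Finset
open scoped ComplexConjugate Classical

universe u v

attribute [local instance] LFns.lamFin

/-- Transfer of an equation between integers written with `if`. -/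
theorem int_eq_of_cast {a b : ℤ} {x : ℂ} (ha : (a : ℂ) = x) (hb : (b : ℂ) = x) : a = b := by
  exact_mod_cast ha.trans hb.symm

variable {G : Type u} [Group G] [Fintype G] {L : Type v} [Group L] [Fintype L] {p : ℕ} {Q k h : ℤ}
variable (K : Ctx G L) (Lf : LFns L p Q k h)
variable {r y : G} (hF : FreeTorus K.t (K.emb Lf.i0) r y (Lf.A.map K.emb))

/-- The multiplicities of `((1-μ))^G`. -/
noncomputable def Ctx.vF1 (m : Pair ↥Lf.A) (c : Irr G) : ℤ := mlt (K.Tf Lf 1 m.rep) c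

/-- The multiplicities of `((1-μ) ν)^G`. -/
noncomputable def Ctx.vFv (m : Pair ↥Lf.A) (j : Fin 3) (c : Irr G) : ℤ := mlt (K.Tf Lf (nuChar j) m.rep) c

/-- The order, negated for negative `Q`. -/
noncomputable def gSigned (G : Type u) [Group G] (Q : ℤ) : ℤ :=
  if Q < 0 then -(Nat.card G : ℤ) else (Nat.card G : ℤ)

theorem LFns.card_A_abs : (Fintype.card ↥Lf.A : ℤ) = |k| := by
  rw [← Nat.card_eq_fintype_card]; exact Lf.cardA

theorem Ctx.card_cent (K : Ctx G L) : 2 * (Nat.card L : ℤ) ∣ (Nat.card G : ℤ) := by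
  have h2 := card_conj_class_mul_card_centralizer K.t
  rw [Nat.card_congr K.e.toEquiv, Nat.card_prod, show Nat.card (Multiplicative (ZMod 2)) = 2 by simp] at h2
  exact ⟨(Nat.card {x : G // IsConj K.t x} : ℤ), by rw [← h2]; push_cast; ring⟩

theorem Ctx.gSigned_dvd (K : Ctx G L) (Lf : LFns L p Q k h) : Q * (Q ^ 2 - 1) ∣ gSigned G Q := by
  have h1 := K.card_cent
  rw [Lf.card] at h1
  have h2 : Q * (Q ^ 2 - 1) ∣ (Nat.card G : ℤ) := by
    rcases abs_choice Q with e | e <;> rw [e] at h1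
    · exact h1
    · rwa [neg_mul, neg_dvd] at h1
  unfold gSigned
  split_ifs
  · exact dvd_neg.2 h2
  · exact h2

/-- A counting equation in the signed order. -/
theorem LFns.pairs_rat (Lf : LFns L p Q k h) {S : ℚ} {m : ℤ} {R : ℚ}
    (hS : (S : ℂ) * ((Nat.card G : ℂ) / (2 * (Nat.card L : ℂ)) ^ 2) = (m : ℂ))
    (hR : (m : ℚ) * ((Q : ℚ) ^ 2 * ((Q : ℚ) ^ 2 - 1) ^ 2) = R * (Nat.card G : ℚ)) : S = R := by
  have hG : (Nat.card G : ℚ) ≠ 0 := by simp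
  have hL : (Nat.card L : ℚ) ≠ 0 := by simp
  have h1 : S * ((Nat.card G : ℚ) / (2 * (Nat.card L : ℚ)) ^ 2) = (m : ℚ) :=
    Rat.cast_injective (α := ℂ) (by push_cast; exact hS)
  have h2 : (2 * (Nat.card L : ℚ)) ^ 2 = (Q : ℚ) ^ 2 * ((Q : ℚ) ^ 2 - 1) ^ 2 := by
    have h3 := congrArg (fun z : ℤ => ((z : ℚ)) ^ 2) Lf.card
    push_cast at h3
    rw [h3, mul_pow, sq_abs]
  rw [← h1, ← h2] at hR
  field_simp at hR
  exact hR

include hF

theorem Ctx.not_three_dvd_k : ¬ (3 : ℤ) ∣ k := by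
  intro h3
  haveI : Fact (Nat.Prime 3) := ⟨Nat.prime_three⟩
  have h3A : 3 ∣ Fintype.card ↥Lf.A := by
    have : (3 : ℤ) ∣ (Fintype.card ↥Lf.A : ℤ) := by rw [Lf.card_A_abs]; exact (dvd_abs _ _).2 h3
    exact_mod_cast this
  set f : Equiv.Perm ↥Lf.A :=
    ⟨K.omega Lf hF, fun x => K.omega Lf hF (K.omega Lf hF x), fun x => K.omega_three Lf hF x,
      fun x => K.omega_three Lf hF x⟩ with hf
  have hf3 : f ^ 3 ^ 1 = 1 := by
    refine Equiv.ext fun x => ?_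
    rw [pow_one, ← Equiv.Perm.iterate_eq_pow]
    exact K.omega_three Lf hF x
  obtain ⟨b, hb, hb1⟩ := Equiv.Perm.exists_fixed_point_of_prime' (p := 3) (σ := f) h3A hf3
    (a := 1) (map_one (K.omega Lf hF))
  exact hb1 (K.omega_free Lf hF hb)

theorem Ctx.one_lt_abs_k : 1 < |k| := by
  rw [← Lf.card_A_abs]
  have hne : Lf.A ≠ ⊥ := fun e => hF.hA1 (by rw [e, Subgroup.map_bot])
  haveI := (Subgroup.nontrivial_iff_ne_bot _).2 hne
  exact_mod_cast Fintype.one_lt_card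

theorem Ctx.five_le_abs : 5 ≤ |Q| := by
  have h1 := K.one_lt_abs_k Lf hF
  have h2 := Lf.hk
  rw [Int.abs_eq_natAbs] at h1 ⊢
  omega

theorem Ctx.gen_F1 (m : Pair ↥Lf.A) : Cfsg.IsGeneralizedCharacter G (K.Tf Lf 1 m.rep) := K.Tf_gen Lf _ _

theorem Ctx.inner_F_orbit (ν ν' : V4 →* ℂˣ) (m q : Pair ↥Lf.A) :
    Cfsg.classInner (K.Tf Lf ν m.rep) (K.Tf Lf ν' q.rep) = ∑ n : Fin 3,
      (if ∀ v, ν v = ν' ((rho)^[(n : ℕ)] v) then
        (2 : ℂ) + (if m = (K.wFun Lf hF)^[(n : ℕ)] q then 1 else 0) else 0) := by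
  rw [K.inner_Tf_Tf Lf hF ν ν' m.rep_ne q.rep_ne]
  refine Finset.sum_congr rfl fun n _ => ?_
  exact if_congr Iff.rfl (congrArg _ (if_congr (K.eq_wFun_iterate_iff Lf hF m q n).symm rfl rfl)) rfl

theorem Ctx.orbit_iff (m n : Pair ↥Lf.A) :
    (n = m ∨ n = K.wPerm Lf hF m ∨ n = K.wPerm Lf hF (K.wPerm Lf hF m)) ↔
      ∃ a : Fin 3, n = (K.wFun Lf hF)^[(a : ℕ)] m := by
  constructor
  · rintro (e | e | e)
    · exact ⟨0, e⟩
    · exact ⟨1, e⟩
    · exact ⟨2, e⟩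
  · rintro ⟨a, e⟩
    fin_cases a
    · exact Or.inl e
    · exact Or.inr (Or.inl e)
    · exact Or.inr (Or.inr e)

theorem Ctx.sum_orbit_ite (m n : Pair ↥Lf.A) :
    ∑ a : Fin 3, (if n = (K.wFun Lf hF)^[(a : ℕ)] m then (1 : ℂ) else 0) =
      if (n = m ∨ n = K.wPerm Lf hF m ∨ n = K.wPerm Lf hF (K.wPerm Lf hF m)) then 1 else 0 := by
  simp only [K.orbit_iff Lf hF]
  split_ifs with hx
  · obtain ⟨a, rfl⟩ := hx
    rw [Finset.sum_eq_single a (fun b _ hb => if_neg fun e => hb (K.wFun_iterate_unique Lf hF m e).symm)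
      (fun h => absurd (Finset.mem_univ _) h), if_pos rfl]
  · exact Finset.sum_eq_zero fun a _ => if_neg fun e => hx ⟨a, e⟩

theorem Ctx.orbit_symm (m n : Pair ↥Lf.A) :
    (m = n ∨ m = K.wPerm Lf hF n ∨ m = K.wPerm Lf hF (K.wPerm Lf hF n)) ↔
      (n = m ∨ n = K.wPerm Lf hF m ∨ n = K.wPerm Lf hF (K.wPerm Lf hF m)) := by
  have h3 : ∀ q, K.wPerm Lf hF (K.wPerm Lf hF (K.wPerm Lf hF q)) = q := K.wFun_three Lf hF
  constructor <;> rintro (e | e | e)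
  · exact Or.inl e.symm
  · exact Or.inr (Or.inr (by rw [e, h3]))
  · exact Or.inr (Or.inl (by rw [e, h3]))
  · exact Or.inl e.symm
  · exact Or.inr (Or.inr (by rw [e, h3]))
  · exact Or.inr (Or.inl (by rw [e, h3]))

theorem Ctx.nu_rho_iff (j j' n : Fin 3) :
    (∀ v, nuChar j v = nuChar j' ((rho)^[(n : ℕ)] v)) ↔ n = j' - j := by
  simp only [nuChar_rho]
  constructor
  · intro e
    rw [nuChar_inj (MonoidHom.ext e), sub_sub_cancel]
  · rintro rfl v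
    rw [sub_sub_cancel]

theorem Ctx.not_one_nu (j n : Fin 3) : ¬ ∀ v, (1 : V4 →* ℂˣ) v = nuChar j ((rho)^[(n : ℕ)] v) := by
  simp only [nuChar_rho]
  exact fun e => nuChar_ne_one (j - n) (MonoidHom.ext fun v => (e v).symm)

theorem Ctx.vF1F1 (m n : Pair ↥Lf.A) : ∑ c, K.vF1 Lf m c * K.vF1 Lf n c =
    if (n = m ∨ n = K.wPerm Lf hF m ∨ n = K.wPerm Lf hF (K.wPerm Lf hF m)) then 7 else 6 := by
  have e := sum_mlt_mul (K.Tf_gen Lf 1 m.rep) (K.Tf_gen Lf 1 n.rep)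
  rw [K.inner_F_orbit Lf hF] at e
  simp only [MonoidHom.one_apply, forall_const, if_true, Finset.sum_add_distrib, K.sum_orbit_ite Lf hF,
    K.orbit_symm Lf hF m n] at e
  refine int_eq_of_cast e ?_
  split_ifs <;> norm_num

theorem Ctx.vF1Fv (m n : Pair ↥Lf.A) (j : Fin 3) : ∑ c, K.vF1 Lf m c * K.vFv Lf n j c = 0 := by
  have e := sum_mlt_mul (K.Tf_gen Lf 1 m.rep) (K.Tf_gen Lf (nuChar j) n.rep)
  rw [K.inner_F_orbit Lf hF] at e
  simp only [Ctx.not_one_nu K Lf hF j, if_false, Finset.sum_const_zero] at e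
  exact_mod_cast e

theorem Ctx.vFvFv_gen (m q : Pair ↥Lf.A) (j j' : Fin 3) :
    ((∑ c, K.vFv Lf m j c * K.vFv Lf q j' c : ℤ) : ℂ) =
      2 + (if m = (K.wFun Lf hF)^[((j' - j : Fin 3) : ℕ)] q then 1 else 0) := by
  have e := sum_mlt_mul (K.Tf_gen Lf (nuChar j) m.rep) (K.Tf_gen Lf (nuChar j') q.rep)
  rw [K.inner_F_orbit Lf hF] at e
  simp only [K.nu_rho_iff Lf hF j j'] at e
  rw [Finset.sum_ite_eq' Finset.univ (j' - j), if_pos (Finset.mem_univ _)] at e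
  exact e

theorem Ctx.vFvFv (m : Pair ↥Lf.A) (j j' : Fin 3) :
    ∑ c, K.vFv Lf m j c * K.vFv Lf m j' c = if j = j' then 3 else 2 := by
  refine int_eq_of_cast (K.vFvFv_gen Lf hF m m j j') ?_
  by_cases hj : j = j'
  · subst hj
    rw [sub_self, if_pos rfl, if_pos (show m = (K.wFun Lf hF)^[((0 : Fin 3) : ℕ)] m from rfl)]
    norm_num
  · rw [if_neg hj, if_neg (fun e => hj (sub_eq_zero.1 (K.wFun_iterate_unique Lf hF m
      (a := j' - j) (b := 0) e.symm)).symm)]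
    norm_num

theorem Ctx.vFvFv' (m n : Pair ↥Lf.A) (j j' : Fin 3)
    (hne : ¬ (n = m ∨ n = K.wPerm Lf hF m ∨ n = K.wPerm Lf hF (K.wPerm Lf hF m))) :
    ∑ c, K.vFv Lf m j c * K.vFv Lf n j' c = 2 := by
  refine int_eq_of_cast (K.vFvFv_gen Lf hF m n j j') ?_
  rw [if_neg fun e => hne ((K.orbit_symm Lf hF m n).1 ((K.orbit_iff Lf hF n m).2 ⟨_, e⟩))]
  norm_num

theorem Ctx.inner_F_const (ν : V4 →* ℂˣ) (m : Pair ↥Lf.A) {Φ : L → ℂ} (hc : Cfsg.IsClassFunction L Φ)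
    (h0 : ∀ x, Even (orderOf x) → Φ x = 0) {c0 : ℤ} (hA : ∀ x : ↥Lf.A, x ≠ 1 → Φ (x : L) = c0) :
    Cfsg.classInner (K.Tf Lf ν m.rep) (K.sect Φ) = (c0 : ℂ) / 2 * ∑ j : Fin 3, (ν (vv j) : ℂ) := by
  rw [K.inner_Tf_sect Lf hF ν hc h0]
  have hx : ∀ j : Fin 3, ∑ x : ↥Lf.A, (1 - (m.rep x : ℂ)) * conj (Φ ((K.omega Lf hF)^[2 * (j : ℕ)] x : L)) =
      (c0 : ℂ) * (Fintype.card ↥Lf.A : ℂ) := by
    intro j
    have h1 : ∀ x : ↥Lf.A, (1 - (m.rep x : ℂ)) * conj (Φ ((K.omega Lf hF)^[2 * (j : ℕ)] x : L)) =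
        (1 - (m.rep x : ℂ)) * (c0 : ℂ) := by
      intro x
      by_cases hx : x = 1
      · simp [hx]
      · rw [hA _ (K.omega_iterate_ne_one Lf hF hx _), map_intCast]
    rw [Finset.sum_congr rfl fun x _ => h1 x, ← Finset.sum_mul, Finset.sum_sub_distrib, SL2C.sum_char,
      if_neg m.rep_ne, Finset.sum_const, Finset.card_univ, nsmul_eq_mul]
    ring
  simp only [hx, ← Finset.sum_mul]
  have hA0 : (Fintype.card ↥Lf.A : ℂ) ≠ 0 := Nat.cast_ne_zero.2 Fintype.card_ne_zero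
  field_simp

theorem Ctx.sum_one_vv : ∑ j : Fin 3, ((1 : V4 →* ℂˣ) (vv j) : ℂ) = 3 := by simp

theorem Ctx.sum_nu_vv (j : Fin 3) : ∑ i : Fin 3, (nuChar j (vv i) : ℂ) = -1 := by
  simp only [nuChar_vv]
  fin_cases j <;> simp +decide [Fin.sum_univ_three]

theorem Ctx.vF1X (m : Pair ↥Lf.A) (i : Fin 3) :
    ∑ c, K.vF1 Lf m c * K.vX Lf i c = if i = 0 then 0 else -3 := by
  have e := sum_mlt_mul (K.Tf_gen Lf 1 m.rep) (K.gen_X Lf i)
  rw [K.inner_F_const Lf hF 1 m (Lf.phi_cf i) (Lf.phi_even i) (c0 := if i = 0 then 0 else -2)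
    (fun x hx => by rw [Lf.phi_A i x hx]; split_ifs <;> simp), K.sum_one_vv Lf hF] at e
  refine int_eq_of_cast e ?_
  split_ifs <;> norm_num

theorem Ctx.vFvX (m : Pair ↥Lf.A) (j i : Fin 3) :
    ∑ c, K.vFv Lf m j c * K.vX Lf i c = if i = 0 then 0 else 1 := by
  have e := sum_mlt_mul (K.Tf_gen Lf (nuChar j) m.rep) (K.gen_X Lf i)
  rw [K.inner_F_const Lf hF (nuChar j) m (Lf.phi_cf i) (Lf.phi_even i) (c0 := if i = 0 then 0 else -2)
    (fun x hx => by rw [Lf.phi_A i x hx]; split_ifs <;> simp), K.sum_nu_vv Lf hF] at e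
  refine int_eq_of_cast e ?_
  split_ifs <;> norm_num

theorem Ctx.vFTl (ν : V4 →* ℂˣ) (m : Pair ↥Lf.A) (l : Lf.lamT) :
    ∑ c, mlt (K.Tf Lf ν m.rep) c * K.vTl Lf l c = 0 := by
  have e := sum_mlt_mul (K.Tf_gen Lf ν m.rep) (K.gen_Tl Lf l)
  rw [K.inner_F_const Lf hF ν m (Lf.phiL_cf l) (Lf.phiL_even l) (c0 := 0)
    (fun x hx => by rw [Lf.phiL_A l x hx, Int.cast_zero]), Int.cast_zero, zero_div, zero_mul] at e
  exact_mod_cast e

theorem Ctx.inner_F_Th (ν : V4 →* ℂˣ) (m q : Pair ↥Lf.A) :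
    ((∑ c, mlt (K.Tf Lf ν m.rep) c * K.vTh Lf q c : ℤ) : ℂ) =
      ∑ j : Fin 3, (ν (vv j) : ℂ) * (if q = (K.wFun Lf hF)^[(j : ℕ)] m then 1 else 0) := by
  have e : ((∑ c, mlt (K.Tf Lf ν m.rep) c * K.vTh Lf q c : ℤ) : ℂ) = _ :=
    sum_mlt_mul (K.Tf_gen Lf ν m.rep) (K.gen_Th Lf q)
  rw [e, K.inner_Tf_sect Lf hF ν (Lf.phiM_cf q.rep_ne) (Lf.phiM_even _ q.rep_ne), Finset.mul_sum]
  refine Finset.sum_congr rfl fun j _ => ?_
  have hx : ∀ x : ↥Lf.A, (1 - (m.rep x : ℂ)) * conj (Lf.phiM q.rep ((K.omega Lf hF)^[2 * (j : ℕ)] x : L)) =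
      -2 * ((1 - (m.rep x : ℂ)) * conj ((K.wRep Lf hF (2 * (j : ℕ)) q.rep x : ℂ) + (K.wRep Lf hF (2 * (j : ℕ)) q.rep x⁻¹ : ℂ))) := by
    intro x
    by_cases hx : x = 1
    · simp [hx]
    · rw [Lf.phiM_A _ q.rep_ne _ (K.omega_iterate_ne_one Lf hF hx _), map_mul, map_neg, Complex.conj_ofNat,
        K.wRep_apply Lf hF, K.wRep_apply Lf hF, iterate_map_inv]
      ring
  have hw : K.wRep Lf hF (2 * (j : ℕ)) q.rep ≠ 1 := by
    intro e1
    refine q.rep_ne (MonoidHom.ext fun x => ?_)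
    have hsurj : Function.Surjective (K.omega Lf hF)^[2 * (j : ℕ)] :=
      Function.Surjective.iterate (fun z => ⟨_, K.omega_three Lf hF z⟩) _
    obtain ⟨z, rfl⟩ := hsurj x
    rw [← K.wRep_apply Lf hF, e1]; rfl
  rw [Finset.sum_congr rfl fun x _ => hx x, ← Finset.mul_sum, sum_one_sub_mul_pair Lf.odd_card_A m.rep_ne hw]
  have hiff : (K.wRep Lf hF (2 * (j : ℕ)) q.rep = m.rep ∨ K.wRep Lf hF (2 * (j : ℕ)) q.rep = m.rep⁻¹) ↔
      q = (K.wFun Lf hF)^[(j : ℕ)] m := by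
    have h3 : ∀ z, (K.wFun Lf hF)^[3 * (j : ℕ)] z = z := fun z => by
      rw [Function.iterate_mul, show (K.wFun Lf hF)^[3] = id from funext fun w => K.wFun_three Lf hF w,
        Function.iterate_id, id]
    have h4 : m = (K.wFun Lf hF)^[2 * (j : ℕ)] q ↔ q = (K.wFun Lf hF)^[(j : ℕ)] m := by
      constructor
      · intro e1
        rw [e1, ← Function.iterate_add_apply, show (j : ℕ) + 2 * (j : ℕ) = 3 * (j : ℕ) by ring, h3]
      · intro e1
        rw [e1, ← Function.iterate_add_apply, show 2 * (j : ℕ) + (j : ℕ) = 3 * (j : ℕ) by ring, h3]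
    rw [← h4, K.eq_wFun_iterate_iff Lf hF]
    constructor
    · rintro (e1 | e1)
      · exact Or.inl e1.symm
      · exact Or.inr (MonoidHom.ext fun x => by rw [e1]; simp)
    · rintro (e1 | e1)
      · exact Or.inl e1.symm
      · exact Or.inr (MonoidHom.ext fun x => by rw [e1]; simp)
  simp only [hiff]
  have hA : (Fintype.card ↥Lf.A : ℂ) ≠ 0 := Nat.cast_ne_zero.2 Fintype.card_ne_zero
  field_simp

theorem Ctx.vF1Th (m n : Pair ↥Lf.A) : ∑ c, K.vF1 Lf m c * K.vTh Lf n c =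
    if (n = m ∨ n = K.wPerm Lf hF m ∨ n = K.wPerm Lf hF (K.wPerm Lf hF m)) then 1 else 0 := by
  refine int_eq_of_cast (K.inner_F_Th Lf hF 1 m n) ?_
  simp only [MonoidHom.one_apply, Units.val_one, one_mul, K.sum_orbit_ite Lf hF]
  split_ifs <;> simp

theorem Ctx.vFvTh (m : Pair ↥Lf.A) (j : Fin 3) (n : Pair ↥Lf.A) : ∑ c, K.vFv Lf m j c * K.vTh Lf n c =
    if n = (K.wPerm Lf hF ^ (j : ℕ)) m then 1
    else if (n = m ∨ n = K.wPerm Lf hF m ∨ n = K.wPerm Lf hF (K.wPerm Lf hF m)) then -1 else 0 := by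
  refine int_eq_of_cast (K.inner_F_Th Lf hF (nuChar j) m n) ?_
  rw [K.wPerm_pow Lf hF]
  simp only [nuChar_vv, K.orbit_iff Lf hF]
  by_cases hx : ∃ a : Fin 3, n = (K.wFun Lf hF)^[(a : ℕ)] m
  · obtain ⟨a, rfl⟩ := hx
    rw [Finset.sum_eq_single a (fun b _ hb => by
        rw [if_neg (fun e : (K.wFun Lf hF)^[(a : ℕ)] m = (K.wFun Lf hF)^[(b : ℕ)] m =>
          hb (K.wFun_iterate_unique Lf hF m e).symm), mul_zero])
      (fun h => absurd (Finset.mem_univ _) h)]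
    simp only [if_true, mul_one]
    by_cases haj : a = j
    · subst haj; simp
    · rw [if_neg (fun e : (K.wFun Lf hF)^[(a : ℕ)] m = (K.wFun Lf hF)^[(j : ℕ)] m =>
        haj (K.wFun_iterate_unique Lf hF m e)), if_pos ⟨a, rfl⟩, if_neg haj]
      norm_num
  · rw [if_neg (fun e => hx ⟨j, e⟩), if_neg hx]
    push_cast
    exact (Finset.sum_eq_zero fun a _ => by rw [if_neg (fun e => hx ⟨a, e⟩), mul_zero]).symm

theorem Ctx.pairs_F (ν : V4 →* ℂˣ) (m : Pair ↥Lf.A) :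
    ∑ c, (mlt (K.Tf Lf ν m.rep) c : ℚ) * (K.vz Lf c : ℚ) ^ 2 / (deg c : ℚ) =
      if ν = 1 then (Q : ℚ) ^ 2 * ((Q : ℚ) ^ 2 - 1) ^ 2 * ((Q : ℚ) + 1) / (gSigned G Q : ℚ) else 0 := by
  have e := K.sum_mlt_pairs Lf (K.Tf_gen Lf ν m.rep)
  rw [K.inner_Tf_pairs Lf hF ν m.rep_ne] at e
  have hG : (Nat.card G : ℚ) ≠ 0 := by simp
  refine Lf.pairs_rat (m := if ν = 1 then |Q + 1| else 0) (by rw [e]; split_ifs <;> simp) ?_
  split_ifs with hν
  · have h5 := K.five_le_abs Lf hF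
    rcases lt_or_ge Q 0 with hq | hq
    · rw [gSigned, if_pos hq, abs_of_nonpos (by rw [abs_of_neg hq] at h5; omega)]
      push_cast; field_simp
    · rw [gSigned, if_neg (not_lt.2 hq), abs_of_nonneg (by omega)]
      push_cast; field_simp
  · simp

theorem Ctx.pairs_X0 : ∑ c, (K.vX Lf 0 c : ℚ) * (K.vz Lf c : ℚ) ^ 2 / (deg c : ℚ) =
    (Q : ℚ) ^ 2 * ((Q : ℚ) ^ 2 - 1) ^ 2 * ((Q : ℚ) - 1) / (gSigned G Q : ℚ) := by
  have e := K.vX_pairs Lf 0
  rw [Lf.pairs0, mul_comm (Nat.card L : ℂ)] at e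
  have hG : (Nat.card G : ℚ) ≠ 0 := by simp
  refine Lf.pairs_rat (m := |Q - 1|) (mul_right_cancel₀ (by simp) e) ?_
  have h5 := K.five_le_abs Lf hF
  rcases lt_or_ge Q 0 with hq | hq
  · rw [gSigned, if_pos hq, abs_of_nonpos (by omega)]
    push_cast; field_simp
  · rw [gSigned, if_neg (not_lt.2 hq), abs_of_nonneg (by rw [abs_of_nonneg hq] at h5; omega)]
    push_cast; field_simp

theorem Ctx.pairs_X1 (i : Fin 3) (hi : i ≠ 0) :
    ∑ c, (K.vX Lf i c : ℚ) * (K.vz Lf c : ℚ) ^ 2 / (deg c : ℚ) =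
      (Q : ℚ) ^ 2 * ((Q : ℚ) ^ 2 - 1) * ((Q : ℚ) - 1) * (3 * (Q : ℚ) - 1) / (gSigned G Q : ℚ) := by
  have e := K.vX_pairs Lf i
  set S : ℚ := ∑ c, (K.vX Lf i c : ℚ) * (K.vz Lf c : ℚ) ^ 2 / (deg c : ℚ) with hSdef
  have h1 := Lf.pairs1 i hi
  have e2 : (S : ℂ) * ((Nat.card G : ℂ) / (2 * (Nat.card L : ℂ)) ^ 2) * ((|Q + 1| : ℤ) : ℂ) = ((3 * Q - 1 : ℤ) : ℂ) := by
    refine mul_left_cancel₀ (a := (Nat.card L : ℂ)) (by simp) ?_
    linear_combination ((|Q + 1| : ℤ) : ℂ) * e + h1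
  have hG : (Nat.card G : ℚ) ≠ 0 := by simp
  have hL : (Nat.card L : ℚ) ≠ 0 := by simp
  have e3 : S * ((Nat.card G : ℚ) / (2 * (Nat.card L : ℚ)) ^ 2) * ((|Q + 1| : ℤ) : ℚ) = ((3 * Q - 1 : ℤ) : ℚ) := by
    generalize |Q + 1| = w at e2 ⊢
    refine Rat.cast_injective (α := ℂ) ?_
    push_cast
    convert e2 using 1; push_cast; ring
  have h2 : (2 * (Nat.card L : ℚ)) ^ 2 = (Q : ℚ) ^ 2 * ((Q : ℚ) ^ 2 - 1) ^ 2 := by
    have h3 := congrArg (fun z : ℤ => ((z : ℚ)) ^ 2) Lf.card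
    push_cast at h3
    rw [h3, mul_pow, sq_abs]
  have h5 := K.five_le_abs Lf hF
  have hq0 : (Q : ℚ) ≠ 0 := by simp only [ne_eq, Int.cast_eq_zero]; rintro rfl; simp at h5
  have hq1 : (Q : ℚ) ^ 2 - 1 ≠ 0 := by
    intro e0
    have : (Q : ℤ) ^ 2 = 1 := by exact_mod_cast sub_eq_zero.1 e0
    rcases sq_eq_one_iff.1 this with rfl | rfl <;> simp at h5
  rw [h2] at e3
  field_simp at e3
  rcases lt_or_ge Q 0 with hq | hq
  · rw [gSigned, if_pos hq]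
    rw [abs_of_nonpos (by rw [abs_of_neg hq] at h5; omega)] at e3
    push_cast at e3 ⊢
    rw [eq_div_iff (neg_ne_zero.2 hG)]
    refine mul_right_cancel₀ (b := (Q : ℚ) + 1) (by
      intro e0; have : Q = -1 := by exact_mod_cast eq_neg_of_add_eq_zero_left e0
      subst this; simp at h5) ?_
    linear_combination e3
  · rw [gSigned, if_neg (not_lt.2 hq)]
    rw [abs_of_nonneg (by omega)] at e3
    push_cast at e3 ⊢
    rw [eq_div_iff hG]
    refine mul_right_cancel₀ (b := (Q : ℚ) + 1) (by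
      intro e0; have : Q = -1 := by exact_mod_cast eq_neg_of_add_eq_zero_left e0
      subst this; simp at h5) ?_
    linear_combination e3

theorem Ctx.vz_sum (v : V4) : ∀ c : Irr G, v ≠ 1 → (c : G → ℂ) (K.tor Lf (v, 1)) = (K.vz Lf c : ℂ) := by
  intro c hv
  rw [← K.apply_t Lf c]
  refine (IsClassFunction.apply_eq_of_isConj (isClassFunction_irr c) (K.conjInv _ ?_)).symm
  rw [orderOf_injective _ (K.tor_inj Lf)]
  refine orderOf_eq_prime ?_ fun e => hv (congrArg Prod.fst e)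
  rw [sq, Prod.mk_mul_mk, V4_mul_self, mul_one]; rfl

theorem Ctx.vcongr (c : Irr G) (κ : ℤ) (hκ : ∀ m, K.vF1 Lf m c = κ) :
    k ∣ (deg c : ℤ) + 3 * K.vz Lf c - 4 * κ := by
  have hχ := isClassFunction_irr c
  set a : ↥Lf.A → ℂ := fun x => ∑ v : V4, conj ((c : G → ℂ) (K.tor Lf (v, x))) with ha
  set kA : ℂ := (Fintype.card ↥Lf.A : ℂ) with hkA
  have hA0 : kA ≠ 0 := Nat.cast_ne_zero.2 Fintype.card_ne_zero
  have hsumF : ∀ μ : ↥Lf.A →* ℂˣ, μ ≠ 1 → ∑ x, (1 - (μ x : ℂ)) * a x = 4 * kA * κ := by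
    intro μ hμ
    set m : Pair ↥Lf.A := Quotient.mk (pairSetoid ↥Lf.A) ⟨μ, hμ⟩ with hm
    have e : Cfsg.classInner (K.Tf Lf 1 μ) (c : G → ℂ) = (κ : ℂ) := by
      have h1 : Cfsg.classInner (K.Tf Lf 1 m.rep) (c : G → ℂ) = (κ : ℂ) := by
        rw [mlt_spec (K.Tf_gen Lf 1 m.rep) c, ← hκ m]; rfl
      have h2 : (pairSetoid ↥Lf.A).r ⟨μ, hμ⟩ ⟨m.rep, m.rep_ne⟩ := Quotient.exact (Pair.mk_rep m m.rep_ne).symm
      rcases h2 with h2 | h2
      · rwa [show m.rep = μ from h2] at h1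
      · rwa [show m.rep = μ⁻¹ from h2, K.inner_Tf_inv Lf hF hχ] at h1
    rw [K.inner_Tf Lf 1 μ hχ, inv_mul_eq_div, div_eq_iff (mul_ne_zero (by norm_num : (4 : ℂ) ≠ 0) hA0)] at e
    simp only [MonoidHom.one_apply, Units.val_one, one_mul] at e
    rw [mul_comm (κ : ℂ)] at e
    exact e
  obtain ⟨N, hN⟩ := IsGeneralized.exists_classInner_eq_int
    (isGeneralized_one (G := V4 × ↥Lf.A))
    (IsGeneralized.comp (IsIrrCharacter.isGeneralized (mem_irrFinset.1 c.2)) (K.tor Lf))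
  rw [classInner_def, natCard_torus, Fintype.sum_prod_type, Finset.sum_comm, inv_mul_eq_div,
    div_eq_iff (mul_ne_zero (by norm_num : (4 : ℂ) ≠ 0) hA0)] at hN
  simp only [one_mul] at hN
  have hT : ∑ x, a x = 4 * kA * N := by rw [ha]; simp only; rw [hN]; ring
  have htot : ∑ μ : ↥Lf.A →* ℂˣ, ∑ x, (μ x : ℂ) * a x = kA * a 1 := by
    rw [Finset.sum_comm]
    simp only [← Finset.sum_mul, SL2C.sum_dual (fun u w : ↥Lf.A => Subtype.ext (Lf.commA _ u.2 _ w.2))]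
    simp [hkA]
  have hrest : ∑ μ ∈ (Finset.univ.erase (1 : ↥Lf.A →* ℂˣ)), ∑ x, (μ x : ℂ) * a x =
      ((Fintype.card ↥Lf.A - 1 : ℕ) : ℂ) * (4 * kA * (N : ℂ) - 4 * kA * κ) := by
    rw [Finset.sum_congr rfl (g := fun _ => 4 * kA * (N : ℂ) - 4 * kA * κ) fun μ hμ => ?_, Finset.sum_const,
      Finset.card_erase_of_mem (Finset.mem_univ _), Finset.card_univ,
      SL2C.card_dual (fun u w : ↥Lf.A => Subtype.ext (Lf.commA _ u.2 _ w.2)), nsmul_eq_mul]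
    rw [← hT, ← hsumF μ (Finset.ne_of_mem_erase hμ), ← Finset.sum_sub_distrib]
    exact Finset.sum_congr rfl fun x _ => by ring
  rw [← Finset.add_sum_erase _ _ (Finset.mem_univ (1 : ↥Lf.A →* ℂˣ)), hrest] at htot
  simp only [MonoidHom.one_apply, Units.val_one, one_mul, hT, Nat.cast_sub Fintype.card_pos, Nat.cast_one,
    ← hkA] at htot
  have ha1 : a 1 = ((deg c : ℤ) + 3 * K.vz Lf c : ℤ) := by
    rw [ha]; simp only
    rw [sum_V4, show ((1 : V4), (1 : ↥Lf.A)) = 1 from rfl, map_one, deg_spec, K.vz_sum Lf hF _ c (by decide),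
      K.vz_sum Lf hF _ c (by decide), K.vz_sum Lf hF _ c (by decide), Complex.conj_natCast, map_intCast]
    push_cast; ring
  have hmain : ((deg c : ℤ) + 3 * K.vz Lf c - 4 * κ : ℤ) = ((4 * (Fintype.card ↥Lf.A : ℤ) * (N - κ) : ℤ)) := by
    refine int_eq_of_cast (x := 4 * kA * ((N : ℂ) - κ)) ?_ (by rw [hkA]; push_cast; ring)
    push_cast at ha1 ⊢
    rw [← ha1]
    refine mul_left_cancel₀ hA0 ?_
    linear_combination -htot
  rw [hmain, Lf.card_A_abs]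
  exact dvd_mul_of_dvd_left (dvd_mul_of_dvd_right ((dvd_abs _ _).2 dvd_rfl) _) _

theorem Ctx.exists_vecs :
    ∃ V : Vecs (Irr G) (Pair ↥Lf.A) Lf.lamT Q k h, V.g = gSigned G Q := by
  haveI := Fact.mk Lf.hp
  obtain ⟨a, hcop, hsq, hmod⟩ := exists_swap_exponent (n := Nat.card G) Lf.hp Lf.hodd Nat.card_pos
  obtain ⟨s, hs⟩ := exists_powPerm hcop
  have hLd : Nat.card L ∣ Nat.card G := Subgroup.card_dvd_of_injective K.emb K.emb_inj
  have hpQ : (p : ℤ) ∣ Q := by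
    obtain ⟨n, hn⟩ := Lf.hQ
    have h5 := K.five_le_abs Lf hF
    have hn0 : n ≠ 0 := by
      rintro rfl
      rw [Int.abs_eq_natAbs, hn, pow_zero] at h5
      norm_num at h5
    have : p ∣ Q.natAbs := hn ▸ dvd_pow_self p hn0
    exact Int.natCast_dvd.2 this
  have hpk : ∀ d : ℕ, (d : ℤ) ∣ 2 * k → ¬ p ∣ d := by
    intro d hd hpd
    have h1 : (p : ℤ) ∣ 2 * k := (Int.natCast_dvd_natCast.2 hpd).trans hd
    have h2 : (p : ℤ) ∣ 1 := by
      have h3 : (p : ℤ) ∣ 2 * (2 * k) - Q := dvd_sub (dvd_mul_of_dvd_right h1 _) hpQ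
      rwa [show 2 * (2 * k) - Q = 1 by have := Lf.hk; omega] at h3
    exact Lf.hp.not_dvd_one (by exact_mod_cast h2)
  have hsw := Lf.swap a hsq fun d hd hpd => hmod d (hd.trans hLd) hpd
  have haodd : Odd a := by
    rw [← Nat.not_even_iff_odd]
    intro he
    have h2 : 2 ∣ Nat.card G := K.ht ▸ orderOf_dvd_natCard K.t
    exact absurd (Nat.eq_one_of_dvd_coprimes hcop he.two_dvd h2) (by norm_num)
  have hfix : ∀ d : V4 × ↥Lf.A, d ^ a = d := by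
    rintro ⟨v, x⟩
    refine Prod.ext ?_ ?_
    · obtain ⟨j, rfl⟩ := haodd
      show v ^ (2 * j + 1) = v
      rw [pow_succ, pow_mul, pow_two, V4_mul_self, one_pow, one_mul]
    · show x ^ a = x
      have hdA : Nat.card ↥Lf.A ∣ Nat.card G :=
        (Lf.A.card_subgroup_dvd_card).trans hLd
      have hA := hmod _ hdA (hpk _ (by rw [Lf.cardA]; exact (abs_dvd _ _).2 (dvd_mul_left _ _)))
      rw [← pow_mod_natCard, hA, pow_mod_natCard, pow_one]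
  have hTf : ∀ ν μ c, mlt (K.Tf Lf ν μ) (s c) = mlt (K.Tf Lf ν μ) c := by
    intro ν μ c
    have key : Cfsg.classInner (K.Tf Lf ν μ) (s c : G → ℂ) = Cfsg.classInner (K.Tf Lf ν μ) (c : G → ℂ) := by
      rw [Ctx.Tf, classInner_indH _ _ _ (isClassFunction_irr _), classInner_indH _ _ _ (isClassFunction_irr _),
        classInner_def, classInner_def]
      congr 1
      exact Finset.sum_congr rfl fun d _ => by rw [hs, ← map_pow, hfix d]
    rw [mlt_spec (K.Tf_gen Lf ν μ) (s c), mlt_spec (K.Tf_gen Lf ν μ) c] at key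
    exact_mod_cast key
  have hX0 : ∀ c, K.vX Lf 0 (s c) = K.vX Lf 0 c := fun c =>
    K.mlt_sect_pow hcop (Lf.phi_gen 0) (Lf.phi_gen 0) (fun x => (hsw x).1) hs c
  have hX1 : ∀ c, K.vX Lf 1 (s c) = K.vX Lf 2 c := fun c =>
    K.mlt_sect_pow hcop (Lf.phi_gen 2) (Lf.phi_gen 1) (fun x => (hsw x).2.2.1) hs c
  have hX2 : ∀ c, K.vX Lf 2 (s c) = K.vX Lf 1 c := fun c =>
    K.mlt_sect_pow hcop (Lf.phi_gen 1) (Lf.phi_gen 2) (fun x => (hsw x).2.1) hs c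
  have hTh : ∀ m c, K.vTh Lf m (s c) = K.vTh Lf m c := fun m c =>
    K.mlt_sect_pow hcop (Lf.phiM_gen _ m.rep_ne) (Lf.phiM_gen _ m.rep_ne)
      (fun x => (hsw x).2.2.2.1 _ m.rep_ne) hs c
  have hTl : ∀ l c, K.vTl Lf l (s c) = K.vTl Lf l c := fun l c =>
    K.mlt_sect_pow hcop (Lf.phiL_gen l) (Lf.phiL_gen l) (fun x => (hsw x).2.2.2.2 l) hs c
  have hd : ∀ c, deg (s c) = deg c := by
    intro c
    have h1 := hs c 1
    rw [one_pow, deg_spec, deg_spec] at h1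
    exact_mod_cast h1
  have hne : Nonempty (Pair ↥Lf.A) := by
    have hb : Lf.A ≠ ⊥ := fun e => hF.hA1 (by rw [e, Subgroup.map_bot])
    haveI := (Subgroup.nontrivial_iff_ne_bot _).2 hb
    obtain ⟨x, hx⟩ := exists_ne (1 : ↥Lf.A)
    obtain ⟨μ, hμ⟩ := SL2C.exists_char_ne_one (fun u w : ↥Lf.A => Subtype.ext (Lf.commA _ u.2 _ w.2)) hx
    exact ⟨Quotient.mk _ ⟨μ, fun e => hμ (by rw [e]; rfl)⟩⟩
  have hFo : ∀ ν m, (mlt (K.Tf Lf ν (Pair.rep m)) (triv G) : ℂ) = if ν = 1 then 1 else 0 := fun ν m => by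
    rw [mlt_triv (K.Tf_gen Lf ν _), K.inner_Tf_one Lf ν m.rep_ne]
  refine ⟨{
    hQ8 := Lf.hQ8, hQ := K.five_le_abs Lf hF, hk := Lf.hk, hh := Lf.hh
    hk3 := K.not_three_dvd_k Lf hF, hk1 := K.one_lt_abs_k Lf hF
    o := triv G, d := deg, d_pos := deg_pos, d_o := deg_triv
    X := K.vX Lf, Th := K.vTh Lf, Tl := K.vTl Lf, F1 := K.vF1 Lf, Fv := K.vFv Lf
    w := K.wPerm Lf hF, w3 := K.wFun_three Lf hF, wne := K.wFun_ne Lf hF, m0 := hne.some
    XX := K.vXX Lf, X_one := K.vX_one Lf, XTh := K.vXTh Lf, XTl := K.vXTl Lf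
    ThTh := fun m n => by convert K.vThTh Lf m n using 2
    ThTl := K.vThTl Lf, TlTl := K.vTlTl Lf, Th_one := K.vTh_one Lf, Tl_one := K.vTl_one Lf
    F1_one := fun m => by have e := hFo 1 m; rw [if_pos rfl] at e; exact_mod_cast e
    Fv_one := fun m j => by have e := hFo (nuChar j) m; rw [if_neg (nuChar_ne_one j)] at e; exact_mod_cast e
    F1X := K.vF1X Lf hF, FvX := K.vFvX Lf hF, F1Tl := K.vFTl Lf hF 1, FvTl := fun m j => K.vFTl Lf hF (nuChar j) m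
    F1Th := fun m n => by convert K.vF1Th Lf hF m n using 2
    FvTh := fun m j n => by convert K.vFvTh Lf hF m j n using 3
    F1F1 := fun m n => by convert K.vF1F1 Lf hF m n using 2
    F1Fv := K.vF1Fv Lf hF
    FvFv := K.vFvFv Lf hF, FvFv' := K.vFvFv' Lf hF
    X_deg := K.vX_deg Lf, Th_deg := K.vTh_deg Lf, Tl_deg := K.vTl_deg Lf
    F1_deg := fun m => sum_mlt_deg (K.Tf_gen Lf 1 m.rep) (K.Tf_at_one Lf _ _)
    Fv_deg := fun m j => sum_mlt_deg (K.Tf_gen Lf (nuChar j) m.rep) (K.Tf_at_one Lf _ _)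
    z := K.vz Lf, z_eq := fun _ => rfl
    s := s
    s_o := Subtype.ext (funext fun g => by rw [hs]; rfl)
    s_d := hd, s_X0 := hX0, s_X1 := hX1, s_X2 := hX2, s_Th := hTh, s_Tl := hTl
    s_F1 := fun m => hTf 1 m.rep, s_Fv := fun m j => hTf (nuChar j) m.rep
    g := gSigned G Q
    g_ne := by unfold gSigned; split_ifs <;> simp
    g_dvd := K.gSigned_dvd Lf
    pairsX0 := K.pairs_X0 Lf hF, pairsX1 := K.pairs_X1 Lf hF
    pairsF1 := fun m => (K.pairs_F Lf hF 1 m).trans (if_pos rfl)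
    pairsFv := fun m j => (K.pairs_F Lf hF (nuChar j) m).trans (if_neg (nuChar_ne_one j))
    congr := K.vcongr Lf hF }, rfl⟩

end CfsgLib.JT
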