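import Cfsg.Agent.JankoThompson.FixedFun
import Cfsg.Agent.JankoThompson.FixedTri
import Cfsg.Agent.JankoThompson.FixedNumFive
import Cfsg.Agent.JankoThompson.FreeVec

/-!
The vectors of the involution section and of a fixed element in the setting of `Ctx`.
-/

set_option autoImplicit false
set_option linter.style.haveILetI false
set_option linter.unusedSectionVars false

namespace CfsgLib.JT

open CfsgLib.Char Finset
open scoped ComplexConjugate Classical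

universe u v

attribute [local instance] LFns.lamFin

variable {G : Type u} [Group G] [Fintype G] {L : Type v} [Group L] [Fintype L] {p : ℕ} {Q k h : ℤ}

theorem gSigned_cast (G : Type u) [Group G] [Fintype G] (Q : ℤ) :
    (gSigned G Q : ℚ) = if Q < 0 then -(Nat.card G : ℚ) else (Nat.card G : ℚ) := by
  unfold gSigned; split_ifs <;> simp

/-- A counting equation with a rational right-hand side. -/
theorem LFns.pairs_rat' (Lf : LFns L p Q k h) {S m R : ℚ}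
    (hS : (S : ℂ) * ((Nat.card G : ℂ) / (2 * (Nat.card L : ℂ)) ^ 2) = (m : ℂ))
    (hR : m * ((Q : ℚ) ^ 2 * ((Q : ℚ) ^ 2 - 1) ^ 2) = R * (Nat.card G : ℚ)) : S = R := by
  have hG : (Nat.card G : ℚ) ≠ 0 := by simp
  have hL : (Nat.card L : ℚ) ≠ 0 := by simp
  have h1 : S * ((Nat.card G : ℚ) / (2 * (Nat.card L : ℚ)) ^ 2) = m :=
    Rat.cast_injective (α := ℂ) (by push_cast; exact hS)
  have h2 : (2 * (Nat.card L : ℚ)) ^ 2 = (Q : ℚ) ^ 2 * ((Q : ℚ) ^ 2 - 1) ^ 2 := by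
    have h3 := congrArg (fun z : ℤ => ((z : ℚ)) ^ 2) Lf.card
    push_cast at h3
    rw [h3, mul_pow, sq_abs]
  rw [← h1, ← h2] at hR
  field_simp at hR
  exact hR

variable (K : Ctx G L) (Lf : LFns L p Q k h)

/-- The value of the counting equation of a free torus function. -/
noncomputable def cT (G : Type u) [Group G] (Q : ℤ) : ℚ :=
  (Q : ℚ) ^ 2 * ((Q : ℚ) ^ 2 - 1) ^ 2 * ((Q : ℚ) + 1) / (gSigned G Q : ℚ)

theorem gSigned_ne (G : Type u) [Group G] [Fintype G] (Q : ℤ) : (gSigned G Q : ℚ) ≠ 0 := by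
  rw [gSigned_cast]; split_ifs <;> simp

theorem cast_ne_of_five (h5 : 5 ≤ |Q|) :
    (Q : ℚ) ≠ 0 ∧ (Q : ℚ) + 1 ≠ 0 ∧ (Q : ℚ) ^ 2 - 1 ≠ 0 := by
  refine ⟨?_, ?_, ?_⟩
  · simp only [ne_eq, Int.cast_eq_zero]; rintro rfl; simp at h5
  · intro e
    have : Q = -1 := by exact_mod_cast eq_neg_of_add_eq_zero_left e
    subst this; simp at h5
  · intro e
    have : (Q : ℤ) ^ 2 = 1 := by exact_mod_cast sub_eq_zero.1 e
    rcases sq_eq_one_iff.1 this with rfl | rfl <;> simp at h5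

theorem Ctx.pairs_X0' (h5 : 5 ≤ |Q|) :
    ∑ c, (K.vX Lf 0 c : ℚ) * ((K.vz Lf c : ℚ) ^ 2 / (deg c : ℚ)) =
      cT G Q * ((Q : ℚ) - 1) / ((Q : ℚ) + 1) := by
  have e := K.vX_pairs Lf 0
  rw [Lf.pairs0, mul_comm (Nat.card L : ℂ)] at e
  obtain ⟨-, hq1, -⟩ := cast_ne_of_five h5
  simp only [← mul_div_assoc]
  refine Lf.pairs_rat (G := G) (m := |Q - 1|) (mul_right_cancel₀ (by simp) e) ?_
  have hg := gSigned_ne G Q
  rw [cT, gSigned_cast] at *
  rcases lt_or_ge Q 0 with hq | hq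
  · rw [if_pos hq] at hg ⊢
    rw [abs_of_nonpos (by omega)]
    push_cast; field_simp
  · rw [if_neg (not_lt.2 hq)] at hg ⊢
    rw [abs_of_nonneg (by rw [abs_of_nonneg hq] at h5; omega)]
    push_cast; field_simp

theorem Ctx.pairs_X1' (h5 : 5 ≤ |Q|) :
    ∑ c, (K.vX Lf 1 c : ℚ) * ((K.vz Lf c : ℚ) ^ 2 / (deg c : ℚ)) =
      cT G Q * (3 * (Q : ℚ) - 1) / ((Q : ℚ) + 1) ^ 2 := by
  have e := K.vX_pairs Lf 1
  simp only [← mul_div_assoc]
  set S : ℚ := ∑ c, (K.vX Lf 1 c : ℚ) * (K.vz Lf c : ℚ) ^ 2 / (deg c : ℚ) with hSdef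
  have h1 := Lf.pairs1 1 (by decide)
  have hL : (Nat.card L : ℂ) ≠ 0 := by simp
  obtain ⟨-, hq1, -⟩ := cast_ne_of_five h5
  have ha : ((|Q + 1| : ℤ) : ℂ) ≠ 0 := by
    rw [Int.cast_ne_zero, ne_eq, abs_eq_zero]
    intro e'
    exact hq1 (by exact_mod_cast e')
  refine Lf.pairs_rat' (G := G) (m := ((3 * Q - 1 : ℤ) : ℚ) / ((|Q + 1| : ℤ) : ℚ)) ?_ ?_
  · rw [Rat.cast_div, Rat.cast_intCast, Rat.cast_intCast, eq_div_iff ha]
    refine mul_left_cancel₀ hL ?_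
    linear_combination ((|Q + 1| : ℤ) : ℂ) * e + h1
  have hg := gSigned_ne G Q
  rw [cT, gSigned_cast] at *
  rcases lt_or_ge Q 0 with hq | hq
  · rw [if_pos hq] at hg ⊢
    rw [abs_of_nonpos (by omega)]
    push_cast
    rw [div_mul_eq_mul_div, div_eq_iff (neg_ne_zero.2 hq1)]
    field_simp
  · rw [if_neg (not_lt.2 hq)] at hg ⊢
    rw [abs_of_nonneg (by omega)]
    push_cast
    field_simp

/-- The vectors of the involution section, with the permutation of a power map. -/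
noncomputable def Ctx.sv (h5 : 5 ≤ |Q|) {a : ℕ} (hcop : a.Coprime (Nat.card G))
    (hsq : ¬ IsSquare (a : ZMod p)) (hmod : ∀ d : ℕ, d ∣ Nat.card G → ¬ p ∣ d → a % d = 1 % d)
    {s : Equiv.Perm (Irr G)} (hs : ∀ c g, (s c : G → ℂ) g = (c : G → ℂ) (g ^ a)) :
    SV (Irr G) (Pair ↥Lf.A) Lf.lamT Q h where
  hQ8 := Lf.hQ8
  hQ := h5
  hh := Lf.hh
  o := triv G
  d c := (deg c : ℤ)
  d_ne c := by exact_mod_cast (deg_pos c).ne'
  d_o := by rw [deg_triv]; rfl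
  X := K.vX Lf
  Th := K.vTh Lf
  Tl := K.vTl Lf
  XX := K.vXX Lf
  X_one := K.vX_one Lf
  XTh := K.vXTh Lf
  XTl := K.vXTl Lf
  ThTh m := by rw [K.vThTh Lf m m, if_pos rfl]
  TlTl l := by rw [K.vTlTl Lf l l, if_pos rfl]
  Th_one := K.vTh_one Lf
  Tl_one := K.vTl_one Lf
  X_deg := K.vX_deg Lf
  Th_deg := K.vTh_deg Lf
  Tl_deg := K.vTl_deg Lf
  z := K.vz Lf
  z_eq _ := rfl
  s := s
  s_o := Subtype.ext (funext fun g => by rw [hs]; rfl)
  s_d c := by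
    have h1 := hs c 1
    rw [one_pow, deg_spec, deg_spec] at h1
    have h2 : deg (s c) = deg c := by exact_mod_cast h1
    rw [h2]
  s_X0 c := K.mlt_sect_pow hcop (Lf.phi_gen 0) (Lf.phi_gen 0)
    (fun x => (Lf.swap a hsq (fun d hd hpd =>
      hmod d (hd.trans (Subgroup.card_dvd_of_injective K.emb K.emb_inj)) hpd) x).1) hs c
  s_X1 c := K.mlt_sect_pow hcop (Lf.phi_gen 2) (Lf.phi_gen 1)
    (fun x => (Lf.swap a hsq (fun d hd hpd =>
      hmod d (hd.trans (Subgroup.card_dvd_of_injective K.emb K.emb_inj)) hpd) x).2.2.1) hs c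
  s_X2 c := K.mlt_sect_pow hcop (Lf.phi_gen 1) (Lf.phi_gen 2)
    (fun x => (Lf.swap a hsq (fun d hd hpd =>
      hmod d (hd.trans (Subgroup.card_dvd_of_injective K.emb K.emb_inj)) hpd) x).2.1) hs c
  s_Th m c := K.mlt_sect_pow hcop (Lf.phiM_gen _ m.rep_ne) (Lf.phiM_gen _ m.rep_ne)
    (fun x => (Lf.swap a hsq (fun d hd hpd =>
      hmod d (hd.trans (Subgroup.card_dvd_of_injective K.emb K.emb_inj)) hpd) x).2.2.2.1 _ m.rep_ne) hs c
  s_Tl l c := K.mlt_sect_pow hcop (Lf.phiL_gen l) (Lf.phiL_gen l)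
    (fun x => (Lf.swap a hsq (fun d hd hpd =>
      hmod d (hd.trans (Subgroup.card_dvd_of_injective K.emb K.emb_inj)) hpd) x).2.2.2.2 l) hs c
  T := cT G Q
  T_ne := by
    obtain ⟨h0, h1, h2⟩ := cast_ne_of_five h5
    exact div_ne_zero (mul_ne_zero (mul_ne_zero (pow_ne_zero _ h0) (pow_ne_zero _ h2)) h1) (gSigned_ne G Q)
  pairsX0 := by
    simpa only [Int.cast_natCast] using K.pairs_X0' Lf h5
  pairsX1 := by
    simpa only [Int.cast_natCast] using K.pairs_X1' Lf h5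

/-- A power map fixing the roots of unity of order prime to `p` fixes the characters of the torus. -/
theorem LFns.char_pow (Lf : LFns L p Q k h) (h5 : 5 ≤ |Q|) {a : ℕ}
    (hmod : ∀ d : ℕ, d ∣ Nat.card L → ¬ p ∣ d → a % d = 1 % d) (μ : ↥Lf.A →* ℂˣ) (b : ↥Lf.A) :
    μ b ^ a = μ b := by
  have hpQ : (p : ℤ) ∣ Q := by
    obtain ⟨n, hn⟩ := Lf.hQ
    have hn0 : n ≠ 0 := by
      rintro rfl
      rw [Int.abs_eq_natAbs, hn, pow_zero] at h5
      norm_num at h5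
    exact Int.natCast_dvd.2 (hn ▸ dvd_pow_self p hn0)
  have hpA : ¬ p ∣ Nat.card ↥Lf.A := fun e => by
    have h1 : (p : ℤ) ∣ 4 * k := dvd_mul_of_dvd_right
      ((dvd_abs _ _).1 (Lf.cardA ▸ Int.natCast_dvd_natCast.2 e)) _
    have h2 : (p : ℤ) ∣ 1 := by
      have h3 := dvd_sub h1 hpQ
      rwa [Lf.hk, add_sub_cancel_left] at h3
    exact Lf.hp.not_dvd_one (by exact_mod_cast h2)
  rw [← map_pow, ← pow_mod_natCard, hmod _ Lf.A.card_subgroup_dvd_card hpA, pow_mod_natCard, pow_one]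

variable {R : Subgroup G} {x : G} {m : Pair ↥Lf.A}
variable (C : Comp R (K.emb.comp Lf.A.subtype) m.rep x K.t)

theorem Ctx.classInner_F_sect {φ : R → ℂ} (hφ : Cfsg.IsClassFunction R φ) {Φ : L → ℂ}
    (hc : Cfsg.IsClassFunction L Φ) (h0 : ∀ y, Even (orderOf y) → Φ y = 0) :
    Cfsg.classInner (C.F φ) (K.sect Φ) = φ ⟨K.t, C.tR⟩ / (2 * (Fintype.card ↥Lf.A : ℂ)) *
      ∑ b : ↥Lf.A, (1 - (m.rep b : ℂ)) * conj (Φ (b : L)) :=
  C.inner_F_sect K rfl hφ (e := fun b : ↥Lf.A => (b : L)) (fun _ => rfl) hc h0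

/-- The vector of a character of the complement. -/
theorem Ctx.exists_gv (h5 : 5 ≤ |Q|) {a : ℕ} (hcop : a.Coprime (Nat.card G))
    (hsq : ¬ IsSquare (a : ZMod p)) (hmod : ∀ d : ℕ, d ∣ Nat.card G → ¬ p ∣ d → a % d = 1 % d)
    {s : Equiv.Perm (Irr G)} (hs : ∀ c g, (s c : G → ℂ) g = (c : G → ℂ) (g ^ a))
    {φ : R → ℂ} (hφ : Cfsg.IsGeneralizedCharacter R φ) (hn : Cfsg.classInner φ φ = 1) {e : ℤ}
    (ht : φ ⟨K.t, C.tR⟩ = -(e : ℂ)) {S : ℚ}
    (hS : ∑ p ∈ Finset.univ.filter (fun p : R × R => p.1 * p.1 = 1 ∧ p.2 * p.2 = 1), φ (p.1 * p.2) = (S : ℂ)) :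
    GV (K.sv Lf h5 hcop hsq hmod hs) m e (cT G Q * S / (4 * (Nat.card R : ℚ))) (mlt (C.F φ)) := by
  have hcf := IsGeneralized.isClassFunction hφ
  have hA : (Fintype.card ↥Lf.A : ℂ) ≠ 0 := Nat.cast_ne_zero.2 Fintype.card_ne_zero
  have hconst : ∀ {Φ : L → ℂ} (c0 : ℤ), (∀ b : ↥Lf.A, b ≠ 1 → Φ (b : L) = c0) →
      ∑ b : ↥Lf.A, (1 - (m.rep b : ℂ)) * conj (Φ (b : L)) = (c0 : ℂ) * (Fintype.card ↥Lf.A : ℂ) := by
    intro Φ c0 hc0
    rw [Finset.sum_congr rfl (g := fun b : ↥Lf.A => (1 - (m.rep b : ℂ)) * (c0 : ℂ)) fun b _ => ?_,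
      ← Finset.sum_mul, Finset.sum_sub_distrib, SL2C.sum_char, if_neg m.rep_ne, Finset.sum_const,
      Finset.card_univ, nsmul_eq_mul]
    · ring
    · by_cases hb : b = 1
      · simp [hb]
      · rw [hc0 b hb, map_intCast]
  have hX : ∀ i, ((∑ c, mlt (C.F φ) c * K.vX Lf i c : ℤ) : ℂ) = if i = 0 then 0 else (e : ℂ) := by
    intro i
    rw [show ∑ c, mlt (C.F φ) c * K.vX Lf i c = ∑ c, mlt (C.F φ) c * mlt (K.sect (Lf.phi i)) c from rfl,
      sum_mlt_mul (C.F_gen hφ) (K.gen_X Lf i), K.classInner_F_sect Lf C hcf (Lf.phi_cf i) (Lf.phi_even i),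
      hconst (if i = 0 then 0 else -2) (fun b hb => by rw [Lf.phi_A i b hb]; split_ifs <;> simp), ht]
    split_ifs
    · simp
    · push_cast; field_simp
  constructor
  · refine int_eq_of_cast (sum_mlt_mul (C.F_gen hφ) (C.F_gen hφ)) ?_
    rw [C.inner_F_F hφ, hn]; simp
  · exact sum_mlt_deg (C.F_gen hφ) (C.F_one φ)
  · exact int_eq_of_cast (hX 0) (by simp)
  · exact int_eq_of_cast (hX 1) (by simp)
  · exact int_eq_of_cast (hX 2) (by simp)
  · intro n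
    refine int_eq_of_cast (sum_mlt_mul (C.F_gen hφ) (K.gen_Th Lf n)) ?_
    rw [K.classInner_F_sect Lf C hcf (Lf.phiM_cf n.rep_ne) (Lf.phiM_even _ n.rep_ne),
      Finset.sum_congr rfl (g := fun b : ↥Lf.A =>
        -2 * ((1 - (m.rep b : ℂ)) * conj ((n.rep b : ℂ) + (n.rep b⁻¹ : ℂ)))) (fun b _ => ?_),
      ← Finset.mul_sum, sum_one_sub_mul_pair Lf.odd_card_A m.rep_ne n.rep_ne, ht]
    · by_cases hnm : n = m
      · rw [if_pos hnm, if_pos ((Pair.eq_iff m n).1 hnm.symm)]; push_cast; field_simp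
      · rw [if_neg hnm, if_neg fun h' => hnm ((Pair.eq_iff m n).2 h').symm]; simp
    · by_cases hb : b = 1
      · simp [hb]
      · rw [Lf.phiM_A _ n.rep_ne _ hb, map_mul, map_neg, Complex.conj_ofNat]; ring
  · intro l
    refine int_eq_of_cast (sum_mlt_mul (C.F_gen hφ) (K.gen_Tl Lf l)) ?_
    rw [K.classInner_F_sect Lf C hcf (Lf.phiL_cf l) (Lf.phiL_even l),
      hconst 0 (fun b hb => by rw [Lf.phiL_A l b hb, Int.cast_zero])]
    simp
  · show ∑ c, (mlt (C.F φ) c : ℚ) * ((K.vz Lf c : ℚ) ^ 2 / ((deg c : ℤ) : ℚ)) = _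
    simp only [Int.cast_natCast, ← mul_div_assoc]
    have e1 := K.sum_mlt_pairs Lf (C.F_gen hφ)
    rw [C.inner_F_pairs (fun g => K.isConj_iff_involution) φ, hS] at e1
    refine Lf.pairs_rat' (G := G) (m := ((|k| : ℤ) : ℚ) * S / (Nat.card R : ℚ)) ?_ ?_
    · rw [e1, Rat.cast_div, Rat.cast_mul, Rat.cast_intCast, Rat.cast_natCast, ← Lf.card_A_abs]
      push_cast
      ring
    have hg := gSigned_ne G Q
    have hR : (Nat.card R : ℚ) ≠ 0 := Nat.cast_ne_zero.2 Nat.card_pos.ne'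
    have h4 : (4 : ℚ) * (k : ℚ) = (Q : ℚ) + 1 := by exact_mod_cast Lf.hk
    rw [cT, gSigned_cast] at *
    rcases lt_or_ge Q 0 with hq | hq
    · rw [if_pos hq] at hg ⊢
      rw [abs_of_nonpos (by have := Lf.hk; omega)]
      push_cast; field_simp
      linear_combination -S * ((Q : ℚ) ^ 2 * ((Q : ℚ) ^ 2 - 1) ^ 2) * h4
    · rw [if_neg (not_lt.2 hq)] at hg ⊢
      rw [abs_of_nonneg (by have := Lf.hk; omega)]
      push_cast; field_simp
      linear_combination S * ((Q : ℚ) ^ 2 * ((Q : ℚ) ^ 2 - 1) ^ 2) * h4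

/-- The four vectors. -/
theorem Ctx.exists_quad (h5 : 5 ≤ |Q|) {a : ℕ} (hcop : a.Coprime (Nat.card G))
    (hsq : ¬ IsSquare (a : ZMod p)) (hmod : ∀ d : ℕ, d ∣ Nat.card G → ¬ p ∣ d → a % d = 1 % d)
    {s : Equiv.Perm (Irr G)} (hs : ∀ c g, (s c : G → ℂ) g = (c : G → ℂ) (g ^ a))
    {e : ℤ} (he : e * e = 1) {l : ℕ} {S S' : ℚ} (T : Tri R ⟨K.t, C.tR⟩ e l S S') {N : ℚ}
    (hN : ((Finset.univ.filter fun p : R × R => p.1 * p.1 = 1 ∧ p.2 * p.2 = 1).card : ℚ) = N) :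
    ∃ q : Quad (K.sv Lf h5 hcop hsq hmod hs) m e (cT G Q * N / (4 * (Nat.card R : ℚ)))
        (cT G Q * S / (4 * (Nat.card R : ℚ))) (cT G Q * S' / (4 * (Nat.card R : ℚ))),
      ((∀ c, q.g (s c) = q.g c) ∧ ∀ c, q.g' (s c) = q.g' c) ∨ a % l ≠ 1 := by
  have h1g : Cfsg.IsGeneralizedCharacter R (fun _ => (1 : ℂ)) := isGeneralized_one
  have h1n : Cfsg.classInner (fun _ : R => (1 : ℂ)) (fun _ => 1) = 1 := by
    rw [classInner_def]; simp [Nat.card_eq_fintype_card]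
  have hL : ∀ d : ℕ, d ∣ Nat.card L → ¬ p ∣ d → a % d = 1 % d := fun d hd hpd =>
    hmod d (hd.trans (Subgroup.card_dvd_of_injective K.emb K.emb_inj)) hpd
  have hμ := Lf.char_pow h5 hL m.rep
  have hR : a.Coprime (Nat.card R) := hcop.coprime_dvd_right R.card_subgroup_dvd_card
  have orth : ∀ {φ φ' : R → ℂ}, Cfsg.IsGeneralizedCharacter R φ → Cfsg.IsGeneralizedCharacter R φ' →
      Cfsg.classInner φ φ' = 0 → ∑ c, mlt (C.F φ) c * mlt (C.F φ') c = 0 := by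
    intro φ φ' h h' h0
    refine int_eq_of_cast (sum_mlt_mul (C.F_gen h) (C.F_gen h')) ?_
    rw [C.inner_F_F h', h0]; simp
  have hone : ∀ {φ : R → ℂ}, Cfsg.IsGeneralizedCharacter R φ → Cfsg.classInner φ (fun _ => 1) = 0 →
      mlt (C.F φ) (triv G) = 0 := by
    intro φ h h0
    have e1 := mlt_triv (C.F_gen h)
    rw [C.inner_F_one, h0] at e1
    exact_mod_cast e1
  have hpow : ∀ {φ ψ : R → ℂ}, Cfsg.IsGeneralizedCharacter R φ → Cfsg.IsGeneralizedCharacter R ψ →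
      (∀ r, φ (r ^ a) = ψ r) → ∀ c, mlt (C.F ψ) (s c) = mlt (C.F φ) c := fun h h' hr =>
    C.mlt_F_pow hcop h h' hr hμ hs
  have key := T.pow a hR
  let q : Quad (K.sv Lf h5 hcop hsq hmod hs) m e (cT G Q * N / (4 * (Nat.card R : ℚ)))
        (cT G Q * S / (4 * (Nat.card R : ℚ))) (cT G Q * S' / (4 * (Nat.card R : ℚ))) :=
    { p := mlt (C.F fun _ => 1), g := mlt (C.F T.g), g' := mlt (C.F T.g'), k := mlt (C.F T.k)
      he := he
      P := K.exists_gv Lf C h5 hcop hsq hmod hs h1g h1n (by simp) (by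
        rw [Finset.sum_const, nsmul_eq_mul, mul_one, ← hN, Rat.cast_natCast])
      G := K.exists_gv Lf C h5 hcop hsq hmod hs T.gen T.ng T.gt T.Sg
      G' := K.exists_gv Lf C h5 hcop hsq hmod hs T.gen' T.ng' T.g't T.Sg'
      K := K.exists_gv Lf C h5 hcop hsq hmod hs T.genk T.nk (by rw [T.kt]; simp) T.Sk
      po := by
        have e1 := mlt_triv (C.F_gen h1g)
        rw [C.inner_F_one, h1n] at e1
        show mlt (C.F fun _ => 1) (triv G) = 1
        exact_mod_cast e1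
      ho := hone T.gen T.g_one, ho' := hone T.gen' T.g'_one, hk := hone T.genk T.k_one
      pg := by
        rw [← orth T.gen h1g T.g_one]; exact Finset.sum_congr rfl fun c _ => mul_comm _ _
      pg' := by
        rw [← orth T.gen' h1g T.g'_one]; exact Finset.sum_congr rfl fun c _ => mul_comm _ _
      pk := by
        rw [← orth T.genk h1g T.k_one]; exact Finset.sum_congr rfl fun c _ => mul_comm _ _
      gg' := orth T.gen T.gen' T.gg', kg := orth T.genk T.gen T.kg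
      ps := hpow h1g h1g fun _ => rfl
      ks := hpow T.genk T.genk (T.kpow a hR)
      hs := key.imp (fun h' => ⟨hpow T.gen T.gen h'.1, hpow T.gen' T.gen' h'.2⟩)
        fun h' => hpow T.gen' T.gen h'.1 }
  refine ⟨q, key.imp (fun h' => ⟨hpow T.gen T.gen h'.1, hpow T.gen' T.gen' h'.2⟩) fun h' => h'.2⟩

end CfsgLib.JT
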