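import Cfsg.Agent.JankoThompson.FixedComp
import Cfsg.Agent.JankoThompson.FixedConj
import Cfsg.Agent.JankoThompson.FixedInst

/-!
# The torus is free
-/

set_option autoImplicit false
set_option linter.unusedSectionVars false
set_option linter.style.haveILetI false

namespace CfsgLib.JT

open Subgroup

universe u v

namespace Loc

variable {G : Type u} [Group G] [Finite G] (D : Loc G) {a : G}

/-- The centraliser of another element of the torus is the same in the case of degree five. -/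
theorem cent_eq_of_alt5 (h5 : D.Alt5 a) (ha : a ∈ D.A) (hya : D.y * a * D.y⁻¹ = a) {c : G}
    (hc : c ∈ D.A) (hc1 : c ≠ 1) :
    centralizer ({c} : Set G) = centralizer ({a} : Set G) := by
  set H := centralizer ({a} : Set G) with hH
  have hle : H ≤ centralizer ({c} : Set G) := fun g hg =>
    mem_centralizer_singleton_iff.2 (h5.central g hg c hc).eq
  have hyc : D.y * c * D.y⁻¹ = c := by
    rw [(h5.central D.y (D.fixed_y_mem hya) c hc).eq, mul_inv_cancel_right]
  refine (eq_of_le_of_card_ge hle ?_).symm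
  have hAH : D.A ≤ H := D.A_le_UA.trans (D.UA_le_cent ha)
  have h60 : 60 * Nat.card D.A ≤ Nat.card H := by
    rw [← h5.card_E, ← Nat.card_prod]
    refine Nat.card_le_card_of_injective
      (fun q : (H ⊓ centralizer ({D.x} : Set G) : Subgroup G) × D.A =>
        (⟨(q.1 : G) * q.2, mul_mem q.1.2.1 (hAH q.2.2)⟩ : H)) ?_
    rintro ⟨⟨e, he⟩, ⟨b, hb⟩⟩ ⟨⟨e', he'⟩, ⟨b', hb'⟩⟩ h
    have h' : e * b = e' * b' := congrArg Subtype.val h
    have h1 : e'⁻¹ * e = b' * b⁻¹ := by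
      calc e'⁻¹ * e = e'⁻¹ * (e * b) * b⁻¹ := by group
        _ = b' * b⁻¹ := by rw [h']; group
    obtain rfl : e' = e := inv_mul_eq_one.1
      (h5.inter _ (mul_mem (inv_mem he') he) (h1 ▸ mul_mem hb' (inv_mem hb)))
    exact Prod.ext rfl (Subtype.ext (mul_left_cancel h'))
  refine le_trans ?_ h60
  obtain ⟨-, h | ⟨h, -⟩⟩ := D.cent_fixed hc hc1 hyc <;> rw [h] <;> omega

theorem alt5_of_eq (h5 : D.Alt5 a) {c : G} (hC : centralizer ({c} : Set G) = centralizer ({a} : Set G)) :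
    D.Alt5 c := by
  obtain ⟨h1, h2, h3, h4, h6, h7⟩ := h5
  constructor <;> rw [hC] <;> assumption

theorem R4_inter {r : G} (hr : r ∈ D.R4) (hrA : r ∈ D.A) : r = 1 := by
  obtain ⟨u, hu, n, rfl⟩ := hr
  have hn3 : D.y ^ n = D.y ^ (n % 3) := pow_eq_pow_mod n D.y_cubed
  have hc : Commute (D.y ^ n) D.t := by
    have h1 : D.y ^ n = u⁻¹ * (u * D.y ^ n) := by group
    rw [h1]
    exact ((D.U_comm (inv_mem hu) D.tU)).mul_left (D.AU _ hrA _ D.tU)
  have hmod : n % 3 = 0 := by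
    by_contra hne
    have hy : Commute D.y D.t := by
      have h2 := hc.pow_left n
      rwa [← pow_mul, pow_eq_pow_mod _ D.y_cubed, show n * n % 3 = 1 by
        rw [Nat.mul_mod]; rcases (show n % 3 = 1 ∨ n % 3 = 2 by omega) with e | e <;> rw [e],
        pow_one] at h2
    exact D.ht.2 (D.yfree _ D.tU (by rw [hy.eq, mul_inv_cancel_right]))
  rw [hn3, hmod, pow_zero, mul_one] at hrA ⊢
  exact D.U_inter_A hu hrA

end Loc

theorem Four.facts : (∀ g : Four.M, g ^ 6 = 1) ∧ (∀ g : Four.M, g * g ≠ 1 → g ^ 3 = 1) ∧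
    (∀ g g' : Four.M, g * g = 1 → g ≠ 1 → g' * g' = 1 → g' ≠ 1 → ∃ z, z * g * z⁻¹ = g') ∧
    (Finset.univ.filter fun g : Four.M => g * g = 1 ∧ g ≠ 1).card = 3 ∧
    (Finset.univ.filter fun p : Four.M × Four.M => p.1 * p.1 = 1 ∧ p.2 * p.2 = 1).card = 16 := by
  refine ⟨?_, ?_, ?_, ?_, ?_⟩ <;> decide +kernel

set_option maxHeartbeats 4000000 in
theorem Five.facts : (∀ g : Five.M, g ^ 30 = 1) ∧ (∀ g : Five.M, g * g ≠ 1 → g ^ 15 = 1) ∧
    (∀ g g' : Five.M, g * g = 1 → g ≠ 1 → g' * g' = 1 → g' ≠ 1 → ∃ z, z * g * z⁻¹ = g') ∧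
    (Finset.univ.filter fun g : Five.M => g * g = 1 ∧ g ≠ 1).card = 15 ∧
    (Finset.univ.filter fun p : Five.M × Five.M => p.1 * p.1 = 1 ∧ p.2 * p.2 = 1).card = 256 := by
  refine ⟨?_, ?_, ?_, ?_, ?_⟩ <;> decide +kernel

theorem card_pairs_mulEquiv {R M : Type*} [Group R] [Fintype R] [DecidableEq R] [Group M]
    [Fintype M] [DecidableEq M] (e : R ≃* M) :
    (Finset.univ.filter fun p : R × R => p.1 * p.1 = 1 ∧ p.2 * p.2 = 1).card =
      (Finset.univ.filter fun p : M × M => p.1 * p.1 = 1 ∧ p.2 * p.2 = 1).card := by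
  refine Finset.card_equiv (e.toEquiv.prodCongr e.toEquiv) fun p => ?_
  simp [← map_mul]

attribute [local instance] LFns.lamFin

variable {G : Type u} [Group G] [Fintype G] {L : Type v} [Group L] [Fintype L] {p : ℕ} {Q k h : ℤ}

open scoped Classical in
/-- No element of the torus of odd order is fixed by the element of order three. -/
theorem Ctx.free_of_loc (K : Ctx G L) (Lf : LFns L p Q k h) [IsCyclic ↥Lf.A]
    (hsyl : ∀ P : Sylow 2 G, Nat.card (P : Subgroup G) = 8 ∧ ∀ x ∈ (P : Subgroup G), x * x = 1)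
    (D : Loc G) (ht : D.t = K.t) (_hU : D.U = closure ({K.t, K.emb Lf.i0} : Set G))
    (hA : D.A = Lf.A.map K.emb) : D.Free := by
  intro b hb hyb
  by_contra hb1
  -- an element of prime order
  obtain ⟨l, hl, hlb⟩ := Nat.exists_prime_and_dvd (n := orderOf b) fun e => hb1 (orderOf_eq_one_iff.1 e)
  haveI := Fact.mk hl
  set a := b ^ (orderOf b / l) with hadef
  have hal : orderOf a = l := orderOf_pow_orderOf_div (orderOf_pos b).ne' hlb
  have ha : a ∈ D.A := pow_mem hb _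
  have ha1 : a ≠ 1 := fun e => hl.one_lt.ne' (by rw [← hal, e, orderOf_one])
  have hya : D.y * a * D.y⁻¹ = a := by rw [hadef, ← conj_pow, hyb]
  have hexp : ∀ P : Sylow 2 G, ∀ x ∈ (P : Subgroup G), x * x = 1 := fun P => (hsyl P).2
  set j : ↥Lf.A →* G := K.emb.comp Lf.A.subtype with hjdef
  have hj : Function.Injective j := K.emb_inj.comp Subtype.val_injective
  have hrange : ∀ g, g ∈ D.A ↔ ∃ c, j c = g := fun g => by
    rw [hA]
    exact ⟨fun ⟨c, hc, e⟩ => ⟨⟨c, hc⟩, e⟩, fun ⟨c, e⟩ => ⟨c, c.2, e⟩⟩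
  have hjA : ∀ c, j c ∈ D.A := fun c => (hrange _).2 ⟨c, rfl⟩
  haveI hcyc : IsCyclic D.A := isCyclic_of_surjective (f := (j.codRestrict D.A hjA))
    fun ⟨g, hg⟩ => by obtain ⟨c, rfl⟩ := (hrange g).1 hg; exact ⟨c, rfl⟩
  have hcardA : Nat.card D.A = Nat.card ↥Lf.A := by
    rw [hA]; exact Subgroup.card_map_of_injective (K := Lf.A) K.emb_inj
  have hdvd : ∀ n : ℕ, n ∣ Nat.card D.A ↔ (n : ℤ) ∣ k := fun n => by
    rw [hcardA, ← dvd_abs (n : ℤ) k, ← Lf.cardA, Int.natCast_dvd_natCast]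
  have hlk : (l : ℤ) ∣ k := (hdvd l).1 (hal ▸ orderOf_dvd_natCard _ ha)
  have hx2 : orderOf D.x = 2 := D.hx.orderOf
  have hconj : ∀ {l' : ℕ} [Fact l'.Prime], (l' : ℤ) ∣ k → ∀ {a' : G}, a' ∈ D.A → orderOf a' = l' →
      ∀ c : G, Commute c D.x → orderOf c = l' → ∃ g, g * c * g⁻¹ ∈ zpowers a' := by
    intro l' _ hk' a' ha' hal' c hc hcl
    exact K.exists_conj_torus Lf hk' hx2 (hA ▸ ha') hal' hc hcl
  -- no element of order three
  have h3k : ¬ (3 : ℤ) ∣ k := fun h3 => by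
    haveI : Fact (Nat.Prime 3) := ⟨Nat.prime_three⟩
    obtain ⟨⟨a3, ha3⟩, h3o⟩ := exists_prime_orderOf_dvd_card' (G := D.A) 3 ((hdvd 3).2 h3)
    rw [Subgroup.orderOf_mk] at h3o
    exact D.three_false hexp ha3 h3o (hconj (l' := 3) h3 ha3 h3o)
  have h3A : ¬ 3 ∣ Nat.card D.A := fun e => h3k ((hdvd 3).1 e)
  have hl3 : l ≠ 3 := by rintro rfl; exact h3k hlk
  -- the common parameters
  have hQ5 : 5 ≤ |Q| := by
    have h1 : (l : ℤ) ≤ |k| := Int.le_of_dvd (by
      rw [← Lf.cardA]; exact_mod_cast Nat.card_pos) ((dvd_abs _ _).2 hlk)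
    have h2 := hl.two_le
    have h4 := Lf.hk
    rw [Int.abs_eq_natAbs] at h1 ⊢
    omega
  obtain ⟨ex, hcop, hsq, hmod⟩ := exists_swap_exponent (n := Nat.card G) Lf.hp Lf.hodd Nat.card_pos
  obtain ⟨s, hs⟩ := exists_powPerm hcop
  rcases D.fixed_cases ha ha1 hya with h4 | h5
  · -- the quotient is `A₄`
    obtain ⟨f⟩ := D.exists_iso_four
    obtain ⟨g0, hg0⟩ := IsCyclic.exists_generator (α := ↥Lf.A)
    have hζ : orderOf (rootU l) ∣ orderOf g0 := by
      rw [orderOf_eq_card_of_forall_mem_zpowers hg0, ← hcardA]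
      exact (orderOf_dvd_of_pow_eq_one (rootU_pow l)).trans (hal ▸ orderOf_dvd_natCard _ ha)
    set μ₀ := monoidHomOfForallMemZpowers hg0 hζ with hμ₀
    have hμl₀ : ∀ c, μ₀ c ^ l = 1 := fun c => by
      obtain ⟨i, rfl⟩ := mem_zpowers_iff.1 (hg0 c)
      rw [map_zpow, hμ₀, monoidHomOfForallMemZpowers_apply_gen, ← zpow_natCast, ← zpow_mul, mul_comm,
        zpow_mul, zpow_natCast, rootU_pow, one_zpow]
    have hμne : μ₀ ≠ 1 := fun e => by
      have h1 := DFunLike.congr_fun e g0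
      rw [hμ₀, monoidHomOfForallMemZpowers_apply_gen, MonoidHom.one_apply] at h1
      exact (rootU_prim l).ne_one hl.one_lt (by rw [h1, Units.val_one])
    set m : Pair ↥Lf.A := Quotient.mk (pairSetoid ↥Lf.A) ⟨μ₀, hμne⟩ with hm
    have hμl : ∀ c, m.rep c ^ l = 1 := fun c => by
      have h2 : (pairSetoid ↥Lf.A).r ⟨μ₀, hμne⟩ ⟨m.rep, m.rep_ne⟩ :=
        Quotient.exact (Pair.mk_rep m m.rep_ne).symm
      rcases h2 with h2 | h2 <;> rw [show m.rep = _ from h2]
      · exact hμl₀ c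
      · rw [MonoidHom.inv_apply, inv_pow, hμl₀, inv_one]
    have hyn : ∀ n : ℕ, D.y ^ n ∈ centralizer ({a} : Set G) := fun n => pow_mem (D.fixed_y_mem hya) n
    have hUH : D.U ≤ centralizer ({a} : Set G) := D.U_le_UA.trans (D.UA_le_cent ha)
    have hR4a : D.R4 ≤ centralizer ({a} : Set G) := by
      rintro _ ⟨u, hu, n, rfl⟩
      exact mul_mem (hUH hu) (hyn n)
    have hR4x : ∀ r ∈ D.R4, Commute r D.x := by
      rintro _ ⟨u, hu, n, rfl⟩
      exact (D.xcomm u hu).symm.mul_left (D.yx.pow_left n)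
    have hnA : ∀ r ∈ D.R4, ∀ c ∈ D.A, r * c * r⁻¹ ∈ D.A := by
      rintro _ ⟨u, hu, n, rfl⟩ c hc
      have h1 := D.y_pow_A n hc
      rw [show u * D.y ^ n * c * (u * D.y ^ n)⁻¹ = u * (D.y ^ n * c * (D.y ^ n)⁻¹) * u⁻¹ by group,
        ← (D.AU _ h1 u hu).eq, mul_inv_cancel_right]
      exact h1
    have hnorm : ∀ r ∈ D.R4, ∀ c, ∃ c', r * j c * r⁻¹ = j c' ∧ m.rep c' = m.rep c := by
      intro r hr c
      obtain ⟨g1, hg1⟩ := (hrange _).1 (hnA r hr _ (hjA g0))
      obtain ⟨i, hi⟩ := mem_zpowers_iff.1 (hg0 g1)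
      have hall : ∀ e : ↥Lf.A, r * j e * r⁻¹ = j (e ^ i) := by
        intro e
        obtain ⟨w, rfl⟩ := mem_zpowers_iff.1 (hg0 e)
        rw [map_zpow, ← conj_zpow, ← hg1, ← map_zpow, ← hi, ← zpow_mul, ← zpow_mul, mul_comm]
      refine ⟨c ^ i, hall c, ?_⟩
      obtain ⟨a', ha'⟩ := (hrange a).1 ha
      have h1 := hall a'
      rw [ha', mem_centralizer_singleton_iff.1 (hR4a hr), mul_inv_cancel_right, map_zpow, ha'] at h1
      have h2 : (l : ℤ) ∣ 1 - i := by
        rw [← hal, orderOf_dvd_iff_zpow_eq_one, zpow_sub, zpow_one, ← h1, mul_inv_cancel]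
      obtain ⟨w, hw⟩ := h2
      rw [map_zpow, show i = 1 - (l : ℤ) * w by omega, zpow_sub, zpow_one, zpow_mul, zpow_natCast,
        hμl, one_zpow, inv_one, mul_one]
    have hdec : ∀ g ∈ centralizer ({a} : Set G), ∃ r ∈ D.R4, ∃ c, g = r * j c := by
      intro g hg
      obtain ⟨w, ⟨u, hu, c, hc, rfl⟩, n, -, rfl⟩ := h4 g hg
      have e : D.y ^ (2 * n) = (D.y ^ n)⁻¹ := eq_inv_of_mul_eq_one_left (by
        rw [← pow_add, show 2 * n + n = 3 * n by ring, pow_mul, D.y_cubed, one_pow])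
      obtain ⟨c', hc'⟩ := (hrange _).1 (D.y_pow_A (2 * n) hc)
      refine ⟨u * D.y ^ n, ⟨u, hu, n, rfl⟩, c', ?_⟩
      rw [hc', e]; group
    have hq : ∀ c, m.rep c ≠ 1 → ∃ n : ℕ, j c ^ n ≠ 1 ∧
        centralizer ({j c ^ n} : Set G) = centralizer ({a} : Set G) := by
      intro c hc
      have hlc : l ∣ orderOf (j c) := by
        rw [orderOf_injective j hj]
        by_contra hn
        refine hc ?_
        have h1 : m.rep c ^ orderOf c = 1 := by rw [← map_pow, pow_orderOf_eq_one, map_one]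
        have h2 : m.rep c ^ Nat.gcd l (orderOf c) = 1 := pow_gcd_eq_one.2 ⟨hμl c, h1⟩
        rwa [(hl.coprime_iff_not_dvd.2 hn).gcd_eq_one, pow_one] at h2
      refine ⟨orderOf (j c) / l, ?_⟩
      set z := j c ^ (orderOf (j c) / l) with hz
      have hzl : orderOf z = l := orderOf_pow_orderOf_div (orderOf_pos _).ne' hlc
      have hzA : z ∈ D.A := pow_mem (hjA c) _
      refine ⟨fun e => hl.one_lt.ne' (by rw [← hzl, e, orderOf_one]), ?_⟩
      have heq : zpowers (⟨z, hzA⟩ : D.A) = zpowers (⟨a, ha⟩ : D.A) := eq_of_card_eq_cyclic _ _ (by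
        rw [Nat.card_zpowers, Nat.card_zpowers, Subgroup.orderOf_mk, Subgroup.orderOf_mk, hzl, hal])
      obtain ⟨i, hi⟩ := mem_zpowers_iff.1 (heq ▸ mem_zpowers (⟨z, hzA⟩ : D.A))
      obtain ⟨i', hi'⟩ := mem_zpowers_iff.1 (heq.symm ▸ mem_zpowers (⟨a, ha⟩ : D.A))
      have hi2 : a ^ i = z := congrArg Subtype.val hi
      have hi2' : z ^ i' = a := congrArg Subtype.val hi'
      ext g
      simp only [mem_centralizer_singleton_iff]
      constructor
      · intro hg; rw [← hi2']; exact (Commute.zpow_right hg i').eq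
      · intro hg; rw [← hi2]; exact (Commute.zpow_right hg i).eq
    obtain ⟨f1, f2, f3, f4, f5⟩ := Four.facts
    have hcop6 : Nat.Coprime 6 (Nat.card ↥Lf.A) := by
      rw [← hcardA]
      exact Nat.Coprime.mul_left (m := 2) (n := 3) (Nat.coprime_two_left.2 D.Aodd)
        (Nat.prime_three.coprime_iff_not_dvd.2 h3A)
    have C : Comp D.R4 j m.rep D.x D.t := D.comp_of hj hrange ha ha1 hya f f1 (N' := 3) (by decide) f2 f3
      (by rw [Nat.card_eq_fintype_card, Fintype.card_subtype, f4, Four.card_M])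
      m.rep_ne hcop6 D.U_le_R4 hR4x hR4a (fun r hr hrA => D.R4_inter hr hrA) hnorm hdec hq
    rw [ht] at C
    obtain ⟨T₀⟩ := Four.exists_tri (s := f ⟨K.t, C.tR⟩)
      (by rw [← map_mul, MulEquiv.map_eq_one_iff]; exact Subtype.ext K.t_mul_self)
      (fun e => K.t_ne (congrArg Subtype.val ((MulEquiv.map_eq_one_iff f).1 e)))
    obtain ⟨q, -⟩ := K.exists_quad Lf C hQ5 hcop hsq hmod hs (by norm_num)
      (T₀.map f ⟨rfl, rfl, rfl⟩) (N := 16) (by rw [card_pairs_mulEquiv f, f5]; norm_num)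
    have e12 : (Nat.card D.R4 : ℚ) = 12 := by rw [D.card_R4]; norm_num
    rw [e12, show cT G Q * 16 / (4 * 12) = cT G Q / 3 by ring, show cT G Q * 0 / (4 * 12) = 0 by ring] at q
    exact q.false_four
  · -- the quotient is `A₅`
    obtain ⟨f⟩ := D.exists_iso_five h5
    set E := centralizer ({a} : Set G) ⊓ centralizer ({D.x} : Set G) with hE
    have h5k : ¬ (5 : ℤ) ∣ k := fun h5' => by
      haveI : Fact (Nat.Prime 5) := ⟨by norm_num⟩
      obtain ⟨⟨a5, ha5⟩, h5o⟩ := exists_prime_orderOf_dvd_card' (G := D.A) 5 ((hdvd 5).2 h5')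
      rw [Subgroup.orderOf_mk] at h5o
      have ha51 : a5 ≠ 1 := fun e => by rw [e, orderOf_one] at h5o; norm_num at h5o
      exact D.alt5_false hexp (Or.inr rfl) ha5 h5o (D.alt5_of_eq h5 (D.cent_eq_of_alt5 h5 ha hya ha5 ha51))
        (hconj (l' := 5) h5' ha5 h5o)
    have h5A : ¬ 5 ∣ Nat.card D.A := fun e => h5k ((hdvd 5).1 e)
    have hcop30 : Nat.Coprime 30 (Nat.card ↥Lf.A) := by
      rw [← hcardA]
      exact Nat.Coprime.mul_left (m := 2) (n := 15) (Nat.coprime_two_left.2 D.Aodd)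
        (Nat.Coprime.mul_left (m := 3) (n := 5) (Nat.prime_three.coprime_iff_not_dvd.2 h3A)
          ((show Nat.Prime 5 by norm_num).coprime_iff_not_dvd.2 h5A))
    obtain ⟨f1, f2, f3, f4, f5⟩ := Five.facts
    have hc60 : Nat.card Five.M = 60 := by rw [Nat.card_eq_fintype_card]; decide +kernel
    have hC : ∀ m : Pair ↥Lf.A, Comp E j m.rep D.x D.t := fun m =>
      D.comp_of hj hrange ha ha1 hya f f1 (N' := 15) (by decide) f2 f3
        (by rw [Nat.card_eq_fintype_card, Fintype.card_subtype, f4, hc60])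
        m.rep_ne hcop30 h5.U_le (fun r hr => mem_centralizer_singleton_iff.1 hr.2) inf_le_left h5.inter
        (fun r hr c => ⟨c, by rw [(h5.central r hr.1 _ (hjA c)).eq, mul_inv_cancel_right], rfl⟩)
        (fun g hg => by
          obtain ⟨e, he, c, hc, rfl⟩ := h5.decomp g hg
          obtain ⟨c', rfl⟩ := (hrange c).1 hc
          exact ⟨e, he, c', rfl⟩)
        (fun c hc => ⟨1, by
          rw [pow_one]
          have hne : j c ≠ 1 := fun e => hc (by rw [hj (e.trans (map_one j).symm), map_one])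
          exact ⟨hne, D.cent_eq_of_alt5 h5 ha hya (hjA c) hne⟩⟩)
    rw [ht] at hC
    have htE : K.t ∈ E := ht ▸ h5.U_le D.tU
    obtain ⟨T₀⟩ := Five.exists_tri (s := f ⟨K.t, htE⟩)
      (by rw [← map_mul, MulEquiv.map_eq_one_iff]; exact Subtype.ext K.t_mul_self)
      (fun e => K.t_ne (congrArg Subtype.val ((MulEquiv.map_eq_one_iff f).1 e)))
    have e60 : (Nat.card E : ℚ) = 60 := by rw [h5.card_E]; norm_num
    have hquad : ∀ m : Pair ↥Lf.A, ∃ q : Quad (K.sv Lf hQ5 hcop hsq hmod hs) m 1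
        (16 * cT G Q / 15) (cT G Q / 5) (cT G Q / 3),
        ((∀ c, q.g (s c) = q.g c) ∧ ∀ c, q.g' (s c) = q.g' c) ∨ ex % 5 ≠ 1 := by
      intro m
      have key := K.exists_quad Lf (hC m) hQ5 hcop hsq hmod hs (by norm_num)
        (T₀.map f (t := ⟨K.t, (hC m).tR⟩) ⟨rfl, rfl, rfl⟩) (N := 256)
        (by rw [card_pairs_mulEquiv f, f5]; norm_num)
      rwa [e60, show cT G Q * 256 / (4 * 60) = 16 * cT G Q / 15 by ring,
        show cT G Q * 48 / (4 * 60) = cT G Q / 5 by ring,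
        show cT G Q * 80 / (4 * 60) = cT G Q / 3 by ring] at key
    choose Dq hDq using hquad
    have hne : Nonempty (Pair ↥Lf.A) := by
      obtain ⟨a', ha'⟩ := (hrange a).1 ha
      obtain ⟨μ, hμ⟩ := SL2C.exists_char_ne_one (fun u w : ↥Lf.A => Subtype.ext (Lf.commA _ u.2 _ w.2))
        (show a' ≠ 1 from fun e => ha1 (by rw [← ha', e, map_one]))
      exact ⟨Quotient.mk _ ⟨μ, fun e => hμ (by rw [e]; rfl)⟩⟩
    obtain ⟨m⟩ := hne
    have h16 : ¬ (16 : ℤ) ∣ gSigned G Q := by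
      intro h16
      have hG : 16 ∣ Nat.card G := by
        unfold gSigned at h16
        split_ifs at h16 with hq
        · exact Int.natCast_dvd_natCast.1 (dvd_neg.1 h16)
        · exact Int.natCast_dvd_natCast.1 h16
      haveI := Fact.mk Nat.prime_two
      obtain ⟨P⟩ : Nonempty (Sylow 2 G) := inferInstance
      have h1 := P.card_eq_multiplicity
      rw [(hsyl P).1] at h1
      have h2 : 4 ≤ (Nat.card G).factorization 2 :=
        (Nat.prime_two.pow_dvd_iff_le_factorization Nat.card_pos.ne').1 hG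
      have h3 := Nat.pow_le_pow_right (n := 2) (by norm_num) h2
      omega
    refine SV.false_five Dq m ?_ (gSigned G Q) h16 ?_
    · rcases hDq m with hfix | hne5
      · exact Or.inl hfix
      · refine Or.inr ?_
        have hp5 : p = 5 := by
          by_contra hp
          refine hne5 ?_
          have h5G : 5 ∣ Nat.card G := Dvd.dvd.trans ⟨12, h5.card_E.trans (by norm_num)⟩ E.card_subgroup_dvd_card
          exact hmod 5 h5G (fun e => hp ((Nat.prime_dvd_prime_iff_eq Lf.hp (by norm_num)).1 e))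
        obtain ⟨n, hn⟩ := Lf.hQ
        have hn0 : n ≠ 0 := by
          rintro rfl
          rw [Int.abs_eq_natAbs, hn, pow_zero] at hQ5
          norm_num at hQ5
        exact (Int.natCast_dvd (m := 5)).2 (by rw [hn, ← hp5]; exact dvd_pow_self p hn0)
    · exact div_mul_cancel₀ _ (gSigned_ne G Q)

end CfsgLib.JT
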