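import Cfsg.Agent.JankoThompson.MainCore
import Cfsg.Agent.JankoThompson.FixedMain

/-!
# Simple groups with abelian Sylow two-subgroups and an involution centraliser `C₂ × PSL₂(q)`
(Janko–Thompson): the order is the small Ree order, or the group has the order of the first Janko group.
-/

set_option autoImplicit false

namespace CfsgLib.JT

open CfsgLib.Linear.SmallSub (P2)

universe u v

theorem janko_thompson {G : Type u} [Group G] [Finite G] [IsSimpleGroup G]
    (hab : ∀ P : Sylow 2 G, ∀ a b : P, a * b = b * a) {F : Type v} [Field F] [Fintype F]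
    (hq : 3 ≤ Fintype.card F) {t : G} (ht : orderOf t = 2)
    (e : ↥(Subgroup.centralizer ({t} : Set G)) ≃* Multiplicative (ZMod 2) × P2 F) :
    (∃ m : ℕ, 1 ≤ m ∧ Fintype.card F = 3 ^ (2 * m + 1) ∧
        Nat.card G = (3 ^ (2 * m + 1)) ^ 3 * ((3 ^ (2 * m + 1)) ^ 3 + 1) * (3 ^ (2 * m + 1) - 1)) ∨
      ((Fintype.card F = 4 ∨ Fintype.card F = 5) ∧ Cfsg.IsJ1 G) :=
  main_of_free (fun {_} {_} {_} {_} {_} {_} {_} {_} K Lf {_} hsyl D h1 h2 h3 =>
    K.free_of_loc Lf hsyl D h1 h2 h3) hab hq ht e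

end CfsgLib.JT
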