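import Mathlib.Tactic.LinearCombination
import Mathlib.Tactic.FieldSimp
import Mathlib.Tactic.Ring
import Mathlib.Data.Rat.Lemmas
import Mathlib.Algebra.IsPrimePow
import Mathlib.RingTheory.Int.Basic
import Mathlib.Algebra.Ring.Parity

/-!
The arithmetic of simple groups with an involution centraliser `C₂ × PSL₂(q)`: the signed degrees of the
principal 2-block satisfy equations which are polynomial in `Q = ±q ≡ 3 (mod 8)`.
-/

set_option autoImplicit false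

namespace CfsgLib.JT

/-- The two right-hand sides belonging to the three columns of the involution section and the torus. -/
structure Rhs (Q g R1 R2 R3 : ℚ) : Prop where
  r1 : R1 * g = Q ^ 2 * (Q ^ 2 - 1) ^ 2 * (Q - 1)
  r2 : R2 * (Q ^ 2 - 1) = R1 * (3 * Q - 1)
  r3 : R3 * (Q - 1) = R1 * (Q + 1)

/-- The first pattern: the order formula, and `Q / 3` is a square. -/
theorem order_of_first (Q A B C U W : ℤ) (g R1 R2 R3 h : ℚ) (hQ : 2 ≤ |Q|) (hh : 2 * h = (Q : ℚ) - 1)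
    (hR : Rhs (Q : ℚ) g R1 R2 R3) (hA : A ≠ 0) (hB : B ≠ 0) (hC : C ≠ 0) (hU : U ≠ 0) (hW : W ≠ 0)
    (hBC : B ≠ C) (d1 : 1 + A + B + C = 0) (d2 : A + B + U + W = 0)
    (e1 : 1 + (Q : ℚ) ^ 2 / A + (Q : ℚ) ^ 2 / B + 1 / (C : ℚ) = R1)
    (e2 : (Q : ℚ) ^ 2 / A + (Q : ℚ) ^ 2 / B + h ^ 2 / U + h ^ 2 / W = R2)
    (eν : (Q : ℚ) ^ 2 / B - 1 / (C : ℚ) - ((Q : ℚ) - 1) ^ 2 / ((B : ℚ) - C) = 0)
    (e3 : 1 - (Q : ℚ) ^ 2 / A - 2 * h ^ 2 / U - 2 * h ^ 2 / W - 9 * ((Q : ℚ) - 1) ^ 2 / ((B : ℚ) - C) = R3) :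
    g = (Q : ℚ) ^ 3 * ((Q : ℚ) ^ 2 - 1) * ((Q : ℚ) ^ 2 - Q + 1) ∧ ∃ r : ℚ, 3 * r ^ 2 = (Q : ℚ) := by
  have hQ0 : (Q : ℚ) ≠ 0 := by
    simp only [ne_eq, Int.cast_eq_zero]; rintro rfl; simp at hQ
  have hQ1 : (Q : ℚ) - 1 ≠ 0 := by
    intro h0; have : Q = 1 := by exact_mod_cast sub_eq_zero.1 h0
    subst this; simp at hQ
  have hQ2 : (Q : ℚ) + 1 ≠ 0 := by
    intro h0; have : Q = -1 := by exact_mod_cast eq_neg_of_add_eq_zero_left h0
    subst this; simp at hQ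
  have hQs : (Q : ℚ) ^ 2 - 1 ≠ 0 := by
    rw [show (Q : ℚ) ^ 2 - 1 = ((Q : ℚ) - 1) * ((Q : ℚ) + 1) by ring]; exact mul_ne_zero hQ1 hQ2
  have hB' : (B : ℚ) ≠ 0 := Int.cast_ne_zero.2 hB
  have hC' : (C : ℚ) ≠ 0 := Int.cast_ne_zero.2 hC
  have hU' : (U : ℚ) ≠ 0 := Int.cast_ne_zero.2 hU
  have hW' : (W : ℚ) ≠ 0 := Int.cast_ne_zero.2 hW
  have hM : (B : ℚ) - C ≠ 0 := sub_ne_zero.2 (by exact_mod_cast hBC)
  -- `B = Q C`
  have hBQ : (B : ℚ) = Q * C := by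
    have := eν
    field_simp at this
    have h2 : ((Q : ℚ) * C - B) ^ 2 = 0 := by linear_combination -this
    have h3 := pow_eq_zero_iff (n := 2) (by norm_num) |>.1 h2
    linear_combination -h3
  -- the right-hand side of the first equation
  have hR1 : R1 * ((Q : ℚ) * C) = -(((Q : ℚ) - 1) ^ 2 * ((Q : ℚ) + 1)) := by
    have k1 : (Q : ℚ) ^ 2 / B - 1 / (C : ℚ) - 9 * ((Q : ℚ) - 1) ^ 2 / ((B : ℚ) - C) = R3 + 2 * R2 - R1 := by
      linear_combination e3 + 2 * e2 - e1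
    have k2 : -8 * (((Q : ℚ) - 1) ^ 2 / ((B : ℚ) - C)) = R3 + 2 * R2 - R1 := by
      linear_combination k1 - eν
    have k3 : (R3 + 2 * R2 - R1) * ((Q : ℚ) ^ 2 - 1) = 8 * Q * R1 := by
      linear_combination ((Q : ℚ) + 1) * hR.r3 + 2 * hR.r2
    rw [← k2] at k3
    have k4 : (B : ℚ) - C = ((Q : ℚ) - 1) * C := by rw [hBQ]; ring
    rw [k4] at k3
    field_simp at k3
    linear_combination -k3
  have hc1 : (A : ℚ) = -1 - ((Q : ℚ) + 1) * C := by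
    have : (1 : ℚ) + A + B + C = 0 := by exact_mod_cast d1
    linear_combination this - hBQ
  have hA' : (A : ℚ) ≠ 0 := Int.cast_ne_zero.2 hA
  -- the quadratic for `C`
  have hCval : (C : ℚ) = -((Q : ℚ) ^ 2 - Q + 1) := by
    have k := e1
    rw [hBQ] at k
    have k' : R1 = -(((Q : ℚ) - 1) ^ 2 * ((Q : ℚ) + 1)) / ((Q : ℚ) * C) := by
      rw [← hR1]; field_simp
    rw [k'] at k
    field_simp at k
    rw [hc1] at k
    have k5 : (((Q : ℚ) * C + 1) * ((C : ℚ) + ((Q : ℚ) ^ 2 - Q + 1))) * ((Q : ℚ) + 1) = 0 := by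
      linear_combination -k
    rcases mul_eq_zero.1 k5 with k6 | k6
    · rcases mul_eq_zero.1 k6 with k7 | k7
      · exfalso
        have : Q * C = -1 := by exact_mod_cast eq_neg_of_add_eq_zero_left k7
        rcases Int.eq_one_or_neg_one_of_mul_eq_neg_one this with rfl | rfl <;> simp at hQ
      · linear_combination k7
    · exact absurd k6 hQ2
  have hc0 : (Q : ℚ) ^ 2 - Q + 1 ≠ 0 := by
    intro h0; rw [h0, neg_zero] at hCval; exact hC' hCval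
  refine ⟨?_, ?_⟩
  · have k := hR.r1
    have h' : R1 * g * ((Q : ℚ) * C) = Q ^ 2 * (Q ^ 2 - 1) ^ 2 * (Q - 1) * ((Q : ℚ) * C) := by rw [k]
    rw [mul_right_comm, hR1, hCval] at h'
    refine mul_left_cancel₀ (mul_ne_zero (pow_ne_zero 2 hQ1) hQ2) ?_
    linear_combination -h'
  · have d2' : (A : ℚ) + B + U + W = 0 := by exact_mod_cast d2
    have hA3 : (A : ℚ) = (Q : ℚ) ^ 3 := by rw [hc1, hCval]; ring
    have hB3 : (B : ℚ) = -((Q : ℚ) * ((Q : ℚ) ^ 2 - Q + 1)) := by rw [hBQ, hCval]; ring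
    have hR1' : R1 = ((Q : ℚ) - 1) ^ 2 * ((Q : ℚ) + 1) / ((Q : ℚ) * ((Q : ℚ) ^ 2 - Q + 1)) := by
      rw [eq_div_iff (mul_ne_zero hQ0 hc0)]
      rw [hCval] at hR1
      linear_combination -hR1
    have hR2' : R2 = ((Q : ℚ) - 1) * (3 * Q - 1) / ((Q : ℚ) * ((Q : ℚ) ^ 2 - Q + 1)) := by
      have := hR.r2
      rw [hR1'] at this
      field_simp at this ⊢
      refine mul_left_cancel₀ hQs ?_
      linear_combination this
    have key : h ^ 2 * ((U : ℚ) + W) * ((Q : ℚ) ^ 2 - Q + 1) = 3 * ((Q : ℚ) - 1) * (U * W) := by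
      have k := e2
      rw [hA3, hB3, hR2'] at k
      have hc1' : (Q : ℚ) * ((Q : ℚ) - 1) + 1 ≠ 0 := fun h0 => hc0 (by linear_combination h0)
      rw [show (Q : ℚ) ^ 2 - Q + 1 = (Q : ℚ) * ((Q : ℚ) - 1) + 1 by ring] at k ⊢
      generalize hc : (Q : ℚ) * ((Q : ℚ) - 1) + 1 = c at k hc1' ⊢
      field_simp at k
      refine mul_left_cancel₀ hQ0 ?_
      linear_combination k + (U : ℚ) * W * hc
    have hS : (U : ℚ) + W = -((Q : ℚ) * ((Q : ℚ) - 1)) := by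
      linear_combination d2' - hA3 - hB3
    have hh2 : h ^ 2 * 4 = ((Q : ℚ) - 1) ^ 2 := by rw [← hh]; ring
    refine ⟨((U : ℚ) - W) / (((Q : ℚ) - 1) * ((Q : ℚ) + 1)), ?_⟩
    rw [div_pow]
    field_simp
    rw [hS] at key
    have key' : -(((Q : ℚ) - 1) ^ 2 * Q * ((Q : ℚ) ^ 2 - Q + 1)) = 12 * (U * W) := by
      refine mul_left_cancel₀ hQ1 ?_
      linear_combination 4 * key + (Q : ℚ) * ((Q : ℚ) - 1) * ((Q : ℚ) ^ 2 - Q + 1) * hh2
    have hS2 : ((U : ℚ) + W) ^ 2 = ((Q : ℚ) * ((Q : ℚ) - 1)) ^ 2 := by rw [hS]; ring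
    linear_combination 3 * hS2 + key'

/-- The congruence step of the second pattern. -/
theorem dvd_of_second_congr (k x y : ℤ) (hk : k ≠ 0)
    (hrel : (3 + x * k - (2 * k - 1) * (8 * k - 9)) * (3 + y * k) * ((2 * k - 1) * (3 + x * k) + 1) =
      (3 + y * k + (2 * k - 1) ^ 2 * (3 + x * k)) * (3 + x * k + (3 + y * k))) : k ∣ 192 := by
  have h2 : k * (k * (492 - 76 * y - 1 * y ^ 2 - 60 * x + 2 * x * y - 4 * x ^ 2 - 288 * k + 176 * k * y + 168 * k * x - 28 * k * x * y + 10 * k * x ^ 2 - 1 * k * x ^ 2 * y - 96 * k ^ 2 * y - 96 * k ^ 2 * x + 64 * k ^ 2 * x * y - 4 * k ^ 2 * x ^ 2 + 2 * k ^ 2 * x ^ 2 * y - 32 * k ^ 3 * x * y) - 192) = 0 := by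
    linear_combination hrel
  refine ⟨492 - 76 * y - 1 * y ^ 2 - 60 * x + 2 * x * y - 4 * x ^ 2 - 288 * k + 176 * k * y + 168 * k * x - 28 * k * x * y + 10 * k * x ^ 2 - 1 * k * x ^ 2 * y - 96 * k ^ 2 * y - 96 * k ^ 2 * x + 64 * k ^ 2 * x * y - 4 * k ^ 2 * x ^ 2 + 2 * k ^ 2 * x ^ 2 * y - 32 * k ^ 3 * x * y, ?_⟩
  linear_combination -((mul_eq_zero.1 h2).resolve_left hk)

/-- The second pattern is impossible when the torus is free. -/
theorem false_of_second (Q k h C U W g : ℤ) (P R1 R2 R3 : ℚ) (hQ8 : Q % 8 = 3) (hQ : 5 ≤ |Q|)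
    (hk : 4 * k = Q + 1) (hh : 2 * h = Q - 1) (hk3 : ¬ (3 : ℤ) ∣ k) (hk1 : 1 < |k|)
    (hR : Rhs (Q : ℚ) (g : ℚ) R1 R2 R3) (hg : Q * (Q ^ 2 - 1) ∣ g) (hC : C ≠ 0) (hU : U ≠ 0) (hW : W ≠ 0)
    (dW : W = C + 1 - U) (e1 : 1 + P + 1 / (C : ℚ) = R1)
    (e2 : P + (h : ℚ) ^ 2 / U + (h : ℚ) ^ 2 / W = R2)
    (e3 : 1 - P + 1 / (C : ℚ) - 2 * (h : ℚ) ^ 2 / W - 18 * (h : ℚ) ^ 2 / U = R3)
    (cU : k ∣ U + 3 * h) (cW : k ∣ W + 3 * h + 4) (cC : k ∣ C - 1) : False := by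
  have hQ0 : (Q : ℚ) ≠ 0 := by
    simp only [ne_eq, Int.cast_eq_zero]; omega
  have hQ1 : (Q : ℚ) - 1 ≠ 0 := by
    intro h0; have : Q = 1 := by exact_mod_cast sub_eq_zero.1 h0
    omega
  have hQ2 : (Q : ℚ) + 1 ≠ 0 := by
    intro h0; have : Q = -1 := by exact_mod_cast eq_neg_of_add_eq_zero_left h0
    omega
  have hC' : (C : ℚ) ≠ 0 := Int.cast_ne_zero.2 hC
  have hU' : (U : ℚ) ≠ 0 := Int.cast_ne_zero.2 hU
  have hW' : (W : ℚ) ≠ 0 := Int.cast_ne_zero.2 hW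
  have hh' : 2 * (h : ℚ) = (Q : ℚ) - 1 := by exact_mod_cast hh
  have k1 : -16 * ((h : ℚ) ^ 2 / U) = R3 + 2 * R2 - R1 := by linear_combination e3 + 2 * e2 - e1
  have k3 : (R3 + 2 * R2 - R1) * ((Q : ℚ) ^ 2 - 1) = 8 * Q * R1 := by
    linear_combination ((Q : ℚ) + 1) * hR.r3 + 2 * hR.r2
  have hR1 : R1 * ((Q : ℚ) * U) = -2 * (h : ℚ) ^ 2 * ((Q : ℚ) ^ 2 - 1) := by
    rw [← k1] at k3
    field_simp at k3
    linear_combination -(1 / 8 : ℚ) * k3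
  -- the order is a multiple of `U`
  have hgU : (g : ℚ) = -2 * (Q : ℚ) ^ 3 * ((Q : ℚ) + 1) * U := by
    have h' : R1 * g * ((Q : ℚ) * U) = Q ^ 2 * (Q ^ 2 - 1) ^ 2 * (Q - 1) * ((Q : ℚ) * U) := by rw [hR.r1]
    rw [mul_right_comm, hR1] at h'
    refine mul_left_cancel₀ (mul_ne_zero (pow_ne_zero 3 hQ1) hQ2) ?_
    linear_combination -2 * h' - (g : ℚ) * ((Q : ℚ) ^ 2 - 1) * (2 * (h : ℚ) + Q - 1) * hh'
  have hhU : h ∣ U := by
    have hgZ : g = -2 * Q ^ 3 * (Q + 1) * U := by exact_mod_cast hgU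
    obtain ⟨e, he⟩ := hg
    rw [hgZ] at he
    have h2 : -(Q ^ 2 * U) = h * e := by
      refine mul_left_cancel₀ (a := 2 * Q * (Q + 1)) (by
        refine mul_ne_zero (mul_ne_zero (by norm_num) ?_) ?_ <;> omega) ?_
      linear_combination he - Q * (Q + 1) * e * hh
    have h3 : h ∣ (2 * h + 1) ^ 2 * U := ⟨-e, by rw [show 2 * h + 1 = Q by omega]; linear_combination -h2⟩
    have h4 : (2 * h + 1) ^ 2 * U = h * ((4 * h + 4) * U) + U := by ring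
    rw [h4] at h3
    exact (dvd_add_right (dvd_mul_right _ _)).1 h3
  obtain ⟨u', rfl⟩ : ∃ u', U = -(h * u') := by
    obtain ⟨a, ha⟩ := hhU; exact ⟨-a, by rw [ha]; ring⟩
  have hh0 : (h : ℚ) ≠ 0 := by
    simp only [ne_eq, Int.cast_eq_zero]; omega
  have hu0 : (u' : ℚ) ≠ 0 := by
    simp only [ne_eq, Int.cast_eq_zero]; rintro rfl; simp at hU
  -- the Diophantine equation
  have hD : (h : ℚ) ^ 2 / W = 1 + 1 / (C : ℚ) - (h : ℚ) * (4 * h - 5) / u' := by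
    have k4 : (R2 - R1) * ((Q : ℚ) ^ 2 - 1) = R1 * (3 * Q - Q ^ 2) := by linear_combination hR.r2
    have k5 : (h : ℚ) ^ 2 / ((-(h * u') : ℤ) : ℚ) + (h : ℚ) ^ 2 / W - 1 - 1 / (C : ℚ) = R2 - R1 := by
      linear_combination e2 - e1
    rw [← k5] at k4
    have hR1' : R1 = -2 * (h : ℚ) ^ 2 * ((Q : ℚ) ^ 2 - 1) / ((Q : ℚ) * ((-(h * u') : ℤ) : ℚ)) := by
      rw [← hR1]; field_simp
    rw [hR1'] at k4
    push_cast at k4 ⊢
    have hQe : (Q : ℚ) = 2 * h + 1 := by linear_combination -hh'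
    field_simp at k4 ⊢
    rw [hQe] at k4
    refine mul_right_cancel₀ (b := (2 * (h : ℚ) + 1) ^ 2 - 1) (by
      rw [← hQe, show (Q : ℚ) ^ 2 - 1 = ((Q : ℚ) - 1) * ((Q : ℚ) + 1) by ring]
      exact mul_ne_zero hQ1 hQ2) ?_
    linear_combination k4
  set f : ℤ := (u' - h * (4 * h - 5)) * W - h ^ 2 * u' with hf
  have hcf : -C * f = u' * W := by
    have : -(C : ℚ) * (((u' : ℚ) - h * (4 * h - 5)) * W - (h : ℚ) ^ 2 * u') = u' * W := by
      field_simp at hD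
      linear_combination hD
    rw [hf]; exact_mod_cast this
  have hfW : (u' + f) * W = f * (h * u' + 1) := by
    linear_combination -hcf + f * dW
  have hrel : (u' - h * (4 * h - 5)) * f * (h * u' + 1) = (f + h ^ 2 * u') * (u' + f) := by
    linear_combination -(u' - h * (4 * h - 5)) * hfW - (u' + f) * hf
  have hh2 : h = 2 * k - 1 := by omega
  have hku : k ∣ u' - 3 := by
    have e : u' - 3 = (-(h * u') + 3 * h) + 2 * k * (u' - 3) := by rw [hh2]; ring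
    rw [e]; exact dvd_add cU (dvd_mul_of_dvd_left (dvd_mul_left _ _) _)
  have hkf : k ∣ f - 3 := by
    have e : f - 3 = -(u' - 3) * W - 3 * ((W + 3 * h + 4) - (6 * k)) - (C - 1) * f + (-C * f - u' * W) * (-1) +
      (-2) * 0 := by rw [hh2]; ring
    rw [e, hcf, sub_self, zero_mul, mul_zero, add_zero, add_zero]
    exact dvd_sub (dvd_sub (dvd_mul_of_dvd_left (dvd_neg.2 hku) _)
      (dvd_mul_of_dvd_right (dvd_sub cW (dvd_mul_left _ _)) _)) (dvd_mul_of_dvd_left cC _)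
  obtain ⟨x, hx⟩ := hku
  obtain ⟨y, hy⟩ := hkf
  have hk0 : k ≠ 0 := by rintro rfl; simp at hk1
  have h192 := dvd_of_second_congr k x y hk0 (by
    rw [hh2, show u' = 3 + x * k by linear_combination hx, show f = 3 + y * k by linear_combination hy] at hrel
    linear_combination hrel)
  rw [← Int.natAbs_dvd_natAbs] at h192
  have hodd : Odd k.natAbs := Int.natAbs_odd.2 (Int.odd_iff.2 (by omega))
  have h64 : k.natAbs ∣ 3 := by
    refine (Nat.Coprime.dvd_of_dvd_mul_left (k := k.natAbs) (m := 64) (n := 3) ?_ (by simpa using h192))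
    exact (Nat.Coprime.pow_right 6 hodd.coprime_two_right)
  rcases (Nat.dvd_prime Nat.prime_three).1 h64 with e | e
  · rw [Int.abs_eq_natAbs, e] at hk1; simp at hk1
  · exact hk3 (Int.natCast_dvd.2 (by rw [e]))

end CfsgLib.JT
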