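import Cfsg.Agent.JankoThompson.Local
import Mathlib.Tactic.FinCases

/-!
An element of odd order centralising a four-group `V` with `C_P(w) = V` centralises `P`, for a
normal subgroup `P` of order at most sixty in which some element permutes `V` without fixed point.
-/

set_option autoImplicit false

namespace CfsgLib.JT

open Subgroup

variable {Q : Type*} [Group Q] [Finite Q]

/-- An element of odd order centralising `V` fixes every element of `P` normalising `V`. -/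
theorem commute_of_normalizes (P V : Subgroup Q) [P.Normal]
    (hsq : ∀ v ∈ V, v * v = 1) {w₀ : Q} (hw₀ : w₀ ∈ V) (hw₀1 : w₀ ≠ 1)
    (hcent : ∀ w ∈ V, w ≠ 1 → ∀ g ∈ P, Commute g w → g ∈ V) {a : Q} (hodd : Odd (orderOf a))
    (haV : ∀ v ∈ V, Commute a v) {g : Q} (hgP : g ∈ P) (hgV : ∀ v ∈ V, g⁻¹ * v * g ∈ V) :
    Commute a g := by
  set u := a * g * a⁻¹ * g⁻¹ with hu
  have huP : u ∈ P := mul_mem ((inferInstance : P.Normal).conj_mem g hgP a) (inv_mem hgP)
  have huV : u ∈ V := by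
    refine hcent w₀ hw₀ hw₀1 u huP ?_
    have h1 : a * (g⁻¹ * w₀ * g) * a⁻¹ = g⁻¹ * w₀ * g := by
      rw [(haV _ (hgV w₀ hw₀)).eq, mul_inv_cancel_right]
    refine mul_inv_eq_iff_eq_mul.1 ?_
    rw [hu, show a * g * a⁻¹ * g⁻¹ * w₀ * (a * g * a⁻¹ * g⁻¹)⁻¹ =
      a * g * a⁻¹ * (g⁻¹ * w₀ * g) * (a * g⁻¹ * a⁻¹) by group]
    rw [show a * g * a⁻¹ * (g⁻¹ * w₀ * g) * (a * g⁻¹ * a⁻¹) =
      a * (g * (a⁻¹ * (g⁻¹ * w₀ * g) * a) * g⁻¹) * a⁻¹ by group]
    rw [show a⁻¹ * (g⁻¹ * w₀ * g) * a = g⁻¹ * w₀ * g by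
      conv_lhs => rw [← h1]
      group]
    rw [show g * (g⁻¹ * w₀ * g) * g⁻¹ = w₀ by group, (haV w₀ hw₀).eq, mul_inv_cancel_right]
  have hiter : ∀ n : ℕ, a ^ n * g * (a ^ n)⁻¹ = u ^ n * g := by
    intro n
    induction n with
    | zero => simp
    | succ n ih =>
      rw [pow_succ', show a * a ^ n * g * (a * a ^ n)⁻¹ = a * (a ^ n * g * (a ^ n)⁻¹) * a⁻¹ by group,
        ih, show a * (u ^ n * g) * a⁻¹ = a * u ^ n * a⁻¹ * (a * g * a⁻¹) by group,
        ((haV u huV).pow_right n).eq, mul_inv_cancel_right,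
        show a * g * a⁻¹ = u * g by rw [hu]; group, ← mul_assoc, ← pow_succ]
  obtain ⟨m, hm⟩ := hodd
  have h1 := hiter (orderOf a)
  rw [pow_orderOf_eq_one, hm, pow_succ u, pow_mul, pow_two, hsq u huV, one_pow] at h1
  simp only [one_mul, inv_one, mul_one] at h1
  have h2 : u = 1 := mul_eq_right.1 h1.symm
  exact mul_inv_eq_iff_eq_mul.1 (mul_inv_eq_one.1 h2)

/-- An element of odd order centralising `V` centralises a small normal subgroup. -/
theorem commute_of_small (P V : Subgroup Q) [P.Normal] (hVP : V ≤ P) (hcard : Nat.card V = 4)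
    (hsq : ∀ v ∈ V, v * v = 1) (hcomm : ∀ v ∈ V, ∀ w ∈ V, Commute v w)
    (hcent : ∀ w ∈ V, w ≠ 1 → ∀ g ∈ P, Commute g w → g ∈ V)
    (hP60 : Nat.card P ≤ 60) {c : Q} (hcP : c ∈ P) (hcV : ∀ v ∈ V, c * v * c⁻¹ ∈ V)
    (hcfree : ∀ v ∈ V, c * v * c⁻¹ = v → v = 1) {a : Q} (hodd : Odd (orderOf a))
    (haV : ∀ v ∈ V, Commute a v) : ∀ p ∈ P, Commute a p := by
  classical
  obtain ⟨w₀, hw₀, hw₀1⟩ : ∃ w ∈ V, w ≠ 1 := by
    by_contra h
    push Not at h
    rw [(Subgroup.eq_bot_iff_forall V).2 h, Subgroup.card_bot] at hcard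
    norm_num at hcard
  have hVinv : ∀ v ∈ V, v⁻¹ = v := fun v hv => inv_eq_of_mul_eq_one_right (hsq v hv)
  -- membership in the normaliser from one conjugate
  have one_conj : ∀ g ∈ P, ∀ w ∈ V, w ≠ 1 → g⁻¹ * w * g ∈ V → ∀ v ∈ V, g⁻¹ * v * g ∈ V := by
    intro g hg w hw hw1 h v hv
    refine hcent _ h (fun e => hw1 ?_) _ (mul_mem (mul_mem (inv_mem hg) (hVP hv)) hg) ?_
    · have := congrArg (fun z => g * z * g⁻¹) e
      simpa [mul_assoc] using this
    · simpa [mul_assoc] using (Commute.conj_iff g⁻¹).2 (hcomm v hv w hw)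
  let M : Subgroup Q :=
    { carrier := {g | g ∈ P ∧ ∀ v ∈ V, g⁻¹ * v * g ∈ V}
      one_mem' := ⟨one_mem _, fun v hv => by simpa using hv⟩
      mul_mem' := by
        rintro g h ⟨hg, hg'⟩ ⟨hh, hh'⟩
        refine ⟨mul_mem hg hh, fun v hv => ?_⟩
        rw [show (g * h)⁻¹ * v * (g * h) = h⁻¹ * (g⁻¹ * v * g) * h by group]
        exact hh' _ (hg' v hv)
      inv_mem' := by
        rintro g ⟨hg, hg'⟩
        refine ⟨inv_mem hg, fun v hv => ?_⟩
        obtain ⟨⟨u, hu⟩, hue⟩ := (Finite.injective_iff_surjective.1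
          (show Function.Injective (fun u : V => (⟨g⁻¹ * u * g, hg' u u.2⟩ : V)) from fun x y e =>
            Subtype.ext (mul_left_cancel (mul_right_cancel (congrArg Subtype.val e))))) ⟨v, hv⟩
        have hue' : g⁻¹ * u * g = v := congrArg Subtype.val hue
        rw [inv_inv, ← hue', show g * (g⁻¹ * u * g) * g⁻¹ = u by group]
        exact hu }
  have hMmem : ∀ g, g ∈ M ↔ g ∈ P ∧ ∀ v ∈ V, g⁻¹ * v * g ∈ V := fun g => Iff.rfl
  have haM : ∀ g ∈ M, Commute a g := fun g hg =>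
    commute_of_normalizes P V hsq hw₀ hw₀1 hcent hodd haV hg.1 hg.2
  have hVM : V ≤ M := fun v hv => ⟨hVP hv, fun w hw => mul_mem (mul_mem (inv_mem hv) hw) hv⟩
  have hcM : c ∈ M := by
    have h : c⁻¹ ∈ M := ⟨inv_mem hcP, fun v hv => by rw [inv_inv]; exact hcV v hv⟩
    simpa using M.inv_mem h
  -- the only involutions of `M` lie in `V`
  have hMinv : ∀ g ∈ M, g * g = 1 → g ∈ V := by
    intro g hg hg2
    have hgi : g⁻¹ = g := inv_eq_of_mul_eq_one_right hg2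
    by_cases h : g * w₀ * g⁻¹ = w₀
    · exact hcent w₀ hw₀ hw₀1 g hg.1 (mul_inv_eq_iff_eq_mul.1 h)
    · have hmem : g * w₀ * g⁻¹ ∈ V := by
        have := hg.2 w₀ hw₀
        rwa [hgi] at this ⊢
      refine hcent (w₀ * (g * w₀ * g⁻¹)) (mul_mem hw₀ hmem) (fun e => h ?_) g hg.1
        (mul_inv_eq_iff_eq_mul.1 ?_)
      · rw [eq_inv_of_mul_eq_one_right e, hVinv w₀ hw₀]
      · rw [show g * (w₀ * (g * w₀ * g⁻¹)) * g⁻¹ = g * w₀ * g⁻¹ * ((g * g) * w₀ * (g * g)⁻¹) by group,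
          hg2, one_mul, inv_one, mul_one]
        exact (hcomm _ hmem _ hw₀).eq
  have hM12 : 12 ≤ Nat.card M := by
    have hcnot : ∀ k : Fin 3, k ≠ 0 → c ^ (k : ℕ) ∉ V := by
      intro k hk hin
      have hfix : ∀ v ∈ V, c ^ (k : ℕ) * v * (c ^ (k : ℕ))⁻¹ = v := fun v hv => by
        rw [(hcomm _ hin v hv).eq, mul_inv_cancel_right]
      fin_cases k
      · exact hk rfl
      · exact hw₀1 (hcfree w₀ hw₀ (by simpa using hfix w₀ hw₀))
      · have h2 : c * (c * w₀ * c⁻¹) * c⁻¹ = w₀ := by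
          simpa [pow_succ, mul_assoc] using hfix w₀ hw₀
        refine hw₀1 (hcfree w₀ hw₀ ?_)
        have hp : w₀ * (c * w₀ * c⁻¹) = 1 := hcfree _ (mul_mem hw₀ (hcV w₀ hw₀)) (by
          rw [show c * (w₀ * (c * w₀ * c⁻¹)) * c⁻¹ = c * w₀ * c⁻¹ * (c * (c * w₀ * c⁻¹) * c⁻¹) by group,
            h2, (hcomm _ (hcV w₀ hw₀) _ hw₀).eq])
        rw [eq_inv_of_mul_eq_one_right hp, hVinv w₀ hw₀]
    have hinj : Function.Injective (fun p : Fin 3 × V => (⟨c ^ (p.1 : ℕ) * p.2,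
        mul_mem (pow_mem hcM _) (hVM p.2.2)⟩ : M)) := by
      rintro ⟨i, v, hv⟩ ⟨j, w, hw⟩ h
      have h' : c ^ (i : ℕ) * v = c ^ (j : ℕ) * w := congrArg Subtype.val h
      rcases lt_trichotomy i j with hlt | heq | hlt
      · exfalso
        refine hcnot (j - i) (fun e => hlt.ne (sub_eq_zero.1 e).symm) ?_
        rw [Fin.sub_val_of_le hlt.le]
        have e : c ^ ((j : ℕ) - i) = v * w⁻¹ := by
          rw [pow_sub _ (show (i : ℕ) ≤ j from hlt.le)]
          calc c ^ (j : ℕ) * (c ^ (i : ℕ))⁻¹ =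
              (c ^ (i : ℕ))⁻¹ * c ^ (j : ℕ) := ((Commute.pow_pow_self c _ _).inv_right).eq
            _ = (c ^ (i : ℕ))⁻¹ * (c ^ (j : ℕ) * w) * w⁻¹ := by group
            _ = v * w⁻¹ := by rw [← h']; group
        rw [e]
        exact mul_mem hv (inv_mem hw)
      · subst heq
        exact Prod.ext rfl (Subtype.ext (mul_left_cancel h'))
      · exfalso
        refine hcnot (i - j) (fun e => hlt.ne (sub_eq_zero.1 e).symm) ?_
        rw [Fin.sub_val_of_le hlt.le]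
        have e : c ^ ((i : ℕ) - j) = w * v⁻¹ := by
          rw [pow_sub _ (show (j : ℕ) ≤ i from hlt.le)]
          calc c ^ (i : ℕ) * (c ^ (j : ℕ))⁻¹ =
              (c ^ (j : ℕ))⁻¹ * c ^ (i : ℕ) := ((Commute.pow_pow_self c _ _).inv_right).eq
            _ = (c ^ (j : ℕ))⁻¹ * (c ^ (i : ℕ) * v) * v⁻¹ := by group
            _ = w * v⁻¹ := by rw [h']; group
        rw [e]
        exact mul_mem hw (inv_mem hv)
    have := Nat.card_le_card_of_injective _ hinj
    rwa [Nat.card_prod, Nat.card_fin, hcard] at this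
  -- double cosets outside `M`
  have hdisj : ∀ g ∈ P, g ∉ M → ∀ v ∈ V, g⁻¹ * v * g ∈ M → v = 1 := by
    intro g hg hgM v hv h
    by_contra hv1
    refine hgM ⟨hg, one_conj g hg v hv hv1 (hMinv _ h ?_)⟩
    rw [show g⁻¹ * v * g * (g⁻¹ * v * g) = g⁻¹ * (v * v) * g by group, hsq v hv]; simp
  have hcover : ∀ g ∈ P, g ∉ M → ∀ z ∈ P, z ∉ M → ∃ v ∈ V, ∃ m ∈ M, z = v * g * m := by
    intro g hg hgM
    have hcompl : Nat.card {z : Q // z ∈ P ∧ z ∉ M} + Nat.card M = Nat.card P := by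
      rw [← Nat.card_sum]
      refine Nat.card_congr
        { toFun := Sum.elim (fun z => (⟨z, z.2.1⟩ : P)) fun m => (⟨m, m.2.1⟩ : P)
          invFun := fun p => if h : (p : Q) ∈ M then Sum.inr ⟨p, h⟩ else Sum.inl ⟨p, p.2, h⟩
          left_inv := ?_
          right_inv := fun p => ?_ }
      · rintro (z | m)
        · simp [z.2.2]
        · simp
      · by_cases h : (p : Q) ∈ M <;> simp [h]
    let f : V × M → {z : Q // z ∈ P ∧ z ∉ M} := fun p => ⟨p.1 * g * p.2,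
      mul_mem (mul_mem (hVP p.1.2) hg) p.2.2.1, fun h => hgM (by
        have := mul_mem (mul_mem (inv_mem (hVM p.1.2)) h) (inv_mem p.2.2)
        simpa [mul_assoc] using this)⟩
    have hfinj : Function.Injective f := by
      rintro ⟨⟨v, hv⟩, ⟨m, hm⟩⟩ ⟨⟨w, hw⟩, ⟨n, hn⟩⟩ h
      have h' : v * g * m = w * g * n := congrArg Subtype.val h
      have hvw : w⁻¹ * v = 1 := by
        refine hdisj g hg hgM _ (mul_mem (inv_mem hw) hv) ?_
        have : g⁻¹ * (w⁻¹ * v) * g = n * m⁻¹ := by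
          calc g⁻¹ * (w⁻¹ * v) * g = (w * g)⁻¹ * (v * g * m) * m⁻¹ := by group
            _ = n * m⁻¹ := by rw [h']; group
        rw [this]; exact mul_mem hn (inv_mem hm)
      obtain rfl : v = w := (inv_mul_eq_one.1 hvw).symm
      exact Prod.ext rfl (Subtype.ext (mul_left_cancel h'))
    have hle := Nat.card_le_card_of_injective f hfinj
    rw [Nat.card_prod, hcard] at hle
    have hsurj := (hfinj.bijective_of_nat_card_le (by rw [Nat.card_prod, hcard]; omega)).2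
    intro z hz hzM
    obtain ⟨⟨⟨v, hv⟩, ⟨m, hm⟩⟩, he⟩ := hsurj ⟨z, hz, hzM⟩
    exact ⟨v, hv, m, hm, (congrArg Subtype.val he).symm⟩
  have hk : ∀ g ∈ P, g⁻¹ * (a * g * a⁻¹) ∈ M := by
    intro g hg
    by_cases hgM : g ∈ M
    · rw [(haM g hgM).eq, mul_inv_cancel_right, inv_mul_cancel]; exact one_mem _
    have hagM : a * g * a⁻¹ ∉ M := fun h => hgM (by
      have h2 := haM _ h
      have h3 : a * g * a⁻¹ = g := by
        calc a * g * a⁻¹ = a⁻¹ * (a * g * a⁻¹) * a := by rw [h2.inv_left.eq, inv_mul_cancel_right]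
          _ = g := by group
      rwa [h3] at h)
    obtain ⟨v, hv, m, hm, he⟩ := hcover g hg hgM _ ((inferInstance : P.Normal).conj_mem g hg a) hagM
    have hiter : ∀ n : ℕ, a ^ n * g * (a ^ n)⁻¹ = v ^ n * g * m ^ n := by
      intro n
      induction n with
      | zero => simp
      | succ n ih =>
        rw [pow_succ', show a * a ^ n * g * (a * a ^ n)⁻¹ = a * (a ^ n * g * (a ^ n)⁻¹) * a⁻¹ by group,
          ih, show a * (v ^ n * g * m ^ n) * a⁻¹ =
            a * v ^ n * a⁻¹ * (a * g * a⁻¹) * (a * m ^ n * a⁻¹) by group,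
          ((haV v hv).pow_right n).eq, ((haM m hm).pow_right n).eq, mul_inv_cancel_right,
          mul_inv_cancel_right, he, pow_succ v, pow_succ' m]
        group
    have hv1 : v = 1 := by
      obtain ⟨k, hk⟩ := hodd
      have h := hiter (orderOf a)
      rw [pow_orderOf_eq_one, hk, pow_succ v, pow_mul, pow_two, hsq v hv, one_pow, one_mul] at h
      simp only [one_mul, inv_one, mul_one] at h
      refine hdisj g hg hgM v hv ?_
      have h5 : g⁻¹ * v * g = (m ^ (2 * k + 1))⁻¹ := by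
        rw [eq_inv_iff_mul_eq_one, show g⁻¹ * v * g * m ^ (2 * k + 1) = g⁻¹ * (v * g * m ^ (2 * k + 1))
          by group, ← h, inv_mul_cancel]
      rw [h5]; exact inv_mem (pow_mem hm _)
    rw [he, hv1]; simpa using hm
  intro p hp
  by_cases hpM : p ∈ M
  · exact haM p hpM
  set k := p⁻¹ * (a * p * a⁻¹) with hkdef
  have hconj : ∀ g ∈ P, g⁻¹ * k * g ∈ M := by
    intro g hg
    have h1 := hk (p * g) (mul_mem hp hg)
    have h2 := hk g hg
    rw [show (p * g)⁻¹ * (a * (p * g) * a⁻¹) = g⁻¹ * k * (a * g * a⁻¹) by rw [hkdef]; group] at h1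
    have h3 := mul_mem h1 (inv_mem h2)
    rwa [show g⁻¹ * k * (a * g * a⁻¹) * (g⁻¹ * (a * g * a⁻¹))⁻¹ = g⁻¹ * k * g by group] at h3
  have hkM : k ∈ M := hk p hp
  have core : ∀ u ∈ V, p⁻¹ * u * p ∈ M → u = 1 := fun u hu h => hdisj p hp hpM u hu h
  have hkV : k ∈ V := by
    refine hcent w₀ hw₀ hw₀1 k hkM.1 (mul_inv_eq_iff_eq_mul.1 (mul_inv_eq_one.1 (core _ ?_ ?_)))
    · refine mul_mem ?_ (inv_mem hw₀)
      have := (M.inv_mem hkM).2 w₀ hw₀
      rwa [inv_inv] at this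
    · have h1 := hconj p hp
      have h2 := hconj (w₀⁻¹⁻¹ * p) (mul_mem (by simpa using hVP hw₀) hp)
      rw [inv_inv] at h2
      rw [show p⁻¹ * (k * w₀ * k⁻¹ * w₀⁻¹) * p = (p⁻¹ * k * p) * ((w₀⁻¹ * p)⁻¹ * k * (w₀⁻¹ * p))⁻¹
        by group]
      refine mul_mem h1 (inv_mem ?_)
      rw [hVinv w₀ hw₀]
      exact h2
  have hk1 : k = 1 := core k hkV (hconj p hp)
  refine mul_inv_eq_iff_eq_mul.1 ?_
  rw [hkdef, inv_mul_eq_one] at hk1
  exact hk1.symm

end CfsgLib.JT
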