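import Cfsg.Agent.JankoThompson.LocalFree
import Cfsg.Agent.JankoThompson.FixedSmall
import Cfsg.Agent.GW.Top.Statement
import Cfsg.Agent.GWApps.Dihedral
import Cfsg.Agent.LocalB.OddSignalizer
import Cfsg.Agent.Recog3222.Small
import Cfsg.Agent.InvCentPSL.PSLFacts
import Cfsg.Agent.TwoTimesPSL.PSLFacts

/-!
# The centraliser of an element of the torus fixed by the element of order three
-/

set_option autoImplicit false
set_option linter.unusedSectionVars false
set_option linter.style.haveILetI false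

namespace CfsgLib.JT

open Subgroup
open CfsgLib.NormCyclic (Inv)
open CfsgLib.Linear.SmallSub (P2)

universe u

theorem conj_inj_psl {F : Type} [Field F] [Fintype F] (hodd : Odd (Fintype.card F)) :
    Function.Injective (MulAut.conj : P2 F →* MulAut (P2 F)) := by
  refine (injective_iff_map_eq_one _).2 fun z hz => ?_
  have hc : ∀ g, Commute z g := fun g => by
    have h := DFunLike.congr_fun hz g
    rw [MulAut.conj_apply, MulAut.one_apply] at h
    exact mul_inv_eq_iff_eq_mul.1 h
  by_contra hz1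
  obtain ⟨x, U, m, hx, hx1, hxU, hUC, -, -, -, -, hinv, hout⟩ :=
    CfsgLib.Linear.FourGroups.centralizer_shape (F := F) hodd
  obtain ⟨w, hw, hwx, hwne⟩ := CfsgLib.InvCentPSL.exists_other hodd (v := x) ⟨hx, hx1⟩
  have hwU : w ∉ U := fun h => (hinv w h hw.1).elim hw.2 hwne
  by_cases hzU : z ∈ U
  · obtain ⟨-, -, hi⟩ := hout w (mem_centralizer_singleton_iff.2 hwx) hwU
    have h := hi z hzU
    rw [(hc w).symm.eq, mul_inv_cancel_right] at h
    have hz2 : z * z = 1 := by nth_rw 1 [h]; exact inv_mul_cancel z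
    rcases hinv z hzU hz2 with e | e
    · exact hz1 e
    · subst e
      obtain ⟨g, hg⟩ := isConj_iff.1
        (CfsgLib.Linear.FourGroups.involutions_conj hodd hx hx1 hw.1 hw.2)
      rw [(hc g).symm.eq, mul_inv_cancel_right] at hg
      exact hwne hg.symm
  · obtain ⟨h2, -, -⟩ := hout z (mem_centralizer_singleton_iff.2 (hc x)) hzU
    obtain ⟨g, hg⟩ := isConj_iff.1
      (CfsgLib.Linear.FourGroups.involutions_conj hodd hx hx1 h2 hz1)
    have e : x = z := by
      calc x = g⁻¹ * (g * x * g⁻¹) * g := by group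
        _ = z := by rw [hg, ((hc g).symm.inv_left).eq, inv_mul_cancel_right]
    exact hzU (e ▸ hxU)

/-- An involutive automorphism of a perfect group of order sixty fixing a subgroup `A₄` is trivial. -/
theorem trivial_aut_60 {Q : Type*} [Group Q] [Finite Q] {V : Subgroup Q} {v c : Q}
    (F : CfsgLib.S3222.FourHyp V v) (h60 : Nat.card Q = 60) (hperf : _root_.commutator Q = ⊤)
    (hc : c ∈ normalizer (V : Set Q)) (hc3 : orderOf c = 3) (σ : Q ≃* Q) (hσ : ∀ q, σ (σ q) = q)
    (hV : ∀ w ∈ V, σ w = w) (hσc : σ c = c) : ∀ q, σ q = q := by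
  set S : Subgroup Q :=
    { carrier := {q | σ q = q}
      one_mem' := map_one σ
      mul_mem' := fun {a b} ha hb => by
        show σ (a * b) = a * b
        rw [map_mul, ha, hb]
      inv_mem' := fun {a} ha => by
        show σ a⁻¹ = a⁻¹
        rw [map_inv, ha] } with hS
  set N := S ⊓ normalizer (V : Set Q) with hN
  have hVN : V ≤ N := le_inf (fun w hw => hV w hw) le_normalizer
  have h4 : 4 ∣ Nat.card N := F.card_four ▸ card_dvd_of_le hVN
  have h3 : 3 ∣ Nat.card N := hc3 ▸ orderOf_dvd_natCard N ⟨hσc, hc⟩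
  have h12 : 12 ∣ Nat.card N := Nat.Coprime.mul_dvd_of_dvd_of_dvd (by norm_num) h4 h3
  have hNS : Nat.card N ∣ Nat.card S := card_dvd_of_le inf_le_left
  have hS60 : Nat.card S ∣ 60 := h60 ▸ card_subgroup_dvd_card S
  obtain ⟨i, hi⟩ := h12.trans hNS
  have hi5 : i ∣ 5 := by
    rw [hi, show (60 : ℕ) = 12 * 5 by norm_num] at hS60
    exact Nat.dvd_of_mul_dvd_mul_left (by norm_num) hS60
  rcases (Nat.dvd_prime (by norm_num : Nat.Prime 5)).1 hi5 with rfl | rfl
  · exfalso
    have hNS' : N = S := eq_of_le_of_card_ge inf_le_left (by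
      rw [hi, mul_one]; exact Nat.le_of_dvd Nat.card_pos h12)
    exact CfsgLib.S3222.no_aut_60 h60 hperf F σ hσ S (by rw [hi, mul_one]) (hVN.trans inf_le_left)
      (hNS' ▸ inf_le_right) fun q => Iff.rfl
  · intro q
    have hS' : S = ⊤ := eq_top_of_card_eq S (by rw [hi, h60]; norm_num)
    exact (show q ∈ S from hS' ▸ mem_top q)

namespace Loc

variable {G : Type u} [Group G] [Finite G] (D : Loc G) {a : G}

include D

theorem fixed_y_mem (hya : D.y * a * D.y⁻¹ = a) : D.y ∈ centralizer ({a} : Set G) :=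
  mem_centralizer_singleton_iff.2 (mul_inv_eq_iff_eq_mul.1 hya)

/-- Elements centralising two distinct involutions of `U` and `a`. -/
theorem UA_normalizes {w : G} (hw : w ∈ D.UA) {b : G} (hb : b ∈ D.A) : w * b * w⁻¹ = b := by
  rw [(D.UA_commA hw hb).eq, mul_inv_cancel_right]

set_option maxHeartbeats 4000000 in
/-- The structure of the centraliser of a fixed element `a` of `A`. -/
theorem cent_fixed (ha : a ∈ D.A) (ha1 : a ≠ 1) (hya : D.y * a * D.y⁻¹ = a) :
    (∀ h ∈ centralizer ({a} : Set G), ∀ b ∈ D.A, h * b * h⁻¹ ∈ D.A) ∧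
      (Nat.card (centralizer ({a} : Set G)) = 12 * Nat.card D.A ∨
        (Nat.card (centralizer ({a} : Set G)) = 60 * Nat.card D.A ∧
          (∀ h ∈ centralizer ({a} : Set G),
            h ∈ ⁅centralizer ({a} : Set G), centralizer ({a} : Set G)⁆ ⊔ D.A) ∧
          ∀ h ∈ centralizer ({a} : Set G), h⁻¹ * (D.x * h * D.x⁻¹) ∈ D.A)) := by
  classical
  haveI := Fact.mk Nat.prime_two
  set H := centralizer ({a} : Set G) with hHdef
  have hUH : D.U ≤ H := D.U_le_UA.trans (D.UA_le_cent ha)
  have hAH : D.A ≤ H := D.A_le_UA.trans (D.UA_le_cent ha)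
  have hyH : D.y ∈ H := D.fixed_y_mem hya
  -- the odd core lies in `A`
  set O := Cfsg.oddCore ↥H with hOdef
  haveI : O.Normal := CfsgLib.DGroup.normal_oddCore ↥H
  have hO' : O.map H.subtype ≤ D.A := by
    refine D.odd_le_A ha ha1 ?_ (map_subtype_le _) (hUH.trans (fun g hg => ?_))
    · rw [card_map_of_injective H.subtype_injective]; exact CfsgLib.LocalB.odd_card_oddCore
    · exact le_normalizer_map H.subtype (mem_map_of_mem H.subtype
        (show (⟨g, hg⟩ : H) ∈ normalizer (O : Set H) from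
          (normalizer_eq_top_iff.2 (inferInstance : O.Normal)).symm ▸ mem_top _))
  have hOA : ∀ o ∈ O, (o : G) ∈ D.A := fun o ho => hO' ⟨o, ho, rfl⟩
  set π := QuotientGroup.mk' O with hπ
  have hπeq : ∀ g h : H, π g = π h ↔ g⁻¹ * h ∈ O := fun g h => QuotientGroup.eq
  set V : Subgroup (↥H ⧸ O) := (D.U.subgroupOf H).map π with hV
  have hπU : ∀ g : H, (g : G) ∈ D.U → π g = 1 → g = 1 := fun g hg h =>
    Subtype.ext (D.U_inter_A hg (hOA g ((QuotientGroup.eq_one_iff g).1 h)))
  have hVcard : Nat.card V = 4 := by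
    rw [hV, Nat.card_congr (Equiv.ofBijective
      (fun g : D.U.subgroupOf H => (⟨π g, mem_map_of_mem π g.2⟩ : (D.U.subgroupOf H).map π))
      ⟨fun g h e => ?_, fun ⟨_, g, hg, rfl⟩ => ⟨⟨g, hg⟩, rfl⟩⟩).symm,
      Nat.card_congr (subgroupOfEquivOfLe hUH).toEquiv, D.cardU]
    have e' : π g = π h := congrArg Subtype.val e
    exact Subtype.ext (inv_mul_eq_one.1 (hπU _ (mul_mem (inv_mem g.2) h.2)
      (by rw [map_mul, map_inv, e', inv_mul_cancel])))
  have hVsq : ∀ v ∈ V, v * v = 1 := by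
    rintro _ ⟨g, hg, rfl⟩
    rw [← map_mul, show g * g = 1 from Subtype.ext (D.sqU _ hg), map_one]
  have hVcomm : ∀ v ∈ V, ∀ w ∈ V, Commute v w := by
    rintro _ ⟨g, hg, rfl⟩ _ ⟨h, hh, rfl⟩
    exact Commute.map (Subtype.ext (D.U_comm hg hh).eq) π
  -- centralisers of the involutions of `V`
  have hcentV : ∀ w ∈ V, w ≠ 1 → ∀ q, Commute q w → ∃ g : H, (g : G) ∈ D.UA ∧ π g = q := by
    rintro _ ⟨u, hu, rfl⟩ hw1 q hq
    obtain ⟨g, rfl⟩ := QuotientGroup.mk'_surjective O q
    refine ⟨g, ?_, rfl⟩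
    have h1 : π (u⁻¹ * (g * u * g⁻¹)) = 1 := by
      rw [map_mul, map_mul, map_mul, map_inv, map_inv, hq.eq, mul_inv_cancel_right, inv_mul_cancel]
    set o := u⁻¹ * (g * u * g⁻¹) with ho
    have hoA : (o : G) ∈ D.A := hOA o ((QuotientGroup.eq_one_iff o).1 h1)
    have hcu : (g : G) * u * (g : G)⁻¹ = (u : G) * o := by simp [ho]
    have hsq : ((u : G) * o) * ((u : G) * o) = 1 := by
      rw [← hcu, conj_mul, show (u : G) * u = 1 from D.sqU _ hu, mul_one, mul_inv_cancel]
    have ho1 : (o : G) = 1 := by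
      refine D.eq_one_of_sq hoA ?_
      rw [show (u : G) * o * (u * o) = u * ((o : G) * u) * o by group,
        show (o : G) * u = u * o from (D.AU _ hoA _ hu).eq,
        show (u : G) * (u * o) * o = u * u * ((o : G) * o) by group,
        show (u : G) * u = 1 from D.sqU _ hu, one_mul] at hsq
      exact hsq
    rw [ho1, mul_one] at hcu
    refine D.torus_all hu (fun e => hw1 ?_) ha ha1 (mul_inv_eq_iff_eq_mul.1 hcu)
      (mem_centralizer_singleton_iff.1 g.2)
    rw [show u = 1 from Subtype.ext e, map_one]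
  have hVUA : ∀ g : H, (g : G) ∈ D.UA → ∀ v ∈ V, Commute (π g) v := by
    rintro g hg _ ⟨u, hu, rfl⟩
    exact Commute.map (Subtype.ext (D.UA_comm hg hu).eq) π
  set yq := π ⟨D.y, hyH⟩ with hyq
  have hyV : ∀ v ∈ V, yq * v * yq⁻¹ ∈ V := by
    rintro _ ⟨u, hu, rfl⟩
    exact ⟨⟨D.y, hyH⟩ * u * (⟨D.y, hyH⟩ : H)⁻¹, D.yU _ hu, by simp [yq]⟩
  have hyfree : ∀ v ∈ V, yq * v * yq⁻¹ = v → v = 1 := by
    rintro _ ⟨u, hu, rfl⟩ h
    have h2 : π (u⁻¹ * (⟨D.y, hyH⟩ * u * (⟨D.y, hyH⟩ : H)⁻¹)) = 1 := by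
      rw [map_mul, map_mul, map_mul, map_inv, map_inv, h, inv_mul_cancel]
    have h3 := hπU _ (mul_mem (inv_mem hu) (D.yU _ hu)) h2
    rw [show u = 1 from Subtype.ext (D.yfree _ hu (congrArg Subtype.val (inv_mul_eq_one.1 h3)).symm),
      map_one]
  -- a Sylow subgroup
  obtain ⟨T, hT⟩ := ((IsPGroup.of_card (G := D.U) (p := 2) (n := 2) (by rw [D.cardU]; rfl)).comap_subtype
    (K := H)).exists_le_sylow
  have hTU : (T : Subgroup ↥H) = D.U.subgroupOf H := le_antisymm (fun g hg => by
    rw [mem_subgroupOf, ← D.eq_U_of_two ha ha1 (T.isPGroup'.map H.subtype)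
      (fun u hu => ⟨⟨u, hUH hu⟩, hT (mem_subgroupOf.2 hu), rfl⟩) (map_subtype_le _)]
    exact ⟨g, hg, rfl⟩) hT
  let TQ : Sylow 2 (↥H ⧸ O) := T.mapSurjective (QuotientGroup.mk'_surjective O)
  have hTQ : (TQ : Subgroup (↥H ⧸ O)) = V := by
    show (T : Subgroup ↥H).map π = V
    rw [hTU]
  haveI hK4 : IsKleinFour (TQ : Subgroup (↥H ⧸ O)) := by
    rw [hTQ]
    refine ⟨hVcard, ?_⟩
    haveI : Nontrivial V := Finite.one_lt_card_iff_nontrivial.1 (by rw [hVcard]; norm_num)
    exact ((Nat.dvd_prime Nat.prime_two).1 (Monoid.exponent_dvd_of_forall_pow_eq_one fun v =>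
      Subtype.ext (by rw [pow_two]; exact hVsq _ v.2))).resolve_left fun h =>
        not_subsingleton V (Monoid.exp_eq_one_iff.1 h)
  obtain ⟨eT⟩ : Nonempty ((TQ : Subgroup (↥H ⧸ O)) ≃* DihedralGroup 2) :=
    IsKleinFour.nonempty_mulEquiv
  have hQO : Cfsg.oddCore (↥H ⧸ O) = ⊥ := CfsgLib.LocalB.oddCore_quotient
  -- the torus dies in the quotient
  have hAtriv : ∀ b : H, (b : G) ∈ D.A → π b = 1 := by
    intro b hb
    have hbo : Odd (orderOf (π b)) := (D.odd_orderOf hb).of_dvd_nat (by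
      rw [Subgroup.orderOf_coe]; exact orderOf_map_dvd π b)
    have hbV : ∀ v ∈ V, Commute (π b) v := hVUA b (D.A_le_UA hb)
    rcases CfsgLib.GWApps.dihedral_structure CfsgLib.GW.Top.statement hQO TQ eT with
      h2 | ⟨F, _, _, hodd, K, hK1, ⟨eK⟩⟩ | ⟨⟨e7⟩⟩
    · obtain ⟨n, hn⟩ := h2 (π b)
      have h1 := Nat.dvd_gcd (orderOf_dvd_of_pow_eq_one hn) (dvd_refl (orderOf (π b)))
      rwa [Nat.Coprime.gcd_eq_one ((Nat.coprime_two_left.2 hbo).pow_left n), Nat.dvd_one,
        orderOf_eq_one_iff] at h1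
    · set I := (MulAut.conj : P2 F →* MulAut (P2 F)).range.subgroupOf K
      haveI hIn : I.Normal := ⟨by
        rintro ⟨n, _⟩ ⟨z, rfl⟩ g
        refine ⟨(g : MulAut (P2 F)) z, MulEquiv.ext fun w => ?_⟩
        simp [MulAut.conj_apply, map_mul, map_inv]⟩
      let ψ : P2 F →* ↥H ⧸ O :=
        eK.symm.toMonoidHom.comp ((inclusion hK1).comp (MulAut.conj : P2 F →* _).rangeRestrict)
      have hψ : Function.Injective ψ := eK.symm.injective.comp ((inclusion_injective hK1).comp
        fun p q e => conj_inj_psl hodd (congrArg Subtype.val e))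
      haveI hRn : ψ.range.Normal := by
        have e : ψ.range = I.map eK.symm.toMonoidHom := by
          ext q
          constructor
          · rintro ⟨p, rfl⟩; exact ⟨_, ⟨p, rfl⟩, rfl⟩
          · rintro ⟨⟨k, hk⟩, ⟨p, hp⟩, rfl⟩
            exact ⟨p, congrArg eK.symm (Subtype.ext hp)⟩
        rw [e]; exact hIn.map _ eK.symm.surjective
      obtain ⟨x₀, U₀, m, hx, hx1, -, hUC, -, hm, hU₀, hC₀, hinv, hout⟩ :=
        CfsgLib.Linear.FourGroups.centralizer_shape (F := F) hodd
      -- centralisers of involutions are abelian of order at most four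
      obtain ⟨g, hgv⟩ : ∃ g, g * ψ x₀ * g⁻¹ ∈ V := by
        obtain ⟨S, hS⟩ := (IsPGroup.of_card (G := zpowers (ψ x₀)) (p := 2) (n := 1) (by
          rw [Nat.card_zpowers, orderOf_injective ψ hψ, pow_one]
          exact CfsgLib.Invol.orderOf_eq_two hx hx1)).exists_le_sylow
        obtain ⟨g, hg⟩ := MulAction.exists_smul_eq (↥H ⧸ O) S TQ
        refine ⟨g, ?_⟩
        rw [← hTQ, ← hg]
        exact ⟨ψ x₀, hS (mem_zpowers _), rfl⟩
      set w := g * ψ x₀ * g⁻¹ with hw
      have hw1 : w ≠ 1 := fun e => hx1 (hψ (by rw [map_one]; exact conj_eq_one_iff.1 e))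
      have hcomm : ∀ p p' : P2 F, Commute p x₀ → Commute p' x₀ → Commute p p' := by
        intro p p' hp hp'
        obtain ⟨u, hu, hue⟩ := hcentV w hgv hw1 _ ((Commute.conj_iff g).2 (hp.map ψ))
        obtain ⟨u', hu', hue'⟩ := hcentV w hgv hw1 _ ((Commute.conj_iff g).2 (hp'.map ψ))
        refine hψ ?_
        rw [map_mul, map_mul]
        obtain ⟨v, hv, c, hc, huc⟩ := hu'
        have h1 : Commute (u : G) u' := huc ▸ (D.UA_comm hu hv).mul_right (D.UA_commA hu hc)
        have h2 : Commute (π u) (π u') := Commute.map (Subtype.ext h1.eq) π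
        rw [hue, hue'] at h2
        exact ((Commute.conj_iff g).1 h2).eq
      have hm2 : m ≤ 2 := by
        obtain ⟨c, hc, hcU⟩ : ∃ c ∈ centralizer ({x₀} : Set (P2 F)), c ∉ U₀ := by
          by_contra hcon
          push Not at hcon
          have := Subgroup.card_le_of_le (show centralizer ({x₀} : Set (P2 F)) ≤ U₀ from hcon)
          have : 0 < Nat.card U₀ := Nat.card_pos
          omega
        obtain ⟨-, -, hi⟩ := hout c hc hcU
        have hz : ∀ z : U₀, (z : P2 F) = 1 ∨ (z : P2 F) = x₀ := fun z => hinv _ z.2 (by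
          have h := hi z z.2
          rw [(hcomm c z (mem_centralizer_singleton_iff.1 hc)
            (mem_centralizer_singleton_iff.1 (hUC z.2))).eq, mul_inv_cancel_right] at h
          nth_rw 1 [h]; exact inv_mul_cancel _)
        rw [← hU₀]
        refine le_trans (Nat.card_le_card_of_injective (fun z : U₀ => decide ((z : P2 F) = 1)) ?_)
          (le_of_eq (by simp))
        intro z z' e
        simp only [decide_eq_decide] at e
        refine Subtype.ext ?_
        rcases hz z with h | h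
        · rw [h, e.1 h]
        · rcases hz z' with h' | h'
          · exact absurd ((e.2 h').symm.trans h) hx1.symm
          · rw [h, h']
      have hq : Fintype.card F ≤ 5 := by split_ifs at hm <;> omega
      have hcard60 : Nat.card ψ.range ≤ 60 := by
        rw [Nat.card_congr (MonoidHom.ofInjective hψ).toEquiv.symm]
        have hP := CfsgLib.GW.CaseI.two_mul_card_psl (F := F) hodd
        have hq1 : 1 ≤ Fintype.card F := Fintype.card_pos
        have : Fintype.card F = 3 ∨ Fintype.card F = 5 ∨ Fintype.card F = 1 := by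
          obtain ⟨j, hj⟩ := hodd; omega
        rcases this with h | h | h <;> rw [h] at hP <;> norm_num at * <;> omega
      have hq35 : Fintype.card F % 8 = 3 ∨ Fintype.card F % 8 = 5 := by
        obtain ⟨j, hj⟩ := hodd
        have := Fintype.one_lt_card (α := F)
        omega
      obtain ⟨S, -⟩ := (IsPGroup.of_card (G := (⊥ : Subgroup (P2 F))) (p := 2) (n := 0)
        (by simp)).exists_le_sylow
      have hSK := CfsgLib.Linear.SylowTwoSL.isKleinFour_sylow_psl rfl hq35 S
      obtain ⟨r, hr⟩ := CfsgLib.TwoTimesPSL.elemL_of_klein S hSK fun p q h1 h2 h3 h4 =>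
        CfsgLib.Linear.FourGroups.involutions_conj hodd h1 h2 h3 h4
      -- the four-group lies in the simple part
      obtain ⟨S', hS'⟩ := (S.isPGroup'.map ψ).exists_le_sylow
      have hS'eq : (S' : Subgroup (↥H ⧸ O)) = (S : Subgroup (P2 F)).map ψ := by
        refine (eq_of_le_of_card_ge hS' (le_of_eq ?_)).symm
        rw [Subgroup.card_map_of_injective (K := (S : Subgroup (P2 F))) (f := ψ) hψ, hSK.card_four, Sylow.card_eq_multiplicity, ← hVcard, ← hTQ,
          Sylow.card_eq_multiplicity]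
      obtain ⟨g', hg'⟩ := MulAction.exists_smul_eq (↥H ⧸ O) S' TQ
      have hg'V : ∀ p ∈ (S : Subgroup (P2 F)), g' * ψ p * g'⁻¹ ∈ V := fun p hp => by
        rw [← hTQ, ← hg']
        exact ⟨ψ p, hS'eq ▸ mem_map_of_mem ψ hp, rfl⟩
      have hVS : ∀ v ∈ V, ∃ p ∈ (S : Subgroup (P2 F)), g' * ψ p * g'⁻¹ = v := by
        intro v hv
        obtain ⟨p, hp⟩ := ((Function.Injective.bijective_of_nat_card_le
          (f := fun p : (S : Subgroup (P2 F)) => (⟨g' * ψ p * g'⁻¹, hg'V p p.2⟩ : V))
          (fun p q e => Subtype.ext (hψ (mul_left_cancel (mul_right_cancel (congrArg Subtype.val e)))))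
          (le_of_eq (by rw [hSK.card_four, hVcard])))).2 ⟨v, hv⟩
        exact ⟨p, p.2, congrArg Subtype.val hp⟩
      obtain ⟨c, hc, hcN, hcfree⟩ : ∃ c ∈ ψ.range, (∀ v ∈ V, c * v * c⁻¹ ∈ V) ∧
          ∀ v ∈ V, c * v * c⁻¹ = v → v = 1 := by
        refine ⟨g' * ψ r * g'⁻¹, hRn.conj_mem _ ⟨r, rfl⟩ g', ?_, ?_⟩
        · intro v hv
          obtain ⟨p, hp, rfl⟩ := hVS v hv
          rw [show g' * ψ r * g'⁻¹ * (g' * ψ p * g'⁻¹) * (g' * ψ r * g'⁻¹)⁻¹ =
            g' * (ψ r * ψ p * (ψ r)⁻¹) * g'⁻¹ by group, ← map_inv, ← map_mul, ← map_mul]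
          exact hg'V _ ((mem_normalizer_iff.1 hr.rN p).1 hp)
        · intro v hv h
          obtain ⟨p, hp, rfl⟩ := hVS v hv
          have h' : r * p * r⁻¹ = p := hψ (by
            rw [map_mul, map_mul, map_inv]
            refine mul_left_cancel (mul_right_cancel (?_ : g' * (ψ r * ψ p * (ψ r)⁻¹) * g'⁻¹ = g' * ψ p * g'⁻¹))
            rw [← h]; group)
          have hp1 : p = 1 := by
            by_contra hp1
            have hcm : ∀ i : ℕ, r ^ i * p * (r ^ i)⁻¹ = p := fun i => by
              rw [((show Commute r p from mul_inv_eq_iff_eq_mul.1 h').pow_left i).eq,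
                mul_inv_cancel_right]
            obtain ⟨q, hq, hq1, hqp⟩ : ∃ q ∈ (S : Subgroup (P2 F)), q ≠ 1 ∧ q ≠ p := by
              by_contra hcon
              push Not at hcon
              have hle : Nat.card (S : Subgroup (P2 F)) ≤ 2 := by
                refine le_trans (Nat.card_le_card_of_injective
                  (fun q : (S : Subgroup (P2 F)) => decide ((q : P2 F) = 1)) ?_) (le_of_eq (by simp))
                intro q q' e
                simp only [decide_eq_decide] at e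
                refine Subtype.ext ?_
                by_cases h0 : (q : P2 F) = 1
                · rw [h0, e.1 h0]
                · rw [hcon q q.2 h0, hcon q' q'.2 fun h1 => h0 (e.2 h1)]
              rw [hSK.card_four] at hle
              omega
            obtain ⟨i, hi⟩ := hr.rtrans p hp q hq hp1 hq1
            exact hqp (hi.symm.trans (hcm i))
          rw [hp1]; simp
      have hVR : V ≤ ψ.range := fun v hv => by
        obtain ⟨p, -, rfl⟩ := hVS v hv
        exact hRn.conj_mem _ ⟨p, rfl⟩ g'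
      have hcent4 : ∀ u ∈ V, u ≠ 1 → ∀ q ∈ ψ.range, Commute q u → q ∈ V := by
        intro u hu hu1 q hq hqu
        obtain ⟨pu, rfl⟩ := hVR hu
        obtain ⟨pq, rfl⟩ := hq
        have hpu2 : pu * pu = 1 := hψ (by rw [map_mul, map_one]; exact hVsq _ hu)
        have hpu1 : pu ≠ 1 := fun e => hu1 (by rw [e, map_one])
        have hC4 : Nat.card (centralizer ({pu} : Set (P2 F))) ≤ 4 := by
          obtain ⟨d, rfl⟩ := isConj_iff.1
            (CfsgLib.Linear.FourGroups.involutions_conj hodd hx hx1 hpu2 hpu1)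
          have e : centralizer ({d * x₀ * d⁻¹} : Set (P2 F)) ≤
              (centralizer ({x₀} : Set (P2 F))).map (MulAut.conj d).toMonoidHom := by
            intro z hz
            refine ⟨d⁻¹ * z * d, mem_centralizer_singleton_iff.2 ?_, by simp [mul_assoc]⟩
            have := mem_centralizer_singleton_iff.1 hz
            calc d⁻¹ * z * d * x₀ = d⁻¹ * (z * (d * x₀ * d⁻¹)) * d := by group
              _ = d⁻¹ * (d * x₀ * d⁻¹ * z) * d := by rw [this]
              _ = x₀ * (d⁻¹ * z * d) := by group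
          refine (Subgroup.card_le_of_le e).trans ?_
          rw [card_map_of_injective (MulAut.conj d).injective, hC₀]; omega
        have hsub : V.comap ψ ≤ centralizer ({pu} : Set (P2 F)) := fun z hz =>
          mem_centralizer_singleton_iff.2 (hψ (by rw [map_mul, map_mul]; exact hVcomm _ hz _ hu))
        have hc4 : Nat.card (V.comap ψ) = 4 := by
          rw [← hVcard, ← card_map_of_injective hψ (K := V.comap ψ), map_comap_eq, inf_eq_right.2 hVR]
        have e := eq_of_le_of_card_ge hsub (by rw [hc4]; exact hC4)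
        show pq ∈ V.comap ψ
        rw [e]
        exact mem_centralizer_singleton_iff.2 (hψ (by rw [map_mul, map_mul]; exact hqu))
      have hcen := commute_of_small ψ.range V hVR hVcard hVsq hVcomm hcent4 hcard60 hc hcN hcfree hbo hbV
      -- so the image is trivial
      refine eK.injective (Subtype.ext (MulEquiv.ext fun p => conj_inj_psl hodd ?_))
      rw [map_one, OneMemClass.coe_one, MulAut.one_apply]
      have h := congrArg (fun q => ((eK q : K) : MulAut (P2 F))) (hcen (ψ p) ⟨p, rfl⟩).eq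
      simp only [map_mul, Subgroup.coe_mul, ψ, MonoidHom.coe_comp, Function.comp_apply,
        MulEquiv.coe_toMonoidHom, MulEquiv.apply_symm_apply] at h
      change ((eK (π b) : K) : MulAut (P2 F)) * MulAut.conj p =
        MulAut.conj p * ((eK (π b) : K) : MulAut (P2 F)) at h
      refine mul_right_cancel (b := ((eK (π b) : K) : MulAut (P2 F))) ?_
      rw [← h]
      ext w
      simp [MulAut.conj_apply, map_mul, map_inv]
    · exfalso
      have h8 : 8 ∣ Nat.card (↥H ⧸ O) := by
        rw [Nat.card_congr e7.toEquiv, nat_card_alternatingGroup, Nat.card_fin]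
        decide
      have h4 := (TQ.pow_dvd_card_of_pow_dvd_card (n := 3) h8)
      rw [hTQ, hVcard] at h4
      norm_num at h4
  have hAnormal : ∀ h ∈ H, ∀ b ∈ D.A, h * b * h⁻¹ ∈ D.A := by
    intro h hh b hb
    have hbO : (⟨b, hAH hb⟩ : H) ∈ O := (QuotientGroup.eq_one_iff _).1 (hAtriv ⟨b, hAH hb⟩ hb)
    exact hOA _ ((inferInstance : O.Normal).conj_mem _ hbO ⟨h, hh⟩)
  have hOcard : Nat.card O = Nat.card D.A := by
    rw [← card_map_of_injective H.subtype_injective (K := O),
      show O.map H.subtype = D.A from le_antisymm hO' fun b hb =>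
        ⟨⟨b, hAH hb⟩, (QuotientGroup.eq_one_iff _).1 (hAtriv _ hb), rfl⟩]
  have hHcard : Nat.card H = Nat.card (↥H ⧸ O) * Nat.card D.A := by
    rw [← hOcard]; exact card_eq_card_quotient_mul_card_subgroup O
  refine ⟨hAnormal, ?_⟩
  have htH : D.t ∈ H := hUH D.tU
  have hπUA : ∀ g : H, (g : G) ∈ D.UA → π g ∈ V := by
    intro g hg
    obtain ⟨u, hu, b, hb, he⟩ := hg
    have : g = ⟨u, hUH hu⟩ * ⟨b, hAH hb⟩ := Subtype.ext he
    rw [this, map_mul, hAtriv ⟨b, hAH hb⟩ hb, mul_one]
    exact mem_map_of_mem π hu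
  have htV : π ⟨D.t, htH⟩ ∈ V := mem_map_of_mem π D.tU
  have ht1 : π ⟨D.t, htH⟩ ≠ 1 := fun e => D.ht.2 (congrArg Subtype.val (hπU _ D.tU e))
  have F4 : CfsgLib.S3222.FourHyp V (π ⟨D.t, htH⟩) :=
    { card_four := hVcard
      sq_one := hVsq
      mem := htV
      ne_one := ht1
      centralizer_eq := by
        refine le_antisymm (fun q hq => ?_) fun v hv =>
          mem_centralizer_singleton_iff.2 (hVcomm v hv _ htV).eq
        obtain ⟨g, hg, rfl⟩ := hcentV _ htV ht1 q (mem_centralizer_singleton_iff.1 hq)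
        exact hπUA g hg
      fusion := by
        rintro _ ⟨u, hu, rfl⟩ hu1
        have hu1' : (u : G) ≠ 1 := fun e => hu1 (by rw [show u = 1 from Subtype.ext e, map_one])
        rcases D.U_orbit hu hu1' with e | e | e
        · rw [show u = ⟨D.t, htH⟩ from Subtype.ext e]
        · refine isConj_iff.2 ⟨yq, ?_⟩
          rw [hyq, ← map_inv, ← map_mul, ← map_mul]
          exact congrArg π (Subtype.ext e.symm)
        · refine isConj_iff.2 ⟨yq ^ 2, ?_⟩
          rw [hyq, ← map_pow, ← map_inv, ← map_mul, ← map_mul]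
          exact congrArg π (Subtype.ext e.symm)
      odd_index := by
        rw [← hTQ, Nat.odd_iff, ← Nat.two_dvd_ne_zero]
        exact TQ.not_dvd_index }
  have hyN : yq ∈ normalizer (V : Set (↥H ⧸ O)) := by
    refine mem_normalizer_iff.2 fun q => ⟨hyV q, fun hq => ?_⟩
    obtain ⟨n, hn⟩ := D.y_inv_eq
    obtain ⟨u, hu, hue⟩ := hq
    refine ⟨⟨D.y⁻¹ * u * D.y, mul_mem (mul_mem (inv_mem hyH) u.2) hyH⟩, D.y_inv_U hu, ?_⟩
    have : (⟨D.y⁻¹ * (u : G) * D.y, mul_mem (mul_mem (inv_mem hyH) u.2) hyH⟩ : H) =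
      (⟨D.y, hyH⟩ : H)⁻¹ * u * ⟨D.y, hyH⟩ := Subtype.ext rfl
    rw [this, map_mul, map_mul, map_inv, hue, ← hyq]; group
  have hyVn : yq ∉ V := fun h => ht1 (hyfree _ htV (by rw [(hVcomm _ h _ htV).eq, mul_inv_cancel_right]))
  rcases F4.card_cases hyN hyVn with h12 | ⟨h60, hperf⟩
  · exact Or.inl (by rw [hHcard, h12])
  · refine Or.inr ⟨by rw [hHcard, h60], fun h hh => ?_, ?_⟩
    swap
    · -- conjugation by `x` on the quotient
      have hxH : ∀ h ∈ H, D.x * h * D.x⁻¹ ∈ H := by
        intro h hh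
        refine mem_centralizer_singleton_iff.2 ?_
        have h1 : Commute h a⁻¹ := Commute.inv_right (mem_centralizer_singleton_iff.1 hh)
        have h2 := (Commute.conj_iff D.x).2 h1
        rw [D.xinv _ (inv_mem ha), inv_inv] at h2
        exact h2.eq
      have hxx : ∀ g : G, D.x * (D.x * g * D.x⁻¹) * D.x⁻¹ = g := fun g => by
        rw [D.hx.inv_eq, show D.x * (D.x * g * D.x) * D.x = D.x * D.x * g * (D.x * D.x) by group,
          D.hx.1, one_mul, mul_one]
      let τ : ↥H ≃* ↥H :=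
        { toFun := fun h => ⟨D.x * h * D.x⁻¹, hxH h h.2⟩
          invFun := fun h => ⟨D.x * h * D.x⁻¹, hxH h h.2⟩
          left_inv := fun h => Subtype.ext (hxx h)
          right_inv := fun h => Subtype.ext (hxx h)
          map_mul' := fun g h => Subtype.ext (conj_mul.symm) }
      have hOmem : ∀ g : H, g ∈ O ↔ (g : G) ∈ D.A := fun g =>
        ⟨hOA g, fun hg => (QuotientGroup.eq_one_iff g).1 (hAtriv g hg)⟩
      have hτO : O.map τ.toMonoidHom = O := by
        ext g
        rw [mem_map]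
        constructor
        · rintro ⟨o, ho, rfl⟩
          refine (hOmem _).2 ?_
          show D.x * (o : G) * D.x⁻¹ ∈ D.A
          rw [D.xinv _ (hOA o ho)]; exact inv_mem (hOA o ho)
        · intro hg
          refine ⟨τ g, (hOmem _).2 ?_, Subtype.ext (hxx g)⟩
          show D.x * (g : G) * D.x⁻¹ ∈ D.A
          rw [D.xinv _ (hOA g hg)]; exact inv_mem (hOA g hg)
      let σ : ↥H ⧸ O ≃* ↥H ⧸ O := QuotientGroup.congr O O τ hτO
      have hσ : ∀ g : H, σ (π g) = π (τ g) := fun g => rfl
      intro h hh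
      have hσall := trivial_aut_60 (c := yq) F4 h60 hperf hyN ?_ σ ?_ ?_ ?_ (π ⟨h, hh⟩)
      · rw [hσ] at hσall
        exact hOA _ ((hπeq ⟨h, hh⟩ _).1 hσall.symm)
      · refine orderOf_eq_prime ?_ fun e => hyVn (e ▸ one_mem _)
        rw [hyq, ← map_pow, show (⟨D.y, hyH⟩ : H) ^ 3 = 1 from Subtype.ext (by simpa using D.y_cubed),
          map_one]
      · intro q
        obtain ⟨g, rfl⟩ := QuotientGroup.mk'_surjective O q
        rw [hσ, hσ]; exact congrArg π (Subtype.ext (hxx g))
      · rintro _ ⟨u, hu, rfl⟩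
        rw [hσ]
        refine congrArg π (Subtype.ext ?_)
        show D.x * (u : G) * D.x⁻¹ = u
        exact mul_inv_eq_iff_eq_mul.2 (D.xcomm _ hu).eq
      · rw [hyq, hσ]
        refine congrArg π (Subtype.ext ?_)
        show D.x * D.y * D.x⁻¹ = D.y
        rw [D.yx.symm.eq, mul_inv_cancel_right]
    have h1 : π ⟨h, hh⟩ ∈ (commutator ↥H).map π := by
      rw [_root_.commutator_def, map_commutator, map_top_of_surjective π (QuotientGroup.mk'_surjective O),
        ← _root_.commutator_def, hperf]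
      exact mem_top _
    obtain ⟨k, hk, hke⟩ := h1
    have hk' : (k : G) ∈ ⁅H, H⁆ := by
      have := mem_map_of_mem H.subtype hk
      rwa [map_subtype_commutator] at this
    have hd : k⁻¹ * ⟨h, hh⟩ ∈ O := (hπeq k ⟨h, hh⟩).1 hke
    have := mul_mem (mem_sup_left hk' : (k : G) ∈ ⁅H, H⁆ ⊔ D.A) (mem_sup_right (hOA _ hd))
    simpa using this

end Loc

end CfsgLib.JT
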