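import Cfsg.Agent.JankoThompson.FixedP

/-!
The possible functions of the non-trivial characters, and their orthogonality relations.
-/

set_option autoImplicit false

namespace CfsgLib.JT

universe u v w

open Classical

variable {ι : Type u} {M : Type v} {Λ : Type w} [Fintype ι] [Fintype M] [Fintype Λ] {Q h : ℤ}

theorem sum_indicator {L : List ι} (nd : L.Nodup) {f g : ι → ℤ}
    (hf : ∀ x, f x = if x ∈ L then 1 else 0) : ∑ x, f x * g x = (L.map g).sum := by
  have e := sum_eq_lsum nd f g (fun x hx => by rw [hf x, if_neg hx])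
  simp only [Int.cast_id] at e
  rw [e, lsum]
  congr 1
  exact List.map_congr_left fun x hx => by rw [hf x, if_pos hx]; simp

namespace ShP

variable {V : SV ι M Λ Q h} {p : ι → ℤ} (S : ShP V p)

/-- The nine points. -/
def L : List ι := [V.o, S.a, S.b, S.c, S.η, S.u, S.w, S.u', S.w']

theorem X0_sum (g : ι → ℤ) : ∑ x, V.X 0 x * g x = g V.o + g S.a + g S.b + g S.c := by
  have nd := S.nd
  rw [sum_indicator (L := [V.o, S.a, S.b, S.c]) (by simp at nd ⊢; tauto) S.X0]
  simp; ring

theorem X1_sum (g : ι → ℤ) : ∑ x, V.X 1 x * g x = g S.a + g S.b + g S.u + g S.w := by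
  have nd := S.nd
  rw [sum_indicator (L := [S.a, S.b, S.u, S.w]) (by simp at nd ⊢; tauto) S.X1]
  simp; ring

theorem X2_sum (g : ι → ℤ) : ∑ x, V.X 2 x * g x = g S.a + g S.b + g S.u' + g S.w' := by
  have nd := S.nd
  rw [sum_indicator (L := [S.a, S.b, S.u', S.w']) (by simp at nd ⊢; tauto) S.X2]
  simp; ring

theorem p_sum (g : ι → ℤ) : ∑ x, p x * g x = g V.o - g S.a + g S.η := by
  have nd := S.nd
  have ndp : [V.o, S.a, S.η].Nodup := by simp at nd ⊢; tauto
  have e := sum_eq_lsum ndp p g (fun x hx => by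
    simp only [List.mem_cons, List.not_mem_nil, or_false, not_or] at hx
    rw [S.pv, if_neg hx.2.1, if_neg (by simp [hx.1, hx.2.2])])
  simp only [Int.cast_id] at e
  rw [e]
  simp at ndp
  simp [lsum, S.pv, ndp.1.1, Ne.symm ndp.2]
  ring

/-- Exchanging the two points outside the first column. -/
def swapUW : ShP V p where
  a := S.a
  b := S.b
  c := S.c
  η := S.η
  u := S.w
  w := S.u
  u' := S.w'
  w' := S.u'
  nd := by
    have nd := S.nd
    simp only [List.nodup_cons, List.mem_cons, List.not_mem_nil, or_false, List.nodup_nil, and_true,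
      not_or, not_false_eq_true] at nd ⊢
    grind
  X0 := S.X0
  X1 x := by rw [S.X1]; congr 1; simp; tauto
  X2 x := by rw [S.X2]; congr 1; simp; tauto
  pv := S.pv
  sa := S.sa
  sb := S.sb
  sc := S.sc
  sη := S.sη
  su := S.sw
  sw := S.su

/-- Type A: the points `a`, `c`, `η`. -/
def IsA (g : ι → ℤ) (e : ℤ) : Prop :=
  g S.a = e ∧ g S.c = -e ∧ g S.η = e ∧ ∀ x, x ∉ [S.a, S.c, S.η] → g x = 0

/-- Type B: the points `b`, `c` and a point `q` outside the nine. -/
def IsB (g : ι → ℤ) (e : ℤ) : Prop :=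
  g S.b = e ∧ g S.c = -e ∧ ∃ q, q ∉ S.L ∧ g q * g q = 1 ∧ ∀ x, x ∉ [S.b, S.c, q] → g x = 0

/-- Type N: a point of each of the last two columns and a point `q` outside the nine. -/
def IsN (g : ι → ℤ) (e : ℤ) : Prop :=
  ∃ i j q, i ∈ [S.u, S.w] ∧ j ∈ [S.u', S.w'] ∧ q ∉ S.L ∧ g i = e ∧ g j = e ∧ g q * g q = 1 ∧
    ∀ x, x ∉ [i, j, q] → g x = 0

theorem cls_small (a b u v : ℤ)
    (hn : 2 * (a * a) + b * b + (a + b) * (a + b) + u * u + (1 - a - b - u) * (1 - a - b - u)
      + v * v + (1 - a - b - v) * (1 - a - b - v) ≤ 3) :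
    (a = 1 ∧ b = 0 ∧ u = 0 ∧ v = 0) ∨ (a = 0 ∧ b = 1 ∧ u = 0 ∧ v = 0) ∨
      (a = 0 ∧ b = 0 ∧ (u = 0 ∨ u = 1) ∧ (v = 0 ∨ v = 1)) := by
  have ha : -1 ≤ a ∧ a ≤ 1 := ⟨by nlinarith, by nlinarith⟩
  have hb : -1 ≤ b ∧ b ≤ 1 := ⟨by nlinarith, by nlinarith⟩
  have hu : -1 ≤ u ∧ u ≤ 1 := ⟨by nlinarith, by nlinarith⟩
  have hv : -1 ≤ v ∧ v ≤ 1 := ⟨by nlinarith, by nlinarith⟩
  obtain ⟨a1, a2⟩ := ha
  obtain ⟨b1, b2⟩ := hb
  obtain ⟨u1, u2⟩ := hu
  obtain ⟨v1, v2⟩ := hv
  interval_cases a <;> interval_cases b <;> interval_cases u <;> interval_cases v <;> omega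

variable {m : M} {e : ℤ} {R : ℚ} {g : ι → ℤ}

theorem classify (G : GV V m e R g) (he : e * e = 1) (hp : ∑ x, p x * g x = 0) (ho : g V.o = 0) :
    S.IsA g e ∨ S.IsB g e ∨ S.IsN g e := by
  have nd := S.nd
  have r0 : g S.a + g S.b + g S.c = 0 := by
    have := G.X0
    rw [Finset.sum_congr rfl fun x _ => mul_comm (g x) (V.X 0 x), S.X0_sum, ho] at this
    linarith
  have r1 : g S.a + g S.b + g S.u + g S.w = e := by
    rw [← G.X1, Finset.sum_congr rfl fun x _ => mul_comm (g x) (V.X 1 x), S.X1_sum]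
  have r2 : g S.a + g S.b + g S.u' + g S.w' = e := by
    rw [← G.X2, Finset.sum_congr rfl fun x _ => mul_comm (g x) (V.X 2 x), S.X2_sum]
  have rη : g S.η = g S.a := by
    rw [S.p_sum, ho] at hp; linarith
  have hn := lsum_self_le (show S.L.Nodup from nd) g
  rw [G.norm] at hn
  simp [lsum, L, ho, rη] at hn
  have k := cls_small (e * g S.a) (e * g S.b) (e * g S.u) (e * g S.u') (by
    have q1 : ∀ v, e * v * (e * v) = v * v := fun v => by linear_combination v * v * he
    have q2 : ∀ v, (1 - e * v) * (1 - e * v) = (e - v) * (e - v) := fun v => by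
      linear_combination (v * v - 1) * he
    rw [q1, q1, q1, q1, show e * g S.a + e * g S.b = e * (g S.a + g S.b) by ring, q1,
      show 1 - e * g S.a - e * g S.b - e * g S.u = 1 - e * (g S.a + g S.b + g S.u) by ring,
      show 1 - e * g S.a - e * g S.b - e * g S.u' = 1 - e * (g S.a + g S.b + g S.u') by ring, q2, q2,
      show e - (g S.a + g S.b + g S.u) = g S.w by linarith,
      show e - (g S.a + g S.b + g S.u') = g S.w' by linarith,
      show (g S.a + g S.b) = -g S.c by linarith, neg_mul_neg]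
    linarith)
  have back : ∀ {v k : ℤ}, e * v = k → v = e * k := fun {v k} hk => by
    linear_combination e * hk - v * he
  rcases k with ⟨ka, kb, ku, kv⟩ | ⟨ka, kb, ku, kv⟩ | ⟨ka, kb, ku, kv⟩
  · have ga := back ka; have gb := back kb; rw [mul_one] at ga; rw [mul_zero] at gb
    refine Or.inl ⟨ga, by linarith, by rw [rη, ga], ?_⟩
    intro x hx
    have nd3 : [S.a, S.c, S.η].Nodup := by simp at nd ⊢; tauto
    refine eq_zero_of_lsum_eq nd3 g ?_ hx
    rw [G.norm]; simp [lsum, ga, rη, show g S.c = -e by linarith, he]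
  · have ga := back ka; have gb := back kb; rw [mul_zero] at ga; rw [mul_one] at gb
    have gc : g S.c = -e := by linarith
    have gu := back ku; have gv := back kv; rw [mul_zero] at gu gv
    obtain ⟨q, hq, hq1, hq2⟩ := exists_one (show S.L.Nodup from S.nd) g (by
      rw [G.norm]
      simp [lsum, L, ho, ga, rη, gb, gc, gu, gv, he, show g S.w = 0 by linarith, show g S.w' = 0 by linarith])
    refine Or.inr (Or.inl ⟨gb, gc, q, hq, hq1, fun x hx => ?_⟩)
    simp only [List.mem_cons, List.not_mem_nil, or_false, not_or] at hx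
    by_cases hxL : x ∈ S.L
    · simp only [L, List.mem_cons, List.not_mem_nil, or_false] at hxL
      rcases hxL with h' | h' | h' | h' | h' | h' | h' | h' | h' <;> subst h'
      exacts [ho, ga, absurd rfl hx.1, absurd rfl hx.2.1, rη.trans ga, gu, by linarith, gv, by linarith]
    · exact hq2 x hxL hx.2.2
  · have ga := back ka; have gb := back kb; rw [mul_zero] at ga gb
    have gc : g S.c = 0 := by linarith
    have hu : (g S.u = e ∧ g S.w = 0) ∨ (g S.u = 0 ∧ g S.w = e) := by
      rcases ku with ku | ku <;> have gu := back ku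
      · rw [mul_zero] at gu; exact Or.inr ⟨gu, by linarith⟩
      · rw [mul_one] at gu; exact Or.inl ⟨gu, by linarith⟩
    have hv : (g S.u' = e ∧ g S.w' = 0) ∨ (g S.u' = 0 ∧ g S.w' = e) := by
      rcases kv with kv | kv <;> have gv := back kv
      · rw [mul_zero] at gv; exact Or.inr ⟨gv, by linarith⟩
      · rw [mul_one] at gv; exact Or.inl ⟨gv, by linarith⟩
    obtain ⟨q, hq, hq1, hq2⟩ := exists_one (show S.L.Nodup from S.nd) g (by
      rw [G.norm]
      rcases hu with ⟨gu, gw⟩ | ⟨gu, gw⟩ <;> rcases hv with ⟨gv, gv'⟩ | ⟨gv, gv'⟩ <;>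
        simp [lsum, L, ho, ga, rη, gb, gc, gu, gw, gv, gv', he])
    refine Or.inr (Or.inr ?_)
    have fin : ∀ i j, i ∈ [S.u, S.w] → j ∈ [S.u', S.w'] → g i = e → g j = e →
        (∀ x ∈ S.L, x ≠ i → x ≠ j → g x = 0) → S.IsN g e := by
      intro i j hi hj gi gj hrest
      refine ⟨i, j, q, hi, hj, hq, gi, gj, hq1, fun x hx => ?_⟩
      simp only [List.mem_cons, List.not_mem_nil, or_false, not_or] at hx
      by_cases hxL : x ∈ S.L
      · exact hrest x hxL hx.1 hx.2.1
      · exact hq2 x hxL hx.2.2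
    rcases hu with ⟨gu, gw⟩ | ⟨gu, gw⟩ <;> rcases hv with ⟨gv, gv'⟩ | ⟨gv, gv'⟩
    · refine fin S.u S.u' (by simp) (by simp) gu gv fun x hx n1 n2 => ?_
      simp only [L, List.mem_cons, List.not_mem_nil, or_false] at hx
      rcases hx with h' | h' | h' | h' | h' | h' | h' | h' | h' <;> subst h'
      exacts [ho, ga, gb, gc, rη.trans ga, absurd rfl n1, gw, absurd rfl n2, gv']
    · refine fin S.u S.w' (by simp) (by simp) gu gv' fun x hx n1 n2 => ?_
      simp only [L, List.mem_cons, List.not_mem_nil, or_false] at hx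
      rcases hx with h' | h' | h' | h' | h' | h' | h' | h' | h' <;> subst h'
      exacts [ho, ga, gb, gc, rη.trans ga, absurd rfl n1, gw, gv, absurd rfl n2]
    · refine fin S.w S.u' (by simp) (by simp) gw gv fun x hx n1 n2 => ?_
      simp only [L, List.mem_cons, List.not_mem_nil, or_false] at hx
      rcases hx with h' | h' | h' | h' | h' | h' | h' | h' | h' <;> subst h'
      exacts [ho, ga, gb, gc, rη.trans ga, gu, absurd rfl n1, absurd rfl n2, gv']
    · refine fin S.w S.w' (by simp) (by simp) gw gv' fun x hx n1 n2 => ?_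
      simp only [L, List.mem_cons, List.not_mem_nil, or_false] at hx
      rcases hx with h' | h' | h' | h' | h' | h' | h' | h' | h' <;> subst h'
      exacts [ho, ga, gb, gc, rη.trans ga, gu, absurd rfl n1, gv, absurd rfl n2]

/-- An invariant function of type N has a vanishing counting equation. -/
theorem N_inv (G : GV V m e R g) (he : e * e = 1) (hN : S.IsN g e) (hs : g S.u' = g S.u ∧ g S.w' = g S.w) :
    R = 0 := by
  obtain ⟨i, j, q, hi, hj, hq, gi, gj, hq1, h0⟩ := hN
  have nd := S.nd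
  simp only [L, List.mem_cons, List.not_mem_nil, or_false, not_or] at hi hj hq
  simp only [List.nodup_cons, List.mem_cons, List.not_mem_nil, or_false, List.nodup_nil, and_true,
    not_or, not_false_eq_true] at nd
  have he0 : e ≠ 0 := fun h' => by rw [h'] at he; simp at he
  have hsj : V.s j = i := by
    rcases hi with rfl | rfl <;> rcases hj with rfl | rfl
    · exact S.su
    · exfalso; refine he0 ?_
      rw [← gj, hs.2, h0]; simp; grind
    · exfalso; refine he0 ?_
      rw [← gj, hs.1, h0]; simp; grind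
    · exact S.sw
  have ndt : [i, j, q].Nodup := by
    rcases hi with rfl | rfl <;> rcases hj with rfl | rfl <;> simp <;> grind
  obtain ⟨hd, -, hR⟩ := G.three ndt (by rw [gi, he]) (by rw [gj, he]) hq1 h0
  rw [gi, gj, ← hsj, V.s_d, V.s_z] at hR
  rw [gi, gj, ← hsj, V.s_d] at hd
  have hne : ((e * V.d j : ℤ) : ℚ) * (e * V.d j : ℤ) * (e * V.d j + e * V.d j : ℤ) ≠ 0 := by
    have h1 : e * V.d j ≠ 0 := mul_ne_zero he0 (V.d_ne j)
    refine mul_ne_zero (mul_ne_zero ?_ ?_) ?_ <;> refine Int.cast_ne_zero.2 ?_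
    exacts [h1, h1, by omega]
  rw [sub_self, Int.cast_zero] at hR
  exact (mul_eq_zero.1 (hR.trans (zero_pow (by norm_num)))).resolve_right hne

theorem IsB.cases {S : ShP V p} (hg : S.IsB g e) : ∃ q, q ∉ S.L ∧ g q * g q = 1 ∧ g S.a = 0 ∧ g S.η = 0 ∧
    g S.b = e ∧ g S.c = -e ∧ ∀ x, x ∉ [S.b, S.c, q] → g x = 0 := by
  obtain ⟨gb, gc, q, hq, hq1, h0⟩ := hg
  have nd := S.nd
  have hq' := hq
  simp [L] at hq'
  simp at nd
  exact ⟨q, hq, hq1, h0 _ (by simp; grind), h0 _ (by simp; grind), gb, gc, h0⟩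

theorem sum_A {f : ι → ℤ} (hg : S.IsA g e) : ∑ x, g x * f x = e * (f S.a - f S.c + f S.η) := by
  obtain ⟨ga, gc, gη, h0⟩ := hg
  have nd := S.nd
  have e0 := sum_eq_lsum (L := [S.a, S.c, S.η]) (by simp at nd ⊢; tauto) g f h0
  simp only [Int.cast_id] at e0
  rw [e0]
  simp [lsum, ga, gc, gη]
  ring

include S in
/-- Two invariant functions with the same product `e` are not orthogonal. -/
theorem orth_false (G : GV V m e R g) {g' : ι → ℤ} {R' : ℚ} (G' : GV V m e R' g') (he : e * e = 1)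
    (hp : ∑ x, p x * g x = 0) (hp' : ∑ x, p x * g' x = 0) (ho : g V.o = 0) (ho' : g' V.o = 0)
    (hs : ∀ x, g (V.s x) = g x) (hs' : ∀ x, g' (V.s x) = g' x) (hR : R ≠ 0) (hR' : R' ≠ 0)
    (horth : ∑ x, g x * g' x = 0) : False := by
  have c1 : S.IsA g e ∨ S.IsB g e := by
    rcases S.classify G he hp ho with h1 | h1 | h1
    exacts [Or.inl h1, Or.inr h1,
      absurd (S.N_inv G he h1 ⟨by rw [← S.su, hs], by rw [← S.sw, hs]⟩) hR]
  have c2 : S.IsA g' e ∨ S.IsB g' e := by
    rcases S.classify G' he hp' ho' with h1 | h1 | h1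
    exacts [Or.inl h1, Or.inr h1,
      absurd (S.N_inv G' he h1 ⟨by rw [← S.su, hs'], by rw [← S.sw, hs']⟩) hR']
  have AB : ∀ f f' : ι → ℤ, S.IsA f e → S.IsB f' e → ∑ x, f x * f' x = 1 := by
    intro f f' hf hf'
    obtain ⟨q, -, -, a0, η0, -, c0, -⟩ := hf'.cases
    rw [S.sum_A hf, a0, η0, c0]
    linear_combination he
  rcases c1 with h1 | h1 <;> rcases c2 with h2 | h2
  · rw [S.sum_A h1, h2.1, h2.2.1, h2.2.2.1] at horth
    have := he; nlinarith
  · rw [AB g g' h1 h2] at horth; norm_num at horth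
  · rw [Finset.sum_congr rfl fun x _ => mul_comm (g x) (g' x), AB g' g h2 h1] at horth; norm_num at horth
  · obtain ⟨q, hq, hq1, -, -, gb, gc, h0⟩ := h1.cases
    obtain ⟨q', -, hq1', -, -, gb', gc', h0'⟩ := h2.cases
    have nd := S.nd
    have hq' := hq
    simp [L] at hq'
    have e0 := sum_eq_lsum (L := [S.b, S.c, q]) (by simp at nd ⊢; grind) g g' h0
    simp only [Int.cast_id] at e0
    rw [horth] at e0
    simp [lsum, gb, gb', gc, gc', he] at e0
    by_cases hqq : q = q'
    · rw [← hqq] at hq1'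
      rcases mul_self_eq_one_iff.1 hq1 with f1 | f1 <;> rcases mul_self_eq_one_iff.1 hq1' with f2 | f2 <;>
        simp [f1, f2] at e0
    · rw [h0' q (by simp [hqq, hq'.2.2.1, hq'.2.2.2.1])] at e0
      simp at e0

end ShP

end CfsgLib.JT
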