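import Cfsg.Agent.JankoThompson.TorusVec

/-!
# The functions of a fixed element of the torus

`R` is a complement of the torus in the centraliser of a fixed element, centralised by the inverting
involution `x`; a character `φ` of `R` and a linear character `μ` of the torus give the function
`(φ (1 - μ))^G`.
-/

set_option autoImplicit false
set_option linter.style.haveILetI false
set_option linter.unusedSectionVars false

namespace CfsgLib.JT

open CfsgLib.Char Finset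
open scoped ComplexConjugate Classical

universe u v w

variable {G : Type u} [Group G] {A : Type v} [Group A]

/-- The data of a fixed element. -/
structure Comp (R : Subgroup G) (j : A →* G) (μ : A →* ℂˣ) (x t : G) : Prop where
  inj : Function.Injective j
  oddA : Odd (Nat.card A)
  inter : ∀ r ∈ R, ∀ b, j b = r → b = 1
  norm : ∀ r ∈ R, ∀ b, ∃ b', r * j b * r⁻¹ = j b' ∧ μ b' = μ b
  hμ : μ ≠ 1
  hx : x * x = 1
  xR : ∀ r ∈ R, Commute r x
  xA : ∀ b, x * j b * x⁻¹ = j b⁻¹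
  xH : ∀ r ∈ R, ∀ b, x ≠ r * j b
  tR : t ∈ R
  tA : ∀ b, Commute t (j b)
  odd_or : ∀ r ∈ R, r * r ≠ 1 → Odd (orderOf r)
  conj_t : ∀ r ∈ R, r * r = 1 → r ≠ 1 → ∃ s ∈ R, s * r * s⁻¹ = t
  card_invol : 4 * Nat.card {r : R // r * r = 1 ∧ r ≠ 1} = Nat.card R
  fusion : ∀ g : G, ∀ r ∈ R, ∀ r' ∈ R, ∀ b b', g⁻¹ * (r * j b) * g = r' * j b' → μ b ≠ 1 →
    ∃ s ∈ R, ∃ c, g = s * j c ∨ g = x * (s * j c)

variable {R : Subgroup G} {j : A →* G} {μ : A →* ℂˣ} {x t : G} (C : Comp R j μ x t)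

namespace Comp

include C

theorem split {r r' : G} (hr : r ∈ R) (hr' : r' ∈ R) {b b' : A} (e : r * j b = r' * j b') :
    r = r' ∧ b = b' := by
  have h1 : r'⁻¹ * r = j (b' * b⁻¹) := by
    rw [map_mul, map_inv]
    calc r'⁻¹ * r = r'⁻¹ * (r * j b) * (j b)⁻¹ := by group
      _ = _ := by rw [e]; group
  have h2 := C.inter _ (mul_mem (inv_mem hr') hr) _ h1.symm
  obtain rfl : b' = b := mul_inv_eq_one.1 h2
  exact ⟨mul_right_cancel e, rfl⟩

theorem x_inv : x⁻¹ = x := inv_eq_of_mul_eq_one_right C.hx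

theorem conj_x {r : G} (hr : r ∈ R) (b : A) : x * (r * j b) * x⁻¹ = r * j b⁻¹ := by
  rw [← C.xA b]
  calc x * (r * j b) * x⁻¹ = (x * r) * j b * x⁻¹ := by group
    _ = r * (x * j b * x⁻¹) := by rw [← (C.xR r hr).eq]; group

/-- The product of the complement and the torus. -/
def Hs : Subgroup G where
  carrier := {g | ∃ r ∈ R, ∃ b, g = r * j b}
  one_mem' := ⟨1, one_mem _, 1, by simp⟩
  mul_mem' := by
    rintro _ _ ⟨r, hr, b, rfl⟩ ⟨r', hr', b', rfl⟩
    obtain ⟨b₁, hb₁, -⟩ := C.norm r'⁻¹ (inv_mem hr') b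
    rw [inv_inv] at hb₁
    refine ⟨r * r', mul_mem hr hr', b₁ * b', ?_⟩
    rw [map_mul, ← hb₁]; group
  inv_mem' := by
    rintro _ ⟨r, hr, b, rfl⟩
    obtain ⟨b₁, hb₁, -⟩ := C.norm r hr b⁻¹
    refine ⟨r⁻¹, inv_mem hr, b₁, ?_⟩
    rw [← hb₁, map_inv]; group

theorem pr_bij : Function.Bijective fun p : R × A =>
    (⟨(p.1 : G) * j p.2, p.1, p.1.2, p.2, rfl⟩ : C.Hs) := by
  constructor
  · intro p q e
    obtain ⟨h1, h2⟩ := C.split p.1.2 q.1.2 (congrArg Subtype.val e)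
    exact Prod.ext (Subtype.ext h1) h2
  · rintro ⟨g, r, hr, b, rfl⟩
    exact ⟨(⟨r, hr⟩, b), rfl⟩

/-- The coordinates. -/
noncomputable def eqv : R × A ≃ C.Hs := Equiv.ofBijective _ C.pr_bij

theorem eqv_coe (p : R × A) : (C.eqv p : G) = (p.1 : G) * j p.2 := rfl

theorem symm_eq {h : C.Hs} {r : G} (hr : r ∈ R) {b : A} (e : (h : G) = r * j b) :
    C.eqv.symm h = (⟨r, hr⟩, b) := by
  rw [Equiv.symm_apply_eq]
  exact Subtype.ext e

theorem symm_mul (h h' : C.Hs) : (C.eqv.symm (h * h')).1 = (C.eqv.symm h).1 * (C.eqv.symm h').1 ∧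
    μ (C.eqv.symm (h * h')).2 = μ (C.eqv.symm h).2 * μ (C.eqv.symm h').2 := by
  obtain ⟨r, b, rfl⟩ : ∃ r b, C.eqv (r, b) = h := ⟨_, _, C.eqv.apply_symm_apply h⟩
  obtain ⟨r', b', rfl⟩ : ∃ r b, C.eqv (r, b) = h' := ⟨_, _, C.eqv.apply_symm_apply h'⟩
  obtain ⟨b₁, hb₁, hμ⟩ := C.norm (r' : G)⁻¹ (inv_mem r'.2) b
  rw [inv_inv] at hb₁
  have e : C.eqv.symm (C.eqv (r, b) * C.eqv (r', b')) = (r * r', b₁ * b') :=
    C.symm_eq (r := (r : G) * r') (mul_mem r.2 r'.2) (by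
      rw [Subgroup.coe_mul, C.eqv_coe, C.eqv_coe, map_mul, ← hb₁]; group)
  rw [e]
  simp only [Equiv.symm_apply_apply, map_mul, hμ]
  exact ⟨trivial, trivial⟩

/-- The projection to the complement. -/
noncomputable def pi : C.Hs →* R := MonoidHom.mk' (fun h => (C.eqv.symm h).1) fun h h' => (C.symm_mul h h').1

/-- The extension of the linear character. -/
noncomputable def eta : C.Hs →* ℂˣ :=
  MonoidHom.mk' (fun h => μ (C.eqv.symm h).2) fun h h' => (C.symm_mul h h').2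

theorem pi_eqv (p : R × A) : C.pi (C.eqv p) = p.1 := by
  show (C.eqv.symm (C.eqv p)).1 = p.1
  rw [Equiv.symm_apply_apply]

theorem eta_eqv (p : R × A) : C.eta (C.eqv p) = μ p.2 := by
  show μ (C.eqv.symm (C.eqv p)).2 = μ p.2
  rw [Equiv.symm_apply_apply]

/-- The function `φ (1 - μ)`. -/
noncomputable def fn (φ : R → ℂ) : C.Hs → ℂ := fun h => φ (C.pi h) * (1 - (C.eta h : ℂ))

theorem fn_eqv (φ : R → ℂ) (p : R × A) : C.fn φ (C.eqv p) = φ p.1 * (1 - (μ p.2 : ℂ)) := by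
  rw [Comp.fn, C.pi_eqv, C.eta_eqv]

theorem eq_one_of_sq {b : A} (hb : μ b * μ b = 1) : μ b = 1 := by
  obtain ⟨m, hm⟩ := C.oddA
  have h3 : μ b ^ (2 * m + 1) = 1 := by rw [← map_pow, ← hm, pow_card_eq_one', map_one]
  rwa [pow_succ, pow_mul, pow_two, hb, one_pow, one_mul] at h3

variable [Fintype G] [Fintype A]

theorem fn_gen {φ : R → ℂ} (hφ : Cfsg.IsGeneralizedCharacter R φ) :
    Cfsg.IsGeneralizedCharacter C.Hs (C.fn φ) := by
  have e : C.fn φ = (fun h => φ (C.pi h)) * ((fun _ => 1) - fun h : C.Hs => (C.eta h : ℂ)) := rfl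
  rw [e]
  exact IsGeneralized.mul (IsGeneralized.comp hφ C.pi)
    (IsGeneralized.sub isGeneralized_one (IsCharacter.isGeneralized (isCharacter_ofHom _)))

/-- The induced function. -/
noncomputable def F (φ : R → ℂ) : G → ℂ := indH C.Hs.subtype C.Hs.subtype_injective (C.fn φ)

theorem F_gen {φ : R → ℂ} (hφ : Cfsg.IsGeneralizedCharacter R φ) :
    Cfsg.IsGeneralizedCharacter G (C.F φ) := isGeneralized_indH _ _ (C.fn_gen hφ)

theorem F_one (φ : R → ℂ) : C.F φ 1 = 0 := indH_one _ _ _ (by simp [Comp.fn])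

theorem card_Hs : (Nat.card C.Hs : ℂ) = (Nat.card R : ℂ) * (Fintype.card A : ℂ) := by
  rw [← Nat.card_congr C.eqv, Nat.card_prod, Nat.cast_mul, Nat.card_eq_fintype_card (α := A)]

theorem inner_F (φ : R → ℂ) {χ : G → ℂ} (hχ : Cfsg.IsClassFunction G χ) :
    Cfsg.classInner (C.F φ) χ = ((Nat.card R : ℂ) * (Fintype.card A : ℂ))⁻¹ *
      ∑ r : R, φ r * ∑ b : A, (1 - (μ b : ℂ)) * conj (χ ((r : G) * j b)) := by
  rw [Comp.F, classInner_indH _ _ _ hχ, classInner_def, C.card_Hs]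
  congr 1
  rw [← C.eqv.sum_comp, Fintype.sum_prod_type]
  refine Finset.sum_congr rfl fun r _ => ?_
  rw [Finset.mul_sum]
  refine Finset.sum_congr rfl fun b _ => ?_
  rw [C.fn_eqv, mul_assoc]
  rfl

theorem inner_F_one (φ : R → ℂ) :
    Cfsg.classInner (C.F φ) (fun _ => 1) = Cfsg.classInner φ (fun _ => 1) := by
  have hA : (Fintype.card A : ℂ) ≠ 0 := Nat.cast_ne_zero.2 Fintype.card_ne_zero
  rw [C.inner_F φ (IsIrrCharacter.isClassFunction isIrrCharacter_one), classInner_def]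
  simp only [map_one, mul_one, Finset.sum_sub_distrib, SL2C.sum_char, if_neg C.hμ, Finset.sum_const,
    Finset.card_univ, nsmul_eq_mul, sub_zero, ← Finset.sum_mul]
  field_simp

theorem inner_F_F {φ φ' : R → ℂ} (hφ' : Cfsg.IsGeneralizedCharacter R φ') :
    Cfsg.classInner (C.F φ) (C.F φ') = 3 * Cfsg.classInner φ φ' := by
  have hA : (Fintype.card A : ℂ) ≠ 0 := Nat.cast_ne_zero.2 Fintype.card_ne_zero
  have hodd : Odd (Fintype.card A) := by rw [← Nat.card_eq_fintype_card]; exact C.oddA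
  let act : Bool → C.Hs → C.Hs := fun i h =>
    if i then C.eqv ((C.eqv.symm h).1, (C.eqv.symm h).2⁻¹) else h
  have hact : ∀ i h, C.Hs.subtype (act i h) =
      (if i then x else 1)⁻¹ * C.Hs.subtype h * (if i then x else 1) := by
    intro i h
    obtain ⟨p, rfl⟩ := C.eqv.surjective h
    cases i
    · simp [act]
    · simp only [act, if_true, Equiv.symm_apply_apply, Subgroup.subtype_apply, C.eqv_coe]
      nth_rw 2 [← C.x_inv]
      rw [C.x_inv, ← C.conj_x p.1.2, C.x_inv]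
  have hxH : x ∉ C.Hs := fun ⟨r, hr, b, e⟩ => C.xH r hr b e
  rw [Comp.F, Comp.F, classInner_indH_indH _ C.Hs.subtype_injective (C.fn φ) (C.fn φ')
    (IsGeneralized.isClassFunction (C.fn_gen hφ')) {h | C.eta h ≠ 1}
    (fun h hh => by simp only [Set.mem_ofPred_eq, not_not] at hh; simp [Comp.fn, hh])
    (fun h hh => by simp only [Set.mem_ofPred_eq, not_not] at hh; simp [Comp.fn, hh])
    (fun i : Bool => if i then x else 1) act hact ?_ ?_, Fintype.sum_bool]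
  · have key : ∀ η : A →* ℂˣ, η ≠ 1 → ((Nat.card R : ℂ) * (Fintype.card A : ℂ))⁻¹ *
        ∑ r : R, ∑ b : A, φ r * (1 - (μ b : ℂ)) * conj (φ' r * (1 - (η b : ℂ))) =
          (if μ = η then 2 else 1) * Cfsg.classInner φ φ' := by
      intro η hη
      rw [Finset.sum_congr rfl (g := fun r : R => φ r * conj (φ' r) *
        ∑ b : A, (1 - (μ b : ℂ)) * conj (1 - (η b : ℂ))) (fun r _ => ?_), ← Finset.sum_mul,
        sum_one_sub_mul C.hμ hη, classInner_def]
      · field_simp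
      · rw [Finset.mul_sum]
        exact Finset.sum_congr rfl fun b _ => by rw [map_mul]; ring
    simp only [classInner_def, C.card_Hs]
    rw [← C.eqv.sum_comp, ← C.eqv.sum_comp, Fintype.sum_prod_type, Fintype.sum_prod_type]
    simp only [act, if_true, if_false, Bool.false_eq_true, Equiv.symm_apply_apply, C.fn_eqv]
    have k1 := key μ⁻¹ (inv_ne_one' C.hμ)
    simp only [MonoidHom.inv_apply] at k1
    simp only [map_inv μ]
    rw [k1, key μ C.hμ, if_pos rfl, if_neg (inv_ne_self hodd C.hμ).symm, classInner_def]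
    ring
  · intro i i' hi
    have h1 : (if i then x else 1)⁻¹ * (if i' then x else 1) ∈ C.Hs := by
      obtain ⟨y, hy⟩ := hi
      exact hy ▸ y.2
    cases i <;> cases i' <;> first | rfl | (exfalso; revert h1; simp [C.x_inv, hxH])
  · intro g d hd d' _ e
    obtain ⟨p, rfl⟩ := C.eqv.surjective d
    obtain ⟨q, rfl⟩ := C.eqv.surjective d'
    simp only [Set.mem_ofPred_eq, C.eta_eqv] at hd
    simp only [Subgroup.subtype_apply, C.eqv_coe] at e
    obtain ⟨s, hs, c, rfl | rfl⟩ := C.fusion g p.1 p.1.2 q.1 q.1.2 p.2 q.2 e hd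
    · exact ⟨false, ⟨_, s, hs, c, rfl⟩, by simp⟩
    · exact ⟨true, ⟨_, s, hs, c, rfl⟩, by simp⟩

theorem phi_invol {φ : R → ℂ} (hφ : Cfsg.IsClassFunction R φ) {r : R} (h2 : r * r = 1) (h1 : r ≠ 1) :
    φ r = φ ⟨t, C.tR⟩ := by
  obtain ⟨s, hs, e⟩ := C.conj_t r r.2 (congrArg Subtype.val h2) fun e => h1 (Subtype.ext e)
  rw [← hφ r ⟨s, hs⟩]
  exact congrArg φ (Subtype.ext e)

theorem sum_shift {χ : G → ℂ} (hχ : Cfsg.IsClassFunction G χ) {r : G} (hr : r ∈ R) (h2 : r * r = 1)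
    (h1 : r ≠ 1) : ∑ b : A, (1 - (μ b : ℂ)) * conj (χ (r * j b)) =
      ∑ b : A, (1 - (μ b : ℂ)) * conj (χ (t * j b)) := by
  obtain ⟨s, hs, e⟩ := C.conj_t r hr h2 h1
  choose f hf hfμ using C.norm s hs
  have hinj : Function.Injective f := fun a b hab => C.inj (by
    have h3 := (hf a).trans ((congrArg j hab).trans (hf b).symm)
    exact mul_left_cancel (mul_right_cancel h3))
  refine Fintype.sum_bijective f (Finite.injective_iff_bijective.1 hinj) _ _ fun b => ?_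
  rw [hfμ b, ← hf b, ← e, show s * r * s⁻¹ * (s * j b * s⁻¹) = s * (r * j b) * s⁻¹ by group, hχ]

theorem odd_orderOf {r : G} (hr : r ∈ R) (ho : r * r ≠ 1 ∨ r = 1) (b : A) :
    Odd (orderOf (r * j b)) := by
  have hor : Odd (orderOf r) := by
    rcases ho with h | rfl
    · exact C.odd_or r hr h
    · simp
  let h : C.Hs := C.eqv (⟨r, hr⟩, b)
  obtain ⟨⟨s, c⟩, hsc⟩ := C.eqv.surjective (h ^ orderOf r)
  have hs : s = 1 := by
    have h1 := congrArg C.pi hsc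
    rw [map_pow, C.pi_eqv, C.pi_eqv] at h1
    simp only at h1
    rw [h1]
    exact Subtype.ext (pow_orderOf_eq_one r)
  subst hs
  have hjc : (r * j b) ^ orderOf r = j c := by
    have := congrArg Subtype.val hsc
    rw [C.eqv_coe, Subgroup.coe_one, one_mul] at this
    rw [this]; rfl
  refine Odd.of_dvd_nat (hor.mul C.oddA) (orderOf_dvd_of_pow_eq_one ?_)
  rw [pow_mul, hjc, ← map_pow, pow_card_eq_one', map_one]

variable {L : Type w} [Group L] [Fintype L] (K : Ctx G L)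

theorem inner_F_sect (ht : K.t = t) {φ : R → ℂ} (hφ : Cfsg.IsClassFunction R φ) {e : A → L}
    (he : ∀ b, K.emb (e b) = j b) {Φ : L → ℂ} (hc : Cfsg.IsClassFunction L Φ)
    (h0 : ∀ y, Even (orderOf y) → Φ y = 0) :
    Cfsg.classInner (C.F φ) (K.sect Φ) = φ ⟨t, C.tR⟩ / (2 * (Fintype.card A : ℂ)) *
      ∑ b : A, (1 - (μ b : ℂ)) * conj (Φ (e b)) := by
  have hcf : Cfsg.IsClassFunction G (K.sect Φ) := isClassFunction_indH _ _ _
  rw [C.inner_F φ hcf]
  set S : ℂ := ∑ b : A, (1 - (μ b : ℂ)) * conj (Φ (e b)) with hS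
  have hterm : ∀ r : R, φ r * ∑ b : A, (1 - (μ b : ℂ)) * conj (K.sect Φ ((r : G) * j b)) =
      if r * r = 1 ∧ r ≠ 1 then φ ⟨t, C.tR⟩ * (2 * S) else 0 := by
    intro r
    split_ifs with hr
    · rw [C.phi_invol hφ hr.1 hr.2,
        C.sum_shift hcf r.2 (congrArg Subtype.val hr.1) (fun e => hr.2 (Subtype.ext e)), hS]
      congr 1
      rw [Finset.mul_sum]
      refine Finset.sum_congr rfl fun b _ => ?_
      have ho : Odd (orderOf (e b)) := by
        rw [← orderOf_injective K.emb K.emb_inj, he, orderOf_injective j C.inj]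
        exact C.oddA.of_dvd_nat (orderOf_dvd_natCard b)
      rw [← ht, ← he, K.sect_apply hc h0 ho, map_mul, Complex.conj_ofNat]
      ring
    · rw [Finset.sum_eq_zero fun b _ => ?_, mul_zero]
      rw [K.sect_eq_zero_of_odd h0 (C.odd_orderOf r.2 ?_ b), map_zero, mul_zero]
      by_cases h1 : r = 1
      · exact Or.inr (by rw [h1]; rfl)
      · exact Or.inl fun e => hr ⟨Subtype.ext e, h1⟩
  rw [Finset.sum_congr rfl fun r _ => hterm r, ← Finset.sum_filter, Finset.sum_const, nsmul_eq_mul,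
    ← Fintype.card_subtype, ← Nat.card_eq_fintype_card (α := {r : R // r * r = 1 ∧ r ≠ 1})]
  have hJ : 4 * (Nat.card {r : R // r * r = 1 ∧ r ≠ 1} : ℂ) = Nat.card R := by exact_mod_cast C.card_invol
  have hA : (Fintype.card A : ℂ) ≠ 0 := Nat.cast_ne_zero.2 Fintype.card_ne_zero
  have hR : (Nat.card R : ℂ) ≠ 0 := Nat.cast_ne_zero.2 Nat.card_pos.ne'
  field_simp
  linear_combination φ ⟨t, C.tR⟩ * S * hJ

theorem x_mul_sq {r : G} (hr : r ∈ R) (h2 : r * r = 1) (b : A) :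
    x * (r * j b) * (x * (r * j b)) = 1 ∧ Commute r (j b) := by
  have hc : Commute r (j b) := by
    by_cases h1 : r = 1
    · rw [h1]; exact Commute.one_left _
    · obtain ⟨s, hs, e⟩ := C.conj_t r hr h2 h1
      obtain ⟨b', hb', -⟩ := C.norm s hs b
      rw [← Commute.conj_iff s, e, hb']
      exact C.tA b'
  refine ⟨?_, hc⟩
  have h3 := C.conj_x hr b
  rw [C.x_inv] at h3
  calc x * (r * j b) * (x * (r * j b)) = (x * (r * j b) * x) * (r * j b) := by group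
    _ = r * (j b⁻¹ * r) * j b := by rw [h3]; group
    _ = 1 := by
      rw [map_inv, ← (hc.inv_right).eq, ← mul_assoc, h2, one_mul, inv_mul_cancel]

theorem pairs_mem (hK : ∀ g : G, IsConj t g ↔ orderOf g = 2) {r : R} {b : A} (hb : μ b ≠ 1) {a a' : G}
    (ha : orderOf a = 2) (ha' : orderOf a' = 2) (he : a * a' = (r : G) * j b) :
    ∃ r₁ r₂ : R, r₁ * r₁ = 1 ∧ r₂ * r₂ = 1 ∧ r₁ * r₂ = r ∧ ∃ c, a = x * ((r₁ : G) * j c) := by
  have ha2 : a * a = 1 := by rw [← sq, ← ha, pow_orderOf_eq_one]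
  have ha2' : a' * a' = 1 := by rw [← sq, ← ha', pow_orderOf_eq_one]
  let h : C.Hs := C.eqv (r, b)
  obtain ⟨q, hq⟩ := C.eqv.surjective h⁻¹
  have hinv : a⁻¹ * ((r : G) * j b) * a = (q.1 : G) * j q.2 := by
    rw [← C.eqv_coe q, hq, Subgroup.coe_inv, C.eqv_coe, ← he, mul_inv_rev]
    rw [inv_eq_of_mul_eq_one_right ha2, inv_eq_of_mul_eq_one_right ha2', ← mul_assoc, ha2, one_mul]
  obtain ⟨s, hs, c, hac | hac⟩ := C.fusion a r r.2 q.1 q.1.2 b q.2 hinv hb
  · exfalso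
    let i : C.Hs := C.eqv (⟨s, hs⟩, c)
    have hi : i⁻¹ * h * i = h⁻¹ := Subtype.ext (by
      rw [Subgroup.coe_mul, Subgroup.coe_mul, Subgroup.coe_inv, C.eqv_coe, C.eqv_coe, ← hac, hinv,
        ← C.eqv_coe, hq])
    have h1 := congrArg C.eta hi
    rw [map_mul, map_mul, map_inv, map_inv, mul_right_comm, inv_mul_cancel, one_mul, C.eta_eqv,
      eq_inv_iff_mul_eq_one] at h1
    exact hb (C.eq_one_of_sq h1)
  · have h2 : ∀ u : C.Hs, x * (u : G) * (x * (u : G)) = 1 → C.pi u * C.pi u = 1 := by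
      intro u hu
      obtain ⟨⟨r', c'⟩, rfl⟩ := C.eqv.surjective u
      rw [C.pi_eqv, C.eqv_coe] at *
      have h3 := C.conj_x r'.2 c'
      rw [C.x_inv] at h3
      have h4 : (C.eqv (r', c'⁻¹) * C.eqv (r', c') : C.Hs) = 1 := Subtype.ext (by
        rw [Subgroup.coe_mul, C.eqv_coe, C.eqv_coe, ← h3, Subgroup.coe_one, ← hu]; group)
      have h5 := congrArg C.pi h4
      rwa [map_mul, C.pi_eqv, C.pi_eqv, map_one] at h5
    refine ⟨⟨s, hs⟩, ⟨s, hs⟩⁻¹ * r, ?_, ?_, mul_inv_cancel_left _ _, c, hac⟩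
    · have := h2 (C.eqv (⟨s, hs⟩, c)) (by rw [C.eqv_coe, ← hac, ha2])
      rwa [C.pi_eqv] at this
    · have hs2 := h2 (C.eqv (⟨s, hs⟩, c)) (by rw [C.eqv_coe, ← hac, ha2])
      rw [C.pi_eqv] at hs2
      have hu : a' = x * ((C.eqv (⟨s, hs⟩, c) * h : C.Hs) : G) := by
        rw [Subgroup.coe_mul, C.eqv_coe, C.eqv_coe, ← he, ← mul_assoc, ← hac, ← mul_assoc, ha2, one_mul]
      have := h2 _ (by rw [← hu, ha2'])
      rwa [map_mul, C.pi_eqv, C.pi_eqv, show (⟨s, hs⟩ : R) = (⟨s, hs⟩ : R)⁻¹ from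
        (inv_eq_of_mul_eq_one_right hs2).symm] at this

theorem pairsN_eq (hK : ∀ g : G, IsConj t g ↔ orderOf g = 2) (r : R) {b : A} (hb : μ b ≠ 1) :
    Nat.card {p : G × G // IsConj t p.1 ∧ IsConj t p.2 ∧ p.1 * p.2 = (r : G) * j b} =
      Nat.card {p : R × R // p.1 * p.1 = 1 ∧ p.2 * p.2 = 1 ∧ p.1 * p.2 = r} * Nat.card A := by
  rw [← Nat.card_prod]
  refine (Nat.card_congr (Equiv.ofBijective (fun p : {p : R × R // p.1 * p.1 = 1 ∧ p.2 * p.2 = 1 ∧
      p.1 * p.2 = r} × A =>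
    (⟨(x * ((p.1.1.1 : G) * j p.2), x * ((p.1.1.2 : G) * j (p.2 * b))), ?_⟩ :
      {q : G × G // IsConj t q.1 ∧ IsConj t q.2 ∧ q.1 * q.2 = (r : G) * j b})) ⟨?_, ?_⟩)).symm
  · obtain ⟨⟨⟨r₁, r₂⟩, h1, h2, h12⟩, c⟩ := p
    have hord : ∀ (r' : R) (c : A), r' * r' = 1 → orderOf (x * ((r' : G) * j c)) = 2 := by
      intro r' c hr'
      refine orderOf_eq_prime (by rw [sq, (C.x_mul_sq r'.2 (congrArg Subtype.val hr') c).1]) fun e => ?_
      have hxH : x ∈ C.Hs := by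
        have h5 : ((r' : G) * j c)⁻¹ ∈ C.Hs := inv_mem (show (r' : G) * j c ∈ C.Hs from ⟨r', r'.2, c, rfl⟩)
        rwa [← eq_inv_of_mul_eq_one_left e] at h5
      obtain ⟨s, hs, d, hd⟩ := hxH
      exact C.xH s hs d hd
    refine ⟨(hK _).2 (hord r₁ c h1), (hK _).2 (hord r₂ _ h2), ?_⟩
    have hc := (C.x_mul_sq r₂.2 (congrArg Subtype.val h2) c⁻¹).2
    have h3 := C.conj_x r₁.2 c
    rw [C.x_inv] at h3
    show x * ((r₁ : G) * j c) * (x * ((r₂ : G) * j (c * b))) = (r : G) * j b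
    rw [← mul_assoc, h3, ← h12, Subgroup.coe_mul, map_mul, map_inv]
    rw [map_inv] at hc
    calc (r₁ : G) * (j c)⁻¹ * ((r₂ : G) * (j c * j b)) = r₁ * ((j c)⁻¹ * r₂) * (j c * j b) := by group
      _ = r₁ * r₂ * j b := by rw [← hc.eq]; group
  · rintro ⟨⟨⟨r₁, r₂⟩, h⟩, c⟩ ⟨⟨⟨r₁', r₂'⟩, h'⟩, c'⟩ e
    obtain ⟨e1, e2⟩ := Prod.ext_iff.1 (congrArg Subtype.val e)
    obtain ⟨h1, rfl⟩ := C.split r₁.2 r₁'.2 (mul_left_cancel e1)
    obtain rfl : r₁ = r₁' := Subtype.ext h1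
    obtain ⟨h2, -⟩ := C.split r₂.2 r₂'.2 (mul_left_cancel e2)
    obtain rfl : r₂ = r₂' := Subtype.ext h2
    rfl
  · rintro ⟨⟨a, a'⟩, ha, ha', he⟩
    obtain ⟨r₁, r₂, h1, h2, h12, c, rfl⟩ := C.pairs_mem hK hb ((hK _).1 ha) ((hK _).1 ha') he
    refine ⟨⟨⟨(r₁, r₂), h1, h2, h12⟩, c⟩, Subtype.ext (Prod.ext rfl ?_)⟩
    refine mul_left_cancel (a := x * ((r₁ : G) * j c)) ?_
    have hc := (C.x_mul_sq r₂.2 (congrArg Subtype.val h2) c⁻¹).2
    have h3 := C.conj_x r₁.2 c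
    rw [C.x_inv] at h3
    show x * ((r₁ : G) * j c) * (x * ((r₂ : G) * j (c * b))) = x * ((r₁ : G) * j c) * a'
    rw [he, ← mul_assoc, h3, ← h12, Subgroup.coe_mul, map_mul, map_inv]
    rw [map_inv] at hc
    calc (r₁ : G) * (j c)⁻¹ * ((r₂ : G) * (j c * j b)) = r₁ * ((j c)⁻¹ * r₂) * (j c * j b) := by group
      _ = r₁ * r₂ * j b := by rw [← hc.eq]; group

theorem inner_F_pairs (hK : ∀ g : G, IsConj t g ↔ orderOf g = 2) (φ : R → ℂ) :
    Cfsg.classInner (C.F φ) (pairsN t) = (Fintype.card A : ℂ) / (Nat.card R : ℂ) *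
      ∑ p ∈ Finset.univ.filter (fun p : R × R => p.1 * p.1 = 1 ∧ p.2 * p.2 = 1), φ (p.1 * p.2) := by
  rw [C.inner_F φ (isClassFunction_pairsN t)]
  set P : Finset (R × R) := Finset.univ.filter (fun p : R × R => p.1 * p.1 = 1 ∧ p.2 * p.2 = 1) with hP
  have hr : ∀ r : R, φ r * ∑ b : A, (1 - (μ b : ℂ)) * conj (pairsN t ((r : G) * j b)) =
      (Fintype.card A : ℂ) ^ 2 * ∑ p ∈ P.filter (fun p => p.1 * p.2 = r), φ (p.1 * p.2) := by
    intro r
    have hb : ∀ b : A, (1 - (μ b : ℂ)) * conj (pairsN t ((r : G) * j b)) =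
        (1 - (μ b : ℂ)) * ((P.filter (fun p => p.1 * p.2 = r)).card * Fintype.card A : ℕ) := by
      intro b
      by_cases hμ : μ b = 1
      · simp [hμ]
      · rw [pairsN, C.pairsN_eq hK r hμ, Complex.conj_natCast, Nat.card_eq_fintype_card (α := A),
          Nat.card_eq_fintype_card, Fintype.card_subtype, hP, Finset.filter_filter]
        simp only [and_assoc]
    rw [Finset.sum_congr rfl fun b _ => hb b, ← Finset.sum_mul, Finset.sum_sub_distrib, SL2C.sum_char,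
      if_neg C.hμ, Finset.sum_const, Finset.card_univ, nsmul_eq_mul,
      Finset.sum_congr rfl (g := fun _ => φ r) (fun p hp => by rw [(Finset.mem_filter.1 hp).2]),
      Finset.sum_const, nsmul_eq_mul]
    push_cast
    ring
  rw [Finset.sum_congr rfl fun r _ => hr r, ← Finset.mul_sum, Finset.sum_fiberwise]
  have hA : (Fintype.card A : ℂ) ≠ 0 := Nat.cast_ne_zero.2 Fintype.card_ne_zero
  field_simp

/-- The power map with the exponent `a`. -/
theorem mlt_F_pow {a : ℕ} (ha : a.Coprime (Nat.card G)) {φ ψ : R → ℂ}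
    (hφ : Cfsg.IsGeneralizedCharacter R φ) (hψ : Cfsg.IsGeneralizedCharacter R ψ)
    (hpow : ∀ r, φ (r ^ a) = ψ r) (hμa : ∀ b, μ b ^ a = μ b) {s : Equiv.Perm (Irr G)}
    (hs : ∀ c g, (s c : G → ℂ) g = (c : G → ℂ) (g ^ a)) (c : Irr G) :
    mlt (C.F ψ) (s c) = mlt (C.F φ) c := by
  have key : Cfsg.classInner (C.F ψ) (s c : G → ℂ) = Cfsg.classInner (C.F φ) (c : G → ℂ) := by
    rw [Comp.F, Comp.F, classInner_indH _ _ _ (isClassFunction_irr _),
      classInner_indH _ _ _ (isClassFunction_irr _), classInner_def, classInner_def]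
    congr 1
    have hH : a.Coprime (Nat.card C.Hs) := Nat.Coprime.coprime_dvd_right C.Hs.card_subgroup_dvd_card ha
    refine Fintype.sum_equiv (powCoprime (G := C.Hs) hH.symm) _ _ fun h => ?_
    show C.fn ψ h * conj ((s c : G → ℂ) (C.Hs.subtype h)) =
      C.fn φ (h ^ a) * conj ((c : G → ℂ) (C.Hs.subtype (h ^ a)))
    obtain ⟨p, rfl⟩ := C.eqv.surjective h
    rw [hs, map_pow, C.fn_eqv, Comp.fn, map_pow, map_pow, C.pi_eqv, C.eta_eqv, hpow, hμa]
  rw [mlt_spec (C.F_gen hψ) (s c), mlt_spec (C.F_gen hφ) c] at key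
  exact_mod_cast key

end Comp

end CfsgLib.JT
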