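import Cfsg.Agent.JankoThompson.FixedModels

/-!
# The three virtual characters of `A₄`
-/

set_option autoImplicit false
set_option linter.style.haveILetI false

namespace CfsgLib.JT

open CfsgLib.Char Finset Equiv
open scoped ComplexConjugate

namespace Four

/-- The alternating group of degree four. -/
abbrev M : Type := alternatingGroup (Fin 4)

/-- An involution. -/
def ga : M := ⟨swap 0 1 * swap 2 3, Perm.mem_alternatingGroup.2 (by decide)⟩
/-- A second involution. -/
def gb : M := ⟨swap 0 2 * swap 1 3, Perm.mem_alternatingGroup.2 (by decide)⟩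
/-- An element of order three. -/
def gz : M := ⟨swap 0 1 * swap 1 2, Perm.mem_alternatingGroup.2 (by decide)⟩

/-- The representatives. -/
def rep : Fin 4 → M := ![1, ga, gz, gz * gz]

/-- The class. -/
def cls (g : M) : Fin 4 :=
  if g = 1 then 0 else if g * g = 1 then 1 else if ∃ x : M, x * gz * x⁻¹ = g then 2 else 3

theorem conj_rep : ∀ g : M, ∃ x : M, x * rep (cls g) * x⁻¹ = g := by decide +kernel

theorem cls_card : ∀ k, (Finset.univ.filter fun g => cls g = k).card = (![1, 3, 4, 4] : Fin 4 → ℕ) k := by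
  decide +kernel

theorem cls_pairs : ∀ k, ((Finset.univ.filter fun p : M × M => p.1 * p.1 = 1 ∧ p.2 * p.2 = 1).filter
    fun p => cls (p.1 * p.2) = k).card = (![4, 12, 0, 0] : Fin 4 → ℕ) k := by decide +kernel

theorem cls_invol : ∀ g : M, g * g = 1 → g ≠ 1 → cls g = 1 := by decide +kernel

theorem pow_facts : ∀ g : M, g ^ 6 = 1 ∧ ∀ a : Fin 6, Nat.Coprime a 6 →
    cls (g ^ (a : ℕ)) = if (a : ℕ) % 3 = 1 then cls g else (![0, 1, 3, 2] : Fin 4 → Fin 4) (cls g) := by
  decide +kernel

/-- The quotient of order three. -/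
def toC3 : M →* Multiplicative (ZMod 3) :=
  MonoidHom.mk' (fun g => Multiplicative.ofAdd ((![0, 0, 1, 2] : Fin 4 → ZMod 3) (cls g))) (by decide +kernel)

/-- The four-group. -/
def i4 : Multiplicative (ZMod 2) × Multiplicative (ZMod 2) →* M :=
  MonoidHom.mk' (fun d => ga ^ (Multiplicative.toAdd d.1).val * gb ^ (Multiplicative.toAdd d.2).val)
    (by decide +kernel)

theorem inj4 : Function.Injective i4 := by
  intro a b; revert a b; decide +kernel

theorem count4 : ∀ (k : Fin 4) (d : Multiplicative (ZMod 2) × Multiplicative (ZMod 2)),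
    (Finset.univ.filter fun x : M => x⁻¹ * rep k * x = i4 d).card =
      if k = 0 then (if d = 1 then 12 else 0) else if k = 1 then (if d = 1 then 0 else 4) else 0 := by
  decide +kernel

/-- The values of the non-trivial linear character. -/
noncomputable def vw : Fin 4 → ℂ := ![1, 1, (rootU 3 : ℂ), (rootU 3 : ℂ) ^ 2]
/-- The values of the other linear character. -/
noncomputable def vw' : Fin 4 → ℂ := ![1, 1, (rootU 3 : ℂ) ^ 2, (rootU 3 : ℂ)]
/-- The values of the character of degree three. -/
noncomputable def v3 : Fin 4 → ℂ := ![3, -1, 0, 0]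

theorem root_cube : (rootU 3 : ℂ) ^ 4 = (rootU 3 : ℂ) := by
  rw [pow_succ, (rootU_prim 3).pow_eq_one, one_mul]

theorem gen_vw : Cfsg.IsGeneralizedCharacter M fun g => vw (cls g) := by
  have hf := IsCharacter.isGeneralized (isCharacter_ofHom ((cycChar (rootU 3) (rootU_pow 3)).comp toC3))
  convert hf using 1
  funext g
  rw [MonoidHom.comp_apply, show toC3 g = Multiplicative.ofAdd ((![0, 0, 1, 2] : Fin 4 → ZMod 3) (cls g))
    from rfl, cycChar_ofAdd, Units.val_pow_eq_pow_val]
  generalize cls g = k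
  fin_cases k <;> simp [vw, show (2 : ZMod 3).val = 2 from rfl, show (1 : ZMod 3).val = 1 from rfl]

theorem gen_vw' : Cfsg.IsGeneralizedCharacter M fun g => vw' (cls g) := by
  have hf := IsGeneralized.mul gen_vw gen_vw
  convert hf using 1
  funext g
  rw [Pi.mul_apply]
  generalize cls g = k
  fin_cases k <;> simp [vw, vw', pow_two, pow_succ, ← mul_assoc]
  first
    | exact (rootU_prim 3).pow_eq_one
    | linear_combination (rootU_prim 3).pow_eq_one

theorem gen_v3 : Cfsg.IsGeneralizedCharacter M fun g => v3 (cls g) := by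
  have hf : Cfsg.IsGeneralizedCharacter M
      (indH i4 inj4 fun d => ((cycChar (rootU 2) (rootU_pow 2)).comp (MonoidHom.fst _ _) d : ℂ)) :=
    isGeneralized_indH _ _ (IsCharacter.isGeneralized (isCharacter_ofHom _))
  convert hf using 1
  funext g
  obtain ⟨x, hx⟩ := conj_rep g
  conv_rhs => rw [← hx]
  rw [isClassFunction_indH i4 inj4 _ (rep (cls g)) x]
  generalize cls g = k
  refine mul_left_cancel₀ (a := ((4 : ℕ) : ℂ)) (by norm_num) ?_
  have h := indH_count i4 inj4
    (fun d => ((cycChar (rootU 2) (rootU_pow 2)).comp (MonoidHom.fst _ _) d : ℂ)) (rep k)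
  rw [show Fintype.card (Multiplicative (ZMod 2) × Multiplicative (ZMod 2)) = 4 from rfl] at h
  rw [h]
  simp only [count4]
  rw [Fintype.sum_prod_type,
    show (Finset.univ : Finset (Multiplicative (ZMod 2))) = {1, Multiplicative.ofAdd 1} by decide,
    Finset.sum_pair (by decide), Finset.sum_pair (by decide), Finset.sum_pair (by decide)]
  fin_cases k <;> simp +decide [v3, cycChar, Five.root_two, ZMod.val] <;> norm_num

theorem card_M : Nat.card M = 12 := by rw [Nat.card_eq_fintype_card]; decide +kernel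

theorem pow_cls {a : ℕ} (ha : a.Coprime (Nat.card M)) (g : M) : cls (g ^ a) =
    if a % 3 = 1 then cls g else (![0, 1, 3, 2] : Fin 4 → Fin 4) (cls g) := by
  obtain ⟨h6, hf⟩ := pow_facts g
  rw [card_M] at ha
  have h1 : Nat.Coprime (a % 6) 6 := by
    rw [Nat.Coprime, ← Nat.gcd_rec, Nat.gcd_comm]
    exact Nat.Coprime.coprime_dvd_right (by norm_num) ha
  have h := hf ⟨a % 6, Nat.mod_lt _ (by norm_num)⟩ h1
  simp only [Nat.mod_mod_of_dvd _ (show 3 ∣ 6 by norm_num)] at h
  rw [pow_eq_pow_mod a h6, h]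

/-- The three characters of `A₄`. -/
theorem exists_tri {s : M} (hs : s * s = 1) (hs1 : s ≠ 1) : Nonempty (Tri M s (-1) 3 16 0) := by
  have hst := cls_invol s hs hs1
  have hc : (Nat.card M : ℂ) = 12 := by rw [card_M, Nat.cast_ofNat]
  have h3 := sum_root 3 (by norm_num)
  simp only [Finset.sum_range_succ, Finset.sum_range_zero, pow_zero, pow_one, zero_add] at h3
  have h1 := (rootU_prim 3).pow_eq_one
  refine ⟨{
    g := fun g => vw (cls g), g' := fun g => vw' (cls g), k := fun g => v3 (cls g)
    gen := gen_vw, gen' := gen_vw', genk := gen_v3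
    ng := ?_, ng' := ?_, nk := ?_, gg' := ?_, kg := ?_, g_one := ?_, g'_one := ?_, k_one := ?_
    gt := by simp [hst, vw], g't := by simp [hst, vw'], kt := by simp [hst, v3]
    Sg := ?_, Sg' := ?_, Sk := ?_
    kpow := fun a ha g => by
      simp only [pow_cls ha]
      split_ifs
      · rfl
      · generalize cls g = k; fin_cases k <;> simp [v3]
    pow := fun a ha => ?_ }⟩
  case refine_1 =>
    rw [inner_cls cls ![1, 3, 4, 4] cls_card, hc, Fin.sum_univ_four]
    simp [vw, conj_root, map_pow, ← pow_mul, ← pow_succ', ← pow_add]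
    linear_combination (4 / 12 : ℂ) * (2 + (rootU 3 : ℂ) ^ 3) * h1
  case refine_2 =>
    rw [inner_cls cls ![1, 3, 4, 4] cls_card, hc, Fin.sum_univ_four]
    simp [vw', conj_root, map_pow, ← pow_mul, ← pow_succ', ← pow_add]
    linear_combination (4 / 12 : ℂ) * (2 + (rootU 3 : ℂ) ^ 3) * h1
  case refine_3 =>
    rw [inner_cls cls ![1, 3, 4, 4] cls_card, hc, Fin.sum_univ_four]
    simp [v3, map_ofNat]; norm_num
  case refine_4 =>
    rw [inner_cls cls ![1, 3, 4, 4] cls_card, hc, Fin.sum_univ_four]
    simp [vw, vw', conj_root, map_pow, ← pow_mul, ← pow_succ', ← pow_add]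
    linear_combination (4 : ℂ) * h3 + (4 : ℂ) * ((rootU 3 : ℂ) ^ 2 + (rootU 3 : ℂ)) * h1
  case refine_5 =>
    rw [inner_cls cls ![1, 3, 4, 4] cls_card, hc, Fin.sum_univ_four]
    simp [vw, v3, map_ofNat]
  case refine_6 =>
    rw [inner_cls cls ![1, 3, 4, 4] cls_card vw fun _ => 1, hc, Fin.sum_univ_four]
    simp [vw]
    linear_combination (4 : ℂ) * h3
  case refine_7 =>
    rw [inner_cls cls ![1, 3, 4, 4] cls_card vw' fun _ => 1, hc, Fin.sum_univ_four]
    simp [vw']
    linear_combination (4 : ℂ) * h3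
  case refine_8 =>
    rw [inner_cls cls ![1, 3, 4, 4] cls_card v3 fun _ => 1, hc, Fin.sum_univ_four]
    simp [v3]
  case refine_9 =>
    rw [sum_pairs_cls cls ![4, 12, 0, 0] cls_pairs, Fin.sum_univ_four]
    simp [vw]; norm_num
  case refine_10 =>
    rw [sum_pairs_cls cls ![4, 12, 0, 0] cls_pairs, Fin.sum_univ_four]
    simp [vw']; norm_num
  case refine_11 =>
    rw [sum_pairs_cls cls ![4, 12, 0, 0] cls_pairs, Fin.sum_univ_four]
    simp [v3]; norm_num
  by_cases h13 : a % 3 = 1
  · exact Or.inl ⟨fun g => by simp only [pow_cls ha, if_pos h13],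
      fun g => by simp only [pow_cls ha, if_pos h13]⟩
  · refine Or.inr ⟨fun g => ?_, h13⟩
    simp only [pow_cls ha, if_neg h13]
    generalize cls g = k
    fin_cases k <;> simp [vw, vw']

end Four

end CfsgLib.JT
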