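import Cfsg.Agent.JankoThompson.FixedThree
import Cfsg.Agent.JankoThompson.FixedFun
import Cfsg.Agent.JankoThompson.FixedModelFour
import Cfsg.Agent.Dickson.OrderSixty
import Mathlib.GroupTheory.SpecificGroups.Alternating

/-!
# The complement of the torus in the centraliser of a fixed element
-/

set_option autoImplicit false
set_option linter.unusedSectionVars false
set_option linter.style.haveILetI false

namespace CfsgLib.JT

open Subgroup
open CfsgLib.NormCyclic (Inv)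

universe u v

/-- In a cyclic group subgroups of the same order coincide. -/
theorem eq_of_card_eq_cyclic {Q : Type*} [Group Q] [Finite Q] [IsCyclic Q] (H K : Subgroup Q)
    (h : Nat.card H = Nat.card K) : H = K := by
  classical
  haveI := Fintype.ofFinite Q
  have key : ∀ S : Subgroup Q, (S : Set Q).toFinset = Finset.univ.filter (fun x => x ^ Nat.card S = 1) := fun S => by
    refine Finset.eq_of_subset_of_card_le (fun x hx => ?_) ?_
    · rw [Set.mem_toFinset] at hx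
      simp only [Finset.mem_filter, Finset.mem_univ, true_and]
      exact congrArg Subtype.val (pow_card_eq_one' (x := (⟨x, hx⟩ : S)))
    · rw [Set.toFinset_card, ← Nat.card_eq_fintype_card]
      exact IsCyclic.card_pow_eq_one_le Nat.card_pos
  have h1 := key H
  rw [h, ← key K] at h1
  exact SetLike.coe_injective (Set.toFinset_inj.1 h1)

namespace Loc

variable {G : Type u} [Group G] [Finite G] (D : Loc G) {a : G}

/-- An element normalising the group of a fixed element lies in its centraliser extended by `x`. -/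
theorem norm_fixed (ha : a ∈ D.A) (ha1 : a ≠ 1) (hya : D.y * a * D.y⁻¹ = a) {g : G}
    (hg : g * a * g⁻¹ ∈ zpowers a) :
    g ∈ centralizer ({a} : Set G) ∨ D.x * g ∈ centralizer ({a} : Set G) := by
  haveI := Fact.mk Nat.prime_two
  set H := centralizer ({a} : Set G) with hH
  have hUH : D.U ≤ H := D.U_le_UA.trans (D.UA_le_cent ha)
  have hU2 : IsPGroup 2 D.U := IsPGroup.of_card (n := 2) (by rw [D.cardU]; rfl)
  -- `g` normalises `H`
  have haz : a ∈ zpowers (g * a * g⁻¹) := by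
    rw [eq_of_le_of_card_ge (zpowers_le.2 hg) (by
      rw [Nat.card_zpowers, Nat.card_zpowers, ← MulAut.conj_apply, MulEquiv.orderOf_eq])]
    exact mem_zpowers a
  have hgH : ∀ w ∈ H, g * w * g⁻¹ ∈ H := fun w hw => by
    obtain ⟨i, hi⟩ := mem_zpowers_iff.1 haz
    refine mem_centralizer_singleton_iff.2 ?_
    rw [← hi]
    exact (((Commute.conj_iff g).2 (mem_centralizer_singleton_iff.1 hw)).zpow_right i).eq
  obtain ⟨T, hT⟩ := (hU2.comap_subtype (K := H)).exists_le_sylow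
  have hTU : ∀ w ∈ (T : Subgroup H), (w : G) ∈ D.U := fun w hw => by
    rw [← D.eq_U_of_two ha ha1 (T.isPGroup'.map H.subtype)
      (fun u hu => ⟨⟨u, hUH hu⟩, hT (mem_subgroupOf.2 hu), rfl⟩) (map_subtype_le _)]
    exact ⟨w, hw, rfl⟩
  obtain ⟨T', hT'⟩ := ((hU2.map (MulAut.conj g).toMonoidHom).comap_subtype (K := H)).exists_le_sylow
  obtain ⟨⟨h, hh⟩, hhT⟩ := MulAction.exists_smul_eq H T T'
  have hnU : ∀ u ∈ D.U, h⁻¹ * g * u * (h⁻¹ * g)⁻¹ ∈ D.U := by
    intro u hu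
    have h1 : (⟨g * u * g⁻¹, hgH u (hUH hu)⟩ : H) ∈ (T' : Subgroup H) :=
      hT' (mem_subgroupOf.2 ⟨u, hu, rfl⟩)
    rw [← hhT, Sylow.coe_subgroup_smul, Subgroup.mem_pointwise_smul_iff_inv_smul_mem] at h1
    have h2 := hTU _ h1
    rw [show h⁻¹ * g * u * (h⁻¹ * g)⁻¹ = h⁻¹ * (g * u * g⁻¹) * h by group]
    simpa [MulAut.smul_def, MulAut.conj_inv_apply] using h2
  obtain ⟨n, -, hc⟩ := D.norm_U hnU
  have hyn : D.y ^ n ∈ H := pow_mem (D.fixed_y_mem hya) n
  set c := (D.y ^ n)⁻¹ * (h⁻¹ * g) with hcd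
  rcases D.cent_cases hc with hm | hm
  · refine Or.inl ?_
    rw [show g = h * (D.y ^ n * c) by rw [hcd]; group]
    exact mul_mem hh (mul_mem hyn (D.UA_le_cent ha hm))
  · refine Or.inr ?_
    have hxH : ∀ w ∈ H, D.x * w * D.x⁻¹ ∈ H := fun w hw => by
      refine mem_centralizer_singleton_iff.2 ?_
      have h1 := ((Commute.conj_iff D.x).2 (mem_centralizer_singleton_iff.1 hw)).inv_right
      rw [D.xinv a ha, inv_inv] at h1
      exact h1.eq
    have he : D.x * g = D.x * (h * D.y ^ n) * D.x⁻¹ * (D.x * c) := by rw [hcd]; group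
    rw [he]
    exact mul_mem (hxH _ (mul_mem hh hyn)) (D.UA_le_cent ha hm)

/-- The group `U⟨y⟩`. -/
def R4 : Subgroup G where
  carrier := {g | ∃ u ∈ D.U, ∃ n : ℕ, g = u * D.y ^ n}
  one_mem' := ⟨1, one_mem _, 0, by simp⟩
  mul_mem' := by
    rintro _ _ ⟨u, hu, n, rfl⟩ ⟨v, hv, m, rfl⟩
    refine ⟨u * (D.y ^ n * v * (D.y ^ n)⁻¹), mul_mem hu (D.y_pow_U n hv), n + m, ?_⟩
    rw [pow_add]; group
  inv_mem' := by
    rintro _ ⟨u, hu, n, rfl⟩
    have h3 : D.y ^ (3 * n) = 1 := by rw [pow_mul, D.y_cubed, one_pow]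
    have e : D.y ^ (2 * n) = (D.y ^ n)⁻¹ := eq_inv_of_mul_eq_one_left (by rw [← pow_add, ← h3]; congr 1; ring)
    refine ⟨D.y ^ (2 * n) * u * (D.y ^ (2 * n))⁻¹, D.y_pow_U _ hu, 2 * n, ?_⟩
    rw [e, mul_inv_rev, D.U_inv hu]; group

theorem orderOf_y : orderOf D.y = 3 := by
  haveI : Fact (Nat.Prime 3) := ⟨Nat.prime_three⟩
  exact orderOf_eq_prime D.y_cubed fun e => D.ht.2 (D.yfree _ D.tU (by rw [e]; simp))

theorem U_le_R4 : D.U ≤ D.R4 := fun u hu => ⟨u, hu, 0, by simp⟩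

theorem y_mem_R4 : D.y ∈ D.R4 := ⟨1, one_mem _, 1, by simp⟩

theorem card_R4 : Nat.card D.R4 = 12 := by
  refine le_antisymm ?_ (Nat.le_of_dvd Nat.card_pos ?_)
  · let f : D.U × Fin 3 → D.R4 := fun q => ⟨q.1 * D.y ^ (q.2 : ℕ), q.1, q.1.2, _, rfl⟩
    have hf : Function.Surjective f := by
      rintro ⟨g, u, hu, n, rfl⟩
      refine ⟨(⟨u, hu⟩, ⟨n % 3, Nat.mod_lt _ (by norm_num)⟩), Subtype.ext ?_⟩
      show u * D.y ^ (n % 3) = u * D.y ^ n
      rw [← pow_eq_pow_mod n D.y_cubed]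
    have := Nat.card_le_card_of_surjective f hf
    rwa [Nat.card_prod, Nat.card_fin, D.cardU] at this
  · refine Nat.Coprime.mul_dvd_of_dvd_of_dvd (by norm_num : Nat.Coprime 4 3) ?_ ?_
    · rw [← D.cardU]; exact card_dvd_of_le D.U_le_R4
    · rw [← D.orderOf_y, ← Subgroup.orderOf_mk D.y D.y_mem_R4]
      exact orderOf_dvd_natCard _

/-- `U⟨y⟩` is `A₄`. -/
theorem exists_iso_four : Nonempty (D.R4 ≃* alternatingGroup (Fin 4)) := by
  classical
  set Y : Subgroup D.R4 := zpowers ⟨D.y, D.y_mem_R4⟩ with hY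
  have hYc : Nat.card Y = 3 := by rw [hY, Nat.card_zpowers, Subgroup.orderOf_mk, D.orderOf_y]
  haveI : Finite (D.R4 ⧸ Y) := Quotient.finite _
  haveI := Fintype.ofFinite (D.R4 ⧸ Y)
  have h4 : Fintype.card (D.R4 ⧸ Y) = 4 := by
    have h1 := Y.card_eq_card_quotient_mul_card_subgroup
    rw [D.card_R4, hYc, Nat.card_eq_fintype_card] at h1
    omega
  let e4 := Fintype.equivFinOfCardEq h4
  let φ : D.R4 →* Equiv.Perm (Fin 4) :=
    e4.permCongrHom.toMonoidHom.comp (MulAction.toPermHom D.R4 (D.R4 ⧸ Y))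
  have hinj : Function.Injective φ := by
    show Function.Injective (e4.permCongrHom ∘ MulAction.toPermHom D.R4 (D.R4 ⧸ Y))
    refine e4.permCongrHom.injective.comp ?_
    rw [← MonoidHom.ker_eq_bot_iff, ← Subgroup.normalCore_eq_ker, eq_bot_iff]
    intro k hk
    rw [mem_bot]
    by_contra hk1
    have hkY : k ∈ Y := Y.normalCore_le hk
    let t' : D.R4 := ⟨D.t, D.U_le_R4 D.tU⟩
    have hcY : t' * k * t'⁻¹ * k⁻¹ ∈ Y :=
      mul_mem (Y.normalCore_le ((Y.normalCore_normal).conj_mem k hk t')) (inv_mem hkY)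
    have hcU : ((t' * k * t'⁻¹ * k⁻¹ : D.R4) : G) ∈ D.U := by
      obtain ⟨i, hi⟩ := mem_zpowers_iff.1 hkY
      obtain ⟨n, hn⟩ : ∃ n : ℕ, D.y ^ n = (k : G) := by
        rw [← hi, Subgroup.coe_zpow]
        exact Submonoid.mem_powers_iff _ _ |>.1 (mem_powers_iff_mem_zpowers.2 (zpow_mem (mem_zpowers _) i))
      simp only [Subgroup.coe_mul, Subgroup.coe_inv]
      rw [← hn, show D.t * D.y ^ n * D.t⁻¹ * (D.y ^ n)⁻¹ = D.t * (D.y ^ n * D.t⁻¹ * (D.y ^ n)⁻¹) by group]
      exact mul_mem D.tU (D.y_pow_U n (inv_mem D.tU))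
    have hc1 : t' * k * t'⁻¹ * k⁻¹ = 1 := by
      have h2 : orderOf (t' * k * t'⁻¹ * k⁻¹) ∣ 2 := by
        rw [← orderOf_coe]; exact orderOf_dvd_of_pow_eq_one (by rw [sq]; exact D.sqU _ hcU)
      have h3 : orderOf (t' * k * t'⁻¹ * k⁻¹) ∣ 3 := hYc ▸ orderOf_dvd_natCard Y hcY
      exact orderOf_eq_one_iff.1 (Nat.dvd_one.1 (Nat.dvd_gcd h2 h3))
    have hyk : (⟨D.y, D.y_mem_R4⟩ : D.R4) ∈ zpowers k := by
      rw [eq_of_le_of_card_ge (zpowers_le.2 hkY) ?_]
      · exact mem_zpowers _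
      · rw [Nat.card_zpowers k, hYc]
        exact le_of_eq ((Nat.dvd_prime Nat.prime_three).1 (hYc ▸ orderOf_dvd_natCard Y hkY)
          |>.resolve_left (fun e => hk1 (orderOf_eq_one_iff.1 e))).symm
    obtain ⟨i, hi⟩ := mem_zpowers_iff.1 hyk
    have hc2 : Commute t' k := by
      show t' * k = k * t'
      exact (mul_inv_eq_iff_eq_mul.1 (mul_inv_eq_one.1 hc1))
    have h5 := congrArg Subtype.val (hc2.zpow_right i).eq
    rw [hi] at h5
    refine D.ht.2 (D.yfree _ D.tU ?_)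
    simp only [Subgroup.coe_mul] at h5
    rw [← h5, mul_inv_cancel_right]
  have hrange : φ.range = alternatingGroup (Fin 4) := by
    refine Equiv.Perm.eq_alternatingGroup_of_index_eq_two ?_
    have h1 := φ.range.index_mul_card
    rw [Nat.card_perm, Nat.card_fin, ← Nat.card_congr (MonoidHom.ofInjective hinj).toEquiv, D.card_R4] at h1
    simp [Nat.factorial] at h1
    omega
  exact ⟨(MonoidHom.ofInjective hinj).trans (MulEquiv.subgroupCongr hrange)⟩

/-- The complement of order sixty is `A₅`. -/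
theorem exists_iso_five (h5 : D.Alt5 a) :
    Nonempty ((centralizer ({a} : Set G) ⊓ centralizer ({D.x} : Set G) : Subgroup G) ≃*
      alternatingGroup (Fin 5)) := by
  classical
  set E := centralizer ({a} : Set G) ⊓ centralizer ({D.x} : Set G) with hE
  haveI : Fact (Nat.Prime 5) := ⟨by norm_num⟩
  obtain ⟨P⟩ : Nonempty (Sylow 5 E) := Sylow.nonempty
  refine CfsgLib.Dickson.OrderSixty.nonempty_mulEquiv h5.card_E P fun hn => ?_
  haveI := hn
  have hP : Nat.card (P : Subgroup E) = 5 := by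
    rw [Sylow.card_eq_multiplicity, h5.card_E, show (60 : ℕ) = 12 * 5 by norm_num,
      Nat.factorization_mul (by norm_num) (by norm_num), Finsupp.add_apply,
      Nat.factorization_eq_zero_of_not_dvd (by norm_num), Nat.Prime.factorization_self (by norm_num)]
    rfl
  haveI : IsCyclic (P : Subgroup E) := isCyclic_of_prime_card hP
  set φ : E →* MulAut (P : Subgroup E) := MulAut.conjNormal
  have hab : ∀ σ τ : MulAut (P : Subgroup E), σ * τ = τ * σ := fun σ τ =>
    (IsCyclic.mulAutMulEquiv (P : Subgroup E)).injective (by rw [map_mul, map_mul, mul_comm])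
  let y' : E := ⟨D.y, h5.y_mem⟩
  have hyconj : ∀ g : E, φ (y' * g * y'⁻¹) = φ g := fun g => by
    rw [map_mul, map_mul, map_inv, hab, inv_mul_cancel_left]
  let t' : E := ⟨D.t, h5.U_le D.tU⟩
  have hi : φ (y' * t' * y'⁻¹) = φ t' := hyconj _
  have hti : φ (t' * (y' * t' * y'⁻¹)) = φ t' := by
    rw [show t' * (y' * t' * y'⁻¹) = y' * (y' * t' * y'⁻¹) * y'⁻¹ from Subtype.ext D.y_two.symm, hyconj, hi]
  have ht1 : φ t' = 1 := by
    rw [map_mul, hi] at hti
    exact mul_eq_left.1 hti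
  have hUP : ∀ u (hu : u ∈ D.U), φ ⟨u, h5.U_le hu⟩ = 1 := by
    intro u hu
    rcases D.U_cases hu with e | e | e | e
    · rw [show (⟨u, h5.U_le hu⟩ : E) = 1 from Subtype.ext e, map_one]
    · rw [show (⟨u, h5.U_le hu⟩ : E) = t' from Subtype.ext e, ht1]
    · rw [show (⟨u, h5.U_le hu⟩ : E) = y' * t' * y'⁻¹ from Subtype.ext e, hi, ht1]
    · rw [show (⟨u, h5.U_le hu⟩ : E) = t' * (y' * t' * y'⁻¹) from Subtype.ext e, map_mul, hi, ht1, one_mul]
  obtain ⟨⟨⟨g, hgE⟩, hgP⟩, hg⟩ := exists_prime_orderOf_dvd_card' (G := (P : Subgroup E)) 5 (by rw [hP])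
  rw [Subgroup.orderOf_mk, Subgroup.orderOf_mk] at hg
  have hgA : g ∈ D.A := D.mem_A_of_odd (fun u hu => by
    have h1 := congrArg Subtype.val (congrArg Subtype.val
      (DFunLike.congr_fun (hUP u hu) (⟨⟨g, hgE⟩, hgP⟩ : (P : Subgroup E))))
    simp only [φ, MulAut.conjNormal_apply, MulAut.one_apply, Subgroup.coe_mul, Subgroup.coe_inv] at h1
    exact ((mul_inv_eq_iff_eq_mul.1 h1)).symm) (by rw [hg]; decide)
  rw [h5.inter g hgE hgA, orderOf_one] at hg
  norm_num at hg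

variable {A : Type v} [Group A] {j : A →* G}

/-- The data of `Comp` from the facts of a model of the complement. -/
theorem comp_of [IsCyclic D.A] (hj : Function.Injective j) (hrange : ∀ g, g ∈ D.A ↔ ∃ b, j b = g)
    (ha : a ∈ D.A) (ha1 : a ≠ 1) (hya : D.y * a * D.y⁻¹ = a) {R : Subgroup G} {M : Type} [Group M]
    (f : R ≃* M) {N N' : ℕ} (hMN : ∀ g : M, g ^ N = 1) (hN' : Odd N')
    (hModd : ∀ g : M, g * g ≠ 1 → g ^ N' = 1)
    (hMconj : ∀ g g' : M, g * g = 1 → g ≠ 1 → g' * g' = 1 → g' ≠ 1 → ∃ z, z * g * z⁻¹ = g')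
    (hMcard : 4 * Nat.card {g : M // g * g = 1 ∧ g ≠ 1} = Nat.card M)
    {μ : A →* ℂˣ} (hμ : μ ≠ 1) (hN : N.Coprime (Nat.card A)) (hUR : D.U ≤ R)
    (hxR : ∀ r ∈ R, Commute r D.x) (hRa : R ≤ centralizer ({a} : Set G))
    (hinter : ∀ r ∈ R, r ∈ D.A → r = 1)
    (hnorm : ∀ r ∈ R, ∀ b, ∃ b', r * j b * r⁻¹ = j b' ∧ μ b' = μ b)
    (hdec : ∀ g ∈ centralizer ({a} : Set G), ∃ r ∈ R, ∃ b, g = r * j b)
    (hq : ∀ b, μ b ≠ 1 → ∃ n : ℕ, j b ^ n ≠ 1 ∧
      centralizer ({j b ^ n} : Set G) = centralizer ({a} : Set G)) :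
    Comp R j μ D.x D.t := by
  classical
  have hjA : ∀ b, j b ∈ D.A := fun b => (hrange _).2 ⟨b, rfl⟩
  have hcardA : Nat.card A = Nat.card D.A := by
    refine Nat.card_congr (Equiv.ofBijective (fun b => (⟨j b, hjA b⟩ : D.A))
      ⟨fun b c e => hj (congrArg Subtype.val e), ?_⟩)
    rintro ⟨g, hg⟩
    obtain ⟨b, rfl⟩ := (hrange g).1 hg
    exact ⟨b, rfl⟩
  refine
    { inj := hj
      oddA := hcardA ▸ D.Aodd
      inter := fun r hr b e => hj (by rw [e, map_one]; exact hinter r hr (e ▸ hjA b))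
      norm := hnorm
      hμ := hμ
      hx := D.hx.1
      xR := hxR
      xA := fun b => by rw [map_inv]; exact D.xinv _ (hjA b)
      xH := ?_
      tR := hUR D.tU
      tA := fun b => (D.AU _ (hjA b) _ D.tU).symm
      odd_or := ?_
      conj_t := ?_
      card_invol := ?_
      fusion := ?_ }
  · intro r hr b e
    have h1 : D.x ∈ centralizer ({a} : Set G) :=
      e ▸ mul_mem (hRa hr) (D.A_le_UA.trans (D.UA_le_cent ha) (hjA b))
    refine ha1 (D.eq_one_of_inv ha ?_)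
    rw [← D.xinv a ha, mem_centralizer_singleton_iff.1 h1, mul_inv_cancel_right]
  · intro r hr hr2
    refine hN'.of_dvd_nat (orderOf_dvd_of_pow_eq_one ?_)
    have h1 := hModd (f ⟨r, hr⟩) fun e => hr2 (by
      rw [← map_mul, MulEquiv.map_eq_one_iff] at e
      exact congrArg Subtype.val e)
    rw [← map_pow, MulEquiv.map_eq_one_iff] at h1
    exact congrArg Subtype.val h1
  · intro r hr hr2 hr1
    obtain ⟨z, hz⟩ := hMconj (f ⟨r, hr⟩) (f ⟨D.t, hUR D.tU⟩)
      (by rw [← map_mul, MulEquiv.map_eq_one_iff]; exact Subtype.ext hr2)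
      (fun e => hr1 (congrArg Subtype.val ((MulEquiv.map_eq_one_iff f).1 e)))
      (by rw [← map_mul, MulEquiv.map_eq_one_iff]; exact Subtype.ext D.t_sq)
      (fun e => D.ht.2 (congrArg Subtype.val ((MulEquiv.map_eq_one_iff f).1 e)))
    obtain ⟨s, rfl⟩ := f.surjective z
    rw [← map_inv, ← map_mul, ← map_mul] at hz
    exact ⟨s, s.2, congrArg Subtype.val (f.injective hz)⟩
  · rw [Nat.card_congr f.toEquiv, ← hMcard]
    congr 1
    refine Nat.card_congr (Equiv.subtypeEquiv f.toEquiv fun r => ?_)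
    simp [← map_mul]
  · intro g r hr r' hr' b b' he hb
    have hNr : ∀ s ∈ R, s ^ N = 1 := fun s hs => by
      have h1 := hMN (f ⟨s, hs⟩)
      rw [← map_pow, MulEquiv.map_eq_one_iff] at h1
      exact congrArg Subtype.val h1
    have hpow : ∀ s ∈ R, ∀ (c : A) (n : ℕ), ∃ q, (s * j c) ^ n = s ^ n * j q ∧ μ q = μ c ^ n := by
      intro s hs c n
      induction n with
      | zero => exact ⟨1, by simp, by simp⟩
      | succ n ih =>
        obtain ⟨q, hq1, hq2⟩ := ih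
        obtain ⟨q', hq3, hq4⟩ := hnorm s⁻¹ (inv_mem hs) q
        rw [inv_inv] at hq3
        refine ⟨q' * c, ?_, by rw [map_mul, hq4, hq2, pow_succ]⟩
        rw [pow_succ, hq1, pow_succ, map_mul, ← hq3]; group
    obtain ⟨q, hq1, hq2⟩ := hpow r hr b N
    obtain ⟨q', hq1', -⟩ := hpow r' hr' b' N
    rw [hNr r hr, one_mul] at hq1
    rw [hNr r' hr', one_mul] at hq1'
    have hqq : g⁻¹ * j q * g = j q' := by
      rw [← hq1, ← hq1', ← he]
      simpa using (conj_pow (i := N) (a := g⁻¹) (b := r * j b)).symm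
    have hμq : μ q ≠ 1 := by
      rw [hq2]
      intro e
      refine hb ?_
      have h1 : μ b ^ Nat.card A = 1 := by rw [← map_pow, pow_card_eq_one', map_one]
      have h2 : μ b ^ Nat.gcd N (Nat.card A) = 1 := pow_gcd_eq_one.2 ⟨e, h1⟩
      rwa [hN.gcd_eq_one, pow_one] at h2
    obtain ⟨n, hn1, hnC⟩ := hq q hμq
    set c := j q ^ n with hc
    have hcA : c ∈ D.A := pow_mem (hjA q) n
    have hc' : g⁻¹ * c * g ∈ D.A := by
      rw [hc]
      have h1 : g⁻¹ * j q ^ n * g = (g⁻¹ * j q * g) ^ n := by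
        simpa using (conj_pow (i := n) (a := g⁻¹) (b := j q)).symm
      rw [h1, hqq]
      exact pow_mem (hjA q') n
    have hyc : D.y * c * D.y⁻¹ = c := by
      have h1 : D.y ∈ centralizer ({c} : Set G) := hnC ▸ D.fixed_y_mem hya
      rw [mem_centralizer_singleton_iff.1 h1, mul_inv_cancel_right]
    have hgz : g * c * g⁻¹ ∈ zpowers c := by
      have e : zpowers (⟨g⁻¹ * c * g, hc'⟩ : D.A) = zpowers (⟨c, hcA⟩ : D.A) := by
        refine CfsgLib.JT.eq_of_card_eq_cyclic _ _ ?_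
        rw [Nat.card_zpowers, Nat.card_zpowers, Subgroup.orderOf_mk, Subgroup.orderOf_mk,
          show g⁻¹ * c * g = MulAut.conj g⁻¹ c by simp, MulEquiv.orderOf_eq]
      obtain ⟨i, hi⟩ := mem_zpowers_iff.1 (e ▸ mem_zpowers (⟨c, hcA⟩ : D.A))
      have hi' : (g⁻¹ * c * g) ^ i = c := congrArg Subtype.val hi
      refine mem_zpowers_iff.2 ⟨i, ?_⟩
      rw [show g * c * g⁻¹ = g * (g⁻¹ * c * g) ^ i * g⁻¹ by rw [hi'], ← conj_zpow]
      congr 1; group
    rcases D.norm_fixed hcA hn1 hyc hgz with h | h <;> rw [hnC] at h <;>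
      obtain ⟨s, hs, d, hd⟩ := hdec _ h
    · exact ⟨s, hs, d, Or.inl hd⟩
    · refine ⟨s, hs, d, Or.inr ?_⟩
      rw [← hd, ← mul_assoc, D.hx.1, one_mul]

end Loc

end CfsgLib.JT
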