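import Cfsg.Agent.JankoThompson.FixedTri
import Mathlib.GroupTheory.SpecificGroups.Alternating
import Mathlib.RingTheory.RootsOfUnity.Complex

/-!
# The three virtual characters of `A₅` and of `A₄`
-/

set_option autoImplicit false
set_option linter.style.haveILetI false

namespace CfsgLib.JT

open CfsgLib.Char Finset Equiv
open scoped ComplexConjugate

/-- The linear character of a cyclic group with a given value at the generator. -/
noncomputable def cycChar {n : ℕ} [NeZero n] (w : ℂˣ) (hw : w ^ n = 1) : Multiplicative (ZMod n) →* ℂˣ :=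
  MonoidHom.mk' (fun d => w ^ (Multiplicative.toAdd d).val) fun a b => by
    rw [← pow_add, toAdd_mul, ZMod.val_add, ← pow_eq_pow_mod _ hw]

theorem cycChar_ofAdd {n : ℕ} [NeZero n] (w : ℂˣ) (hw : w ^ n = 1) (x : ZMod n) :
    cycChar w hw (Multiplicative.ofAdd x) = w ^ x.val := rfl

/-- A primitive root of unity as a unit. -/
noncomputable def rootU (n : ℕ) [NeZero n] : ℂˣ :=
  ((Complex.isPrimitiveRoot_exp n (NeZero.ne n)).isUnit (NeZero.ne n)).unit

theorem rootU_prim (n : ℕ) [NeZero n] : IsPrimitiveRoot (rootU n : ℂ) n :=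
  Complex.isPrimitiveRoot_exp n (NeZero.ne n)

theorem rootU_pow (n : ℕ) [NeZero n] : rootU n ^ n = 1 :=
  Units.ext (by rw [Units.val_pow_eq_pow_val, (rootU_prim n).pow_eq_one, Units.val_one])

theorem sum_root (n : ℕ) [NeZero n] (h : 1 < n) : ∑ i ∈ Finset.range n, (rootU n : ℂ) ^ i = 0 :=
  (rootU_prim n).geom_sum_eq_zero h

theorem conj_root (n : ℕ) [NeZero n] : conj (rootU n : ℂ) = (rootU n : ℂ) ^ (n - 1) := by
  have h1 : (rootU n : ℂ) * (rootU n : ℂ) ^ (n - 1) = 1 := by
    rw [← pow_succ', Nat.sub_add_cancel (Nat.one_le_iff_ne_zero.2 (NeZero.ne n)),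
      (rootU_prim n).pow_eq_one]
  have h2 : Complex.normSq (rootU n : ℂ) = 1 := by
    rw [Complex.normSq_eq_norm_sq, (rootU_prim n).norm'_eq_one (NeZero.ne n), one_pow]
  have h3 : (rootU n : ℂ) * conj (rootU n : ℂ) = 1 := by rw [Complex.mul_conj, h2, Complex.ofReal_one]
  exact mul_left_cancel₀ (rootU n).ne_zero (h3.trans h1.symm)

namespace Five

/-- The alternating group of degree five. -/
abbrev M : Type := alternatingGroup (Fin 5)

/-- An involution. -/
def ga : M := ⟨swap 0 1 * swap 2 3, Perm.mem_alternatingGroup.2 (by decide)⟩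
/-- A second involution commuting with the first. -/
def gb : M := ⟨swap 0 2 * swap 1 3, Perm.mem_alternatingGroup.2 (by decide)⟩
/-- An element of order three. -/
def gz : M := ⟨swap 0 1 * swap 1 2, Perm.mem_alternatingGroup.2 (by decide)⟩
/-- An element of order five. -/
def gc : M := ⟨swap 0 1 * swap 1 2 * swap 2 3 * swap 3 4, Perm.mem_alternatingGroup.2 (by decide)⟩

/-- The representatives. -/
def rep : Fin 5 → M := ![1, ga, gz, gc, gc * gc]

/-- The class. -/
def cls (g : M) : Fin 5 :=
  if g = 1 then 0 else if g * g = 1 then 1 else if g * g * g = 1 then 2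
  else if ∃ x : M, x * gc * x⁻¹ = g then 3 else 4

set_option maxHeartbeats 4000000 in
theorem conj_rep : ∀ g : M, ∃ x : M, x * rep (cls g) * x⁻¹ = g := by decide +kernel

theorem cls_card : ∀ k, (Finset.univ.filter fun g => cls g = k).card = (![1, 15, 20, 12, 12] : Fin 5 → ℕ) k := by
  decide +kernel

set_option maxHeartbeats 4000000 in
theorem cls_pairs : ∀ k, ((Finset.univ.filter fun p : M × M => p.1 * p.1 = 1 ∧ p.2 * p.2 = 1).filter
    fun p => cls (p.1 * p.2) = k).card = (![16, 60, 60, 60, 60] : Fin 5 → ℕ) k := by decide +kernel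

theorem cls_invol : ∀ g : M, g * g = 1 → g ≠ 1 → cls g = 1 := by decide +kernel

theorem pow_thirty : ∀ g : M, g ^ 30 = 1 := by
  have h : ∀ g : M, g * g = 1 ∨ g * g * g = 1 ∨ g * g * (g * g) * g = 1 := by decide +kernel
  intro g
  rcases h g with e | e | e
  · rw [show (30 : ℕ) = 2 * 15 from rfl, pow_mul, sq, e, one_pow]
  · rw [show (30 : ℕ) = 3 * 10 from rfl, pow_mul, pow_three, ← mul_assoc, e, one_pow]
  · rw [show (30 : ℕ) = 5 * 6 from rfl, pow_mul, show g ^ 5 = g * g * (g * g) * g by
      simp only [pow_succ, pow_zero, one_mul, mul_assoc], e, one_pow]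

theorem cls_inv : ∀ g : M, cls g⁻¹ = cls g := by decide +kernel

theorem cls_sq : ∀ g : M, cls (g * g) = (![0, 0, 2, 4, 3] : Fin 5 → Fin 5) (cls g) := by decide +kernel

theorem pow_facts : ∀ g : M, g ^ 30 = 1 ∧ ∀ a : Fin 30, Nat.Coprime a 30 →
    cls (g ^ (a : ℕ)) = if (a : ℕ) % 5 = 1 ∨ (a : ℕ) % 5 = 4 then cls g
      else (![0, 1, 2, 4, 3] : Fin 5 → Fin 5) (cls g) := by
  have hc : ∀ a : Fin 30, Nat.Coprime a 30 → (a : ℕ) % 5 ≠ 0 ∧ (a : ℕ) % 3 ≠ 0 ∧ (a : ℕ) % 2 ≠ 0 := by
    decide +kernel
  have h : ∀ g : M, g = 1 ∨ (cls g = 1 ∧ g * g = 1) ∨ (cls g = 2 ∧ g * g * g = 1) ∨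
      ((cls g = 3 ∨ cls g = 4) ∧ g * g * (g * g) * g = 1) := by decide +kernel
  intro g
  refine ⟨pow_thirty g, fun a ha => ?_⟩
  obtain ⟨h5, h3, h2⟩ := hc a ha
  rcases h g with rfl | ⟨hg, e⟩ | ⟨hg, e⟩ | ⟨hg, e⟩
  · rw [one_pow, show cls 1 = 0 from rfl]; split_ifs <;> rfl
  · rw [pow_eq_pow_mod (a : ℕ) (show g ^ 2 = 1 by rw [sq, e]), show (a : ℕ) % 2 = 1 by omega, pow_one, hg]
    split_ifs <;> rfl
  · rw [pow_eq_pow_mod (a : ℕ) (show g ^ 3 = 1 by rw [pow_three, ← mul_assoc, e])]
    rcases (show (a : ℕ) % 3 = 1 ∨ (a : ℕ) % 3 = 2 by omega) with e3 | e3 <;> rw [e3]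
    · rw [pow_one, hg]; split_ifs <;> rfl
    · rw [sq, cls_sq, hg]; split_ifs <;> rfl
  · have e5 : g ^ 5 = 1 := by rw [← e]; simp only [pow_succ, pow_zero, one_mul, mul_assoc]
    have hi : g ^ 4 = g⁻¹ := eq_inv_of_mul_eq_one_left (by rw [← pow_succ, e5])
    have hi' : g ^ 3 = (g * g)⁻¹ := eq_inv_of_mul_eq_one_left (by rw [← sq, ← pow_add, e5])
    rw [pow_eq_pow_mod (a : ℕ) e5]
    rcases (show (a : ℕ) % 5 = 1 ∨ (a : ℕ) % 5 = 2 ∨ (a : ℕ) % 5 = 3 ∨ (a : ℕ) % 5 = 4 by omega) with
      ea | ea | ea | ea <;> rw [ea]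
    · rw [pow_one]; simp
    · rw [sq, cls_sq]; rcases hg with hg | hg <;> rw [hg] <;> simp
    · rw [hi', cls_inv, cls_sq]; rcases hg with hg | hg <;> rw [hg] <;> simp
    · rw [hi, cls_inv]; simp

/-- The cyclic group of order five. -/
def i5 : Multiplicative (ZMod 5) →* M :=
  MonoidHom.mk' (fun d => gc ^ (Multiplicative.toAdd d).val) (by decide +kernel)

/-- The cyclic group of order three. -/
def i3 : Multiplicative (ZMod 3) →* M :=
  MonoidHom.mk' (fun d => gz ^ (Multiplicative.toAdd d).val) (by decide +kernel)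

/-- The four-group. -/
def i4 : Multiplicative (ZMod 2) × Multiplicative (ZMod 2) →* M :=
  MonoidHom.mk' (fun d => ga ^ (Multiplicative.toAdd d.1).val * gb ^ (Multiplicative.toAdd d.2).val)
    (by decide +kernel)

theorem inj5 : Function.Injective i5 := by
  intro a b; revert a b; decide +kernel

theorem inj3 : Function.Injective i3 := by
  intro a b; revert a b; decide +kernel

theorem inj4 : Function.Injective i4 := by
  intro a b; revert a b; decide +kernel

theorem count5 : ∀ (k : Fin 5) (d : Multiplicative (ZMod 5)),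
    (Finset.univ.filter fun x : M => x⁻¹ * rep k * x = i5 d).card =
      if k = 0 then (if d = Multiplicative.ofAdd 0 then 60 else 0)
      else if k = 3 then (if d = Multiplicative.ofAdd 1 ∨ d = Multiplicative.ofAdd 4 then 5 else 0)
      else if k = 4 then (if d = Multiplicative.ofAdd 2 ∨ d = Multiplicative.ofAdd 3 then 5 else 0)
      else 0 := by decide +kernel

theorem count3 : ∀ (k : Fin 5) (d : Multiplicative (ZMod 3)),
    (Finset.univ.filter fun x : M => x⁻¹ * rep k * x = i3 d).card =
      if k = 0 then (if d = Multiplicative.ofAdd 0 then 60 else 0)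
      else if k = 2 then (if d = Multiplicative.ofAdd 0 then 0 else 3)
      else 0 := by decide +kernel

theorem count4 : ∀ (k : Fin 5) (d : Multiplicative (ZMod 2) × Multiplicative (ZMod 2)),
    (Finset.univ.filter fun x : M => x⁻¹ * rep k * x = i4 d).card =
      if k = 0 then (if d = 1 then 60 else 0) else if k = 1 then (if d = 1 then 0 else 4) else 0 := by
  decide +kernel

/-- The irrationality at the first class of elements of order five. -/
noncomputable def al : ℂ := 1 + (rootU 5 : ℂ) + (rootU 5 : ℂ) ^ 4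
/-- The irrationality at the second class of elements of order five. -/
noncomputable def be : ℂ := 1 + (rootU 5 : ℂ) ^ 2 + (rootU 5 : ℂ) ^ 3

theorem al_add : al + be = 1 := by
  have h := sum_root 5 (by norm_num)
  simp only [Finset.sum_range_succ, Finset.sum_range_zero, pow_zero, pow_one] at h
  rw [al, be]; linear_combination h

theorem al_mul : al * be = -1 := by
  have h := sum_root 5 (by norm_num)
  simp only [Finset.sum_range_succ, Finset.sum_range_zero, pow_zero, pow_one] at h
  have h5 := (rootU_prim 5).pow_eq_one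
  rw [al, be]
  linear_combination ((2 : ℂ)) * h + (((rootU 5 : ℂ)) + ((rootU 5 : ℂ)) ^ 2) * h5

theorem conj_al : conj al = al := by
  have h5 := (rootU_prim 5).pow_eq_one
  rw [al, map_add, map_add, map_one, map_pow, conj_root]
  simp only [Nat.add_one_sub_one, Nat.reduceSub]
  linear_combination ((rootU 5 : ℂ) ^ 11 + (rootU 5 : ℂ) ^ 6 + (rootU 5 : ℂ)) * h5

theorem conj_be : conj be = be := by
  have e : be = 1 - al := eq_sub_of_add_eq' al_add
  rw [e, map_sub, map_one, conj_al]

/-- The values of the first character of degree three. -/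
noncomputable def v3 : Fin 5 → ℂ := ![3, -1, 0, al, be]
/-- The values of the second character of degree three. -/
noncomputable def v3' : Fin 5 → ℂ := ![3, -1, 0, be, al]
/-- The values of the character of degree five. -/
noncomputable def v5 : Fin 5 → ℂ := ![5, 1, -1, 0, 0]

/-- A character of the four-group. -/
noncomputable def nu : Multiplicative (ZMod 2) × Multiplicative (ZMod 2) →* ℂˣ :=
  (cycChar (rootU 2) (rootU_pow 2)).comp (MonoidHom.fst _ _)

/-- The induced character from the four-group. -/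
noncomputable def f4 : M → ℂ := indH i4 inj4 fun d => (nu d : ℂ)
/-- An induced character from the group of order five. -/
noncomputable def f5 (i : ℕ) : M → ℂ :=
  indH i5 inj5 fun d => (cycChar (rootU 5) (rootU_pow 5) d : ℂ) ^ i
/-- An induced character from the group of order three. -/
noncomputable def f3 : M → ℂ := indH i3 inj3 fun d => (cycChar (rootU 3) (rootU_pow 3) d : ℂ)

theorem root_two : (rootU 2 : ℂ) = -1 :=
  IsPrimitiveRoot.eq_neg_one_of_two_right (rootU_prim 2)

theorem f4_rep (k : Fin 5) : f4 (rep k) = (![15, -1, 0, 0, 0] : Fin 5 → ℂ) k := by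
  refine mul_left_cancel₀ (a := ((4 : ℕ) : ℂ)) (by norm_num) ?_
  have h := indH_count i4 inj4 (fun d => (nu d : ℂ)) (rep k)
  rw [show Fintype.card (Multiplicative (ZMod 2) × Multiplicative (ZMod 2)) = 4 from rfl] at h
  rw [f4, h]
  simp only [count4]
  rw [Fintype.sum_prod_type,
    show (Finset.univ : Finset (Multiplicative (ZMod 2))) = {1, Multiplicative.ofAdd 1} by decide,
    Finset.sum_pair (by decide), Finset.sum_pair (by decide), Finset.sum_pair (by decide)]
  fin_cases k <;> simp +decide [nu, cycChar, root_two, ZMod.val] <;> norm_num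

theorem f5_rep (i : ℕ) (k : Fin 5) : f5 i (rep k) =
    (![12, 0, 0, (rootU 5 : ℂ) ^ i + (rootU 5 : ℂ) ^ (4 * i),
      (rootU 5 : ℂ) ^ (2 * i) + (rootU 5 : ℂ) ^ (3 * i)] : Fin 5 → ℂ) k := by
  refine mul_left_cancel₀ (a := ((5 : ℕ) : ℂ)) (by norm_num) ?_
  have h := indH_count i5 inj5 (fun d => (cycChar (rootU 5) (rootU_pow 5) d : ℂ) ^ i) (rep k)
  rw [show Fintype.card (Multiplicative (ZMod 5)) = 5 from rfl] at h
  rw [f5, h]
  simp only [count5]
  rw [show (Finset.univ : Finset (Multiplicative (ZMod 5))) = {Multiplicative.ofAdd 0,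
      Multiplicative.ofAdd 1, Multiplicative.ofAdd 2, Multiplicative.ofAdd 3, Multiplicative.ofAdd 4} by decide,
    Finset.sum_insert (by decide), Finset.sum_insert (by decide), Finset.sum_insert (by decide),
    Finset.sum_pair (by decide)]
  simp only [cycChar_ofAdd, Units.val_pow_eq_pow_val, ← pow_mul, show (0 : ZMod 5).val = 0 from rfl,
    show (1 : ZMod 5).val = 1 from rfl, show (2 : ZMod 5).val = 2 from rfl,
    show (3 : ZMod 5).val = 3 from rfl, show (4 : ZMod 5).val = 4 from rfl]
  fin_cases k <;> simp +decide <;> ring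

theorem f3_rep (k : Fin 5) : f3 (rep k) = (![20, 0, -1, 0, 0] : Fin 5 → ℂ) k := by
  refine mul_left_cancel₀ (a := ((3 : ℕ) : ℂ)) (by norm_num) ?_
  have h := indH_count i3 inj3 (fun d => (cycChar (rootU 3) (rootU_pow 3) d : ℂ)) (rep k)
  rw [show Fintype.card (Multiplicative (ZMod 3)) = 3 from rfl] at h
  rw [f3, h]
  simp only [count3]
  rw [show (Finset.univ : Finset (Multiplicative (ZMod 3))) = {Multiplicative.ofAdd 0,
      Multiplicative.ofAdd 1, Multiplicative.ofAdd 2} by decide,
    Finset.sum_insert (by decide), Finset.sum_pair (by decide)]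
  have h3 := sum_root 3 (by norm_num)
  simp only [Finset.sum_range_succ, Finset.sum_range_zero, pow_zero, pow_one, zero_add] at h3
  simp only [cycChar_ofAdd, Units.val_pow_eq_pow_val, show (0 : ZMod 3).val = 0 from rfl,
    show (1 : ZMod 3).val = 1 from rfl, show (2 : ZMod 3).val = 2 from rfl]
  fin_cases k <;> simp +decide <;> first | (norm_num; done) | linear_combination 3 * h3

theorem eq_cls {f : M → ℂ} (hf : Cfsg.IsClassFunction M f) (v : Fin 5 → ℂ)
    (h : ∀ k, f (rep k) = v k) (g : M) : f g = v (cls g) := by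
  obtain ⟨x, hx⟩ := conj_rep g
  rw [← h]
  conv_lhs => rw [← hx]
  exact hf _ _

theorem gen_ind (n : ℕ) (D : Type) [Group D] [Fintype D] (ι : D →* M) (hι : Function.Injective ι)
    (χ : D →* ℂˣ) : Cfsg.IsGeneralizedCharacter M (indH ι hι fun d => (χ d : ℂ) ^ n) := by
  refine isGeneralized_indH _ _ ?_
  have e : (fun d => (χ d : ℂ) ^ n) = fun d => ((χ ^ n) d : ℂ) := by funext d; simp
  rw [e]
  exact IsCharacter.isGeneralized (isCharacter_ofHom _)

theorem gen_f4 : Cfsg.IsGeneralizedCharacter M f4 :=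
  isGeneralized_indH _ _ (IsCharacter.isGeneralized (isCharacter_ofHom _))

theorem gen_f3 : Cfsg.IsGeneralizedCharacter M f3 :=
  isGeneralized_indH _ _ (IsCharacter.isGeneralized (isCharacter_ofHom _))

theorem gen_v3 : Cfsg.IsGeneralizedCharacter M fun g => v3 (cls g) := by
  have hf := IsGeneralized.sub gen_f4 (gen_ind 2 _ i5 inj5 (cycChar (rootU 5) (rootU_pow 5)))
  convert hf using 1
  funext g
  refine (eq_cls (IsGeneralized.isClassFunction hf) v3 (fun k => ?_) g).symm
  rw [Pi.sub_apply, f4_rep, ← f5, f5_rep]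
  have h := sum_root 5 (by norm_num)
  simp only [Finset.sum_range_succ, Finset.sum_range_zero, pow_zero, pow_one, zero_add] at h
  have h5 := (rootU_prim 5).pow_eq_one
  fin_cases k <;> simp [v3, al, be] <;> try norm_num
  · linear_combination -h - ((rootU 5 : ℂ) ^ 3) * h5
  · linear_combination -h - ((rootU 5 : ℂ) + 0) * h5

theorem gen_v3' : Cfsg.IsGeneralizedCharacter M fun g => v3' (cls g) := by
  have hf := IsGeneralized.sub gen_f4 (gen_ind 1 _ i5 inj5 (cycChar (rootU 5) (rootU_pow 5)))
  convert hf using 1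
  funext g
  refine (eq_cls (IsGeneralized.isClassFunction hf) v3' (fun k => ?_) g).symm
  rw [Pi.sub_apply, f4_rep, ← f5, f5_rep]
  have h := sum_root 5 (by norm_num)
  simp only [Finset.sum_range_succ, Finset.sum_range_zero, pow_zero, pow_one, zero_add] at h
  fin_cases k <;> simp [v3', al, be] <;> try norm_num
  · linear_combination -h
  · linear_combination -h

theorem gen_v5 : Cfsg.IsGeneralizedCharacter M fun g => v5 (cls g) := by
  have hf := IsGeneralized.sub gen_f3 gen_f4
  convert hf using 1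
  funext g
  refine (eq_cls (IsGeneralized.isClassFunction hf) v5 (fun k => ?_) g).symm
  rw [Pi.sub_apply, f4_rep, f3_rep]
  fin_cases k <;> simp [v5] <;> norm_num

theorem card_M : (Nat.card M : ℂ) = 60 := by
  rw [Nat.card_eq_fintype_card, show Fintype.card M = 60 by decide +kernel, Nat.cast_ofNat]

theorem pow_cls {a : ℕ} (ha : a.Coprime (Nat.card M)) (g : M) : cls (g ^ a) =
    if a % 5 = 1 ∨ a % 5 = 4 then cls g else (![0, 1, 2, 4, 3] : Fin 5 → Fin 5) (cls g) := by
  obtain ⟨h30, hf⟩ := pow_facts g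
  have hc : Nat.card M = 60 := by rw [Nat.card_eq_fintype_card]; decide +kernel
  rw [hc] at ha
  have h1 : Nat.Coprime (a % 30) 30 := by
    rw [Nat.Coprime, ← Nat.gcd_rec, Nat.gcd_comm]
    exact Nat.Coprime.coprime_dvd_right (by norm_num) ha
  have h := hf ⟨a % 30, Nat.mod_lt _ (by norm_num)⟩ h1
  simp only [Nat.mod_mod_of_dvd _ (show 5 ∣ 30 by norm_num)] at h
  rw [pow_eq_pow_mod a h30, h]

/-- The three characters of `A₅`. -/
theorem exists_tri {s : M} (hs : s * s = 1) (hs1 : s ≠ 1) : Nonempty (Tri M s 1 5 48 80) := by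
  have hst := cls_invol s hs hs1
  have hal : al * al + be * be = 3 := by linear_combination (al + be + 1) * al_add - 2 * al_mul
  refine ⟨{
    g := fun g => v3 (cls g), g' := fun g => v3' (cls g), k := fun g => v5 (cls g)
    gen := gen_v3, gen' := gen_v3', genk := gen_v5
    ng := ?_, ng' := ?_, nk := ?_, gg' := ?_, kg := ?_, g_one := ?_, g'_one := ?_, k_one := ?_
    gt := by simp [hst, v3], g't := by simp [hst, v3'], kt := by simp [hst, v5]
    Sg := ?_, Sg' := ?_, Sk := ?_
    kpow := fun a ha g => by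
      simp only [pow_cls ha]
      split_ifs
      · rfl
      · generalize cls g = k; fin_cases k <;> simp [v5]
    pow := fun a ha => ?_ }⟩
  all_goals first
    | (rw [inner_cls cls ![1, 15, 20, 12, 12] cls_card, card_M, Fin.sum_univ_five]
       simp [v3, v3', v5, conj_al, conj_be, map_ofNat, map_neg]
       first
        | (norm_num; done)
        | linear_combination (12 / 60 : ℂ) * hal
        | linear_combination (24 : ℂ) * al_mul
        | linear_combination (12 / 60 : ℂ) * al_add
        | linear_combination (12 : ℂ) * al_add)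
    | (rw [inner_cls cls ![1, 15, 20, 12, 12] cls_card v3 fun _ => 1, card_M, Fin.sum_univ_five]
       simp [v3]
       linear_combination (12 : ℂ) * al_add)
    | (rw [inner_cls cls ![1, 15, 20, 12, 12] cls_card v3' fun _ => 1, card_M, Fin.sum_univ_five]
       simp [v3']
       linear_combination (12 : ℂ) * al_add)
    | (rw [inner_cls cls ![1, 15, 20, 12, 12] cls_card v5 fun _ => 1, card_M, Fin.sum_univ_five]
       simp [v5]; norm_num)
    | (rw [sum_pairs_cls cls ![16, 60, 60, 60, 60] cls_pairs, Fin.sum_univ_five]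
       simp [v3, v3', v5]
       first | (norm_num; done) | linear_combination (60 : ℂ) * al_add)
    | skip
  by_cases h14 : a % 5 = 1 ∨ a % 5 = 4
  · exact Or.inl ⟨fun g => by simp only [pow_cls ha, if_pos h14],
      fun g => by simp only [pow_cls ha, if_pos h14]⟩
  · refine Or.inr ⟨fun g => ?_, fun e => h14 (Or.inl e)⟩
    simp only [pow_cls ha, if_neg h14]
    generalize cls g = k
    fin_cases k <;> simp [v3, v3']

end Five

end CfsgLib.JT
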