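import Cfsg.Agent.JankoThompson.FixedSwap

/-!
The functions of a fixed element are incompatible with the counting equations.
-/

set_option autoImplicit false

namespace CfsgLib.JT

universe u v w

open Classical

variable {ι : Type u} {M : Type v} {Λ : Type w} [Fintype ι] [Fintype M] [Fintype Λ] {Q h : ℤ}

/-- The four functions: of the trivial character (`p`), two with the product `e` which are either
fixed or exchanged by the field automorphism (`g`, `g'`), and a fixed one with the product `-e` (`k`). -/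
structure Quad (V : SV ι M Λ Q h) (m : M) (e : ℤ) (Rp R R' : ℚ) where
  p : ι → ℤ
  g : ι → ℤ
  g' : ι → ℤ
  k : ι → ℤ
  he : e * e = 1
  P : GV V m (-1) Rp p
  G : GV V m e R g
  G' : GV V m e R g'
  K : GV V m (-e) R' k
  po : p V.o = 1
  ho : g V.o = 0
  ho' : g' V.o = 0
  hk : k V.o = 0
  pg : ∑ x, p x * g x = 0
  pg' : ∑ x, p x * g' x = 0
  pk : ∑ x, p x * k x = 0
  gg' : ∑ x, g x * g' x = 0
  kg : ∑ x, k x * g x = 0
  ps : ∀ x, p (V.s x) = p x
  ks : ∀ x, k (V.s x) = k x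
  hs : ((∀ x, g (V.s x) = g x) ∧ ∀ x, g' (V.s x) = g' x) ∨ ∀ x, g (V.s x) = g' x

variable {V : SV ι M Λ Q h} {m : M} {e : ℤ} {Rp R R' : ℚ}

/-- Absorbing signs. -/
def Quad.flip (q : Quad V m e Rp R R') {σ : ι → ℤ} (hσ : ∀ c, σ c * σ c = 1) (hσo : σ V.o = 1)
    (hσs : ∀ c, σ (V.s c) = σ c) : Quad (V.flip σ hσ hσo hσs) m e Rp R R' where
  p x := σ x * q.p x
  g x := σ x * q.g x
  g' x := σ x * q.g' x
  k x := σ x * q.k x
  he := q.he
  P := q.P.flip hσ hσo hσs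
  G := q.G.flip hσ hσo hσs
  G' := q.G'.flip hσ hσo hσs
  K := q.K.flip hσ hσo hσs
  po := by show σ V.o * q.p V.o = 1; rw [hσo, q.po, one_mul]
  ho := by show σ V.o * q.g V.o = 0; rw [q.ho, mul_zero]
  ho' := by show σ V.o * q.g' V.o = 0; rw [q.ho', mul_zero]
  hk := by show σ V.o * q.k V.o = 0; rw [q.hk, mul_zero]
  pg := by rw [← q.pg]; exact Finset.sum_congr rfl fun x _ => by linear_combination q.p x * q.g x * hσ x
  pg' := by rw [← q.pg']; exact Finset.sum_congr rfl fun x _ => by linear_combination q.p x * q.g' x * hσ x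
  pk := by rw [← q.pk]; exact Finset.sum_congr rfl fun x _ => by linear_combination q.p x * q.k x * hσ x
  gg' := by rw [← q.gg']; exact Finset.sum_congr rfl fun x _ => by linear_combination q.g x * q.g' x * hσ x
  kg := by rw [← q.kg]; exact Finset.sum_congr rfl fun x _ => by linear_combination q.k x * q.g x * hσ x
  ps x := by show σ (V.s x) * q.p (V.s x) = σ x * q.p x; rw [hσs, q.ps]
  ks x := by show σ (V.s x) * q.k (V.s x) = σ x * q.k x; rw [hσs, q.ks]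
  hs := q.hs.imp
    (fun h' => ⟨fun x => by show σ (V.s x) * q.g (V.s x) = σ x * q.g x; rw [hσs, h'.1],
      fun x => by show σ (V.s x) * q.g' (V.s x) = σ x * q.g' x; rw [hσs, h'.2]⟩)
    fun h' x => by show σ (V.s x) * q.g (V.s x) = σ x * q.g' x; rw [hσs, h']

/-- After absorbing signs the shapes of the four functions are determined. -/
theorem Quad.normal (q : Quad V m e Rp R R') (hR : R ≠ 0)
    (hA : ∀ A : ℤ, R' * ((-e : ℤ) : ℚ) * (2 * (A : ℚ) - 1) ≠ Rp)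
    (hQ : ∀ S : Raw V q.p, V.s S.b = S.c → False) :
    ∃ (σ : ι → ℤ) (hσ : ∀ c, σ c * σ c = 1) (hσo : σ V.o = 1) (hσs : ∀ c, σ (V.s c) = σ c)
      (q' : Quad (V.flip σ hσ hσo hσs) m e Rp R R') (S : ShP (V.flip σ hσ hσo hσs) q'.p),
      S.IsS q'.g e ∧ S.IsB q'.k (-e) := by
  obtain ⟨S₀⟩ := exists_raw q.P q.po q.ps
  rcases S₀.sbc with ⟨hb, -⟩ | ⟨hb, -⟩
  swap
  · exact (hQ S₀ hb).elim
  obtain ⟨σ, hσ, hσo, hσs, ⟨S⟩⟩ := S₀.exists_shP q.ps hb
  let W := V.flip σ hσ hσo hσs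
  let q' : Quad W m e Rp R R' := q.flip hσ hσo hσs
  change ShP W q'.p at S
  rcases q'.hs with ⟨h1, h2⟩ | h1
  · exact (S.orth_false q'.G q'.G' q'.he q'.pg q'.pg' q'.ho q'.ho' h1 h2 hR hR q'.gg').elim
  have horth : ∑ x, q'.g x * q'.g (W.s x) = 0 := by simp only [h1]; exact q'.gg'
  obtain ⟨S', hS'⟩ := S.exists_isS q'.G q'.he q'.pg q'.ho hR horth
  exact ⟨σ, hσ, hσo, hσs, q', S', hS', S'.partner_B q'.P hS' q'.K q'.he q'.pk q'.hk q'.ks q'.kg horth hA⟩

namespace ShP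

variable {p : ι → ℤ} (S : ShP V p) {g k : ι → ℤ}

/-- What the values on the nine points of the functions of the pairs and the others can be. -/
theorem th_values (P : GV V m (-1) Rp p) (hg : S.IsS g e) (hk : S.IsB k (-e)) (G : GV V m e R g)
    (K : GV V m (-e) R' k) (he : e * e = 1) (hgk : ∑ x, k x * g x = 0) (n : M) :
    V.Th n S.c = 0 ∧ V.Th n S.a = -V.Th n S.b ∧ (V.Th n S.b ≠ 0 → V.d S.a = 3 * V.d S.b + 2) ∧
      (n = m → V.Th n S.b = 0 ∧ V.Th n S.u = 0 ∧ V.Th n S.w = 0) := by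
  obtain ⟨h1, h2, h3, h4, -⟩ := S.delta P hg hk K he hgk (V.Th n) (if n = m then 1 else 0)
    (by split_ifs <;> simp) (V.Th_one n) (V.s_Th n) (V.XTh 0 n) (V.XTh 1 n)
    (by rw [P.Th n]; split_ifs <;> simp) (by rw [G.Th n]; split_ifs <;> simp)
    (by rw [K.Th n]; split_ifs <;> simp) (V.Th_deg n) (V.ThTh n).le
  exact ⟨h1, h2, h3, fun hn => h4 (by rw [if_pos hn])⟩

theorem tl_values (P : GV V m (-1) Rp p) (hg : S.IsS g e) (hk : S.IsB k (-e)) (G : GV V m e R g)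
    (K : GV V m (-e) R' k) (he : e * e = 1) (hgk : ∑ x, k x * g x = 0) (l : Λ) :
    V.Tl l S.c = 0 ∧ V.Tl l S.a = 0 ∧ V.Tl l S.b = 0 ∧ V.Tl l S.u = 0 ∧ V.Tl l S.w = 0 := by
  obtain ⟨h1, h2, -, -, h5⟩ := S.delta P hg hk K he hgk (V.Tl l) 0 (Or.inl rfl) (V.Tl_one l) (V.s_Tl l)
    (V.XTl 0 l) (V.XTl 1 l) (P.Tl l) (by rw [G.Tl l, mul_zero]) (by rw [K.Tl l, mul_zero])
    (V.Tl_deg l) (by rw [V.TlTl]; norm_num)
  obtain ⟨k1, k2, k3⟩ := h5 (V.TlTl l).le
  exact ⟨h1, by rw [h2, k1, neg_zero], k1, k2, k3⟩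

include S in
theorem z_o : V.z V.o = 1 := by rw [V.z_eq]; simp [V.X_one, V.Th_one, V.Tl_one]

/-- The equation of the function of the trivial character. -/
theorem p_eq (P : GV V m (-1) Rp p) : V.d S.a ≠ 1 ∧
    Rp * ((V.d S.a : ℚ) * ((V.d S.a : ℚ) - 1)) = ((V.d S.a : ℚ) - V.z S.a) ^ 2 := by
  obtain ⟨oa, -, -, oη, -, -, haη, -, -, -, -, -⟩ := S.ne_facts
  have hpo : p V.o = 1 := by rw [S.pv, if_neg (Ne.symm oa), if_pos (by simp)]
  have hpa : p S.a = -1 := by rw [S.pv, if_pos rfl]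
  have hpη : p S.η = 1 := by rw [S.pv, if_neg (Ne.symm haη), if_pos (by simp)]
  obtain ⟨d1, -, r1⟩ := P.three (x := V.o) (y := S.a) (w := S.η)
    (by simp [Ne.symm oa, Ne.symm oη, haη]) (by rw [hpo]; norm_num) (by rw [hpa]; norm_num)
    (by rw [hpη]; norm_num) fun x hx => by
      simp only [List.mem_cons, List.not_mem_nil, or_false, not_or] at hx
      rw [S.pv, if_neg hx.2.1, if_neg (by simp [hx.1, hx.2.2])]
  rw [hpo, hpa, V.d_o, S.z_o] at r1
  rw [hpo, hpa, hpη, V.d_o] at d1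
  refine ⟨fun h' => V.d_ne S.η (by linarith), ?_⟩
  push_cast at r1
  linear_combination r1

/-- The equation of the invariant partner. -/
theorem k_eq (K : GV V m (-e) R' k) (hk : S.IsB k (-e)) (he : e * e = 1) : V.d S.b ≠ V.d S.c ∧
    R' * ((-e : ℤ) : ℚ) * ((V.d S.b : ℚ) * V.d S.c * ((V.d S.c : ℚ) - V.d S.b)) =
      ((V.z S.b : ℚ) * V.d S.c - (V.z S.c : ℚ) * V.d S.b) ^ 2 := by
  obtain ⟨r, hr, hr1, -, -, kb, kc, k0⟩ := hk.cases
  obtain ⟨-, -, -, -, -, -, -, hbc, -, -, -, -⟩ := S.ne_facts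
  simp [L] at hr
  obtain ⟨d1, -, r1⟩ := K.three (x := S.b) (y := S.c) (w := r)
    (by simp [hbc, Ne.symm hr.2.2.1, Ne.symm hr.2.2.2.1]) (by rw [kb, neg_mul_neg, he])
    (by rw [kc, neg_neg, he]) hr1 k0
  rw [kb, kc] at d1 r1
  refine ⟨fun h' => ?_, ?_⟩
  · rw [h'] at d1
    have h0 : k r * V.d r = 0 := by linarith
    refine V.d_ne r ((mul_eq_zero.1 h0).resolve_left fun h'' => ?_)
    rw [h''] at hr1; simp at hr1
  · push_cast at r1 ⊢
    have he2 : (e : ℚ) * e = 1 := by exact_mod_cast he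
    linear_combination r1 + (((e : ℚ) * e + 1) * ((V.z S.b : ℚ) * V.d S.c - (V.z S.c : ℚ) * V.d S.b) ^ 2
      + R' * (e : ℚ) * ((V.d S.b : ℚ) * V.d S.c * ((V.d S.c : ℚ) - V.d S.b))) * he2

theorem z_c (hTh : ∀ n, V.Th n S.c = 0) (hTl : ∀ l, V.Tl l S.c = 0) : V.z S.c = 1 := by
  have nd := S.nd
  simp at nd
  rw [V.z_eq, S.X0, S.X1, S.X2, if_pos (by simp), if_neg (by simp; grind), if_neg (by simp; grind)]
  simp [hTh, hTl]

theorem X0_pairs : V.T * ((Q : ℚ) - 1) / ((Q : ℚ) + 1) = 1 + (V.z S.a : ℚ) ^ 2 / V.d S.a +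
    (V.z S.b : ℚ) ^ 2 / V.d S.b + (V.z S.c : ℚ) ^ 2 / V.d S.c := by
  have nd := S.nd
  have e0 := sum_eq_lsum (L := [V.o, S.a, S.b, S.c]) (by simp at nd ⊢; tauto) (V.X 0)
    (fun x => (V.z x : ℚ) ^ 2 / (V.d x : ℚ)) (fun x hx => by rw [S.X0, if_neg hx])
  rw [V.pairsX0] at e0
  simp only [lsum, List.map_cons, List.map_nil, List.sum_cons, List.sum_nil, add_zero] at e0
  rw [S.X0, S.X0, S.X0, S.X0, if_pos (by simp), if_pos (by simp), if_pos (by simp), if_pos (by simp),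
    S.z_o, V.d_o] at e0
  rw [e0]; push_cast; ring

theorem X1_pairs : V.T * (3 * (Q : ℚ) - 1) / ((Q : ℚ) + 1) ^ 2 = (V.z S.a : ℚ) ^ 2 / V.d S.a +
    (V.z S.b : ℚ) ^ 2 / V.d S.b + (V.z S.u : ℚ) ^ 2 / V.d S.u + (V.z S.w : ℚ) ^ 2 / V.d S.w := by
  have nd := S.nd
  have e0 := sum_eq_lsum (L := [S.a, S.b, S.u, S.w]) (by simp at nd ⊢; tauto) (V.X 1)
    (fun x => (V.z x : ℚ) ^ 2 / (V.d x : ℚ)) (fun x hx => by rw [S.X1, if_neg hx])
  rw [V.pairsX1] at e0
  simp only [lsum, List.map_cons, List.map_nil, List.sum_cons, List.sum_nil, add_zero] at e0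
  rw [S.X1, S.X1, S.X1, S.X1, if_pos (by simp), if_pos (by simp), if_pos (by simp), if_pos (by simp)] at e0
  rw [e0]; push_cast; ring

theorem deg_cols : 1 + V.d S.a + V.d S.b + V.d S.c = 0 ∧ V.d S.a + V.d S.b + V.d S.u + V.d S.w = 0 := by
  have h0 := V.X_deg 0
  have h1 := V.X_deg 1
  rw [S.X0_sum, V.d_o] at h0
  rw [S.X1_sum] at h1
  exact ⟨by linarith, by linarith⟩

theorem z_ab (hTl : ∀ l, V.Tl l S.a = 0 ∧ V.Tl l S.b = 0) (hTh : ∀ n, V.Th n S.a = -V.Th n S.b) :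
    V.z S.a = Q - (Q - 1) * ∑ n, V.Th n S.b ∧ V.z S.b = Q + (Q - 1) * ∑ n, V.Th n S.b := by
  have nd := S.nd
  simp at nd
  constructor
  · rw [V.z_eq, S.X0, S.X1, S.X2, if_pos (by simp), if_pos (by simp), if_pos (by simp)]
    simp only [hTh, hTl, Finset.sum_neg_distrib, Finset.sum_const_zero]
    linear_combination V.hh
  · rw [V.z_eq, S.X0, S.X1, S.X2, if_pos (by simp), if_pos (by simp), if_pos (by simp)]
    simp only [hTl, Finset.sum_const_zero]
    linear_combination V.hh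

end ShP

/-- The alternating case of degree four. -/
theorem Quad.false_four (q : Quad V m (-1) (V.T / 3) (V.T / 3) 0) : False := by
  have hT3 : V.T / 3 ≠ 0 := div_ne_zero V.T_ne (by norm_num)
  obtain ⟨σ, hσ, hσo, hσs, q', S, hg, hk⟩ := q.normal hT3
    (fun A h' => hT3 (by simpa using h'.symm)) (fun S hb => S.false_of_swap_third q.P hb)
  generalize hW : V.flip σ hσ hσo hσs = W at q' S hg hk
  have hTW : W.T = V.T := by rw [← hW]; rfl
  have hth := fun n => S.th_values q'.P hg hk q'.G q'.K q'.he q'.kg n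
  have htl := fun l => S.tl_values q'.P hg hk q'.G q'.K q'.he q'.kg l
  have zc := S.z_c (fun n => (hth n).1) fun l => (htl l).1
  obtain ⟨za, zb⟩ := S.z_ab (fun l => ⟨(htl l).2.1, (htl l).2.2.1⟩) fun n => (hth n).2.1
  obtain ⟨hbc, hk0⟩ := S.k_eq q'.K hk q'.he
  obtain ⟨d0, -⟩ := S.deg_cols
  have hB : W.d S.b = W.z S.b * W.d S.c := by
    simp only [zero_mul] at hk0
    have h2 := pow_eq_zero_iff (n := 2) (by norm_num) |>.1 hk0.symm
    rw [zc] at h2
    have h3 : W.z S.b * W.d S.c - W.d S.b = 0 := by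
      exact_mod_cast (show ((W.z S.b * W.d S.c - W.d S.b : ℤ) : ℚ) = 0 by push_cast; simpa using h2)
    linarith
  by_cases hz : ∀ n, W.Th n S.b = 0
  · simp only [hz, Finset.sum_const_zero, mul_zero, sub_zero, add_zero] at za zb
    obtain ⟨hA1, hp⟩ := S.p_eq q'.P
    have hX := S.X0_pairs
    rw [zb] at hB
    rw [za, zb, zc, hTW] at hX
    rw [za] at hp
    obtain ⟨hQ1, hQ2⟩ := W.Q_ne
    have hA0 : (W.d S.a : ℚ) ≠ 0 := Int.cast_ne_zero.2 (W.d_ne _)
    have hC0 : (W.d S.c : ℚ) ≠ 0 := Int.cast_ne_zero.2 (W.d_ne _)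
    have hQ0 : (Q : ℚ) ≠ 0 := by
      simp only [ne_eq, Int.cast_eq_zero]; rintro rfl; simp at hB; exact W.d_ne _ hB
    have hA' : (W.d S.a : ℚ) = -1 - ((Q : ℚ) + 1) * W.d S.c := by
      have h9 : W.d S.a = -1 - (Q + 1) * W.d S.c := by linear_combination d0 - hB
      exact_mod_cast h9
    have hA2 : (W.d S.a : ℚ) + 1 ≠ 0 := by
      rw [hA', show (-1 : ℚ) - ((Q : ℚ) + 1) * W.d S.c + 1 = -(((Q : ℚ) + 1) * W.d S.c) by ring]
      exact neg_ne_zero.2 (mul_ne_zero hQ2 hC0)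
    rw [hB] at hX
    push_cast at hX
    have e0 : V.T * ((Q : ℚ) - 1) / ((Q : ℚ) + 1) * ((W.d S.a : ℚ) * ((W.d S.a : ℚ) + 1)) =
        ((W.d S.a : ℚ) - Q) ^ 2 := by
      rw [hX]
      field_simp
      rw [hA']
      ring
    have k : (W.d S.a : ℚ) * (4 - 2 * Q) = 4 * Q - 2 := by
      rw [← hp] at e0
      have := V.T_ne
      field_simp at e0
      linear_combination -e0
    have k2 : W.d S.a * (4 - 2 * Q) = 4 * Q - 2 := by exact_mod_cast k
    have hd : (Q - 2) ∣ 3 := ⟨-W.d S.a - 2, by linarith [k2]⟩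
    have h1 : (Q - 2).natAbs ∣ 3 := by simpa using Int.natAbs_dvd_natAbs.2 hd
    have h5 := W.hQ
    have h8 := W.hQ8
    rcases (Nat.dvd_prime Nat.prime_three).1 h1 with e | e <;> rcases Int.natAbs_eq (Q - 2) with e' | e' <;>
      rw [e] at e' <;> rcases abs_choice Q with h' | h' <;> omega
  · push Not at hz
    obtain ⟨n, hn⟩ := hz
    have hA := (hth n).2.2.1 hn
    set B := W.d S.b with hBdef
    set zB := W.z S.b with hzB
    have hC : W.d S.c = -3 - 4 * B := by omega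
    rw [hC] at hB
    have hd : (4 * zB + 1) ∣ 3 := ⟨4 * B + 3, by linear_combination (-4 : ℤ) * hB⟩
    have h1 : (4 * zB + 1).natAbs ∣ 3 := by simpa using Int.natAbs_dvd_natAbs.2 hd
    have h5 := W.hQ
    have h8 := W.hQ8
    have hz1 : zB = -1 := by
      rcases (Nat.dvd_prime Nat.prime_three).1 h1 with e | e <;>
        rcases Int.natAbs_eq (4 * zB + 1) with e' | e' <;> rw [e] at e'
      · exfalso; have hz0 : zB = 0 := by omega
        rw [hz0, zero_mul] at hB; exact W.d_ne S.b hB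
      all_goals omega
    have hQd : (Q - 1) ∣ 2 := ⟨-(∑ n, W.Th n S.b) - 1, by linarith⟩
    have h2 : (Q - 1).natAbs ∣ 2 := by simpa using Int.natAbs_dvd_natAbs.2 hQd
    rcases (Nat.dvd_prime Nat.prime_two).1 h2 with e | e <;> rcases Int.natAbs_eq (Q - 1) with e' | e' <;>
      rw [e] at e' <;> rcases abs_choice Q with h' | h' <;> omega

end CfsgLib.JT
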