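import Cfsg.Agent.JankoThompson.FixedQ

/-!
The case in which the field automorphism fixes the first column: all signs are absorbed.
-/

set_option autoImplicit false

namespace CfsgLib.JT

universe u v w

open Classical

variable {ι : Type u} {M : Type v} {Λ : Type w} [Fintype ι] [Fintype M] [Fintype Λ] {Q h : ℤ}

/-- The shape of the columns and of the function of the trivial character, all signs being positive. -/
structure ShP (V : SV ι M Λ Q h) (p : ι → ℤ) where
  a : ι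
  b : ι
  c : ι
  η : ι
  u : ι
  w : ι
  u' : ι
  w' : ι
  nd : [V.o, a, b, c, η, u, w, u', w'].Nodup
  X0 : ∀ x, V.X 0 x = if x ∈ [V.o, a, b, c] then 1 else 0
  X1 : ∀ x, V.X 1 x = if x ∈ [a, b, u, w] then 1 else 0
  X2 : ∀ x, V.X 2 x = if x ∈ [a, b, u', w'] then 1 else 0
  pv : ∀ x, p x = if x = a then -1 else if x ∈ [V.o, η] then 1 else 0
  sa : V.s a = a
  sb : V.s b = b
  sc : V.s c = c
  sη : V.s η = η
  su : V.s u' = u
  sw : V.s w' = w

/-- Absorbing signs preserves an equation between values. -/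
theorem eq_indicator {f : ι → ℤ} {σ : ι → ℤ} {L : List ι} (h1 : ∀ x ∈ L, σ x * f x = 1)
    (h0 : ∀ x, x ∉ L → f x = 0) (x : ι) : σ x * f x = if x ∈ L then 1 else 0 := by
  by_cases hx : x ∈ L
  · rw [if_pos hx, h1 x hx]
  · rw [if_neg hx, h0 x hx, mul_zero]

theorem Raw.exists_shP {V : SV ι M Λ Q h} {p : ι → ℤ} (S : Raw V p) (hps : ∀ x, p (V.s x) = p x)
    (hb : V.s S.b = S.b) :
    ∃ (σ : ι → ℤ) (hσ : ∀ c, σ c * σ c = 1) (hσo : σ V.o = 1) (hσs : ∀ c, σ (V.s c) = σ c),
      Nonempty (ShP (V.flip σ hσ hσo hσs) (fun c => σ c * p c)) := by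
  have hne := S.nd
  simp only [List.nodup_cons, List.mem_cons, List.not_mem_nil, or_false, List.nodup_nil, and_true,
    not_or, not_false_eq_true] at hne
  obtain ⟨⟨hoa, hob, hoc, hoη⟩, ⟨hab, hac, haη⟩, ⟨hbc, hbη⟩, hcη⟩ := hne
  have sc : V.s S.c = S.c := S.sbc.elim And.right fun e => absurd (hb.symm.trans e.1) hbc
  have hX0o : V.X 0 V.o = 1 := by rw [V.X_one, if_pos rfl]
  have hX1o : V.X 1 V.o = 0 := by rw [V.X_one, if_neg (by decide)]
  have x1a : V.X 1 S.a * V.X 1 S.a = 1 := by rw [S.x1a, S.ua]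
  have x1b : V.X 1 S.b * V.X 1 S.b = 1 := by rw [S.x1b, S.ub]
  have ndL : [S.a, S.b, S.c, S.η, V.o].Nodup := by
    simp [hab, hac, haη, Ne.symm hoa, hbc, hbη, Ne.symm hob, hcη, Ne.symm hoc, Ne.symm hoη]
  have e2 : ∀ (l : List ι) (q : ι) (f : ι → ℤ), lsum (q :: l) f f = f q * f q + lsum l f f :=
    fun l q f => by simp [lsum]
  have hl0 : lsum [S.a, S.b, S.c, S.η, V.o] (V.X 1) (V.X 1) = 2 := by
    simp [lsum, x1a, x1b, S.x1c, S.x1η, hX1o]
  obtain ⟨w, hw, hw0⟩ := exists_out ndL (V.X 1) (by rw [hl0, V.XX, if_pos rfl]; norm_num)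
  have n1 : (w :: [S.a, S.b, S.c, S.η, V.o]).Nodup := List.nodup_cons.2 ⟨hw, ndL⟩
  have hw1 : V.X 1 w * V.X 1 w = 1 := by
    have := lsum_self_le n1 (V.X 1)
    rw [e2, hl0, V.XX, if_pos rfl] at this
    exact (int_unit_or (by omega)).resolve_left hw0
  obtain ⟨u, hu, hu1, h1s⟩ := exists_one n1 (V.X 1) (by rw [e2, hl0, hw1, V.XX, if_pos rfl]; rfl)
  have hu0 : V.X 1 u ≠ 0 := fun e => by rw [e] at hu1; simp at hu1
  simp only [List.mem_cons, List.not_mem_nil, or_false, not_or] at hw hu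
  obtain ⟨hwa, hwb, hwc, hwη, hwo⟩ := hw
  obtain ⟨huw, hua, hub, huc, huη, huo⟩ := hu
  have h1out : ∀ x, V.X 1 x ≠ 0 → x = S.a ∨ x = S.b ∨ x = u ∨ x = w := by
    intro x hx
    by_contra hn
    simp only [not_or] at hn
    by_cases e1 : x = S.c
    · exact hx (e1 ▸ S.x1c)
    by_cases e3 : x = S.η
    · exact hx (e3 ▸ S.x1η)
    by_cases e4 : x = V.o
    · exact hx (e4 ▸ hX1o)
    exact hx (h1s x (by simp [hn.1, hn.2.1, hn.2.2.2, e1, e3, e4]) hn.2.2.1)
  have x2 : ∀ x, V.X 2 x = V.X 1 (V.s x) := fun x => (V.s_X1 x).symm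
  have sfix : ∀ q x, V.s q = q → x ≠ q → V.s x ≠ q := fun q x hq hx e => hx (V.s.injective (e.trans hq.symm))
  -- the moved points
  have hmoved : V.X 2 u = 0 ∧ V.X 2 w = 0 := by
    have e5 := sum_eq_lsum (L := [u, w, S.a, S.b, S.c, S.η, V.o]) (by
      simp [huw, hua, hub, huc, huη, huo, hwa, hwb, hwc, hwη, hwo, hab, hac, haη, Ne.symm hoa, hbc, hbη,
        Ne.symm hob, hcη, Ne.symm hoc, Ne.symm hoη])
      (V.X 1) (V.X 2) (fun x hx => h1s x (fun h' => hx (List.mem_cons_of_mem _ h'))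
        (fun h' => hx (h' ▸ List.mem_cons_self)))
    simp only [Int.cast_id] at e5
    rw [V.XX] at e5
    simp [lsum, x2 S.a, S.sa, x1a, x2 S.b, hb, x1b, S.x1c, S.x1η, hX1o] at e5
    rw [x2 u, x2 w] at e5 ⊢
    have val : ∀ y, (y = u ∨ y = w) → V.X 1 (V.s y) = 0 ∨ V.s y = u ∨ V.s y = w := by
      intro y hy
      by_cases e : V.X 1 (V.s y) = 0
      · exact Or.inl e
      rcases h1out _ e with e' | e' | e' | e'
      · exact absurd e' (sfix _ y S.sa (hy.elim (fun e => e ▸ hua) fun e => e ▸ hwa))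
      · exact absurd e' (sfix _ y hb (hy.elim (fun e => e ▸ hub) fun e => e ▸ hwb))
      · exact Or.inr (Or.inl e')
      · exact Or.inr (Or.inr e')
    rcases val u (Or.inl rfl) with a1 | a1 | a1 <;> rcases val w (Or.inr rfl) with a2 | a2 | a2
    · exact ⟨a1, a2⟩
    all_goals exfalso
    all_goals first
      | exact huw (V.s.injective (a1.trans a2.symm))
      | (simp [a1, a2] at e5
         rcases mul_self_eq_one_iff.1 hu1 with f1 | f1 <;> rcases mul_self_eq_one_iff.1 hw1 with f2 | f2 <;>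
           simp [f1, f2] at e5)
  have hD : ∀ x, V.X 0 x = 0 → V.X 1 x ≠ 0 → V.X 2 x = 0 := by
    intro x h0 hx
    rcases h1out x hx with e | e | e | e
    · have := S.ua; rw [← e, h0] at this; simp at this
    · have := S.ub; rw [← e, h0] at this; simp at this
    · rw [e]; exact hmoved.1
    · rw [e]; exact hmoved.2
  have hp3 : ∀ x, p x ≠ 0 → p x * p x = 1 := fun x hx => by
    by_contra hne'
    rcases (show x = V.o ∨ x = S.a ∨ x = S.η by
      by_contra h'; exact hx (S.ps x (by simpa using h'))) with e | e | e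
    · exact hne' (by rw [e, S.po]; norm_num)
    · exact hne' (by rw [e, S.pa]; simpa using S.ua)
    · exact hne' (by rw [e]; exact S.uη)
  have h03 : ∀ x, V.X 0 x ≠ 0 → V.X 0 x * V.X 0 x = 1 := fun x hx => by
    rcases (show x = V.o ∨ x = S.a ∨ x = S.b ∨ x = S.c by
      by_contra h'; exact hx (S.X0s x (by simpa using h'))) with e | e | e | e <;> rw [e]
    exacts [by rw [hX0o]; norm_num, S.ua, S.ub, S.uc]
  have h13 : ∀ x, V.X 1 x ≠ 0 → V.X 1 x * V.X 1 x = 1 := fun x hx => by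
    rcases h1out x hx with e | e | e | e <;> rw [e] <;> assumption
  set σ : ι → ℤ := fun x => if V.X 0 x ≠ 0 then V.X 0 x else if V.X 1 x ≠ 0 then V.X 1 x else
    if V.X 2 x ≠ 0 then V.X 2 x else if p x ≠ 0 then p x else 1 with hσdef
  have hσ : ∀ x, σ x * σ x = 1 := fun x => by
    simp only [hσdef]
    split_ifs with a1 a2 a3 a4
    · exact h03 x a1
    · exact h13 x a2
    · rw [x2] at a3 ⊢; exact h13 _ a3
    · exact hp3 x a4
    · norm_num
  have hσs : ∀ x, σ (V.s x) = σ x := fun x => by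
    simp only [hσdef, V.s_X0, V.s_X1, V.s_X2, hps]
    by_cases a1 : V.X 0 x = 0
    · by_cases a2 : V.X 1 x = 0
      · simp [a1, a2]
      · simp [a1, a2, hD x a1 a2]
    · simp [a1]
  have hσo : σ V.o = 1 := by simp only [hσdef]; simp [hX0o]
  have g0 : ∀ x, V.X 0 x * V.X 0 x = 1 → σ x = V.X 0 x := fun x hx => by
    have : V.X 0 x ≠ 0 := fun e => by rw [e] at hx; simp at hx
    simp only [hσdef]; rw [if_pos this]
  have hX0z : ∀ x, x ≠ V.o → x ≠ S.a → x ≠ S.b → x ≠ S.c → V.X 0 x = 0 := fun x p1 p2 p3 p4 =>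
    S.X0s x (by simp [p1, p2, p3, p4])
  have g1 : ∀ x, x ≠ V.o → x ≠ S.a → x ≠ S.b → x ≠ S.c → V.X 1 x * V.X 1 x = 1 → σ x = V.X 1 x :=
    fun x p1 p2 p3 p4 hx => by
    have : V.X 1 x ≠ 0 := fun e => by rw [e] at hx; simp at hx
    simp only [hσdef]; rw [if_neg (not_not.2 (hX0z x p1 p2 p3 p4)), if_pos this]
  have σu : σ u * V.X 1 u = 1 := by rw [g1 u huo hua hub huc hu1, hu1]
  have σw : σ w * V.X 1 w = 1 := by rw [g1 w hwo hwa hwb hwc hw1, hw1]
  set u' := V.s.symm u with hu'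
  set w' := V.s.symm w with hw'
  have su : V.s u' = u := V.s.apply_symm_apply u
  have sw : V.s w' = w := V.s.apply_symm_apply w
  have hne' : ∀ q, V.s q = q → u ≠ q → u' ≠ q := fun q hq hne0 e => hne0 (by rw [← su, e, hq])
  have hne'' : ∀ q, V.s q = q → w ≠ q → w' ≠ q := fun q hq hne0 e => hne0 (by rw [← sw, e, hq])
  have hu'u : u' ≠ u ∧ u' ≠ w ∧ w' ≠ u ∧ w' ≠ w := by
    refine ⟨?_, ?_, ?_, ?_⟩ <;> intro e
    · exact hu0 (by rw [← su, e, ← x2]; exact hmoved.1)
    · exact hu0 (by rw [← su, e, ← x2]; exact hmoved.2)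
    · exact hw0 (by rw [← sw, e, ← x2]; exact hmoved.1)
    · exact hw0 (by rw [← sw, e, ← x2]; exact hmoved.2)
  refine ⟨σ, hσ, hσo, hσs, ⟨{
    a := S.a, b := S.b, c := S.c, η := S.η, u := u, w := w, u' := u', w' := w'
    nd := ?_, X0 := ?_, X1 := ?_, X2 := ?_, pv := ?_
    sa := S.sa, sb := hb, sc := sc, sη := S.sη, su := su, sw := sw }⟩⟩
  · show [V.o, S.a, S.b, S.c, S.η, u, w, u', w'].Nodup
    have f1 := hne' V.o V.s_o huo
    have f2 := hne' S.a S.sa hua
    have f3 := hne' S.b hb hub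
    have f4 := hne' S.c sc huc
    have f5 := hne' S.η S.sη huη
    have g1' := hne'' V.o V.s_o hwo
    have g2 := hne'' S.a S.sa hwa
    have g3 := hne'' S.b hb hwb
    have g4 := hne'' S.c sc hwc
    have g5 := hne'' S.η S.sη hwη
    have g6 : u' ≠ w' := fun e => huw (by rw [← su, ← sw, e])
    obtain ⟨k1, k2, k3, k4⟩ := hu'u
    simp [hoa, hob, hoc, hoη, hab, hac, haη, hbc, hbη, hcη, huw, Ne.symm huo, Ne.symm hua, Ne.symm hub,
      Ne.symm huc, Ne.symm huη, Ne.symm hwo, Ne.symm hwa, Ne.symm hwb, Ne.symm hwc, Ne.symm hwη,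
      Ne.symm f1, Ne.symm f2, Ne.symm f3, Ne.symm f4, Ne.symm f5, Ne.symm g1', Ne.symm g2, Ne.symm g3,
      Ne.symm g4, Ne.symm g5, g6, Ne.symm k1, Ne.symm k2, Ne.symm k3, Ne.symm k4]
  · refine eq_indicator (f := V.X 0) ?_ S.X0s
    intro x hx
    simp only [List.mem_cons, List.not_mem_nil, or_false] at hx
    rcases hx with e | e | e | e <;> rw [e]
    · rw [show SV.o (V.flip σ hσ hσo hσs) = V.o from rfl, hσo, hX0o]; norm_num
    · rw [g0 _ S.ua, S.ua]
    · rw [g0 _ S.ub, S.ub]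
    · rw [g0 _ S.uc, S.uc]
  · refine eq_indicator (f := V.X 1) ?_ ?_
    · intro x hx
      simp only [List.mem_cons, List.not_mem_nil, or_false] at hx
      rcases hx with e | e | e | e <;> rw [e]
      · rw [g0 _ S.ua, S.x1a, S.ua]
      · rw [g0 _ S.ub, S.x1b, S.ub]
      · exact σu
      · exact σw
    · intro x hx
      by_contra h'
      exact hx (by simpa using h1out x h')
  · refine eq_indicator (f := V.X 2) ?_ ?_
    · intro x hx
      simp only [List.mem_cons, List.not_mem_nil, or_false] at hx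
      rcases hx with e | e | e | e <;> rw [e, x2, ← hσs]
      · rw [S.sa, g0 _ S.ua, S.x1a, S.ua]
      · rw [hb, g0 _ S.ub, S.x1b, S.ub]
      · rw [su]; exact σu
      · rw [sw]; exact σw
    · intro x hx
      by_contra h'
      rw [x2] at h'
      simp only [List.mem_cons, List.not_mem_nil, or_false, not_or] at hx
      rcases h1out _ h' with e | e | e | e
      · exact hx.1 (V.s.injective (e.trans S.sa.symm))
      · exact hx.2.1 (V.s.injective (e.trans hb.symm))
      · exact hx.2.2.1 (V.s.injective (e.trans su.symm))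
      · exact hx.2.2.2 (V.s.injective (e.trans sw.symm))
  · intro x
    show σ x * p x = if x = S.a then -1 else if x ∈ [V.o, S.η] then 1 else 0
    by_cases e : x = S.a
    · rw [if_pos e, e, g0 _ S.ua, S.pa, mul_neg, S.ua]
    rw [if_neg e]
    by_cases e' : x ∈ [V.o, S.η]
    · rw [if_pos e']
      simp only [List.mem_cons, List.not_mem_nil, or_false] at e'
      rcases e' with e' | e' <;> rw [e']
      · rw [hσo, S.po]; norm_num
      · have h0η : V.X 0 S.η = 0 := hX0z _ (Ne.symm hoη) (Ne.symm haη) (Ne.symm hbη) (Ne.symm hcη)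
        have h2η : V.X 2 S.η = 0 := by rw [x2, S.sη, S.x1η]
        have hp0 : p S.η ≠ 0 := fun e'' => by have := S.uη; rw [e''] at this; simp at this
        rw [show σ S.η = p S.η by simp [hσdef, h0η, S.x1η, h2η, hp0], S.uη]
    · rw [if_neg e', S.ps x (by simp at e' ⊢; tauto), mul_zero]

end CfsgLib.JT
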