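import Cfsg.Agent.JankoThompson.FixedRaw

/-!
The case in which the field automorphism moves a point of the first column.
-/

set_option autoImplicit false

namespace CfsgLib.JT

universe u v w

open Classical

variable {ι : Type u} {M : Type v} {Λ : Type w} [Fintype ι] [Fintype M] [Fintype Λ] {Q h : ℤ} {V : SV ι M Λ Q h}
  {m : M} {R : ℚ} {p : ι → ℤ}

theorem swap_small (x y v δ : ℤ) (hxy : x + 2 * y = 0) (hn : x * x + 2 * (y * y) + v * v ≤ 4)
    (hv : v * v = (x + δ) * (x + δ)) : x = 0 ∧ y = 0 := by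
  have h1 : y * y ≤ 0 := by
    by_contra h'
    have hy : 1 ≤ y * y := by omega
    have : x * x = 4 * (y * y) := by linear_combination (x - 2 * y) * hxy
    nlinarith [mul_self_nonneg v]
  obtain rfl : y = 0 := mul_self_eq_zero.1 (le_antisymm h1 (mul_self_nonneg y))
  exact ⟨by omega, rfl⟩

theorem Raw.swap_eqs (S : Raw V p) (F : GV V m (-1) R p) (hb : V.s S.b = S.c) :
    ∃ A : ℤ, A ≠ 0 ∧ A ≠ 1 ∧ A ≠ -1 ∧
      V.T * ((Q : ℚ) - 1) / ((Q : ℚ) + 1) * ((A : ℚ) * ((A : ℚ) + 1)) = ((A : ℚ) - Q) ^ 2 ∧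
      R * ((A : ℚ) * ((A : ℚ) - 1)) = ((A : ℚ) - Q) ^ 2 := by
  have hne := S.nd
  simp only [List.nodup_cons, List.mem_cons, List.not_mem_nil, or_false, List.nodup_nil, and_true,
    not_or, not_false_eq_true] at hne
  obtain ⟨⟨hoa, hob, hoc, hoη⟩, ⟨hab, hac, haη⟩, ⟨hbc, hbη⟩, hcη⟩ := hne
  have ndX : [V.o, S.a, S.b, S.c].Nodup := by simp [hoa, hob, hoc, hab, hac, hbc]
  have ndp : [V.o, S.a, S.η].Nodup := by simp [hoa, hoη, haη]
  have hX0o : V.X 0 V.o = 1 := by rw [V.X_one, if_pos rfl]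
  have hcb : V.X 0 S.c = V.X 0 S.b := by rw [← hb, V.s_X0]
  set σa := V.X 0 S.a with hσa
  set σb := V.X 0 S.b with hσb
  -- invariant functions orthogonal to the first column vanish on it
  have key : ∀ (f : ι → ℤ) (δ : ℤ), f V.o = 0 → f (V.s S.b) = f S.b → ∑ x, V.X 0 x * f x = 0 →
      ∑ x, p x * f x = δ → ∑ x, f x * f x ≤ 4 → f S.a = 0 ∧ f S.b = 0 ∧ f S.c = 0 := by
    intro f δ ho hs h0 hp hn
    rw [hb] at hs
    have e1 := sum_eq_lsum ndX (V.X 0) f S.X0s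
    simp only [Int.cast_id] at e1
    rw [h0] at e1
    simp [lsum, ho, hcb, hs] at e1
    have e2 := sum_eq_lsum ndp p f S.ps
    simp only [Int.cast_id] at e2
    rw [hp] at e2
    simp [lsum, ho, S.pa] at e2
    have e3 := lsum_self_le (L := [S.η, S.a, S.b, S.c])
      (by simp [Ne.symm haη, Ne.symm hbη, Ne.symm hcη, hab, hac, hbc]) f
    simp [lsum, hs] at e3
    have := swap_small (σa * f S.a) (σb * f S.b) (p S.η * f S.η) δ (by linarith) (by
      have f1 : σa * f S.a * (σa * f S.a) = f S.a * f S.a := by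
        linear_combination f S.a * f S.a * S.ua
      have f2 : σb * f S.b * (σb * f S.b) = f S.b * f S.b := by
        linear_combination f S.b * f S.b * S.ub
      have f3 : p S.η * f S.η * (p S.η * f S.η) = f S.η * f S.η := by
        linear_combination f S.η * f S.η * S.uη
      linarith) (by
      have : p S.η * f S.η = σa * f S.a + δ := by
        rw [hσa]; linarith
      rw [this])
    have hu : ∀ x y : ℤ, x * x = 1 → x * y = 0 → y = 0 := fun x y hx hxy => by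
      linear_combination x * hxy - y * hx
    exact ⟨hu _ _ S.ua this.1, hu _ _ S.ub this.2, hs.trans (hu _ _ S.ub this.2)⟩
  have hTh : ∀ n, V.Th n S.a = 0 ∧ V.Th n S.b = 0 ∧ V.Th n S.c = 0 := fun n =>
    key _ _ (V.Th_one n) (V.s_Th n S.b) (V.XTh 0 n) (F.Th n) (V.ThTh n).le
  have hTl : ∀ l, V.Tl l S.a = 0 ∧ V.Tl l S.b = 0 ∧ V.Tl l S.c = 0 := fun l =>
    key _ _ (V.Tl_one l) (V.s_Tl l S.b) (V.XTl 0 l) (F.Tl l) (by rw [V.TlTl]; norm_num)
  have za : V.z S.a = σa * Q := by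
    rw [V.z_eq, ← V.s_X1 S.a, S.sa, S.x1a]
    simp only [hTh, hTl, Finset.sum_const_zero]
    rw [← hσa]; linear_combination σa * V.hh
  have zb : V.z S.b = σb * (1 + h) := by
    rw [V.z_eq, ← V.s_X1 S.b, hb, S.x1b, S.x1c]
    simp only [hTh, hTl, Finset.sum_const_zero]
    rw [← hσb]; ring
  have zc : V.z S.c = σb * (1 + h) := by rw [← hb, V.s_z, zb]
  have dc : V.d S.c = V.d S.b := by rw [← hb, V.s_d]
  set A := σa * V.d S.a with hA
  set B := σb * V.d S.b with hB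
  have hA0 : A ≠ 0 := mul_ne_zero (fun e => by have := S.ua; rw [← hσa, e] at this; simp at this) (V.d_ne _)
  have hB0 : B ≠ 0 := mul_ne_zero (fun e => by have := S.ub; rw [← hσb, e] at this; simp at this) (V.d_ne _)
  have hdeg : 1 + A + 2 * B = 0 := by
    have e := sum_eq_lsum ndX (V.X 0) V.d S.X0s
    simp only [Int.cast_id] at e
    rw [V.X_deg] at e
    simp [lsum, hX0o, V.d_o, hcb, dc] at e
    rw [hA, hB]; linarith
  have hzo : V.z V.o = 1 := by rw [V.z_eq]; simp [V.X_one, V.Th_one, V.Tl_one]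
  obtain ⟨hd3, -, hR⟩ := F.three ndp (by rw [S.po]; norm_num) (by rw [S.pa]; simpa using S.ua) S.uη S.ps
  rw [S.po, S.pa, V.d_o, hzo, za] at hR
  rw [S.po, S.pa, V.d_o] at hd3
  have hA1 : A ≠ 1 := by
    intro e
    refine mul_ne_zero (fun e' => ?_) (V.d_ne S.η) (show p S.η * V.d S.η = 0 by
      rw [hA, hσa] at e; linarith)
    have := S.uη; rw [e'] at this; simp at this
  refine ⟨A, hA0, hA1, fun e => hB0 (by omega), ?_, ?_⟩
  · have e := sum_eq_lsum ndX (V.X 0) (fun x => (V.z x : ℚ) ^ 2 / (V.d x : ℚ)) S.X0s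
    rw [V.pairsX0] at e
    simp only [lsum, List.map_cons, List.map_nil, List.sum_cons, List.sum_nil, add_zero] at e
    rw [hX0o, hzo, V.d_o, za, zb, zc, dc, hcb] at e
    have ua' : (σa : ℚ) * σa = 1 := by exact_mod_cast S.ua
    have ub' : (σb : ℚ) * σb = 1 := by exact_mod_cast S.ub
    have hd1 : (V.d S.a : ℚ) ≠ 0 := Int.cast_ne_zero.2 (V.d_ne _)
    have hd2 : (V.d S.b : ℚ) ≠ 0 := Int.cast_ne_zero.2 (V.d_ne _)
    have hs1 : (σa : ℚ) ≠ 0 := fun e' => by rw [e'] at ua'; simp at ua'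
    have hs2 : (σb : ℚ) ≠ 0 := fun e' => by rw [e'] at ub'; simp at ub'
    have hQh : (Q : ℚ) = 2 * h + 1 := by exact_mod_cast (by linarith [V.hh] : Q = 2 * h + 1)
    have t1 : ∀ (s z d : ℚ), s * s = 1 → d ≠ 0 → s * ((s * z) ^ 2 / d) = z ^ 2 / (s * d) := by
      intro s z d hs hd
      have : s ≠ 0 := fun e' => by rw [e'] at hs; simp at hs
      field_simp
      linear_combination z ^ 2 * (s * s + 1) * hs
    have hBA : 2 * (σb : ℚ) * (V.d S.b : ℚ) = -((A : ℚ) + 1) := by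
      have h9 : (1 : ℤ) + A + 2 * (σb * V.d S.b) = 0 := hdeg
      have := congrArg (Int.cast : ℤ → ℚ) h9
      push_cast at this
      linarith
    push_cast at e
    rw [e, ← hσa, ← hσb, t1 _ _ _ ua' hd1, t1 _ _ _ ub' hd2,
      show (σb : ℚ) * (V.d S.b : ℚ) = -((A : ℚ) + 1) / 2 by linarith,
      show ((A : ℤ) : ℚ) = (σa : ℚ) * (V.d S.a : ℚ) by rw [hA]; push_cast; ring, hQh]
    have hA' : (σa : ℚ) * (V.d S.a : ℚ) ≠ 0 := mul_ne_zero hs1 hd1
    have hA1' : (σa : ℚ) * (V.d S.a : ℚ) + 1 ≠ 0 := fun e' => by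
      have : A + 1 = 0 := by exact_mod_cast (show ((A + 1 : ℤ) : ℚ) = 0 by rw [hA]; push_cast; exact e')
      exact hB0 (by omega)
    generalize (σa : ℚ) * (V.d S.a : ℚ) = X at hA' hA1' ⊢
    field_simp
    ring
  · have e1 : σa * (σa * Q) = Q := by linear_combination Q * S.ua
    push_cast at hR
    have e1' : (σa : ℚ) * ((σa : ℚ) * Q) = Q := by exact_mod_cast e1
    rw [show ((A : ℤ) : ℚ) = (σa : ℚ) * (V.d S.a : ℚ) by rw [hA]; push_cast; ring]
    rw [← hσa] at hR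
    simp only [one_mul, mul_one] at hR
    linear_combination hR - (2 * ((σa : ℚ) * V.d S.a) - (σa : ℚ) * ((σa : ℚ) * Q) - Q) * e1'

/-- With right-hand side `T / 3`. -/
theorem Raw.false_of_swap_third (S : Raw V p) (F : GV V m (-1) (V.T / 3) p) (hb : V.s S.b = S.c) :
    False := by
  obtain ⟨A, hA0, hA1, hA2, e0, e1⟩ := S.swap_eqs F hb
  obtain ⟨hQ1, hQ2⟩ := V.Q_ne
  have hT := V.T_ne
  have k : (A : ℚ) * (4 - 2 * Q) = 4 * Q - 2 := by
    have hA' : (A : ℚ) ≠ 0 := Int.cast_ne_zero.2 hA0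
    rw [← e1] at e0
    field_simp at e0
    linear_combination -e0
  have k2 : A * (4 - 2 * Q) = 4 * Q - 2 := by exact_mod_cast k
  have hd : (Q - 2) ∣ 3 := ⟨-A - 2, by linarith [k2]⟩
  have h1 : (Q - 2).natAbs ∣ 3 := by
    have := Int.natAbs_dvd_natAbs.2 hd
    simpa using this
  have h5 := V.hQ
  have h8 := V.hQ8
  rcases (Nat.dvd_prime Nat.prime_three).1 h1 with e | e <;> rcases Int.natAbs_eq (Q - 2) with e' | e' <;>
    rw [e] at e' <;> rcases abs_choice Q with h' | h' <;> omega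

/-- With right-hand side `16 T / 15`, when a Sylow 2-subgroup has order eight. -/
theorem Raw.false_of_swap_fifteenth (S : Raw V p) (F : GV V m (-1) (16 * V.T / 15) p)
    (hb : V.s S.b = S.c) (g : ℤ) (hg : ¬ (16 : ℤ) ∣ g)
    (hT : V.T * g = (Q : ℚ) ^ 2 * ((Q : ℚ) ^ 2 - 1) ^ 2 * ((Q : ℚ) + 1)) : False := by
  obtain ⟨A, hA0, hA1, hA2, e0, e1⟩ := S.swap_eqs F hb
  obtain ⟨hQ1, hQ2⟩ := V.Q_ne
  have k : ((A : ℚ) * (Q + 31) - (31 * Q + 1)) * (V.T * A) = 0 := by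
    rw [← e1] at e0
    field_simp at e0
    linear_combination -(A : ℚ) * e0
  have k2 : A * (Q + 31) = 31 * Q + 1 := by
    have hA' : (A : ℚ) ≠ 0 := Int.cast_ne_zero.2 hA0
    have := (mul_eq_zero.1 k).resolve_right (mul_ne_zero V.T_ne hA')
    exact_mod_cast sub_eq_zero.1 this
  have keyq : 16 * ((Q : ℚ) ^ 2 * ((Q : ℚ) ^ 2 - 1) ^ 2 * ((Q : ℚ) + 1)) * ((A : ℚ) * ((A : ℚ) - 1)) =
      15 * ((A : ℚ) - Q) ^ 2 * g := by
    rw [← hT]
    field_simp at e1
    linear_combination (g : ℚ) * e1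
  have key : 16 * (Q ^ 2 * (Q ^ 2 - 1) ^ 2 * (Q + 1)) * (A * (A - 1)) = 15 * (A - Q) ^ 2 * g := by
    exact_mod_cast keyq
  obtain ⟨r, hr⟩ : ∃ r, Q = 8 * r + 3 := ⟨Q / 8, by have := V.hQ8; omega⟩
  have e3 : (A - Q) * (8 * r + 34) = -(8 * (8 * r ^ 2 + 6 * r + 1)) := by
    subst hr; linear_combination k2
  obtain ⟨n, hn⟩ : (4 : ℤ) ∣ A - Q := by
    have : (A - Q) * (4 * r + 17) = 4 * -(8 * r ^ 2 + 6 * r + 1) := by linarith
    have hc : IsCoprime (4 : ℤ) (4 * r + 17) := ⟨-(r + 4), 1, by ring⟩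
    exact hc.dvd_of_dvd_mul_right ⟨_, this⟩
  have hnodd : n % 2 = 1 := by
    rw [hn] at e3
    have e4 : n * (4 * r + 17) = -(8 * r ^ 2 + 6 * r + 1) := by linarith
    rcases Int.emod_two_eq_zero_or_one n with h0 | h0
    · obtain ⟨j, rfl⟩ : (2 : ℤ) ∣ n := Int.dvd_of_emod_eq_zero h0
      have : (2 : ℤ) ∣ 8 * r ^ 2 + 6 * r + 1 := ⟨-(j * (4 * r + 17)), by linarith⟩
      omega
    · exact h0
  have h256 : (256 : ℤ) ∣ 16 * (15 * n ^ 2 * g) := by
    rw [show 16 * (15 * n ^ 2 * g) = 15 * (A - Q) ^ 2 * g by rw [hn]; ring, ← key, hr]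
    exact ⟨(8 * r + 3) ^ 2 * (8 * r ^ 2 + 6 * r + 1) ^ 2 * (8 * r + 4) * (A * (A - 1)) * 4, by ring⟩
  have h16 : (16 : ℤ) ∣ 15 * n ^ 2 * g := by
    rw [show (256 : ℤ) = 16 * 16 from rfl] at h256
    exact Int.dvd_of_mul_dvd_mul_left (by norm_num) h256
  refine hg ?_
  have hc : IsCoprime (16 : ℤ) (15 * n ^ 2) := by
    have h2 : IsCoprime (2 : ℤ) n := ⟨-(n / 2), 1, by omega⟩
    have h15 : IsCoprime (16 : ℤ) 15 := ⟨1, -1, by norm_num⟩
    exact h15.mul_right (by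
      have := (h2.pow_left (m := 4)).pow_right (n := 2)
      norm_num at this; exact this)
  exact hc.dvd_of_dvd_mul_left h16

end CfsgLib.JT
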