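import Cfsg.Agent.JankoThompson.FixedVec
import Mathlib.Tactic.IntervalCases

/-!
The position of the function `((1 - μ) × 1)^G` of a fixed element relative to the three columns.
-/

set_option autoImplicit false

namespace CfsgLib.JT

universe u v w

open Classical

variable {ι : Type u} {M : Type v} {Λ : Type w} [Fintype ι] [Fintype M] [Fintype Λ] {Q h : ℤ}

/-- The points of the first column and of the function of the trivial character. -/
structure Raw (V : SV ι M Λ Q h) (p : ι → ℤ) where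
  a : ι
  b : ι
  c : ι
  η : ι
  nd : [V.o, a, b, c, η].Nodup
  ua : V.X 0 a * V.X 0 a = 1
  ub : V.X 0 b * V.X 0 b = 1
  uc : V.X 0 c * V.X 0 c = 1
  uη : p η * p η = 1
  X0s : ∀ x, x ∉ [V.o, a, b, c] → V.X 0 x = 0
  po : p V.o = 1
  pa : p a = -V.X 0 a
  ps : ∀ x, x ∉ [V.o, a, η] → p x = 0
  sa : V.s a = a
  sη : V.s η = η
  x1a : V.X 1 a = V.X 0 a
  x1b : V.X 1 b = V.X 0 b
  x1c : V.X 1 c = 0
  x1η : V.X 1 η = 0
  sbc : (V.s b = b ∧ V.s c = c) ∨ (V.s b = c ∧ V.s c = b)

variable {V : SV ι M Λ Q h}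

theorem int_unit_or {v : ℤ} (h : v * v ≤ 3) : v = 0 ∨ v * v = 1 := by
  have h1 : v ≤ 1 := by nlinarith
  have h2 : -1 ≤ v := by nlinarith
  obtain rfl | rfl | rfl : v = 0 ∨ v = 1 ∨ v = -1 := by omega
  all_goals norm_num

theorem raw_small (x y b c : ℤ) (h1 : x + b + c = 2) (h2 : x * x + y + b * b + c * c ≤ 4)
    (hy : y = (x - 1) * (x - 1)) :
    (x = 1 ∧ ((b = 1 ∧ c = 0) ∨ (b = 0 ∧ c = 1))) ∨ (x = 0 ∧ b = 1 ∧ c = 1) := by
  have hx : -2 ≤ x ∧ x ≤ 2 := ⟨by nlinarith [sq_nonneg (x - 1)], by nlinarith [sq_nonneg (x - 1)]⟩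
  have hb : -2 ≤ b ∧ b ≤ 2 := ⟨by nlinarith [sq_nonneg (x - 1)], by nlinarith [sq_nonneg (x - 1)]⟩
  obtain ⟨hx1, hx2⟩ := hx
  obtain ⟨hb1, hb2⟩ := hb
  obtain rfl : c = 2 - x - b := by omega
  interval_cases x <;> interval_cases b <;> omega

theorem exists_raw {m : M} {R : ℚ} {p : ι → ℤ} (F : GV V m (-1) R p) (ho : p V.o = 1)
    (hs : ∀ x, p (V.s x) = p x) : Nonempty (Raw V p) := by
  have hX0o : V.X 0 V.o = 1 := by rw [V.X_one, if_pos rfl]
  obtain ⟨a, b, c, nd, ua, ub, uc, h0⟩ := exists_three (L := [V.o]) (List.nodup_singleton _) (V.X 0) (by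
    rw [V.XX, if_pos rfl]; simp [lsum, hX0o])
  have ndX : [a, b, c, V.o].Nodup := nd
  have h0' : ∀ x, x ∉ [a, b, c, V.o] → V.X 0 x = 0 := h0
  have hsum : V.X 0 a * p a + V.X 0 b * p b + V.X 0 c * p c = -1 := by
    have e := sum_eq_lsum ndX (V.X 0) p h0'
    simp only [Int.cast_id] at e
    rw [Finset.sum_congr rfl fun x _ => mul_comm (V.X 0 x) (p x), F.X0] at e
    simp [lsum, hX0o, ho] at e
    linarith
  have hnorm : p a * p a + p b * p b + p c * p c ≤ 2 := by
    have e := lsum_self_le ndX p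
    simp [lsum, ho, F.norm] at e
    linarith
  -- a single point of the first column
  have sel : ∀ a b c : ι, [a, b, c, V.o].Nodup → V.X 0 a * V.X 0 a = 1 → V.X 0 b * V.X 0 b = 1 →
      V.X 0 c * V.X 0 c = 1 → (∀ x, x ∉ [a, b, c, V.o] → V.X 0 x = 0) → p b = 0 → p c = 0 →
      p a = -V.X 0 a → Nonempty (Raw V p) := by
    intro a b c ndX ua ub uc h0 pb pc pa
    obtain ⟨η, hη, uη, hps⟩ := exists_one ndX p (by
      rw [F.norm]; simp [lsum, ho, pb, pc, pa, ua])
    have hne := ndX
    simp only [List.nodup_cons, List.mem_cons, List.not_mem_nil, or_false, List.nodup_nil, and_true,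
      not_or, not_false_eq_true] at hne
    obtain ⟨⟨hab, hac, hao⟩, ⟨hbc, hbo⟩, hco⟩ := hne
    simp only [List.mem_cons, List.not_mem_nil, or_false, not_or] at hη
    obtain ⟨hηa, hηb, hηc, hηo⟩ := hη
    have hX0η : V.X 0 η = 0 := h0 η (by simp [hηa, hηb, hηc, hηo])
    have ps : ∀ x, x ∉ [V.o, a, η] → p x = 0 := fun x hx => by
      simp only [List.mem_cons, List.not_mem_nil, or_false, not_or] at hx
      by_cases e1 : x = b
      · rw [e1, pb]
      by_cases e2 : x = c
      · rw [e2, pc]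
      exact hps x (by simp [hx.1, hx.2.1, e1, e2]) hx.2.2
    have pa0 : p a ≠ 0 := fun e => by rw [e, eq_comm, neg_eq_zero] at pa; rw [pa] at ua; simp at ua
    have pη0 : p η ≠ 0 := fun e => by rw [e] at uη; simp at uη
    have hmove : ∀ x, p x ≠ 0 → x = V.o ∨ x = a ∨ x = η := fun x hx => by
      by_contra hne'
      exact hx (ps x (by simpa using hne'))
    have hso : ∀ x, V.s x = V.o → x = V.o := fun x e => V.s.injective (e.trans V.s_o.symm)
    have sa : V.s a = a := by
      rcases hmove (V.s a) (by rw [hs]; exact pa0) with e | e | e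
      · exact absurd (hso a e) hao
      · exact e
      · have := V.s_X0 a
        rw [e, hX0η] at this
        rw [← this] at ua; simp at ua
    have sη : V.s η = η := by
      rcases hmove (V.s η) (by rw [hs]; exact pη0) with e | e | e
      · exact absurd (hso η e) hηo
      · exact absurd (V.s.injective (e.trans sa.symm)) hηa
      · exact e
    have hmove0 : ∀ x, V.X 0 x ≠ 0 → x = a ∨ x = b ∨ x = c ∨ x = V.o := fun x hx => by
      by_contra hne'
      exact hx (h0 x (by simpa using hne'))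
    have hu : ∀ x, V.X 0 x * V.X 0 x = 1 → V.X 0 x ≠ 0 := fun x hx e => by rw [e] at hx; simp at hx
    have sb : V.s b = b ∨ V.s b = c := by
      rcases hmove0 (V.s b) (by rw [V.s_X0]; exact hu b ub) with e | e | e | e
      · exact absurd (V.s.injective (e.trans sa.symm)) (Ne.symm hab)
      · exact Or.inl e
      · exact Or.inr e
      · exact absurd (hso b e) hbo
    have sc : V.s c = b ∨ V.s c = c := by
      rcases hmove0 (V.s c) (by rw [V.s_X0]; exact hu c uc) with e | e | e | e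
      · exact absurd (V.s.injective (e.trans sa.symm)) (Ne.symm hac)
      · exact Or.inl e
      · exact Or.inr e
      · exact absurd (hso c e) hco
    have sbc : (V.s b = b ∧ V.s c = c) ∨ (V.s b = c ∧ V.s c = b) := by
      rcases sb with e | e <;> rcases sc with e' | e'
      · exact absurd (V.s.injective (e.trans e'.symm)) hbc
      · exact Or.inl ⟨e, e'⟩
      · exact Or.inr ⟨e, e'⟩
      · exact absurd (V.s.injective (e.trans e'.symm)) hbc
    -- the second column
    set x₁ := V.X 0 a * V.X 1 a with hx₁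
    have e1 : p η * V.X 1 η = x₁ - 1 := by
      have nd3 : [V.o, a, η].Nodup := by simp [Ne.symm hao, Ne.symm hηo, Ne.symm hηa]
      have e := sum_eq_lsum nd3 p (V.X 1) ps
      simp only [Int.cast_id] at e
      rw [F.X1] at e
      simp [lsum, ho, pa, V.X_one] at e
      rw [hx₁]; linarith
    have e2 : x₁ + V.X 0 b * V.X 1 b + V.X 0 c * V.X 1 c = 2 := by
      have e := sum_eq_lsum ndX (V.X 0) (V.X 1) h0
      simp only [Int.cast_id] at e
      rw [V.XX] at e
      simp [lsum, hX0o, V.X_one] at e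
      rw [hx₁]; linarith
    have nd4 : [η, a, b, c].Nodup := by simp [hηa, hηb, hηc, hab, hac, hbc]
    have e3 : V.X 1 η * V.X 1 η + (V.X 1 a * V.X 1 a + (V.X 1 b * V.X 1 b + V.X 1 c * V.X 1 c)) ≤ 4 := by
      have e := lsum_self_le nd4 (V.X 1)
      rw [V.XX] at e
      simpa [lsum] using e
    have hy : V.X 1 η * V.X 1 η = (x₁ - 1) * (x₁ - 1) := by
      linear_combination (p η * V.X 1 η + x₁ - 1) * e1 - V.X 1 η * V.X 1 η * uη
    have key := raw_small x₁ (V.X 1 η * V.X 1 η) (V.X 0 b * V.X 1 b) (V.X 0 c * V.X 1 c) e2 (by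
      have f1 : x₁ * x₁ = V.X 1 a * V.X 1 a := by
        rw [hx₁]; linear_combination V.X 1 a * V.X 1 a * ua
      have f2 : V.X 0 b * V.X 1 b * (V.X 0 b * V.X 1 b) = V.X 1 b * V.X 1 b := by
        linear_combination V.X 1 b * V.X 1 b * ub
      have f3 : V.X 0 c * V.X 1 c * (V.X 0 c * V.X 1 c) = V.X 1 c * V.X 1 c := by
        linear_combination V.X 1 c * V.X 1 c * uc
      linarith) hy
    have inv1 : ∀ x, V.X 0 x * V.X 0 x = 1 → V.X 0 x * V.X 1 x = 1 → V.X 1 x = V.X 0 x :=
      fun x hx hx' => by linear_combination V.X 0 x * hx' - V.X 1 x * hx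
    rcases key with ⟨hx, hbc'⟩ | ⟨hx, hb, hc⟩
    · have hη1 : V.X 1 η = 0 := by
        rw [hx, sub_self, mul_eq_zero] at e1
        exact e1.resolve_left pη0
      have hz : ∀ x, V.X 0 x * V.X 0 x = 1 → V.X 0 x * V.X 1 x = 0 → V.X 1 x = 0 :=
        fun x hx hx' => (mul_eq_zero.1 hx').resolve_left (hu x hx)
      rcases hbc' with ⟨hb, hc⟩ | ⟨hb, hc⟩
      · exact ⟨⟨a, b, c, η, by simp [Ne.symm hao, Ne.symm hbo, Ne.symm hco, Ne.symm hηo, hab, hac,
          Ne.symm hηa, hbc, Ne.symm hηb, Ne.symm hηc], ua, ub, uc, uη,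
          fun x hx => h0 x (by simp at hx ⊢; tauto), ho, pa, ps, sa, sη, inv1 a ua hx, inv1 b ub hb,
          hz c uc hc, hη1, sbc⟩⟩
      · exact ⟨⟨a, c, b, η, by simp [Ne.symm hao, Ne.symm hbo, Ne.symm hco, Ne.symm hηo, hab, hac,
          Ne.symm hηa, Ne.symm hbc, Ne.symm hηb, Ne.symm hηc], ua, uc, ub, uη,
          fun x hx => h0 x (by simp at hx ⊢; tauto), ho, pa, ps, sa, sη, inv1 a ua hx, inv1 c uc hc,
          hz b ub hb, hη1, sbc.elim (fun e => Or.inl e.symm) fun e => Or.inr e.symm⟩⟩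
    · exfalso
      have xb := inv1 b ub hb
      have xc := inv1 c uc hc
      have xa : V.X 1 a = 0 := (mul_eq_zero.1 hx).resolve_left (hu a ua)
      have hη1 : V.X 1 η * V.X 1 η = 1 := by rw [hy, hx]; norm_num
      have hbu : V.X 1 b * V.X 1 b = 1 := by rw [xb, ub]
      have hcu : V.X 1 c * V.X 1 c = 1 := by rw [xc, uc]
      obtain ⟨u, hu', huu, hX1s⟩ := exists_one nd4 (V.X 1) (by
        rw [V.XX, if_pos rfl]; simp [lsum, xa, hη1, hbu, hcu])
      simp only [List.mem_cons, List.not_mem_nil, or_false, not_or] at hu'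
      obtain ⟨huη, hua, hub, huc⟩ := hu'
      have e5 := sum_eq_lsum (L := [u, η, a, b, c]) (by simp [huη, hua, hub, huc, hηa, hηb, hηc, hab, hac, hbc])
        (V.X 1) (V.X 2) (fun x hx => hX1s x (fun h' => hx (List.mem_cons_of_mem _ h'))
          (fun h' => hx (h' ▸ List.mem_cons_self)))
      simp only [Int.cast_id] at e5
      rw [V.XX] at e5
      have x2 : ∀ x, V.X 2 x = V.X 1 (V.s x) := fun x => (V.s_X1 x).symm
      have xsb : V.X 1 b * V.X 2 b + V.X 1 c * V.X 2 c = 2 := by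
        rcases sbc with ⟨eb, ec⟩ | ⟨eb, ec⟩ <;> rw [x2 b, x2 c, eb, ec]
        · rw [hbu, hcu]; norm_num
        · have h8 : V.X 0 c = V.X 0 b := by rw [← eb, V.s_X0]
          rw [xb, xc, h8, ub]; norm_num
      simp [lsum, xa, x2 η, sη, hη1] at e5
      rw [x2 u] at e5
      have e6 : V.X 1 u * V.X 1 (V.s u) = -1 := by linarith
      by_cases e7 : V.s u = u
      · rw [e7, huu] at e6; norm_num at e6
      have hsu : V.X 1 (V.s u) = 0 := hX1s _ (by
        simp only [List.mem_cons, List.not_mem_nil, or_false, not_or]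
        refine ⟨fun e => huη (V.s.injective (e.trans sη.symm)), fun e => hua (V.s.injective (e.trans sa.symm)), ?_, ?_⟩
        · intro e
          rcases sbc with ⟨eb, ec⟩ | ⟨eb, ec⟩
          · exact hub (V.s.injective (e.trans eb.symm))
          · exact huc (V.s.injective (e.trans ec.symm))
        · intro e
          rcases sbc with ⟨eb, ec⟩ | ⟨eb, ec⟩
          · exact huc (V.s.injective (e.trans ec.symm))
          · exact hub (V.s.injective (e.trans eb.symm))) e7
      rw [hsu, mul_zero] at e6; norm_num at e6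
  have h1 : p a * p a ≤ 3 := by nlinarith [mul_self_nonneg (p b), mul_self_nonneg (p c)]
  have h2 : p b * p b ≤ 3 := by nlinarith [mul_self_nonneg (p a), mul_self_nonneg (p c)]
  have h3 : p c * p c ≤ 3 := by nlinarith [mul_self_nonneg (p a), mul_self_nonneg (p b)]
  have hinv : ∀ x, V.X 0 x * V.X 0 x = 1 → V.X 0 x * p x = -1 → p x = -V.X 0 x :=
    fun x hx hx' => by linear_combination V.X 0 x * hx' - p x * hx
  rcases int_unit_or h1 with ea | ea <;> rcases int_unit_or h2 with eb | eb <;>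
    rcases int_unit_or h3 with ec | ec
  · rw [ea, eb, ec] at hsum; norm_num at hsum
  · rw [ea, eb] at hsum
    refine sel c a b ?_ uc ua ub (fun x hx => h0' x (by simp at hx ⊢; tauto)) ea eb (hinv c uc (by linarith))
    simp at ndX ⊢; tauto
  · rw [ea, ec] at hsum
    refine sel b a c ?_ ub ua uc (fun x hx => h0' x (by simp at hx ⊢; tauto)) ea ec (hinv b ub (by linarith))
    simp at ndX ⊢; tauto
  · rw [ea] at hsum
    exfalso
    rcases mul_self_eq_one_iff.1 ub with f1 | f1 <;> rcases mul_self_eq_one_iff.1 uc with f2 | f2 <;>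
      rcases mul_self_eq_one_iff.1 eb with f3 | f3 <;> rcases mul_self_eq_one_iff.1 ec with f4 | f4 <;>
      simp [f1, f2, f3, f4] at hsum
  · rw [eb, ec] at hsum
    exact sel a b c ndX ua ub uc h0' eb ec (hinv a ua (by linarith))
  · rw [eb] at hsum
    exfalso
    rcases mul_self_eq_one_iff.1 ua with f1 | f1 <;> rcases mul_self_eq_one_iff.1 uc with f2 | f2 <;>
      rcases mul_self_eq_one_iff.1 ea with f3 | f3 <;> rcases mul_self_eq_one_iff.1 ec with f4 | f4 <;>
      simp [f1, f2, f3, f4] at hsum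
  · rw [ec] at hsum
    exfalso
    rcases mul_self_eq_one_iff.1 ua with f1 | f1 <;> rcases mul_self_eq_one_iff.1 ub with f2 | f2 <;>
      rcases mul_self_eq_one_iff.1 ea with f3 | f3 <;> rcases mul_self_eq_one_iff.1 eb with f4 | f4 <;>
      simp [f1, f2, f3, f4] at hsum
  · omega

end CfsgLib.JT
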