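import Cfsg.Agent.JankoThompson.Fixed

/-!
# The two shapes of the centraliser of a fixed element of the torus

The quotient by the torus is `A₄` or `A₅`; in the second case `C(a) = A × E` with `E` the centraliser
of the inverting involution inside `C(a)`.
-/

set_option autoImplicit false
set_option linter.unusedSectionVars false
set_option linter.style.haveILetI false

namespace CfsgLib.JT

open Subgroup
open CfsgLib.NormCyclic (Inv)
open CfsgLib.Linear.SmallSub (P2)

/-- An odd commutative subgroup centralising an involution of `PSL₂(q)` is cyclic. -/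
theorem isCyclic_of_cent_invol {F : Type} [Field F] [Fintype F] (hodd : Odd (Fintype.card F))
    {A : Subgroup (P2 F)} {i0 : P2 F} (hi : Inv i0) (hA : Odd (Nat.card A))
    (hAi : ∀ a ∈ A, Commute i0 a) : IsCyclic A := by
  obtain ⟨x, U, m, hx, hx1, -, -, hU, -, -, -, -, hout⟩ :=
    CfsgLib.Linear.FourGroups.centralizer_shape (F := F) hodd
  obtain ⟨g, hg⟩ :=
    isConj_iff.1 (CfsgLib.Linear.FourGroups.involutions_conj hodd hi.1 hi.2 hx hx1)
  haveI := hU
  have hle : A.map (MulAut.conj g).toMonoidHom ≤ U := by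
    rintro _ ⟨a, ha, rfl⟩
    simp only [MulEquiv.coe_toMonoidHom, MulAut.conj_apply]
    by_contra hn
    have hc : g * a * g⁻¹ ∈ centralizer ({x} : Set (P2 F)) := mem_centralizer_singleton_iff.2
      (hg ▸ ((Commute.conj_iff g).2 (hAi a ha).symm).eq)
    obtain ⟨h2, h1, -⟩ := hout _ hc hn
    refine h1 (conj_eq_one_iff.2 (CfsgLib.DGroup.eq_one_of_sq ?_
      (hA.of_dvd_nat (orderOf_dvd_natCard _ ha))))
    rw [conj_mul] at h2
    exact conj_eq_one_iff.1 h2
  haveI : IsCyclic (A.map (MulAut.conj g).toMonoidHom) :=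
    isCyclic_of_injective (inclusion hle) (inclusion_injective hle)
  exact isCyclic_of_injective
    (A.equivMapOfInjective (MulAut.conj g).toMonoidHom (MulAut.conj g).injective).toMonoidHom
    (MulEquiv.injective _)

namespace Loc

variable {G : Type*} [Group G] [Finite G] (D : Loc G)

/-- `C(a) = A × E`, `E = C(a) ∩ C(x)` of order sixty. -/
structure Alt5 (a : G) : Prop where
  card_E : Nat.card (centralizer ({a} : Set G) ⊓ centralizer ({D.x} : Set G) : Subgroup G) = 60
  decomp : ∀ g ∈ centralizer ({a} : Set G), ∃ e ∈ centralizer ({a} : Set G) ⊓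
    centralizer ({D.x} : Set G), ∃ b ∈ D.A, g = e * b
  central : ∀ g ∈ centralizer ({a} : Set G), ∀ b ∈ D.A, Commute g b
  U_le : D.U ≤ centralizer ({a} : Set G) ⊓ centralizer ({D.x} : Set G)
  y_mem : D.y ∈ centralizer ({a} : Set G) ⊓ centralizer ({D.x} : Set G)
  inter : ∀ e ∈ centralizer ({a} : Set G) ⊓ centralizer ({D.x} : Set G), e ∈ D.A → e = 1

/-- `C(a) = (U × A)⟨y⟩`. -/
def Alt4 (a : G) : Prop :=
  ∀ g ∈ centralizer ({a} : Set G), ∃ w ∈ D.UA, ∃ n < 3, g = w * D.y ^ n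

theorem fixed_cases [IsCyclic D.A] {a : G} (ha : a ∈ D.A) (ha1 : a ≠ 1)
    (hya : D.y * a * D.y⁻¹ = a) : D.Alt4 a ∨ D.Alt5 a := by
  obtain ⟨hN, hcases⟩ := D.cent_fixed ha ha1 hya
  have hUH : D.U ≤ centralizer ({a} : Set G) := D.U_le_UA.trans (D.UA_le_cent ha)
  have hAH : D.A ≤ centralizer ({a} : Set G) := D.A_le_UA.trans (D.UA_le_cent ha)
  have hyH : D.y ∈ centralizer ({a} : Set G) := D.fixed_y_mem hya
  rcases hcases with h12 | ⟨h60, hgen, htriv⟩
  · refine Or.inl fun g hg => ?_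
    let f : D.U × D.A × Fin 3 → centralizer ({a} : Set G) := fun p =>
      ⟨(p.1 : G) * p.2.1 * D.y ^ (p.2.2 : ℕ),
        mul_mem (mul_mem (hUH p.1.2) (hAH p.2.1.2)) (pow_mem hyH _)⟩
    have hnot : ∀ n : ℕ, D.y ^ n ∈ D.UA → D.y ^ n * D.t * (D.y ^ n)⁻¹ = D.t := fun n h => by
      rw [(D.UA_comm h D.tU).eq, mul_inv_cancel_right]
    have h1 : D.y * D.t * D.y⁻¹ ≠ D.t := fun e => D.ht.2 (D.yfree _ D.tU e)
    have h2 : D.y ^ 2 * D.t * (D.y ^ 2)⁻¹ ≠ D.t := by
      rw [conj_two, D.y_two]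
      exact fun e => D.ht.2 (conj_eq_one_iff.1 (mul_eq_left.1 e))
    have hinj : Function.Injective f := by
      rintro ⟨⟨u, hu⟩, ⟨b, hb⟩, i⟩ ⟨⟨v, hv⟩, ⟨c, hc⟩, j⟩ e
      have e' : u * b * D.y ^ (i : ℕ) = v * c * D.y ^ (j : ℕ) := congrArg Subtype.val e
      have hij : i = j := by
        have hm : D.y ^ (i : ℕ) * (D.y ^ (j : ℕ))⁻¹ ∈ D.UA := by
          rw [show D.y ^ (i : ℕ) * (D.y ^ (j : ℕ))⁻¹ =
            (u * b)⁻¹ * (u * b * D.y ^ (i : ℕ)) * (D.y ^ (j : ℕ))⁻¹ by group, e',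
            show (u * b)⁻¹ * (v * c * D.y ^ (j : ℕ)) * (D.y ^ (j : ℕ))⁻¹ = (u * b)⁻¹ * (v * c) by group]
          exact mul_mem (inv_mem ⟨u, hu, b, hb, rfl⟩) ⟨v, hv, c, hc, rfl⟩
        have h3 := D.y_cubed
        have hy2 : D.y⁻¹ = D.y ^ 2 := inv_eq_of_mul_eq_one_right (by rw [← pow_succ', h3])
        fin_cases i <;> fin_cases j <;> first
          | rfl
          | (exfalso
             simp only [pow_zero, pow_one, inv_one, mul_one, one_mul] at hm
             first
              | exact h1 (by simpa using hnot 1 (by simpa using hm))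
              | exact h2 (hnot 2 hm)
              | exact h1 (by simpa using hnot 1 (by simpa using inv_mem hm))
              | exact h2 (hnot 2 (by simpa using inv_mem hm))
              | (rw [pow_two, mul_inv_cancel_right] at hm; exact h1 (by simpa using hnot 1 (by simpa using hm)))
              | (rw [pow_two, mul_inv_rev, mul_inv_cancel_left] at hm
                 exact h1 (by simpa using hnot 1 (by simpa using inv_mem hm))))
      subst hij
      obtain ⟨rfl, rfl⟩ := D.split_eq hu hv hb hc (mul_right_cancel e')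
      rfl
    obtain ⟨⟨⟨u, hu⟩, ⟨b, hb⟩, n⟩, he⟩ := (hinj.bijective_of_nat_card_le (le_of_eq (by
      rw [h12, Nat.card_prod, Nat.card_prod, Nat.card_fin, D.cardU]; ring))).2 ⟨g, hg⟩
    exact ⟨u * b, ⟨u, hu, b, hb, rfl⟩, n, n.2, (congrArg Subtype.val he).symm⟩
  · refine Or.inr ?_
    set H := centralizer ({a} : Set G) with hH
    -- the torus is central
    obtain ⟨g₀, hg₀⟩ := IsCyclic.exists_generator (α := D.A)
    have hpow : ∀ h ∈ H, ∃ m : ℤ, ∀ b ∈ D.A, h * b * h⁻¹ = b ^ m := by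
      intro h hh
      obtain ⟨m, hm⟩ := mem_zpowers_iff.1 (hg₀ ⟨_, hN h hh g₀ g₀.2⟩)
      refine ⟨m, fun b hb => ?_⟩
      obtain ⟨k, hk⟩ := mem_zpowers_iff.1 (hg₀ ⟨b, hb⟩)
      have hk' : (g₀ : G) ^ k = b := congrArg Subtype.val hk
      have hm' : (g₀ : G) ^ m = h * g₀ * h⁻¹ := congrArg Subtype.val hm
      rw [← hk', ← conj_zpow, ← hm', ← zpow_mul, mul_comm, zpow_mul]
    have hcomm : ⁅H, H⁆ ≤ centralizer (D.A : Set G) := by
      refine commutator_le.2 fun g hg h hh => mem_centralizer_iff.2 fun b hb => ?_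
      obtain ⟨m, hm⟩ := hpow g hg
      obtain ⟨n, hn⟩ := hpow h hh
      have hgh : ∀ c ∈ D.A, g * h * c * (g * h)⁻¹ = h * g * c * (h * g)⁻¹ := fun c hc => by
        rw [show g * h * c * (g * h)⁻¹ = g * (h * c * h⁻¹) * g⁻¹ by group,
          show h * g * c * (h * g)⁻¹ = h * (g * c * g⁻¹) * h⁻¹ by group, hn c hc, hm c hc,
          hm _ (zpow_mem hc n), hn _ (zpow_mem hc m), ← zpow_mul, ← zpow_mul, mul_comm]
      have hc : (h * g)⁻¹ * b * (h * g) ∈ D.A := by
        have := hN _ (inv_mem (mul_mem hh hg)) b hb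
        rwa [inv_inv] at this
      have e := hgh _ hc
      rw [show h * g * ((h * g)⁻¹ * b * (h * g)) * (h * g)⁻¹ = b by group] at e
      rw [commutatorElement_def]
      calc b * (g * h * g⁻¹ * h⁻¹)
          = g * h * ((h * g)⁻¹ * b * (h * g)) * (g * h)⁻¹ * (g * h * g⁻¹ * h⁻¹) := by rw [e]
        _ = g * h * g⁻¹ * h⁻¹ * b := by group
    have hcentral : ∀ g ∈ H, ∀ b ∈ D.A, Commute g b := by
      have hle : ⁅H, H⁆ ⊔ D.A ≤ centralizer (D.A : Set G) := sup_le hcomm fun c hc =>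
        mem_centralizer_iff.2 fun b hb => (D.Acomm b hb c hc).eq
      intro g hg b hb
      exact (mem_centralizer_iff.1 (hle (hgen g hg)) b hb).symm
    set E := H ⊓ centralizer ({D.x} : Set G) with hE
    have hEmem : ∀ g, g ∈ E ↔ g ∈ H ∧ D.x * g * D.x⁻¹ = g := fun g => by
      rw [hE, mem_inf]
      exact and_congr_right fun _ => ⟨fun h => by
          rw [← mem_centralizer_singleton_iff.1 h, mul_inv_cancel_right],
        fun h => mem_centralizer_singleton_iff.2 (mul_inv_eq_iff_eq_mul.1 h).symm⟩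
    have hdec : ∀ g ∈ H, ∃ e ∈ E, ∃ b ∈ D.A, g = e * b := by
      intro g hg
      set b := g⁻¹ * (D.x * g * D.x⁻¹) with hb
      have hbA : b ∈ D.A := htriv g hg
      obtain ⟨m, hm⟩ := D.odd_orderOf hbA
      set c := b ^ (m + 1) with hc
      have hcA : c ∈ D.A := pow_mem hbA _
      have hc2 : c * c = b := by
        rw [hc, ← pow_add, show m + 1 + (m + 1) = orderOf b + 1 by omega, pow_succ,
          pow_orderOf_eq_one, one_mul]
      refine ⟨g * c, (hEmem _).2 ⟨mul_mem hg (hAH hcA), ?_⟩, c⁻¹, inv_mem hcA, by group⟩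
      rw [show D.x * (g * c) * D.x⁻¹ = g * b * (D.x * c * D.x⁻¹) by rw [hb]; group, D.xinv c hcA,
        ← hc2]
      group
    have hint : ∀ e ∈ E, e ∈ D.A → e = 1 := fun e he heA => by
      refine D.eq_one_of_inv heA ?_
      rw [← D.xinv e heA, ((hEmem e).1 he).2]
    refine ⟨?_, hdec, hcentral, fun u hu => (hEmem u).2 ⟨hUH hu, ?_⟩, (hEmem _).2 ⟨hyH, ?_⟩, hint⟩
    · let f : E × D.A → H := fun p => ⟨(p.1 : G) * p.2, mul_mem p.1.2.1 (hAH p.2.2)⟩
      have hbij : Function.Bijective f := by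
        constructor
        · rintro ⟨⟨e, he⟩, ⟨b, hb⟩⟩ ⟨⟨e', he'⟩, ⟨b', hb'⟩⟩ h
          have h' : e * b = e' * b' := congrArg Subtype.val h
          have h1 : e'⁻¹ * e = b' * b⁻¹ := by
            calc e'⁻¹ * e = e'⁻¹ * (e * b) * b⁻¹ := by group
              _ = b' * b⁻¹ := by rw [h']; group
          obtain rfl : e' = e := inv_mul_eq_one.1
            (hint _ (mul_mem (inv_mem he') he) (h1 ▸ mul_mem hb' (inv_mem hb)))
          exact Prod.ext rfl (Subtype.ext (mul_left_cancel h'))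
        · rintro ⟨g, hg⟩
          obtain ⟨e, he, b, hb, rfl⟩ := hdec g hg
          exact ⟨(⟨e, he⟩, ⟨b, hb⟩), rfl⟩
      have := Nat.card_congr (Equiv.ofBijective f hbij)
      rw [Nat.card_prod, h60] at this
      exact Nat.eq_of_mul_eq_mul_right Nat.card_pos this
    · rw [(D.xcomm u hu).eq, mul_inv_cancel_right]
    · rw [D.yx.symm.eq, mul_inv_cancel_right]

end Loc

end CfsgLib.JT
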