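import Cfsg.Agent.JankoThompson.FixedShape
import Mathlib.GroupTheory.Sylow

/-!
# Centralisers of elements of odd prime order in a group of order sixty with self-centralising four-group
-/

set_option autoImplicit false
set_option linter.unusedSectionVars false
set_option linter.style.haveILetI false

namespace CfsgLib.JT

open Subgroup

variable {E : Type*} [Group E] [Finite E]

theorem no_commute_three_five (h60 : Nat.card E = 60) {U : Subgroup E} (hU : Nat.card U = 4)
    (hsq : ∀ u ∈ U, u * u = 1) (hcent : ∀ u ∈ U, u ≠ 1 → ∀ g, Commute g u → g ∈ U)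
    {p q : E} (hp : orderOf p = 5) (hq : orderOf q = 3) (hpq : Commute p q) : False := by
  classical
  haveI : Fact (Nat.Prime 5) := ⟨by norm_num⟩
  have hP : Nat.card (zpowers p) = 5 := by rw [Nat.card_zpowers, hp]
  have hi : ¬ 5 ∣ (zpowers p).index := by
    have := card_mul_index (zpowers p)
    rw [hP, h60] at this
    omega
  let P : Sylow 5 E := (IsPGroup.of_card (G := zpowers p) (n := 1) (by rw [hP, pow_one])).toSylow hi
  have hcoe : (P : Subgroup E) = zpowers p := rfl
  set N := normalizer ((P : Subgroup E) : Set E) with hN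
  have hqN : q ∈ N := by
    refine centralizer_le_normalizer _ (mem_centralizer_iff.2 fun z hz => ?_)
    obtain ⟨k, rfl⟩ := mem_zpowers_iff.1 hz
    exact (hpq.zpow_left k).eq
  have h15 : 15 ∣ Nat.card N := Nat.Coprime.mul_dvd_of_dvd_of_dvd (by norm_num : Nat.Coprime 5 3)
    (hp ▸ orderOf_dvd_natCard N (le_normalizer (mem_zpowers p))) (hq ▸ orderOf_dvd_natCard N hqN)
  have hmod : Nat.card (Sylow 5 E) ≡ 1 [MOD 5] := card_sylow_modEq_one 5 E
  rw [Sylow.card_eq_index_normalizer P] at hmod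
  have h4 : N.index ∣ 4 := by
    obtain ⟨j, hj⟩ := h15
    have := card_mul_index N
    rw [hj, h60] at this
    exact ⟨j, by linarith⟩
  have hidx : N.index = 1 := by
    have := Nat.le_of_dvd (by norm_num) h4
    unfold Nat.ModEq at hmod
    interval_cases hh : N.index <;> omega
  have hnorm : ∀ g : E, g * p * g⁻¹ ∈ zpowers p := fun g =>
    (mem_normalizer_iff.1 (show g ∈ N by rw [index_eq_one.1 hidx]; exact mem_top g) p).1 (mem_zpowers p)
  have hp1 : p ≠ 1 := fun e => by rw [e, orderOf_one] at hp; norm_num at hp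
  -- each involution of `U` inverts `p`
  have hinv : ∀ u ∈ U, u ≠ 1 → u * p * u⁻¹ = p⁻¹ := by
    intro u hu hu1
    obtain ⟨m, hm⟩ := mem_zpowers_iff.1 (hnorm u)
    have h2 : p ^ (m * m) = p := by
      rw [zpow_mul, hm, conj_zpow, hm, show u * (u * p * u⁻¹) * u⁻¹ = u * u * p * (u * u)⁻¹ by group,
        hsq u hu]
      simp
    have h5 : ((5 : ℕ) : ℤ) ∣ m * m - 1 := by
      rw [← hp, orderOf_dvd_iff_zpow_eq_one, zpow_sub, h2, zpow_one, mul_inv_cancel]
    have hfac : (5 : ℤ) ∣ (m - 1) * (m + 1) := by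
      rw [show (m - 1) * (m + 1) = m * m - 1 by ring]; simpa using h5
    rcases (Int.prime_iff_natAbs_prime.2 (by norm_num : Nat.Prime (5 : ℤ).natAbs)).dvd_or_dvd hfac
      with h | h
    · exfalso
      have e : u * p * u⁻¹ = p := by
        have h1 : p ^ (m - 1) = 1 := orderOf_dvd_iff_zpow_eq_one.1 (by rw [hp]; simpa using h)
        rw [← hm, show m = m - 1 + 1 by ring, zpow_add, h1, one_mul, zpow_one]
      have hpU := hcent u hu hu1 p (mul_inv_eq_iff_eq_mul.1 e).symm
      exact absurd (orderOf_dvd_of_pow_eq_one (x := p) (n := 2) (by rw [pow_two, hsq p hpU]))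
        (by rw [hp]; norm_num)
    · have h1 : p ^ (m + 1) = 1 := orderOf_dvd_iff_zpow_eq_one.1 (by rw [hp]; simpa using h)
      rw [← hm, show m = m + 1 + -1 by ring, zpow_add, h1, one_mul, zpow_neg_one]
  obtain ⟨⟨u, hu⟩, hu1'⟩ : ∃ u : U, u ≠ 1 := by
    by_contra h
    push Not at h
    haveI : Subsingleton U := ⟨fun a b => (h a).trans (h b).symm⟩
    rw [Nat.card_unique] at hU; omega
  have hu1 : u ≠ 1 := fun e => hu1' (Subtype.ext e)
  obtain ⟨v, hv, hv1, hvu⟩ : ∃ v ∈ U, v ≠ 1 ∧ v ≠ u := by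
    by_contra h
    push Not at h
    have hle : Nat.card U ≤ 2 := by
      refine le_trans (Nat.card_le_card_of_injective (fun w : U => decide ((w : E) = 1)) ?_)
        (le_of_eq (by simp))
      intro w w' e
      simp only [decide_eq_decide] at e
      refine Subtype.ext ?_
      by_cases h0 : (w : E) = 1
      · rw [h0, e.1 h0]
      · rw [h w w.2 h0, h w' w'.2 fun h1 => h0 (e.2 h1)]
    omega
  have huv : u * v ≠ 1 := fun e => hvu (by
    rw [eq_inv_of_mul_eq_one_right e, inv_eq_of_mul_eq_one_right (hsq u hu)])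
  have h1 := hinv _ (mul_mem hu hv) huv
  rw [show u * v * p * (u * v)⁻¹ = u * (v * p * v⁻¹) * u⁻¹ by group, hinv v hv hv1,
    show u * p⁻¹ * u⁻¹ = (u * p * u⁻¹)⁻¹ by group, hinv u hu hu1, inv_inv] at h1
  exact absurd (orderOf_dvd_of_pow_eq_one (x := p) (n := 2) (by
    rw [pow_two]; nth_rw 2 [h1]; exact mul_inv_cancel p)) (by rw [hp]; norm_num)

/-- An element of order three or five generates its own centraliser. -/
theorem card_cent_sixty (h60 : Nat.card E = 60) {U : Subgroup E} (hU : Nat.card U = 4)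
    (hsq : ∀ u ∈ U, u * u = 1) (hcent : ∀ u ∈ U, u ≠ 1 → ∀ g, Commute g u → g ∈ U)
    {s : E} {l : ℕ} (hl : l = 3 ∨ l = 5) (hs : orderOf s = l) :
    Nat.card (centralizer ({s} : Set E)) = l := by
  classical
  haveI : Fact (Nat.Prime 2) := ⟨Nat.prime_two⟩
  haveI : Fact (Nat.Prime 3) := ⟨Nat.prime_three⟩
  haveI : Fact (Nat.Prime 5) := ⟨by norm_num⟩
  set C := centralizer ({s} : Set E) with hC
  have hsC : l ∣ Nat.card C := hs ▸ orderOf_dvd_natCard C (mem_centralizer_singleton_iff.2 rfl)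
  have hdvd : Nat.card C ∣ 60 := h60 ▸ card_subgroup_dvd_card C
  have h2 : ¬ 2 ∣ Nat.card C := by
    intro h
    obtain ⟨⟨v, hvC⟩, hv2⟩ := exists_prime_orderOf_dvd_card' (G := C) 2 h
    rw [Subgroup.orderOf_mk] at hv2
    obtain ⟨S, hS⟩ := (IsPGroup.of_card (G := zpowers v) (p := 2) (n := 1)
      (by rw [Nat.card_zpowers, hv2, pow_one])).exists_le_sylow
    let T : Sylow 2 E := (IsPGroup.of_card (G := U) (n := 2) (by rw [hU]; rfl)).toSylow (by
      have := card_mul_index U
      rw [hU, h60] at this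
      omega)
    obtain ⟨g, hg⟩ := MulAction.exists_smul_eq E S T
    have hgv : g * v * g⁻¹ ∈ U := by
      show g * v * g⁻¹ ∈ (T : Subgroup E)
      rw [← hg]
      exact ⟨v, hS (mem_zpowers v), rfl⟩
    have hgv1 : g * v * g⁻¹ ≠ 1 := fun e => by
      rw [conj_eq_one_iff.1 e, orderOf_one] at hv2; norm_num at hv2
    have hmem := hcent _ hgv hgv1 (g * s * g⁻¹)
      ((Commute.conj_iff g).2 (mem_centralizer_singleton_iff.1 hvC).symm)
    have h4 := orderOf_dvd_of_pow_eq_one (x := g * s * g⁻¹) (n := 2) (by rw [pow_two, hsq _ hmem])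
    rw [show g * s * g⁻¹ = MulAut.conj g s from rfl, MulEquiv.orderOf_eq, hs] at h4
    rcases hl with rfl | rfl <;> norm_num at h4
  by_contra hne
  have h15 : 3 ∣ Nat.card C ∧ 5 ∣ Nat.card C := by
    have := Nat.le_of_dvd (by norm_num) hdvd
    have : 0 < Nat.card C := Nat.card_pos
    rcases hl with rfl | rfl <;> interval_cases hc : Nat.card C <;> omega
  obtain ⟨⟨q, hqC⟩, hq⟩ := exists_prime_orderOf_dvd_card' (G := C) 3 h15.1
  obtain ⟨⟨p, hpC⟩, hp⟩ := exists_prime_orderOf_dvd_card' (G := C) 5 h15.2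
  rw [Subgroup.orderOf_mk] at hq hp
  rcases hl with rfl | rfl
  · exact no_commute_three_five h60 hU hsq hcent hp hs (mem_centralizer_singleton_iff.1 hpC)
  · exact no_commute_three_five h60 hU hsq hcent hs hq (mem_centralizer_singleton_iff.1 hqC).symm

end CfsgLib.JT
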