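import Cfsg.Agent.JankoThompson.FixedCls

/-!
A function exchanged with an orthogonal one by the field automorphism, and an invariant partner.
-/

set_option autoImplicit false

namespace CfsgLib.JT

universe u v w

open Classical

variable {ι : Type u} {M : Type v} {Λ : Type w} [Fintype ι] [Fintype M] [Fintype Λ] {Q h : ℤ}

namespace ShP

variable {V : SV ι M Λ Q h} {p : ι → ℤ} (S : ShP V p) {m : M} {e : ℤ} {R : ℚ} {g : ι → ℤ}

include S in
/-- The points of the nine are pairwise distinct. -/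
theorem ne_facts : S.a ≠ V.o ∧ S.b ≠ V.o ∧ S.c ≠ V.o ∧ S.η ≠ V.o ∧ S.a ≠ S.b ∧ S.a ≠ S.c ∧ S.a ≠ S.η ∧
    S.b ≠ S.c ∧ S.b ≠ S.η ∧ S.c ≠ S.η ∧ S.u ≠ S.w ∧ S.u' ≠ S.w' := by
  have nd := S.nd
  simp only [List.nodup_cons, List.mem_cons, List.not_mem_nil, or_false, List.nodup_nil, and_true,
    not_or, not_false_eq_true] at nd
  grind

/-- A point of the third column is the image of one of the second. -/
theorem s_col1 {x : ι} (hx : x = S.u ∨ x = S.w) : V.s x = S.u' ∨ V.s x = S.w' := by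
  have h2 : V.X 2 (V.s x) = 1 := by
    rw [V.s_X2, S.X1]; rcases hx with rfl | rfl <;> simp
  rw [S.X2] at h2
  have hmem : V.s x ∈ [S.a, S.b, S.u', S.w'] := by
    by_contra h'; rw [if_neg h'] at h2; norm_num at h2
  simp only [List.mem_cons, List.not_mem_nil, or_false] at hmem
  have nd := S.nd
  simp only [List.nodup_cons, List.mem_cons, List.not_mem_nil, or_false, List.nodup_nil, and_true,
    not_or, not_false_eq_true] at nd
  rcases hmem with h' | h' | h' | h'
  · exfalso; have := V.s.injective (h'.trans S.sa.symm); grind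
  · exfalso; have := V.s.injective (h'.trans S.sb.symm); grind
  · exact Or.inl h'
  · exact Or.inr h'

/-- The function exchanged with an orthogonal one meets the second and the third column in
non-corresponding points. -/
def IsS (g : ι → ℤ) (e : ℤ) : Prop :=
  g S.u = e ∧ g S.w' = e ∧ ∃ q, q ∉ S.L ∧ g q * g q = 1 ∧ ∀ x, x ∉ [S.u, S.w', q] → g x = 0

include S in
theorem exists_isS (G : GV V m e R g) (he : e * e = 1) (hp : ∑ x, p x * g x = 0) (ho : g V.o = 0)
    (hR : R ≠ 0) (horth : ∑ x, g x * g (V.s x) = 0) : ∃ S' : ShP V p, S'.IsS g e := by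
  obtain ⟨-, -, -, -, hab, hac, haη, hbc, hbη, hcη, -, -⟩ := S.ne_facts
  rcases S.classify G he hp ho with h1 | h1 | h1
  · exfalso
    obtain ⟨ga, gc, gη, h0⟩ := h1
    have e0 := sum_eq_lsum (L := [S.a, S.c, S.η]) (by simp [hac, haη, hcη]) g (fun x => g (V.s x)) h0
    simp only [Int.cast_id] at e0
    rw [horth] at e0
    simp [lsum, S.sa, S.sc, S.sη, ga, gc, gη, he] at e0
  · exfalso
    obtain ⟨q, hq, hq1, -, -, gb, gc, h0⟩ := h1.cases
    simp [L] at hq
    have e0 := sum_eq_lsum (L := [S.b, S.c, q]) (by simp [hbc, Ne.symm hq.2.2.1, Ne.symm hq.2.2.2.1]) g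
      (fun x => g (V.s x)) h0
    simp only [Int.cast_id] at e0
    rw [horth] at e0
    simp [lsum, S.sb, S.sc, gb, gc, he] at e0
    have : g (V.s q) * g (V.s q) ≤ 3 := by
      rw [← G.norm]
      exact Finset.single_le_sum (f := fun x => g x * g x) (fun x _ => mul_self_nonneg _) (Finset.mem_univ _)
    rcases int_unit_or this with h2 | h2
    · rw [h2] at e0; simp at e0
    · rcases mul_self_eq_one_iff.1 h2 with f1 | f1 <;> rcases mul_self_eq_one_iff.1 hq1 with f2 | f2 <;>
        simp [f1, f2] at e0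
  · obtain ⟨i, j, q, hi, hj, hq, gi, gj, hq1, h0⟩ := h1
    have nd := S.nd
    have hq' := hq
    simp [L] at hq'
    simp only [List.mem_cons, List.not_mem_nil, or_false] at hi hj
    simp only [List.nodup_cons, List.mem_cons, List.not_mem_nil, or_false, List.nodup_nil, and_true,
      not_or, not_false_eq_true] at nd
    rcases hi with rfl | rfl <;> rcases hj with rfl | rfl
    · exact absurd (S.N_inv G he ⟨S.u, S.u', q, by simp, by simp, hq, gi, gj, hq1, h0⟩
        ⟨by rw [gi, gj], by rw [h0 S.w, h0 S.w'] <;> simp <;> grind⟩) hR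
    · exact ⟨S, gi, gj, q, hq, hq1, h0⟩
    · exact ⟨S.swapUW, gi, gj, q, by simp [L, swapUW]; grind, hq1, h0⟩
    · exact absurd (S.N_inv G he ⟨S.w, S.w', q, by simp, by simp, hq, gi, gj, hq1, h0⟩
        ⟨by rw [h0 S.u, h0 S.u'] <;> simp <;> grind, by rw [gi, gj]⟩) hR

variable {k : ι → ℤ} {R' : ℚ}

/-- The invariant partner is of type B. -/
theorem partner_B {Rp : ℚ} (P : GV V m (-1) Rp p) (hg : S.IsS g e)
    (K : GV V m (-e) R' k) (he : e * e = 1) (hp : ∑ x, p x * k x = 0) (ho : k V.o = 0)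
    (hs : ∀ x, k (V.s x) = k x) (hgk : ∑ x, k x * g x = 0) (horth : ∑ x, g x * g (V.s x) = 0)
    (hA : ∀ A : ℤ, R' * ((-e : ℤ) : ℚ) * (2 * (A : ℚ) - 1) ≠ Rp) : S.IsB k (-e) := by
  have he' : (-e) * (-e) = 1 := by linear_combination he
  rcases S.classify K he' hp ho with h1 | h1 | h1
  · exfalso
    obtain ⟨oa, ob, oc, oη, hab, hac, haη, hbc, hbη, hcη, -, -⟩ := S.ne_facts
    obtain ⟨ka, kc, kη, h0⟩ := h1
    have hpη : p S.η = 1 := by rw [S.pv, if_neg (Ne.symm haη), if_pos (by simp)]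
    have hpo : p V.o = 1 := by rw [S.pv, if_neg (Ne.symm oa), if_pos (by simp)]
    have hpa : p S.a = -1 := by rw [S.pv, if_pos rfl]
    obtain ⟨d1, z1, r1⟩ := P.three (x := V.o) (y := S.a) (w := S.η)
      (by simp [Ne.symm oa, Ne.symm oη, haη]) (by rw [hpo]; norm_num) (by rw [hpa]; norm_num)
      (by rw [hpη]; norm_num) fun x hx => by
        simp only [List.mem_cons, List.not_mem_nil, or_false, not_or] at hx
        rw [S.pv, if_neg hx.2.1, if_neg (by simp [hx.1, hx.2.2])]
    obtain ⟨d2, z2, r2⟩ := K.three (x := S.a) (y := S.c) (w := S.η)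
      (by simp [hac, haη, hcη]) (by rw [ka, he']) (by rw [kc, neg_neg, he]) (by rw [kη, he']) h0
    have hzo : V.z V.o = 1 := by rw [V.z_eq]; simp [V.X_one, V.Th_one, V.Tl_one]
    rw [hpo, hpa, V.d_o, hzo] at r1
    rw [hpo, hpa, hpη, V.d_o] at d1
    rw [hpo, hpa, hpη, hzo] at z1
    rw [ka, kc] at r2 d2 z2
    rw [kη] at d2 z2
    set A := V.d S.a
    set za := V.z S.a
    have hE : V.d S.η = A - 1 := by linarith
    have hzE : V.z S.η = za - 1 := by linarith
    have hC : V.d S.c = 2 * A - 1 := by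
      rw [hE] at d2; linear_combination e * d2 - (V.d S.c - 2 * A + 1) * he
    have hzc : V.z S.c = 2 * za - 1 := by
      rw [hzE] at z2; linear_combination e * z2 - (V.z S.c - 2 * za + 1) * he
    rw [hC, hzc] at r2
    have hA1 : (A : ℚ) - 1 ≠ 0 := by
      have := V.d_ne S.η; rw [hE] at this; exact_mod_cast this
    have hA0 : (A : ℚ) ≠ 0 := by exact_mod_cast V.d_ne S.a
    refine hA A (mul_left_cancel₀ (mul_ne_zero hA0 hA1) ?_)
    push_cast at r1 r2 ⊢
    have he2 : (e : ℚ) * e = 1 := by exact_mod_cast he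
    linear_combination r2 - r1 + ((za : ℚ) - A) ^ 2 * ((e : ℚ) * e + 1) * he2
      + R' * (A : ℚ) * (2 * A - 1) * ((A : ℚ) - 1) * (e : ℚ) * he2
  · exact h1
  · exfalso
    obtain ⟨gu, gw, q, hq, hq1, g0⟩ := hg
    obtain ⟨i, j, r, hi, hj, hr, ki, kj, hr1, k0⟩ := h1
    have he0 : e ≠ 0 := fun h' => by rw [h'] at he; simp at he
    have nd := S.nd
    have hq' := hq
    have hr' := hr
    simp [L] at hq' hr'
    simp only [List.mem_cons, List.not_mem_nil, or_false] at hi hj
    simp only [List.nodup_cons, List.mem_cons, List.not_mem_nil, or_false, List.nodup_nil, and_true,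
      not_or, not_false_eq_true] at nd
    have hij : (i = S.u ∧ j = S.u') ∨ (i = S.w ∧ j = S.w') := by
      rcases hi with rfl | rfl <;> rcases hj with rfl | rfl
      · exact Or.inl ⟨rfl, rfl⟩
      · exfalso; have := hs S.u'; rw [S.su, ki, k0 S.u' (by simp; grind)] at this; simp [he0] at this
      · exfalso; have := hs S.w'; rw [S.sw, ki, k0 S.w' (by simp; grind)] at this; simp [he0] at this
      · exact Or.inr ⟨rfl, rfl⟩
    have hsum : k r * g r = 1 := by
      have nd3 : [i, j, r].Nodup := by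
        rcases hi with rfl | rfl <;> rcases hj with rfl | rfl <;> simp <;> grind
      have e0 := sum_eq_lsum nd3 k g k0
      simp only [Int.cast_id] at e0
      rw [hgk] at e0
      rcases hij with ⟨rfl, rfl⟩ | ⟨rfl, rfl⟩
      · simp [lsum, ki, kj, gu, g0 S.u' (by simp; grind)] at e0
        rw [he] at e0; linarith
      · simp [lsum, ki, kj, gw, g0 S.w (by simp; grind)] at e0
        rw [he] at e0; linarith
    have hrq : r = q := by
      by_contra hne
      rw [g0 r (by simp; grind), mul_zero] at hsum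
      norm_num at hsum
    subst hrq
    have hkr : k r ≠ 0 := fun h' => by rw [h', zero_mul] at hsum; norm_num at hsum
    have hsr : V.s r = r := by
      by_contra hne
      have hmem : V.s r ∈ [i, j, r] := by
        by_contra h'; exact hkr (by rw [← hs]; exact k0 _ h')
      simp only [List.mem_cons, List.not_mem_nil, or_false] at hmem
      have x1 : V.X 1 (V.s r) = 0 := by rw [V.s_X1, S.X2, if_neg (by simp; grind)]
      have x2 : V.X 2 (V.s r) = 0 := by rw [V.s_X2, S.X1, if_neg (by simp; grind)]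
      rcases hmem with h' | h' | h'
      · rw [h', S.X1, if_pos (by rcases hi with rfl | rfl <;> simp)] at x1; norm_num at x1
      · rw [h', S.X2, if_pos (by rcases hj with rfl | rfl <;> simp)] at x2; norm_num at x2
      · exact hne h'
    have e0 := sum_eq_lsum (L := [S.u, S.w', r]) (by simp; grind) g (fun x => g (V.s x)) g0
    simp only [Int.cast_id] at e0
    rw [horth] at e0
    simp [lsum, gu, gw, S.sw, hsr, g0 S.w (by simp; grind), hq1] at e0
    rcases S.s_col1 (Or.inl rfl) with h' | h' <;> rw [h'] at e0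
    · rw [g0 S.u' (by simp; grind)] at e0; simp at e0
    · rw [gw, he] at e0; simp at e0

theorem delta_small (b c u δ n : ℤ) (hδ : δ = 0 ∨ δ = 1)
    (hn : (b + c) * (b + c) + b * b + c * c + (δ - b - c) * (δ - b - c) + 2 * (u * u)
      + 2 * ((c - u) * (c - u)) + (δ + c) * (δ + c) + (δ + b - c) * (δ + b - c) ≤ n) (hn4 : n ≤ 4) :
    c = 0 ∧ (b ≠ 0 → δ = 0 ∧ u = 0 ∧ 4 ≤ 4 * (b * b) ∧ n = 4) ∧ (δ = 1 → b = 0 ∧ u = 0) ∧
      (n ≤ 2 → b = 0 ∧ u = 0) := by
  have hb : -1 ≤ b ∧ b ≤ 1 := by rcases hδ with rfl | rfl <;> constructor <;> nlinarith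
  have hc : -1 ≤ c ∧ c ≤ 1 := by rcases hδ with rfl | rfl <;> constructor <;> nlinarith
  have hu : -1 ≤ u ∧ u ≤ 1 := by rcases hδ with rfl | rfl <;> constructor <;> nlinarith
  obtain ⟨b1, b2⟩ := hb
  obtain ⟨c1, c2⟩ := hc
  obtain ⟨u1, u2⟩ := hu
  rcases hδ with rfl | rfl <;> interval_cases b <;> interval_cases c <;> interval_cases u <;>
    norm_num at hn ⊢ <;> omega

/-- The values on the nine points of an invariant function orthogonal to the columns. -/
theorem delta {Rp : ℚ} (P : GV V m (-1) Rp p) (hg : S.IsS g e) (hk : S.IsB k (-e))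
    (K : GV V m (-e) R' k) (he : e * e = 1) (hgk : ∑ x, k x * g x = 0)
    (f : ι → ℤ) (δ : ℤ) (hδ : δ = 0 ∨ δ = 1) (ho : f V.o = 0) (hs : ∀ x, f (V.s x) = f x)
    (h0 : ∑ x, V.X 0 x * f x = 0) (h1 : ∑ x, V.X 1 x * f x = 0) (hp : ∑ x, p x * f x = δ)
    (hgf : ∑ x, g x * f x = -e * δ) (hkf : ∑ x, k x * f x = e * δ) (hd : ∑ x, f x * V.d x = 0)
    (hn : ∑ x, f x * f x ≤ 4) :
    f S.c = 0 ∧ f S.a = -f S.b ∧ (f S.b ≠ 0 → V.d S.a = 3 * V.d S.b + 2) ∧
      (δ = 1 → f S.b = 0 ∧ f S.u = 0 ∧ f S.w = 0) ∧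
      (∑ x, f x * f x ≤ 2 → f S.b = 0 ∧ f S.u = 0 ∧ f S.w = 0) := by
  obtain ⟨gu, gw, q, hq, hq1, g0⟩ := hg
  obtain ⟨r, hr, hr1, -, -, kb, kc, k0⟩ := hk.cases
  obtain ⟨oa, ob, oc, oη, hab, hac, haη, hbc, hbη, hcη, huw, huw'⟩ := S.ne_facts
  have nd := S.nd
  have hq' := hq
  have hr' := hr
  simp [L] at hq' hr'
  simp only [List.nodup_cons, List.mem_cons, List.not_mem_nil, or_false, List.nodup_nil, and_true,
    not_or, not_false_eq_true] at nd
  have hrq : r ≠ q := by
    intro h'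
    have e0 := sum_eq_lsum (L := [S.b, S.c, r]) (by simp; grind) k g k0
    simp only [Int.cast_id] at e0
    rw [hgk] at e0
    simp [lsum, g0 S.b (by simp; grind), g0 S.c (by simp; grind)] at e0
    rcases e0 with e0 | e0
    · rw [e0] at hr1; simp at hr1
    · rw [h'] at e0; rw [e0] at hq1; simp at hq1
  have r0 : f S.a + f S.b + f S.c = 0 := by rw [S.X0_sum, ho] at h0; linarith
  have r1 : f S.a + f S.b + f S.u + f S.w = 0 := by rw [S.X1_sum] at h1; linarith
  have rη : f S.η = δ + f S.a := by rw [S.p_sum, ho] at hp; linarith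
  have fu' : f S.u' = f S.u := by rw [← S.su, hs]
  have fw' : f S.w' = f S.w := by rw [← S.sw, hs]
  have rq : e * (f S.u + f S.w) + g q * f q = -e * δ := by
    have e0 := sum_eq_lsum (L := [S.u, S.w', q]) (by simp; grind) g f g0
    simp only [Int.cast_id] at e0
    rw [hgf] at e0
    simp [lsum, gu, gw, fw'] at e0
    linarith
  have rr : -e * (f S.b - f S.c) + k r * f r = e * δ := by
    have e0 := sum_eq_lsum (L := [S.b, S.c, r]) (by simp; grind) k f k0
    simp only [Int.cast_id] at e0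
    rw [hkf] at e0
    simp [lsum, kb, kc] at e0
    linarith
  have nd10 : (r :: q :: [S.a, S.b, S.c, S.η, S.u, S.w, S.u', S.w']).Nodup := by
    simp; grind
  have fq2 : f q * f q = (δ + f S.c) * (δ + f S.c) := by
    have hv : g q * f q = -e * (δ + f S.c) := by linear_combination rq - e * r1 + e * r0
    linear_combination (g q * f q - e * (δ + f S.c)) * hv - f q * f q * hq1 + (δ + f S.c) * (δ + f S.c) * he
  have fr2 : f r * f r = (δ + f S.b - f S.c) * (δ + f S.b - f S.c) := by
    have hv : k r * f r = e * (δ + f S.b - f S.c) := by linear_combination rr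
    linear_combination (k r * f r + e * (δ + f S.b - f S.c)) * hv - f r * f r * hr1
      + (δ + f S.b - f S.c) * (δ + f S.b - f S.c) * he
  have hl := lsum_self_le nd10 f
  have hval : lsum (r :: q :: [S.a, S.b, S.c, S.η, S.u, S.w, S.u', S.w']) f f =
      (f S.b + f S.c) * (f S.b + f S.c) + f S.b * f S.b + f S.c * f S.c
        + (δ - f S.b - f S.c) * (δ - f S.b - f S.c) + 2 * (f S.u * f S.u)
        + 2 * ((f S.c - f S.u) * (f S.c - f S.u)) + (δ + f S.c) * (δ + f S.c)
        + (δ + f S.b - f S.c) * (δ + f S.b - f S.c) := by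
    have ea : f S.a = -(f S.b + f S.c) := by linarith
    have ew : f S.w = f S.c - f S.u := by linarith
    simp [lsum, rη, fu', fw', fr2, fq2, ea, ew]
    ring
  rw [hval] at hl
  obtain ⟨hc, k1, k2, k3⟩ := delta_small (f S.b) (f S.c) (f S.u) δ _ hδ hl hn
  refine ⟨hc, by linarith, fun hb => ?_, fun hd1 => ⟨(k2 hd1).1, (k2 hd1).2, by linarith [(k2 hd1).1, (k2 hd1).2]⟩,
    fun h2 => ⟨(k3 h2).1, (k3 h2).2, by linarith [(k3 h2).1, (k3 h2).2]⟩⟩
  obtain ⟨hδ0, hu0, hb4, hn4⟩ := k1 hb
  have ea : f S.a = -f S.b := by linarith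
  have ew : f S.w = 0 := by linarith
  have hzero : ∀ x, x ∉ r :: q :: [S.a, S.b, S.c, S.η, S.u, S.w, S.u', S.w'] → f x = 0 := fun x hx => by
    refine eq_zero_of_lsum_eq nd10 f ?_ hx
    rw [hval, hc, hδ0, hu0]
    linarith [hn]
  have e0 := sum_eq_lsum nd10 f V.d hzero
  simp only [Int.cast_id] at e0
  rw [hd] at e0
  have fq0 : f q = 0 := mul_self_eq_zero.1 (by rw [fq2, hc, hδ0]; norm_num)
  simp [lsum, fq0, hc, ea, rη, hδ0, hu0, ew, fu', fw'] at e0
  -- degrees of the three functions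
  have hpo : p V.o = 1 := by rw [S.pv, if_neg (Ne.symm oa), if_pos (by simp)]
  have hpa : p S.a = -1 := by rw [S.pv, if_pos rfl]
  have hpη : p S.η = 1 := by rw [S.pv, if_neg (Ne.symm haη), if_pos (by simp)]
  have dp : 1 - V.d S.a + V.d S.η = 0 := by
    have := P.deg; rw [S.p_sum, V.d_o] at this; linarith
  have dk : -e * (V.d S.b - V.d S.c) + k r * V.d r = 0 := by
    have e1 := sum_eq_lsum (L := [S.b, S.c, r]) (by simp; grind) k V.d k0
    simp only [Int.cast_id] at e1
    rw [K.deg] at e1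
    simp [lsum, kb, kc] at e1
    linarith
  have d0 : 1 + V.d S.a + V.d S.b + V.d S.c = 0 := by
    have := V.X_deg 0; rw [S.X0_sum, V.d_o] at this; linarith
  have hfr : f r = e * f S.b * k r := by
    have hv : k r * f r = e * f S.b := by rw [hc, hδ0] at rr; linarith
    linear_combination k r * hv - f r * hr1
  rw [hfr] at e0
  have key : f S.b * (-(V.d S.a) + V.d S.b - (V.d S.a - 1) + (V.d S.b - V.d S.c)) = 0 := by
    linear_combination (-1 : ℤ) * e0 - e * f S.b * dk - f S.b * (V.d S.b - V.d S.c) * he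
      + f S.b * dp
  have := (mul_eq_zero.1 key).resolve_left hb
  linarith

end ShP

end CfsgLib.JT
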