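import Cfsg.Agent.JankoThompson.FixedSixty

/-!
# No fixed element of order three; no fixed element of order five in the alternating case of degree five
-/

set_option autoImplicit false
set_option linter.unusedSectionVars false
set_option linter.style.haveILetI false

namespace CfsgLib.JT

open Subgroup
open CfsgLib.NormCyclic (Inv)

variable {G : Type*} [Group G] [Finite G]

/-- With Sylow 2-subgroups of exponent two no element has a square inverting a nontrivial element of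
odd order. -/
theorem not_sq_inverts (hexp : ∀ P : Sylow 2 G, ∀ x ∈ (P : Subgroup G), x * x = 1) {n a : G}
    (ha : Odd (orderOf a)) (ha1 : a ≠ 1) (h : n * n * a * (n * n)⁻¹ = a⁻¹) : False := by
  haveI := Fact.mk Nat.prime_two
  obtain ⟨k, q, hq, hord⟩ := Nat.exists_eq_two_pow_mul_odd (orderOf_pos n).ne'
  set s := n * n with hs
  have hpow : ∀ j : ℕ, s ^ (2 * j) * a * (s ^ (2 * j))⁻¹ = a := by
    intro j
    have h2 : Commute (s ^ 2) a := mul_inv_eq_iff_eq_mul.1 (by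
      rw [conj_two, h, show s * a⁻¹ * s⁻¹ = (s * a * s⁻¹)⁻¹ by group, h, inv_inv])
    rw [pow_mul, (h2.pow_left j).eq, mul_inv_cancel_right]
  have hd : orderOf (n ^ q) ∣ 2 ^ k := orderOf_dvd_of_pow_eq_one (by
    rw [← pow_mul, mul_comm, ← hord, pow_orderOf_eq_one])
  obtain ⟨b, -, hb⟩ := (Nat.dvd_prime_pow Nat.prime_two).1 hd
  obtain ⟨P, hP⟩ := (IsPGroup.of_card (G := zpowers (n ^ q)) (p := 2) (n := b)
    (by rw [Nat.card_zpowers, hb])).exists_le_sylow
  have h1 : s ^ q = 1 := by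
    rw [hs, ← pow_two, ← pow_mul, mul_comm, pow_mul, pow_two]
    exact hexp P _ (hP (mem_zpowers _))
  obtain ⟨j, rfl⟩ := hq
  have h3 : s ^ (2 * j + 1) * a * (s ^ (2 * j + 1))⁻¹ = a⁻¹ := by
    rw [pow_succ', show s * s ^ (2 * j) * a * (s * s ^ (2 * j))⁻¹ =
      s * (s ^ (2 * j) * a * (s ^ (2 * j))⁻¹) * s⁻¹ by group, hpow, h]
  rw [h1] at h3
  exact ha1 (CfsgLib.DGroup.eq_one_of_inv_eq (by simpa using h3.symm) ha)

theorem zmod_three_cases : ∀ t : ZMod 3, t ≠ 0 → t = 1 ∨ t = -1 ∨ t * t = -1 := by decide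

theorem zmod_five_cases : ∀ t : ZMod 5, t ≠ 0 → t = 1 ∨ t = -1 ∨ t * t = -1 := by decide

theorem zmod_three_cube : ∀ t : ZMod 3, t * t * t = 1 → t = 1 := by decide

namespace Loc

variable (D : Loc G) {a : G}

include D

/-- In the alternating case of degree four no element of order three is inverted inside `C(a)`. -/
theorem alt4_not_inverted (h4 : D.Alt4 a) (ha : a ∈ D.A) (hya : D.y * a * D.y⁻¹ = a) {s x' : G}
    (hs : s ∈ centralizer ({a} : Set G)) (hs3 : orderOf s = 3)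
    (hx : x' ∈ centralizer ({a} : Set G)) (hx2 : x' * x' = 1) (hinv : x' * s * x'⁻¹ = s⁻¹) :
    False := by
  have hyUA : ∀ (n : ℕ), ∀ w ∈ D.UA, D.y ^ n * w * (D.y ^ n)⁻¹ ∈ D.UA := by
    rintro n _ ⟨u, hu, b, hb, rfl⟩
    exact ⟨_, D.y_pow_U n hu, _, D.y_pow_A n hb, by group⟩
  have hxU : x' ∈ D.U := by
    obtain ⟨w, hw, n, -, e⟩ := h4 _ hx
    have h3 : D.y ^ n * D.y ^ n * D.y ^ n = 1 := by
      rw [← pow_add, ← pow_add, show n + n + n = 3 * n by ring, pow_mul, D.y_cubed, one_pow]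
    have hmem : x' ∈ D.UA := by
      have e3 : x' = x' * x' * x' := by rw [hx2, one_mul]
      rw [e3, e, show w * D.y ^ n * (w * D.y ^ n) * (w * D.y ^ n) = w * (D.y ^ n * w * (D.y ^ n)⁻¹) *
        (D.y ^ n * D.y ^ n * w * (D.y ^ n * D.y ^ n)⁻¹) * (D.y ^ n * D.y ^ n * D.y ^ n) by group, h3,
        mul_one, ← pow_add]
      exact mul_mem (mul_mem hw (hyUA n w hw)) (hyUA _ w hw)
    obtain ⟨u, hu, b, hb, rfl⟩ := hmem
    have hb2 : (u * b) ^ 2 = b ^ 2 := by
      rw [(D.AU b hb u hu).symm.mul_pow, pow_two u, D.sqU u hu, one_mul]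
    rw [pow_two, hx2, pow_two] at hb2
    rwa [D.eq_one_of_sq hb hb2.symm, mul_one]
  have hnorm : s * x'⁻¹ * s⁻¹ ∈ D.U := by
    obtain ⟨w, hw, n, -, rfl⟩ := h4 _ hs
    have := D.y_pow_U n (inv_mem hxU)
    rw [show w * D.y ^ n * x'⁻¹ * (w * D.y ^ n)⁻¹ = w * (D.y ^ n * x'⁻¹ * (D.y ^ n)⁻¹) * w⁻¹ by group,
      (D.UA_comm hw this).eq, mul_inv_cancel_right]
    exact this
  have h1 := D.sqU _ (mul_mem hxU hnorm)
  rw [show x' * (s * x'⁻¹ * s⁻¹) = x' * s * x'⁻¹ * s⁻¹ by group, hinv] at h1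
  have h4' : orderOf s ∣ 4 := orderOf_dvd_of_pow_eq_one (inv_eq_one.1 (by
    rw [← inv_pow, show (4 : ℕ) = 2 + 2 from rfl, pow_add, pow_two]; exact h1))
  rw [hs3] at h4'
  norm_num at h4'

/-- In the alternating case of degree five the fixed element has order neither three nor five, if
elements of that order are conjugate into `⟨a⟩`. -/
theorem alt5_false (hexp : ∀ P : Sylow 2 G, ∀ x ∈ (P : Subgroup G), x * x = 1) {l : ℕ}
    (hl : l = 3 ∨ l = 5) (ha : a ∈ D.A) (hal : orderOf a = l) (h5 : D.Alt5 a)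
    (hconj : ∀ c : G, Commute c D.x → orderOf c = l → ∃ g, g * c * g⁻¹ ∈ zpowers a) : False := by
  classical
  set H := centralizer ({a} : Set G) with hH
  set E := H ⊓ centralizer ({D.x} : Set G) with hE
  haveI hlp : Fact l.Prime := ⟨by rcases hl with rfl | rfl <;> norm_num⟩
  have ha1 : a ≠ 1 := fun e => hlp.out.one_lt.ne' (by rw [← hal, e, orderOf_one])
  have hAH : D.A ≤ H := D.A_le_UA.trans (D.UA_le_cent ha)
  have hEx : ∀ e ∈ E, Commute e D.x := fun e he => mem_centralizer_singleton_iff.1 he.2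
  -- an element of order `l` of `E`
  obtain ⟨⟨c, hc⟩, hcl⟩ := exists_prime_orderOf_dvd_card' (G := E) l (by
    rw [h5.card_E]; rcases hl with rfl | rfl <;> norm_num)
  rw [Subgroup.orderOf_mk] at hcl
  obtain ⟨g, hg⟩ := hconj c (hEx c hc) hcl
  set z := g * c * g⁻¹ with hz
  have hzl : orderOf z = l := by rw [hz, ← MulAut.conj_apply, MulEquiv.orderOf_eq, hcl]
  obtain ⟨j, hj⟩ := mem_zpowers_iff.1 hg
  have haz : a ∈ zpowers z := by
    have e : zpowers z = zpowers a := eq_of_le_of_card_ge (zpowers_le.2 hg) (by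
      rw [Nat.card_zpowers, Nat.card_zpowers, hal, hzl])
    rw [e]; exact mem_zpowers a
  -- conjugates of elements centralising `c` centralise `a`
  have htrans : ∀ w, Commute w c → g * w * g⁻¹ ∈ H := fun w hw => by
    obtain ⟨i, hi⟩ := mem_zpowers_iff.1 haz
    refine mem_centralizer_singleton_iff.2 ?_
    rw [← hi]
    exact (((Commute.conj_iff g).2 hw).zpow_right i).eq
  set x' := g * D.x * g⁻¹ with hx'
  have hx'H : x' ∈ H := htrans _ (hEx c hc).symm
  -- elements inverted by `x'` lie in `E`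
  have hinvE : ∀ w ∈ H, Odd (orderOf w) → x' * w * x'⁻¹ = w⁻¹ → w ∈ E := by
    intro w hw hwo hwi
    obtain ⟨e, he, b, hb, rfl⟩ := h5.decomp w hw
    obtain ⟨e₁, he₁, b₁, hb₁, hxe⟩ := h5.decomp x' hx'H
    have hbc : ∀ h ∈ H, Commute h b := fun h hh => h5.central h hh b hb
    have h1 : x' * (e * b) * x'⁻¹ = e₁ * e * e₁⁻¹ * b := by
      rw [hxe, show e₁ * b₁ * (e * b) * (e₁ * b₁)⁻¹ = e₁ * (b₁ * (e * b) * b₁⁻¹) * e₁⁻¹ by group,
        (((h5.central e he.1 b₁ hb₁).symm).mul_right (D.Acomm b₁ hb₁ b hb)).eq, mul_inv_cancel_right,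
        show e₁ * (e * b) * e₁⁻¹ = e₁ * e * (b * e₁⁻¹) by group, ((hbc e₁ he₁.1).inv_left).symm.eq,
        ← mul_assoc]
    rw [h1, mul_inv_rev, ← ((hbc e he.1).inv_inv).eq] at hwi
    have hb2 : b * b ∈ E := by
      have e2 : b * b = (e₁ * e * e₁⁻¹)⁻¹ * e⁻¹ := by
        rw [show b * b = (e₁ * e * e₁⁻¹)⁻¹ * (e₁ * e * e₁⁻¹ * b) * b by group, hwi]; group
      rw [e2]
      exact mul_mem (inv_mem (mul_mem (mul_mem he₁ he) (inv_mem he₁))) (inv_mem he)
    rw [D.eq_one_of_sq hb (h5.inter _ hb2 (mul_mem hb hb)), mul_one]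
    exact he
  -- the conjugate torus is the cyclic group of order `l` inside `E`
  set s := g * a * g⁻¹ with hs
  have hsl : orderOf s = l := by rw [hs, ← MulAut.conj_apply, MulEquiv.orderOf_eq, hal]
  have hconjA : ∀ b ∈ D.A, g * b * g⁻¹ ∈ E := by
    intro b hb
    refine hinvE _ (htrans b (h5.central c hc.1 b hb).symm) ?_ ?_
    · rw [← MulAut.conj_apply, MulEquiv.orderOf_eq]; exact D.odd_orderOf hb
    · rw [hx', show g * D.x * g⁻¹ * (g * b * g⁻¹) * (g * D.x * g⁻¹)⁻¹ = g * (D.x * b * D.x⁻¹) * g⁻¹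
        by group, D.xinv b hb]
      group
  have hU4 : Nat.card (D.U.subgroupOf E) = 4 := by
    rw [Nat.card_congr (subgroupOfEquivOfLe h5.U_le).toEquiv, D.cardU]
  have hUsq : ∀ u ∈ D.U.subgroupOf E, u * u = 1 := fun u hu => Subtype.ext (D.sqU _ hu)
  have hUcent : ∀ u ∈ D.U.subgroupOf E, u ≠ 1 → ∀ w, Commute w u → w ∈ D.U.subgroupOf E := by
    intro u hu hu1 w hw
    obtain ⟨v, hv, b, hb, e⟩ := D.torus_all hu (fun e => hu1 (Subtype.ext e)) ha ha1
      (congrArg Subtype.val hw.eq) (mem_centralizer_singleton_iff.1 w.2.1)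
    have hbE : b ∈ E := by
      rw [show b = v⁻¹ * (w : G) by rw [e]; group]
      exact mul_mem (inv_mem (h5.U_le hv)) w.2
    show (w : G) ∈ D.U
    rwa [e, h5.inter b hbE hb, mul_one]
  have hcs := card_cent_sixty h5.card_E hU4 hUsq hUcent hl (s := ⟨s, hconjA a ha⟩)
    (by rw [Subgroup.orderOf_mk]; exact hsl)
  have hA : D.A = zpowers a := by
    refine (eq_of_le_of_card_ge (zpowers_le.2 ha) ?_).symm
    rw [Nat.card_zpowers, hal, ← hcs]
    refine Nat.card_le_card_of_injective (fun b : D.A =>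
      (⟨⟨g * b * g⁻¹, hconjA b b.2⟩, mem_centralizer_singleton_iff.2 (Subtype.ext
        ((Commute.conj_iff g).2 (D.Acomm _ b.2 a ha)).eq)⟩ :
        centralizer ({⟨s, hconjA a ha⟩} : Set E))) fun b b' h => ?_
    exact Subtype.ext (mul_left_cancel (mul_right_cancel
      (congrArg (fun w : centralizer ({⟨s, hconjA a ha⟩} : Set E) => ((w : E) : G)) h)))
  -- move `⟨s⟩` to `⟨c⟩` inside `E`
  have hPow : ∀ w : E, orderOf w = l → ∀ i : ℕ, ¬ l ^ (i + 2) ∣ Nat.card E := by
    intro w hw i h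
    rw [h5.card_E] at h
    have := Nat.le_of_dvd (by norm_num) h
    have h2 : l ^ 2 ∣ 60 := (pow_dvd_pow l (by omega)).trans h
    rcases hl with rfl | rfl <;> norm_num at h2
  obtain ⟨e, he⟩ : ∃ e : E, (e : G) * s * (e : G)⁻¹ ∈ zpowers c := by
    have hmk : ∀ (w : E), orderOf w = l → ∃ P : Sylow l E, (P : Subgroup E) = zpowers w := by
      intro w hw
      obtain ⟨P, hP⟩ := (IsPGroup.of_card (G := zpowers w) (p := l) (n := 1)
        (by rw [Nat.card_zpowers, hw, pow_one])).exists_le_sylow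
      refine ⟨P, (eq_of_le_of_card_ge hP ?_).symm⟩
      rw [Nat.card_zpowers, hw]
      obtain ⟨i, hi⟩ := P.isPGroup'.exists_card_eq
      rw [hi]
      rcases Nat.lt_or_ge i 2 with h | h
      · exact le_trans (Nat.pow_le_pow_right hlp.out.pos (by omega : i ≤ 1)) (by rw [pow_one])
      · exfalso
        obtain ⟨r, rfl⟩ := Nat.exists_eq_add_of_le h
        exact hPow w hw r (by rw [add_comm, ← hi]; exact card_subgroup_dvd_card _)
    obtain ⟨P, hP⟩ := hmk ⟨s, hconjA a ha⟩ (by rw [Subgroup.orderOf_mk]; exact hsl)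
    obtain ⟨Q, hQ⟩ := hmk ⟨c, hc⟩ (by rw [Subgroup.orderOf_mk]; exact hcl)
    obtain ⟨e, he⟩ := MulAction.exists_smul_eq E P Q
    refine ⟨e, ?_⟩
    have hmem : e * ⟨s, hconjA a ha⟩ * e⁻¹ ∈ zpowers (⟨c, hc⟩ : E) := by
      rw [← hQ, ← he]
      exact ⟨⟨s, hconjA a ha⟩, hP ▸ mem_zpowers _, rfl⟩
    obtain ⟨i, hi⟩ := mem_zpowers_iff.1 hmem
    exact mem_zpowers_iff.2 ⟨i, congrArg Subtype.val hi⟩
  set n := (e : G) * g with hn
  obtain ⟨i, hi⟩ := mem_zpowers_iff.1 he
  have hna : n * a * n⁻¹ = c ^ i := by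
    rw [hi, hn, hs]; group
  have hnc : n * c * n⁻¹ = a ^ j := by
    have h1 : Commute (e : G) a := mem_centralizer_singleton_iff.1 e.2.1
    rw [hn, show (e : G) * g * c * ((e : G) * g)⁻¹ = e * (g * c * g⁻¹) * (e : G)⁻¹ by group, ← hz,
      ← hj, (h1.zpow_right j).eq, mul_inv_cancel_right]
  have hn2 : n * n * a * (n * n)⁻¹ = a ^ (j * i) := by
    rw [show n * n * a * (n * n)⁻¹ = n * (n * a * n⁻¹) * n⁻¹ by group, hna, ← conj_zpow, hnc,
      ← zpow_mul]
  have hxc : D.x * c * D.x⁻¹ = c := by rw [(hEx c hc).symm.eq, mul_inv_cancel_right]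
  have hnx2 : n * D.x * (n * D.x) * a * (n * D.x * (n * D.x))⁻¹ = a ^ (-(j * i)) := by
    rw [show n * D.x * (n * D.x) * a * (n * D.x * (n * D.x))⁻¹ =
      n * (D.x * (n * (D.x * a * D.x⁻¹) * n⁻¹) * D.x⁻¹) * n⁻¹ by group, D.xinv a ha,
      show n * a⁻¹ * n⁻¹ = (n * a * n⁻¹)⁻¹ by group, hna, ← zpow_neg, ← conj_zpow, hxc, ← conj_zpow,
      hnc, ← zpow_mul, mul_neg]
  have haodd : Odd (orderOf a) := D.odd_orderOf ha
  have hcast : ∀ u v : ℤ, (u : ZMod l) = (v : ZMod l) → a ^ u = a ^ v := fun u v h => by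
    refine zpow_eq_zpow_iff_modEq.2 ?_
    rw [hal]
    exact (ZMod.intCast_eq_intCast_iff u v l).1 h
  have hji : ((j * i : ℤ) : ZMod l) ≠ 0 := by
    intro h
    have e1 := hcast (j * i) 0 (by simpa using h)
    rw [zpow_zero, ← hn2, conj_eq_one_iff] at e1
    exact ha1 e1
  -- the scalar is `1`, `-1`, or a square root of `-1`
  have hcases : ((j * i : ℤ) : ZMod l) = 1 ∨ ((j * i : ℤ) : ZMod l) = -1 ∨
      ((j * i * (j * i) : ℤ) : ZMod l) = -1 := by
    push_cast at hji ⊢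
    generalize ((j : ZMod l) * (i : ZMod l)) = t at hji ⊢
    rcases hl with rfl | rfl
    · exact zmod_three_cases t hji
    · exact zmod_five_cases t hji
  rcases hcases with h | h | h
  · refine not_sq_inverts hexp haodd ha1 (hnx2.trans ?_)
    rw [hcast _ (-1) (by push_cast at h ⊢; rw [h]), zpow_neg_one]
  · refine not_sq_inverts hexp haodd ha1 (hn2.trans ?_)
    rw [hcast _ (-1) (by push_cast at h ⊢; rw [h]), zpow_neg_one]
  · refine not_sq_inverts hexp (n := n * n) haodd ha1 ?_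
    rw [show n * n * (n * n) * a * (n * n * (n * n))⁻¹ = n * n * (n * n * a * (n * n)⁻¹) * (n * n)⁻¹
      by group, hn2, ← conj_zpow, hn2, ← zpow_mul, hcast _ (-1) (by push_cast at h ⊢; exact h),
      zpow_neg_one]

/-- No element of order three of the torus is fixed by `y`. -/
theorem three_false [IsCyclic D.A] (hexp : ∀ P : Sylow 2 G, ∀ x ∈ (P : Subgroup G), x * x = 1)
    (ha : a ∈ D.A) (ha3 : orderOf a = 3)
    (hconj : ∀ c : G, Commute c D.x → orderOf c = 3 → ∃ g, g * c * g⁻¹ ∈ zpowers a) : False := by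
  have ha1 : a ≠ 1 := fun e => by rw [e, orderOf_one] at ha3; norm_num at ha3
  have hyA := D.y_conj_A ha
  -- `y` fixes `a`
  have hya : D.y * a * D.y⁻¹ = a := by
    haveI : Fact (Nat.Prime 3) := ⟨Nat.prime_three⟩
    have hmem : D.y * a * D.y⁻¹ ∈ zpowers a := by
      classical
      haveI := Fintype.ofFinite D.A
      have := IsCyclic.card_orderOf_eq_totient (α := D.A) (d := 3)
        (Nat.card_eq_fintype_card (α := D.A) ▸ ha3 ▸ orderOf_dvd_natCard D.A ha)
      by_contra hne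
      have hle : ({⟨a, ha⟩, ⟨a⁻¹, inv_mem ha⟩, ⟨D.y * a * D.y⁻¹, hyA⟩} : Finset D.A) ⊆
          Finset.univ.filter (fun b : D.A => orderOf b = 3) := by
        intro b hb
        simp only [Finset.mem_insert, Finset.mem_singleton] at hb
        simp only [Finset.mem_filter, Finset.mem_univ, true_and]
        rcases hb with rfl | rfl | rfl <;> rw [Subgroup.orderOf_mk]
        exacts [ha3, (orderOf_inv a).trans ha3, (MulEquiv.orderOf_eq (MulAut.conj D.y) a).trans ha3]
      have h := Finset.card_le_card hle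
      rw [this, Nat.totient_prime Nat.prime_three, Finset.card_insert_of_notMem,
        Finset.card_insert_of_notMem, Finset.card_singleton] at h
      · omega
      · simp only [Finset.mem_singleton, Subtype.mk.injEq]
        exact fun e => hne (e ▸ inv_mem (mem_zpowers a))
      · simp only [Finset.mem_insert, Finset.mem_singleton, Subtype.mk.injEq, not_or]
        exact ⟨fun e => ha1 (CfsgLib.DGroup.eq_one_of_inv_eq e.symm (D.odd_orderOf ha)),
          fun e => hne (e ▸ mem_zpowers a)⟩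
    obtain ⟨i, hi⟩ := mem_zpowers_iff.1 hmem
    have h3 : a ^ (i * i * i) = a := by
      rw [zpow_mul, zpow_mul, hi, conj_zpow, hi, conj_zpow, conj_zpow, hi, ← conj_three, D.y_cubed]
      simp
    rw [← hi]
    conv_rhs => rw [← zpow_one a]
    refine zpow_eq_zpow_iff_modEq.2 ?_
    rw [ha3, ← ZMod.intCast_eq_intCast_iff]
    have h4 : ((i * i * i : ℤ) : ZMod 3) = ((1 : ℤ) : ZMod 3) := by
      rw [ZMod.intCast_eq_intCast_iff, ← ha3]
      exact zpow_eq_zpow_iff_modEq.1 (h3.trans (zpow_one a).symm)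
    push_cast at h4 ⊢
    generalize (i : ZMod 3) = t at h4 ⊢
    exact zmod_three_cube t h4
  rcases D.fixed_cases ha ha1 hya with h4 | h5
  · have hy3 : orderOf D.y = 3 := by
      haveI : Fact (Nat.Prime 3) := ⟨Nat.prime_three⟩
      exact orderOf_eq_prime D.y_cubed fun e => D.ht.2 (D.yfree _ D.tU (by rw [e]; simp))
    obtain ⟨g, hg⟩ := hconj D.y D.yx hy3
    obtain ⟨j, hj⟩ := mem_zpowers_iff.1 hg
    have haz : a ∈ zpowers (g * D.y * g⁻¹) := by
      rw [eq_of_le_of_card_ge (zpowers_le.2 hg) (by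
        rw [Nat.card_zpowers, Nat.card_zpowers, ha3, ← MulAut.conj_apply, MulEquiv.orderOf_eq, hy3])]
      exact mem_zpowers a
    have htrans : ∀ w, Commute w D.y → g * w * g⁻¹ ∈ centralizer ({a} : Set G) := fun w hw => by
      obtain ⟨i, hi⟩ := mem_zpowers_iff.1 haz
      refine mem_centralizer_singleton_iff.2 ?_
      rw [← hi]
      exact (((Commute.conj_iff g).2 hw).zpow_right i).eq
    refine D.alt4_not_inverted h4 ha hya (htrans a (mul_inv_eq_iff_eq_mul.1 hya).symm) ?_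
      (htrans D.x D.yx.symm) ?_ (x' := g * D.x * g⁻¹) ?_
    · rw [← MulAut.conj_apply, MulEquiv.orderOf_eq, ha3]
    · rw [conj_mul, D.hx.1, mul_one, mul_inv_cancel]
    · rw [show g * D.x * g⁻¹ * (g * a * g⁻¹) * (g * D.x * g⁻¹)⁻¹ = g * (D.x * a * D.x⁻¹) * g⁻¹ by group,
        D.xinv a ha]
      group
  · exact D.alt5_false hexp (Or.inl rfl) ha ha3 h5 hconj

end Loc

end CfsgLib.JT
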