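import Cfsg.Agent.JankoThompson.PatternBase

/-!
The integer vectors of the involution section together with the functions of a fixed element of the torus.
-/

set_option autoImplicit false

namespace CfsgLib.JT

universe u v w

open Classical

/-- The three functions of the principal block, the functions of the pairs and the remaining ones;
`T / 3` is the right-hand side of the counting equation of a free torus function. -/
structure SV (ι : Type u) (M : Type v) (Λ : Type w) [Fintype ι] [Fintype M] [Fintype Λ] (Q h : ℤ) where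
  hQ8 : Q % 8 = 3
  hQ : 5 ≤ |Q|
  hh : 2 * h = Q - 1
  o : ι
  d : ι → ℤ
  d_ne : ∀ c, d c ≠ 0
  d_o : d o = 1
  X : Fin 3 → ι → ℤ
  Th : M → ι → ℤ
  Tl : Λ → ι → ℤ
  XX : ∀ i j, ∑ c, X i c * X j c = if i = j then 4 else 2
  X_one : ∀ i, X i o = if i = 0 then 1 else 0
  XTh : ∀ i m, ∑ c, X i c * Th m c = 0
  XTl : ∀ i l, ∑ c, X i c * Tl l c = 0
  ThTh : ∀ m, ∑ c, Th m c * Th m c = 4
  TlTl : ∀ l, ∑ c, Tl l c * Tl l c = 2
  Th_one : ∀ m, Th m o = 0
  Tl_one : ∀ l, Tl l o = 0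
  X_deg : ∀ i, ∑ c, X i c * d c = 0
  Th_deg : ∀ m, ∑ c, Th m c * d c = 0
  Tl_deg : ∀ l, ∑ c, Tl l c * d c = 0
  z : ι → ℤ
  z_eq : ∀ c, z c = X 0 c + h * (X 1 c + X 2 c) + (Q - 1) * ∑ m, Th m c + (Q + 1) * ∑ l, Tl l c
  s : Equiv.Perm ι
  s_o : s o = o
  s_d : ∀ c, d (s c) = d c
  s_X0 : ∀ c, X 0 (s c) = X 0 c
  s_X1 : ∀ c, X 1 (s c) = X 2 c
  s_X2 : ∀ c, X 2 (s c) = X 1 c
  s_Th : ∀ m c, Th m (s c) = Th m c
  s_Tl : ∀ l c, Tl l (s c) = Tl l c
  T : ℚ
  T_ne : T ≠ 0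
  pairsX0 : ∑ c, (X 0 c : ℚ) * ((z c : ℚ) ^ 2 / (d c : ℚ)) = T * ((Q : ℚ) - 1) / ((Q : ℚ) + 1)
  pairsX1 : ∑ c, (X 1 c : ℚ) * ((z c : ℚ) ^ 2 / (d c : ℚ)) = T * (3 * (Q : ℚ) - 1) / ((Q : ℚ) + 1) ^ 2

variable {ι : Type u} {M : Type v} {Λ : Type w} [Fintype ι] [Fintype M] [Fintype Λ] {Q h : ℤ}

/-- A function of a fixed element: `e` is its product with the second and third column. -/
structure GV (V : SV ι M Λ Q h) (m : M) (e : ℤ) (R : ℚ) (f : ι → ℤ) : Prop where
  norm : ∑ c, f c * f c = 3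
  deg : ∑ c, f c * V.d c = 0
  X0 : ∑ c, f c * V.X 0 c = 0
  X1 : ∑ c, f c * V.X 1 c = e
  X2 : ∑ c, f c * V.X 2 c = e
  Th : ∀ n, ∑ c, f c * V.Th n c = if n = m then -e else 0
  Tl : ∀ l, ∑ c, f c * V.Tl l c = 0
  pairs : ∑ c, (f c : ℚ) * ((V.z c : ℚ) ^ 2 / (V.d c : ℚ)) = R

theorem SV.s_z (V : SV ι M Λ Q h) (c : ι) : V.z (V.s c) = V.z c := by
  simp only [V.z_eq, V.s_X0, V.s_X1, V.s_X2, V.s_Th, V.s_Tl]; ring

theorem SV.Q_ne (V : SV ι M Λ Q h) : (Q : ℚ) - 1 ≠ 0 ∧ (Q : ℚ) + 1 ≠ 0 := by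
  have h1 := V.hQ
  constructor
  · rw [sub_ne_zero]; intro e
    have : Q = 1 := by exact_mod_cast e
    subst this; norm_num at h1
  · intro e
    have : Q = -1 := by exact_mod_cast eq_neg_of_add_eq_zero_left e
    subst this; norm_num at h1

theorem GV.sum_z {V : SV ι M Λ Q h} {m : M} {e : ℤ} {R : ℚ} {f : ι → ℤ} (F : GV V m e R f) :
    ∑ c, f c * V.z c = 0 := by
  have e2 : ∀ c, f c * V.z c = f c * V.X 0 c + h * (f c * V.X 1 c) + h * (f c * V.X 2 c) +
      (Q - 1) * ∑ n, f c * V.Th n c + (Q + 1) * ∑ l, f c * V.Tl l c := fun c => by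
    rw [V.z_eq, ← Finset.mul_sum, ← Finset.mul_sum]; ring
  have hT : ∑ c, ∑ n, f c * V.Th n c = -e := by
    rw [Finset.sum_comm, Finset.sum_congr rfl fun n _ => F.Th n, Finset.sum_ite_eq']
    simp
  have hL : ∑ c, ∑ l, f c * V.Tl l c = 0 := by
    rw [Finset.sum_comm, Finset.sum_congr rfl fun l _ => F.Tl l, Finset.sum_const_zero]
  rw [Finset.sum_congr rfl fun c _ => e2 c, Finset.sum_add_distrib, Finset.sum_add_distrib,
    Finset.sum_add_distrib, Finset.sum_add_distrib]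
  rw [← Finset.mul_sum Finset.univ (fun c => f c * V.X 1 c), ← Finset.mul_sum Finset.univ (fun c => f c * V.X 2 c),
    ← Finset.mul_sum Finset.univ (fun c => ∑ n, f c * V.Th n c),
    ← Finset.mul_sum Finset.univ (fun c => ∑ l, f c * V.Tl l c), hT, hL, F.X0, F.X1, F.X2]
  linear_combination e * V.hh

/-- A function with three points: the counting equation as a square. -/
theorem GV.three {V : SV ι M Λ Q h} {m : M} {e : ℤ} {R : ℚ} {f : ι → ℤ} (F : GV V m e R f) {x y w : ι}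
    (nd : [x, y, w].Nodup) (hx : f x * f x = 1) (hy : f y * f y = 1) (hw : f w * f w = 1)
    (hz : ∀ c, c ∉ [x, y, w] → f c = 0) :
    f x * V.d x + f y * V.d y + f w * V.d w = 0 ∧ f x * V.z x + f y * V.z y + f w * V.z w = 0 ∧
    R * (((f x * V.d x : ℤ) : ℚ) * (f y * V.d y : ℤ) * (f x * V.d x + f y * V.d y : ℤ)) =
      (((f x * V.z x) * (f y * V.d y) - (f y * V.z y) * (f x * V.d x) : ℤ) : ℚ) ^ 2 := by
  have hs : ∀ {K : Type} [Ring K] (g : ι → K),
      ∑ c, (f c : K) * g c = (f x : K) * g x + (f y : K) * g y + (f w : K) * g w := fun g => by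
    rw [sum_eq_lsum nd f g hz]; simp [lsum, add_assoc]
  have hd : f x * V.d x + f y * V.d y + f w * V.d w = 0 := by
    have := hs V.d; simp only [Int.cast_id] at this; rw [← this, F.deg]
  have hzs : f x * V.z x + f y * V.z y + f w * V.z w = 0 := by
    have := hs V.z; simp only [Int.cast_id] at this; rw [← this, F.sum_z]
  refine ⟨hd, hzs, ?_⟩
  have ht : ∀ c, f c * f c = 1 → (f c : ℚ) * ((V.z c : ℚ) ^ 2 / (V.d c : ℚ)) =
      ((f c * V.z c : ℤ) : ℚ) ^ 2 / ((f c * V.d c : ℤ) : ℚ) := fun c hc => by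
    rcases mul_self_eq_one_iff.1 hc with e' | e' <;> rw [e'] <;> simp [div_neg]
  have hp := (hs fun c => (V.z c : ℚ) ^ 2 / (V.d c : ℚ)).symm.trans F.pairs
  rw [ht x hx, ht y hy, ht w hw] at hp
  have hne : ∀ c, f c * f c = 1 → ((f c * V.d c : ℤ) : ℚ) ≠ 0 := fun c hc => by
    refine Int.cast_ne_zero.2 (mul_ne_zero (fun e' => ?_) (V.d_ne c))
    rw [e'] at hc; simp at hc
  have hxy : ((f x * V.d x + f y * V.d y : ℤ) : ℚ) = -((f w * V.d w : ℤ) : ℚ) := by
    exact_mod_cast (by linarith : f x * V.d x + f y * V.d y = -(f w * V.d w))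
  have hwz : ((f w * V.z w : ℤ) : ℚ) = -(((f x * V.z x : ℤ) : ℚ) + ((f y * V.z y : ℤ) : ℚ)) := by
    exact_mod_cast (by linarith : f w * V.z w = -(f x * V.z x + f y * V.z y))
  have hw' : ((f w * V.d w : ℤ) : ℚ) = -(((f x * V.d x : ℤ) : ℚ) + ((f y * V.d y : ℤ) : ℚ)) := by
    exact_mod_cast (by linarith : f w * V.d w = -(f x * V.d x + f y * V.d y))
  have n1 := hne x hx
  have n2 := hne y hy
  have n3 := hne w hw
  rw [hwz, hw'] at hp
  rw [hw'] at n3
  rw [← hp, show ((f x * V.d x + f y * V.d y : ℤ) : ℚ) =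
    ((f x * V.d x : ℤ) : ℚ) + ((f y * V.d y : ℤ) : ℚ) from Int.cast_add _ _,
    Int.cast_sub, Int.cast_mul (f x * V.z x), Int.cast_mul (f y * V.z y)]
  generalize ((f x * V.z x : ℤ) : ℚ) = a at *
  generalize ((f y * V.z y : ℤ) : ℚ) = b at *
  generalize ((f x * V.d x : ℤ) : ℚ) = c at *
  generalize ((f y * V.d y : ℤ) : ℚ) = g at *
  have n4 : c + g ≠ 0 := fun e' => n3 (by rw [e']; simp)
  rw [div_neg, neg_sq]
  field_simp
  ring

/-- Three nonzero units of a function of norm three more than on `L`. -/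
theorem exists_three {L : List ι} (hL : L.Nodup) (f : ι → ℤ) (he : lsum L f f + 3 = ∑ x, f x * f x) :
    ∃ x y w, (x :: y :: w :: L).Nodup ∧ f x * f x = 1 ∧ f y * f y = 1 ∧ f w * f w = 1 ∧
      ∀ c, c ∉ x :: y :: w :: L → f c = 0 := by
  have hsq : ∀ v : ℤ, v ≠ 0 → v * v ≤ 3 → v * v = 1 := by
    intro v hv h3
    have h1 : v ≤ 1 := by nlinarith
    have h2 : -1 ≤ v := by nlinarith
    obtain rfl | rfl : v = 1 ∨ v = -1 := by omega
    all_goals norm_num
  have e2 : ∀ (l : List ι) (q : ι), lsum (q :: l) f f = f q * f q + lsum l f f := fun l q => by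
    simp [lsum]
  obtain ⟨w, hw, hw0⟩ := exists_out hL f (by omega)
  have n1 : (w :: L).Nodup := List.nodup_cons.2 ⟨hw, hL⟩
  have l1 := lsum_self_le n1 f
  rw [e2] at l1
  have hw1 := hsq _ hw0 (by omega)
  obtain ⟨y, hy, hy0⟩ := exists_out n1 f (by rw [e2]; omega)
  have n2 : (y :: w :: L).Nodup := List.nodup_cons.2 ⟨hy, n1⟩
  have l2 := lsum_self_le n2 f
  rw [e2, e2] at l2
  have hy1 := hsq _ hy0 (by omega)
  obtain ⟨x, hx, hx1, hx2⟩ := exists_one n2 f (by rw [e2, e2]; omega)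
  refine ⟨x, y, w, List.nodup_cons.2 ⟨hx, n2⟩, hx1, hy1, hw1, fun c hc => hx2 c ?_ ?_⟩
  · exact fun h' => hc (List.mem_cons_of_mem _ h')
  · exact fun h' => hc (h' ▸ List.mem_cons_self)

variable (V : SV ι M Λ Q h) (σ : ι → ℤ)

/-- Multiply each coordinate by a sign. -/
def SV.flip (hσ : ∀ c, σ c * σ c = 1) (hσo : σ V.o = 1) (hσs : ∀ c, σ (V.s c) = σ c) : SV ι M Λ Q h where
  hQ8 := V.hQ8
  hQ := V.hQ
  hh := V.hh
  o := V.o
  d c := σ c * V.d c
  d_ne c := mul_ne_zero (fun e => by simpa [e] using hσ c) (V.d_ne c)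
  d_o := by rw [hσo, V.d_o, one_mul]
  X i c := σ c * V.X i c
  Th m c := σ c * V.Th m c
  Tl l c := σ c * V.Tl l c
  XX i j := by
    rw [← V.XX i j]; exact Finset.sum_congr rfl fun c _ => by linear_combination V.X i c * V.X j c * hσ c
  X_one i := by rw [hσo, one_mul, V.X_one]
  XTh i m := by
    rw [← V.XTh i m]; exact Finset.sum_congr rfl fun c _ => by linear_combination V.X i c * V.Th m c * hσ c
  XTl i l := by
    rw [← V.XTl i l]; exact Finset.sum_congr rfl fun c _ => by linear_combination V.X i c * V.Tl l c * hσ c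
  ThTh m := by
    rw [← V.ThTh m]; exact Finset.sum_congr rfl fun c _ => by linear_combination V.Th m c * V.Th m c * hσ c
  TlTl l := by
    rw [← V.TlTl l]; exact Finset.sum_congr rfl fun c _ => by linear_combination V.Tl l c * V.Tl l c * hσ c
  Th_one m := by rw [V.Th_one, mul_zero]
  Tl_one l := by rw [V.Tl_one, mul_zero]
  X_deg i := by
    rw [← V.X_deg i]; exact Finset.sum_congr rfl fun c _ => by linear_combination V.X i c * V.d c * hσ c
  Th_deg m := by
    rw [← V.Th_deg m]; exact Finset.sum_congr rfl fun c _ => by linear_combination V.Th m c * V.d c * hσ c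
  Tl_deg l := by
    rw [← V.Tl_deg l]; exact Finset.sum_congr rfl fun c _ => by linear_combination V.Tl l c * V.d c * hσ c
  z c := σ c * V.z c
  z_eq c := by rw [V.z_eq c, ← Finset.mul_sum, ← Finset.mul_sum]; ring
  s := V.s
  s_o := V.s_o
  s_d c := by rw [hσs, V.s_d]
  s_X0 c := by rw [hσs, V.s_X0]
  s_X1 c := by rw [hσs, V.s_X1]
  s_X2 c := by rw [hσs, V.s_X2]
  s_Th m c := by rw [hσs, V.s_Th]
  s_Tl l c := by rw [hσs, V.s_Tl]
  T := V.T
  T_ne := V.T_ne
  pairsX0 := by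
    rw [← V.pairsX0]
    refine Finset.sum_congr rfl fun c _ => ?_
    rcases mul_self_eq_one_iff.1 (hσ c) with e | e <;> rw [e] <;> simp [div_neg]
  pairsX1 := by
    rw [← V.pairsX1]
    refine Finset.sum_congr rfl fun c _ => ?_
    rcases mul_self_eq_one_iff.1 (hσ c) with e | e <;> rw [e] <;> simp [div_neg]

variable {V σ}

theorem GV.flip {m : M} {e : ℤ} {R : ℚ} {f : ι → ℤ} (F : GV V m e R f) (hσ : ∀ c, σ c * σ c = 1)
    (hσo : σ V.o = 1) (hσs : ∀ c, σ (V.s c) = σ c) :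
    GV (V.flip σ hσ hσo hσs) m e R (fun c => σ c * f c) where
  norm := by
    rw [← F.norm]; exact Finset.sum_congr rfl fun c _ => by linear_combination f c * f c * hσ c
  deg := by
    rw [← F.deg]; exact Finset.sum_congr rfl fun c _ => by
      show _ * (σ c * V.d c) = _
      linear_combination f c * V.d c * hσ c
  X0 := by
    rw [← F.X0]; exact Finset.sum_congr rfl fun c _ => by
      show _ * (σ c * V.X 0 c) = _
      linear_combination f c * V.X 0 c * hσ c
  X1 := by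
    rw [← F.X1]; exact Finset.sum_congr rfl fun c _ => by
      show _ * (σ c * V.X 1 c) = _
      linear_combination f c * V.X 1 c * hσ c
  X2 := by
    rw [← F.X2]; exact Finset.sum_congr rfl fun c _ => by
      show _ * (σ c * V.X 2 c) = _
      linear_combination f c * V.X 2 c * hσ c
  Th n := by
    rw [← F.Th n]; exact Finset.sum_congr rfl fun c _ => by
      show _ * (σ c * V.Th n c) = _
      linear_combination f c * V.Th n c * hσ c
  Tl l := by
    rw [← F.Tl l]; exact Finset.sum_congr rfl fun c _ => by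
      show _ * (σ c * V.Tl l c) = _
      linear_combination f c * V.Tl l c * hσ c
  pairs := by
    rw [← F.pairs]
    refine Finset.sum_congr rfl fun c _ => ?_
    show ((σ c * f c : ℤ) : ℚ) * (((σ c * V.z c : ℤ) : ℚ) ^ 2 / ((σ c * V.d c : ℤ) : ℚ)) = _
    rcases mul_self_eq_one_iff.1 (hσ c) with e' | e' <;> rw [e'] <;> simp [div_neg]

end CfsgLib.JT
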