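import Cfsg.Agent.JankoThompson.LCharCase

/-!
`q ≡ 5 (mod 8)`: the four group lies in the split torus, `Q = -q`.
-/

set_option autoImplicit false
set_option linter.unusedSectionVars false
set_option linter.style.haveILetI false
set_option maxHeartbeats 1000000

namespace CfsgLib.JT

universe u

open Finset
open scoped ComplexConjugate Classical
open CfsgLib.SL2C

variable {F : Type u} [Field F] [Fintype F] [Fintype (PSL F)]

theorem dual_comp_sq_ne' {U : Type u} [Group U] {H : Type u} [Group H] (f : U →* H)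
    (hf : Function.Surjective f) (hH : Odd (Nat.card H)) {l : H →* ℂˣ} (hl : l ≠ 1) :
    l.comp f * l.comp f ≠ 1 := fun h => by
  refine inv_ne_self_of_ne_one hH hl (MonoidHom.ext fun y => ?_)
  obtain ⟨x, rfl⟩ := hf y
  have := DFunLike.congr_fun h x
  rw [MonoidHom.mul_apply, MonoidHom.one_apply, MonoidHom.comp_apply] at this
  rw [MonoidHom.inv_apply]
  exact inv_eq_of_mul_eq_one_left this

theorem exists_model_neg (hq : Fintype.card F % 8 = 5) (h5 : 5 ≤ Fintype.card F) :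
    ∃ (p : ℕ) (Q k h : ℤ), |Q| = (Fintype.card F : ℤ) ∧ Nonempty (Model (PSL F) p Q k h) := by
  obtain ⟨p, r, hp, hp2, hchar, hcard⟩ := card_field (F := F) (Or.inr hq)
  haveI := hchar
  haveI : Fact p.Prime := ⟨hp⟩
  have hodd : Odd (Fintype.card F) := odd_of_mod (Or.inr hq)
  obtain ⟨c, hc⟩ := exists_ell (F := F)
  obtain ⟨η, θ, x₁, x₂, y₁, y₂, hh⟩ := exists_halves hc hodd
  obtain ⟨ν, hν⟩ : ∃ ν : Fˣ, η ν = -1 := by
    by_contra hcon
    push Not at hcon
    exact hh.η_ne (MonoidHom.ext fun u => (apply_sign hh.η_sq u).resolve_right (hcon u))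
  obtain ⟨E, E', -, -, v1, v2, -, -⟩ := hh.exists_vals hodd hc
  have hη1 : ch η (-1 : Fˣ) = 1 := by
    rw [hh.σ_eq, Even.neg_one_pow (Nat.even_iff.2 (by omega))]
  obtain ⟨i, hi⟩ : ∃ i : Fˣ, (i : F) * i = -1 := by
    obtain ⟨w, hw⟩ := (isSquare_of_eta hodd hh (-1)).1 (Units.ext hη1)
    exact ⟨w, by rw [← Units.val_mul, ← hw, Units.val_neg, Units.val_one]⟩
  have hTO : IsTorus (tor c) := isTorus_tor hc
  have hTA : IsTorus (splitTorus F) := isTorus_split hodd h5
  haveI := isCyclic_tor hc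
  set m := (Fintype.card F - 1) / 4 with hm
  let χA : Fˣ →* PSL F := pm.comp dg
  have hkerA : ∀ a, χA a = 1 ↔ a * a = 1 := fun a => by
    change pm (dg a) = 1 ↔ _
    rw [pm_eq_one_iff, dg_mem_center_iff]
  have hcardU : Fintype.card Fˣ = 4 * m := by rw [Fintype.card_units]; omega
  have hmodd : Odd m := Nat.odd_iff.2 (by omega)
  obtain ⟨D⟩ := exists_ATorus hmodd hcardU χA hkerA η hh.η_ne hh.η_sq
  have hevA : Even (Fintype.card Fˣ) := ⟨2 * m, by omega⟩
  let χO : tor c →* PSL F := pm.comp (tor c).subtype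
  have hkerO : ∀ y, χO y = 1 ↔ y * y = 1 := fun y => by
    change pm (y : SL F) = 1 ↔ _
    rw [pm_ker hodd]
    exact ⟨fun e => Subtype.ext e, fun e => congrArg Subtype.val e⟩
  have hevO : Even (Fintype.card (tor c)) := by
    rw [card_tor_fintype hc, Nat.even_iff]; omega
  have hcardO : 2 * Nat.card χO.range = Fintype.card F + 1 := by
    rw [card_range hevO χO hkerO, card_tor_fintype hc]
  have hoddO : Odd (Nat.card χO.range) := Nat.odd_iff.2 (by omega)
  obtain ⟨j0, hj0, hj0A⟩ := exists_j0 hTA hodd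
  -- regular points of the two tori
  have hr : ∀ a : Fˣ, χA a ≠ 1 → a ∈ reg F := fun a ha =>
    mem_reg.2 fun e => ha ((hkerA a).2 e)
  have hpA : ∀ a : D.A, a ≠ 1 → ∃ y : Fˣ, (a : PSL F) = χA y ∧ η y = 1 ∧ D.ρ y = a ∧
      y ∈ reg F := by
    intro a ha
    obtain ⟨⟨y, hy1, hy2⟩, -⟩ := D.surj a
    rcases D.range y with ⟨h, -⟩ | ⟨-, h⟩
    · exact ⟨y, by rw [h, hy2], hy1, hy2, hr y (by rw [h, hy2]; simpa using ha)⟩
    · rw [hy1] at h; exact absurd (congrArg Units.val h) (by norm_num)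
  have hpAi : ∀ a : D.A, ∃ y : Fˣ, (a : PSL F) * D.i0 = χA y ∧ η y = -1 ∧ D.ρ y = a ∧
      y ∈ reg F := by
    intro a
    obtain ⟨-, y, hy1, hy2⟩ := D.surj a
    rcases D.range y with ⟨-, h⟩ | ⟨h, -⟩
    · rw [hy1] at h; exact absurd (congrArg Units.val h) (by norm_num)
    · refine ⟨y, by rw [h, hy2], hy1, hy2, hr y fun e => ?_⟩
      have := (D.sq_one y ((hkerA y).1 e)).2
      rw [hy1] at this
      exact absurd (congrArg Units.val this) (by norm_num)
  have hpO : ∀ o : χO.range, o ≠ 1 → ∃ y : tor c, (o : PSL F) = χO y ∧ χO.rangeRestrict y = o ∧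
      (y : SL F) ∈ torReg c := by
    intro o ho
    obtain ⟨y, rfl⟩ := χO.rangeRestrict_surjective o
    exact ⟨y, rfl, rfl, mem_torReg.2 ⟨y.2, fun e => ho (Subtype.ext (pm_eq_one_iff.2 e))⟩⟩
  -- functions trivial on the centre
  have h1 : (1 : Fˣ) ∈ sgn F := mem_sgn.2 (one_mul 1)
  have hth : ∀ (φ : tor c →* ℂˣ) (y : tor c), th φ (y : SL F) = (φ y : ℂ) := th_coe
  have cx : Cen x₁ ∧ Cen x₂ := by
    constructor
    · exact cen_of_irr hh.x₁_irr (by rw [(hh.apply_cen hc neg_one_mem_sgn).1, hη1]; ring)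
    · exact cen_of_irr hh.x₂_irr (by rw [(hh.apply_cen hc neg_one_mem_sgn).2.1, hη1]; ring)
  have hSx : St ≠ x₁ ∧ St ≠ x₂ := ⟨(hh.L0_ne St (St_mem_L0 c)).1, (hh.L0_ne St (St_mem_L0 c)).2.1⟩
  let f : Fin 3 → SL F → ℂ := ![(fun _ => 1) - St, -(St + x₁), -(St + x₂)]
  have cf : ∀ i, Cen (f i) := fun i => by
    fin_cases i
    exacts [cen_one.sub (cen_St hc), ((cen_St hc).add cx.1).neg, ((cen_St hc).add cx.2).neg]
  let fM : (↥D.A →* ℂˣ) → SL F → ℂ := fun μ => -(R (D.ext μ) + R (D.ext μ * η))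
  have cM : ∀ μ, μ ≠ 1 → Cen (fM μ) := fun μ hμ => by
    refine ((cen_R hc (D.ext_sq_ne hmodd hh.η_sq hμ).1 ?_).add
      (cen_R hc (D.ext_sq_ne hmodd hh.η_sq hμ).2 ?_)).neg
    · rw [ATorus.ext_apply, (D.sq_one (-1) (by simp)).1, map_one]
    · rw [MonoidHom.mul_apply, ATorus.ext_apply, (D.sq_one (-1) (by simp)).1, map_one,
        (D.sq_one (-1) (by simp)).2, one_mul]
  let fL : (↥χO.range →* ℂˣ) → SL F → ℂ := fun l => -Pi' (l.comp χO.rangeRestrict)
  have cL : ∀ l, l ≠ 1 → Cen (fL l) := fun l hl => by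
    refine (cen_Pi' hc (dual_comp_sq_ne' _ χO.rangeRestrict_surjective hoddO hl) fun y hy => ?_).neg
    rw [MonoidHom.comp_apply, show χO.rangeRestrict y = 1 from
      Subtype.ext ((hkerO y).2 hy), map_one]
  have vM : ∀ μ, _ := fun μ : ↥D.A →* ℂˣ =>
    (R_vals hc (D.ext μ)).add (R_vals hc (D.ext μ * η))
  refine ⟨p, -(Fintype.card F : ℤ), (-(Fintype.card F : ℤ) + 1) / 4,
    (-(Fintype.card F : ℤ) - 1) / 2, by rw [abs_neg, abs_of_nonneg (by positivity)], ⟨{
    hp := hp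
    hodd := hp2
    hQ := ⟨2 * r + 1, by rw [Int.natAbs_neg, Int.natAbs_natCast, hcard]⟩
    hQ8 := by omega
    hk := by omega
    hh := by omega
    card := ?_
    A := D.A
    O := χO.range
    cardA := ?_
    cardO := ?_
    commA := D.comm
    commO := ?_
    i0 := D.i0
    j0 := j0
    i0_ord := D.i0_ord
    j0_ord := hj0
    i0_A := D.i0_A
    j0_A := ?_
    i0_j0 := ?_
    u := uni ν
    u_pow := uni_pow ν p
    u_swap := ?_
    cover := ?_
    sum := ?_
    phi := fun i => lift (f i)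
    phiM := fun μ => lift (fM μ)
    phiL := fun l => lift (fL l)
    phi_gen := ?_
    phiM_gen := ?_
    phiL_gen := ?_
    phiM_inv := ?_
    phi0_1 := ?_
    phi_1 := ?_
    phi0_u := ?_
    phi12_u := ?_
    phi1_u := ?_
    phi_a := ?_
    phi_ai := ?_
    phi_o := ?_
    phi_inner := ?_
    phiM_1 := ?_
    phiM_u := ?_
    phiM_a := ?_
    phiM_ai := ?_
    phiM_o := ?_
    phiL_1 := ?_
    phiL_u := ?_
    phiL_a := ?_
    phiL_ai := ?_
    phiL_o := ?_
    inv_u := ?_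
    inv_a := ?_
    inv_o := ?_ }⟩⟩
  · rw [abs_neg, abs_of_nonneg (by positivity : (0 : ℤ) ≤ (Fintype.card F : ℤ)), neg_sq]
    have h := two_mul_card (F := F) hodd
    have h' := congrArg (fun n : ℕ => (n : ℤ)) h
    simp only [Nat.cast_mul, Nat.cast_ofNat,
      Nat.cast_sub (Nat.one_le_pow 2 _ Fintype.card_pos), Nat.cast_pow, Nat.cast_one] at h'
    exact h'
  · rw [D.cardA, abs_of_nonpos (by omega)]; omega
  · rw [abs_of_nonpos (by omega)]; omega
  · rintro _ ⟨a, rfl⟩ _ ⟨b, rfl⟩; rw [← map_mul, comm_tor hc a b, map_mul]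
  · intro a ha
    obtain ⟨⟨y, hy1, hy2⟩, -⟩ := D.surj ⟨a, ha⟩
    rcases D.range y with ⟨h, -⟩ | ⟨-, h⟩
    · rw [hy2] at h; rw [show a = χA y from h.symm]; exact hj0A (dg y) ⟨y, rfl⟩
    · rw [hy1] at h; exact absurd (congrArg Units.val h) (by norm_num)
  · obtain ⟨y, hy⟩ := D.i0_mem
    have h := hj0A (dg y) ⟨y, rfl⟩
    rw [show pm (dg y) = D.i0 from hy, inv_eq_of_mul_eq_one_left (a := D.i0) (b := D.i0)
      (by rw [← sq]; exact orderOf_dvd_iff_pow_eq_one.1 D.i0_ord.dvd)] at h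
    exact (mul_inv_eq_iff_eq_mul.1 h).symm
  · intro a ha j
    obtain ⟨ha0, ha1⟩ := not_isSquare_cast (F := F) hp2 hcard ha
    exact uni_swap hodd hh hν ha0 ha1 j
  · intro x
    rcases cls_cover hc hodd hh hν x with h | h | ⟨a, ha, hx⟩ | ⟨y, hy, hx⟩
    · exact Or.inl h
    · exact Or.inr (Or.inl h)
    · rcases D.range a with ⟨h, -⟩ | ⟨h, -⟩
      · refine Or.inr (Or.inr (Or.inl ⟨D.ρ a, fun e => ha ?_, h ▸ hx⟩))
        change χA a = 1
        rw [h, e, OneMemClass.coe_one]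
      · exact Or.inr (Or.inr (Or.inr (Or.inl ⟨D.ρ a, h ▸ hx⟩)))
    · exact Or.inr (Or.inr (Or.inr (Or.inr ⟨χO.rangeRestrict y,
        fun e => hy (congrArg Subtype.val e), hx⟩)))
  · intro g hg
    have hA := D.sum g
    have hO := sum_range hevO χO hkerO g
    have key : 2 * ∑ x, g x = 2 * g 1 +
        ((-(Fintype.card F : ℂ)) ^ 2 - 1) * (g (uni ν 0) + g (uni ν 1)) +
        (-(Fintype.card F : ℂ)) * ((-(Fintype.card F : ℂ)) - 1) *
          ((∑ a : D.A, g a) - g 1 + ∑ a : D.A, g ((a : PSL F) * D.i0)) +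
        (-(Fintype.card F : ℂ)) * ((-(Fintype.card F : ℂ)) + 1) * ((∑ o : χO.range, g o) - g 1) := by
      rw [sum_psl hc hodd hh hν hg, show (∑ a : Fˣ, g (pm (dg a))) = _ from hA,
        show (∑ y : tor c, g (pm (y : SL F))) = _ from hO, uni_zero, uni_one]
      ring
    push_cast
    convert key
  · intro i
    refine lift_gen hodd (cf i) ?_
    fin_cases i
    exacts [CfsgLib.Char.IsGeneralized.sub CfsgLib.Char.isGeneralized_one St_isGeneralized,
      CfsgLib.Char.IsGeneralized.neg (CfsgLib.Char.IsGeneralized.add St_isGeneralized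
        (CfsgLib.Char.IsIrrCharacter.isGeneralized hh.x₁_irr)),
      CfsgLib.Char.IsGeneralized.neg (CfsgLib.Char.IsGeneralized.add St_isGeneralized
        (CfsgLib.Char.IsIrrCharacter.isGeneralized hh.x₂_irr))]
  · exact fun μ hμ => lift_gen hodd (cM μ hμ) (CfsgLib.Char.IsGeneralized.neg
      (CfsgLib.Char.IsGeneralized.add (CfsgLib.Char.IsCharacter.isGeneralized (R_isCharacter _))
        (CfsgLib.Char.IsCharacter.isGeneralized (R_isCharacter _))))
  · exact fun l hl => lift_gen hodd (cL l hl)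
      (CfsgLib.Char.IsGeneralized.neg (Pi'_isGeneralized _))
  · intro μ
    have e : D.ext μ⁻¹ * η = (D.ext μ * η)⁻¹ := by
      refine MonoidHom.ext fun y => ?_
      rw [MonoidHom.mul_apply, MonoidHom.inv_apply, MonoidHom.mul_apply, ATorus.ext_inv,
        MonoidHom.inv_apply, mul_inv]
      congr 1
      exact (inv_eq_of_mul_eq_one_left (by
        rw [← MonoidHom.mul_apply, hh.η_sq, MonoidHom.one_apply])).symm
    simp only [fM, e, R_dual_inv hc]
    rw [ATorus.ext_inv, R_dual_inv hc]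
  · rw [← map_one (pm : SL F →* PSL F), lift_pm (cf 0)]
    simp only [f, Matrix.cons_val_zero, Pi.sub_apply, St_apply_one hc]
    push_cast; ring
  · intro i hi
    rw [← map_one (pm : SL F →* PSL F), lift_pm (cf i)]
    fin_cases i
    · simp at hi
    · simp [f, St_apply_one hc, hh.x₁_one]; ring
    · simp [f, St_apply_one hc, hh.x₂_one]; ring
  · intro j
    obtain ⟨b, hb, -⟩ := uni_exists ν j
    rw [hb, lift_pm (cf 0)]
    simp [f, (St_vals hc).par 1 h1 _ b.ne_zero]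
  · intro j
    have e1 : qc η (1 : F) = 1 := by rw [← Units.val_one, qc_coe, ch, map_one, Units.val_one]
    have e2 : qc η (ν : F) = -1 := by rw [qc_coe, ch, hν, Units.val_neg, Units.val_one]
    fin_cases j
    · show lift (f 1) (uni ν 1) = lift (f 2) (uni ν 0)
      rw [uni_zero, uni_one, lift_pm (cf 1), lift_pm (cf 2)]
      simp [f, (St_vals hc).par 1 h1 _ ν.ne_zero, (St_vals hc).par 1 h1 _ one_ne_zero,
        v1.par 1 h1 _ ν.ne_zero, v2.par 1 h1 _ one_ne_zero, e1, e2, ch]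
      ring
    · show lift (f 1) (uni ν 0) = lift (f 2) (uni ν 1)
      rw [uni_zero, uni_one, lift_pm (cf 1), lift_pm (cf 2)]
      simp [f, (St_vals hc).par 1 h1 _ ν.ne_zero, (St_vals hc).par 1 h1 _ one_ne_zero,
        v1.par 1 h1 _ one_ne_zero, v2.par 1 h1 _ ν.ne_zero, e1, e2, ch]
  · have e1 : qc η (1 : F) = 1 := by rw [← Units.val_one, qc_coe, ch, map_one, Units.val_one]
    have e2 : qc η (ν : F) = -1 := by rw [qc_coe, ch, hν, Units.val_neg, Units.val_one]
    rw [uni_zero, uni_one, lift_pm (cf 1), lift_pm (cf 1)]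
    simp [f, (St_vals hc).par 1 h1 _ ν.ne_zero, (St_vals hc).par 1 h1 _ one_ne_zero,
      v1.par 1 h1 _ ν.ne_zero, v1.par 1 h1 _ one_ne_zero, e1, e2, ch]
    ring
  · intro i a ha
    obtain ⟨y, hay, hy1, -, hyr⟩ := hpA a ha
    rw [hay, show χA y = pm (dg y) from rfl, lift_pm (cf i)]
    fin_cases i <;>
      (simp [f, (St_vals hc).spl _ hyr, v1.spl _ hyr, v2.spl _ hyr, ch, hy1] <;> norm_num)
  · intro i a
    obtain ⟨y, hay, hy1, -, hyr⟩ := hpAi a
    rw [hay, show χA y = pm (dg y) from rfl, lift_pm (cf i)]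
    fin_cases i <;>
      simp [f, (St_vals hc).spl _ hyr, v1.spl _ hyr, v2.spl _ hyr, ch, hy1]
  · intro i o ho
    obtain ⟨y, hoa, -, hyr⟩ := hpO o ho
    rw [hoa, show χO y = pm (y : SL F) from rfl, lift_pm (cf i)]
    fin_cases i <;>
      (simp [f, (St_vals hc).tor _ hyr, v1.tor _ hyr, v2.tor _ hyr] <;> norm_num)
  · intro i j hi hj
    rw [classInner_lift hodd (cf i) (cf j)]
    fin_cases i <;> fin_cases j <;>
      simp [f, CfsgLib.Char.classInner_neg_left, CfsgLib.Char.classInner_neg_right,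
        inner_St_add hh.x₁_irr hh.x₁_irr hSx.1 hSx.1,
        inner_St_add hh.x₁_irr hh.x₂_irr hSx.1 hSx.2, inner_St_add hh.x₂_irr hh.x₁_irr hSx.2 hSx.1,
        inner_St_add hh.x₂_irr hh.x₂_irr hSx.2 hSx.2, hh.x_ne, hh.x_ne.symm,
        -neg_add_rev] at hi hj ⊢
  · intro μ hμ
    rw [← map_one (pm : SL F →* PSL F), lift_pm (cM μ hμ)]
    simp only [fM, Pi.neg_apply, Pi.add_apply, R_apply_one hc]
    push_cast; ring
  · intro μ hμ j
    obtain ⟨b, hb, -⟩ := uni_exists ν j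
    rw [hb, lift_pm (cM μ hμ)]
    simp only [fM]
    rw [Pi.neg_apply, (vM μ).par 1 h1 _ b.ne_zero]
    simp only [Pi.add_apply, ch, map_one, Units.val_one]
    norm_num
  · intro μ hμ a ha
    obtain ⟨y, hay, hy1, hy2, hyr⟩ := hpA a ha
    rw [hay, show χA y = pm (dg y) from rfl, lift_pm (cM μ hμ)]
    simp only [fM]
    rw [Pi.neg_apply, (vM μ).spl _ hyr]
    simp only [Pi.add_apply, ch, MonoidHom.inv_apply, MonoidHom.mul_apply, ATorus.ext_apply, hy1,
      hy2, mul_one]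
    ring
  · intro μ hμ a
    obtain ⟨y, hay, hy1, hy2, hyr⟩ := hpAi a
    rw [hay, show χA y = pm (dg y) from rfl, lift_pm (cM μ hμ)]
    simp only [fM]
    rw [Pi.neg_apply, (vM μ).spl _ hyr]
    simp only [Pi.add_apply, ch, MonoidHom.inv_apply, MonoidHom.mul_apply, ATorus.ext_apply, hy1,
      hy2, mul_neg, mul_one, inv_neg, Units.val_neg]
    ring
  · intro μ hμ o ho
    obtain ⟨y, hoa, -, hyr⟩ := hpO o ho
    rw [hoa, show χO y = pm (y : SL F) from rfl, lift_pm (cM μ hμ)]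
    simp only [fM]
    rw [Pi.neg_apply, (vM μ).tor _ hyr]
    simp
  · intro l hl
    rw [← map_one (pm : SL F →* PSL F), lift_pm (cL l hl)]
    simp only [fL, Pi.neg_apply, Pi'_apply_one hc]
    push_cast; ring
  · intro l hl j
    obtain ⟨b, hb, -⟩ := uni_exists ν j
    rw [hb, lift_pm (cL l hl)]
    simp only [fL]
    rw [Pi.neg_apply, (Pi'_vals hc _).par 1 h1 _ b.ne_zero, tc_one, neg_neg]
  · intro l hl a ha
    obtain ⟨y, hay, -, -, hyr⟩ := hpA a ha
    rw [hay, show χA y = pm (dg y) from rfl, lift_pm (cL l hl)]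
    simp only [fL]
    rw [Pi.neg_apply, (Pi'_vals hc _).spl _ hyr, neg_zero]
  · intro l hl a
    obtain ⟨y, hay, -, -, hyr⟩ := hpAi a
    rw [hay, show χA y = pm (dg y) from rfl, lift_pm (cL l hl)]
    simp only [fL]
    rw [Pi.neg_apply, (Pi'_vals hc _).spl _ hyr, neg_zero]
  · intro l hl o ho
    obtain ⟨y, hoa, hoa', hyr⟩ := hpO o ho
    rw [hoa, show χO y = pm (y : SL F) from rfl, lift_pm (cL l hl)]
    simp only [fL]
    rw [Pi.neg_apply, (Pi'_vals hc _).tor _ hyr, neg_neg]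
    simp only [hth, MonoidHom.inv_apply, MonoidHom.comp_apply, hoa']
  · intro j
    rw [invCount_uni_card hodd hi ν j, abs_neg,
      abs_of_nonneg (by positivity : (0 : ℤ) ≤ (Fintype.card F : ℤ))]
    ring
  · intro a ha
    obtain ⟨y, hay, -, -, -⟩ := hpA a ha
    have hne : (a : PSL F) * a ≠ 1 := sq_ne_one_of_pow (n := Nat.card D.A)
      (by rw [D.cardA]; exact hmodd)
      (by rw [← SubgroupClass.coe_pow, pow_card_eq_one', OneMemClass.coe_one]) (by simpa using ha)
    rw [hay] at hne ⊢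
    rw [show χA y = pm (dg y) from rfl] at hne ⊢
    rw [invCount_torus hTA hodd ⟨y, rfl⟩ hne, abs_of_nonpos (by omega),
      show (splitTorus F).map (pm : SL F →* PSL F) = χA.range from (MonoidHom.range_comp _ _).symm]
    have h := card_range hevA χA hkerA
    rw [hcardU] at h
    omega
  · intro o ho
    obtain ⟨y, hoa, -, -⟩ := hpO o ho
    have hne : (o : PSL F) * o ≠ 1 := sq_ne_one_of_pow (n := Nat.card χO.range) hoddO
      (by rw [← SubgroupClass.coe_pow, pow_card_eq_one', OneMemClass.coe_one]) (by simpa using ho)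
    rw [hoa] at hne ⊢
    rw [show χO y = pm (y : SL F) from rfl] at hne ⊢
    rw [invCount_torus hTO hodd y.2 hne, abs_of_nonpos (by omega),
      show (tor c).map (pm : SL F →* PSL F) = χO.range by
        rw [MonoidHom.range_comp, Subgroup.range_subtype]]
    omega

end CfsgLib.JT
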