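import Cfsg.Agent.JankoThompson.LCharPos
import Cfsg.Agent.JankoThompson.LCharNeg
import Cfsg.Agent.Classical.SmallSubPSL

/-!
The class functions of PSL₂(q) for `q ≡ 3, 5 (mod 8)`; `Q = q` resp. `Q = -q` (so `Q = 3` for `q = 3`).
-/

set_option autoImplicit false

namespace CfsgLib.JT

open CfsgLib.Linear.SmallSub (P2)

theorem exists_LFns {F : Type*} [Field F] [Fintype F] [Fintype (P2 F)]
    (hq : Fintype.card F % 8 = 3 ∨ Fintype.card F % 8 = 5) :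
    ∃ (p : ℕ) (Q k h : ℤ), |Q| = (Fintype.card F : ℤ) ∧ Nonempty (LFns (P2 F) p Q k h) := by
  letI : Fintype (SL2C.PSL F) := ‹Fintype (P2 F)›
  rcases hq with hq | hq
  · obtain ⟨p, Q, k, h, hQ, ⟨M⟩⟩ := exists_model_pos hq
    exact ⟨p, Q, k, h, hQ, M.exists_LFns⟩
  · obtain ⟨p, Q, k, h, hQ, ⟨M⟩⟩ := exists_model_neg hq (by omega)
    exact ⟨p, Q, k, h, hQ, M.exists_LFns⟩

end CfsgLib.JT
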