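import Cfsg.Agent.JankoThompson.LCharLift

/-!
What the two signs of `Q` share: unipotent classes of PSL₂, covering, inner products of the halves.
-/

set_option autoImplicit false
set_option linter.unusedSectionVars false
set_option linter.style.haveILetI false

namespace CfsgLib.JT

universe u

open Finset
open scoped ComplexConjugate Classical
open CfsgLib.SL2C

variable {F : Type u} [Field F] [Fintype F] {c : SL F} {η : Fˣ →* ℂˣ} {θ : tor c →* ℂˣ}
  {x₁ x₂ y₁ y₂ : SL F → ℂ}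

theorem cen_of_irr {χ : SL F → ℂ} (hχ : Cfsg.IsIrrCharacter (SL F) χ)
    (h : χ (bor (-1) 0) = χ 1) : Cen χ := fun g => by
  rw [apply_center_mul hχ negOne_mem_center (s := 1) (by rw [one_mul]; exact h), one_mul]

theorem cen_one : Cen (fun _ : SL F => (1 : ℂ)) := fun _ => rfl

theorem Cen.add {f g : SL F → ℂ} (hf : Cen f) (hg : Cen g) : Cen (f + g) := fun x => by
  simp [hf x, hg x]

theorem Cen.sub {f g : SL F → ℂ} (hf : Cen f) (hg : Cen g) : Cen (f - g) := fun x => by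
  simp [hf x, hg x]

theorem Cen.neg {f : SL F → ℂ} (hf : Cen f) : Cen (-f) := fun x => by simp [hf x]

theorem cen_St (hc : Ell c) : Cen (St : SL F → ℂ) :=
  cen_of_irr isIrr_St (by rw [(St_vals hc).cen _ neg_one_mem_sgn, (St_vals hc).apply_one])

theorem cen_R (hc : Ell c) {α : Fˣ →* ℂˣ} (h : α * α ≠ 1) (h1 : α (-1) = 1) : Cen (R α) :=
  cen_of_irr ((isIrr_R_iff α).2 h) (by
    rw [(R_vals hc α).cen _ neg_one_mem_sgn, R_apply_one hc, ch, h1, Units.val_one, mul_one])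

theorem cen_Pi' (hc : Ell c) {φ : tor c →* ℂˣ} (h : φ * φ ≠ 1)
    (h1 : ∀ y : tor c, y * y = 1 → φ y = 1) : Cen (Pi' φ) :=
  cen_of_irr (isIrr_Pi' hc h) (by
    have ht : tc φ (-1 : Fˣ) = 1 := by
      rw [show tc φ (-1 : Fˣ) = th φ (bor (-1 : Fˣ) 0) from rfl,
        show th φ (bor (-1 : Fˣ) 0) = ((φ ⟨_, bor_mem_tor (-1) neg_one_mem_sgn⟩ : ℂˣ) : ℂ) from
          th_coe φ ⟨_, bor_mem_tor (-1) neg_one_mem_sgn⟩,
        h1 _ (Subtype.ext (mul_self_eq_one_of_center negOne_mem_center)), Units.val_one]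
    rw [(Pi'_vals hc φ).cen _ neg_one_mem_sgn, Pi'_apply_one hc, ht, mul_one])

theorem tc_eq_th (φ : tor c →* ℂˣ) (e : Fˣ) : tc φ e = th φ (bor e 0) := rfl

theorem inner_St_add {u v : SL F → ℂ} (hu : Cfsg.IsIrrCharacter (SL F) u)
    (hv : Cfsg.IsIrrCharacter (SL F) v) (hu' : St ≠ u) (hv' : St ≠ v) :
    Cfsg.classInner (St + u) (St + v) = if u = v then 2 else 1 := by
  rw [CfsgLib.Char.classInner_add_left, CfsgLib.Char.classInner_add_right,
    CfsgLib.Char.classInner_add_right, CfsgLib.Char.IsIrrCharacter.classInner_self isIrr_St,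
    CfsgLib.Char.IsIrrCharacter.classInner_of_ne isIrr_St hv hv',
    CfsgLib.Char.IsIrrCharacter.classInner_of_ne hu isIrr_St hu'.symm]
  split_ifs with h
  · rw [h, CfsgLib.Char.IsIrrCharacter.classInner_self hv]; norm_num
  · rw [CfsgLib.Char.IsIrrCharacter.classInner_of_ne hu hv h]; norm_num

theorem St_mem_L0 (c : SL F) : (St : SL F → ℂ) ∈ L0 c := by simp [L0]

theorem odd_of_mod (hq : Fintype.card F % 8 = 3 ∨ Fintype.card F % 8 = 5) :
    Odd (Fintype.card F) := Nat.odd_iff.2 (by omega)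

theorem card_field (hq : Fintype.card F % 8 = 3 ∨ Fintype.card F % 8 = 5) :
    ∃ p r : ℕ, p.Prime ∧ p ≠ 2 ∧ CharP F p ∧ Fintype.card F = p ^ (2 * r + 1) := by
  obtain ⟨p, hp⟩ := CharP.exists F
  haveI := hp
  obtain ⟨n, hpr, hn⟩ := FiniteField.card F p
  have hp2 : p ≠ 2 := fun e => by
    rw [e] at hn
    have : Even (Fintype.card F) := hn ▸ (even_two.pow_of_ne_zero n.ne_zero)
    rw [Nat.even_iff] at this; omega
  rcases Nat.even_or_odd (n : ℕ) with ⟨r, hr⟩ | ⟨r, hr⟩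
  · exfalso
    rw [hn, hr, ← two_mul, pow_mul] at hq
    have hodd : p % 2 = 1 := Nat.odd_iff.1 (hpr.odd_of_ne_two hp2)
    have h1 : p ^ 2 % 8 = 1 := by
      rw [Nat.pow_mod]
      have : p % 8 = 1 ∨ p % 8 = 3 ∨ p % 8 = 5 ∨ p % 8 = 7 := by omega
      rcases this with e | e | e | e <;> rw [e]
    rw [Nat.pow_mod, h1, one_pow] at hq
    omega
  · exact ⟨p, r, hpr, hp2, hp, by rw [hn, hr]⟩

theorem pow_div_two_neg (p : ℕ) [Fact p.Prime] (hp2 : p ≠ 2) {x : ZMod p}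
    (hx : x ^ (p / 2) = -1) : ∀ r, x ^ (p ^ (2 * r + 1) / 2) = -1 := by
  intro r
  induction r with
  | zero => simpa using hx
  | succ r ih =>
    have hodd : p % 2 = 1 := Nat.odd_iff.1 ((Fact.out : p.Prime).odd_of_ne_two hp2)
    have he : p ^ (2 * (r + 1) + 1) / 2 =
        p ^ (2 * r + 1) / 2 + p / 2 * (p + 1) * p ^ (2 * r + 1) := by
      have h1 : p ^ (2 * r + 1) % 2 = 1 := by rw [Nat.pow_mod, hodd, one_pow, Nat.one_mod]
      rw [show p ^ (2 * (r + 1) + 1) = p * p * p ^ (2 * r + 1) by ring]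
      set P := p ^ (2 * r + 1)
      obtain ⟨a, rfl⟩ : ∃ a, p = 2 * a + 1 := ⟨p / 2, by omega⟩
      obtain ⟨b, hb⟩ : ∃ b, P = 2 * b + 1 := ⟨P / 2, by omega⟩
      rw [show (2 * a + 1) / 2 = a by omega, hb, show (2 * b + 1) / 2 = b by omega,
        show (2 * a + 1) * (2 * a + 1) * (2 * b + 1) =
          2 * (b + a * (2 * a + 1 + 1) * (2 * b + 1)) + 1 by ring]
      omega
    have hp1 : Even (p + 1) := by rw [Nat.even_iff]; omega
    rw [he, pow_add, ih, pow_mul, pow_mul, hx, hp1.neg_one_pow, one_pow, mul_one]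

theorem not_isSquare_cast {p r : ℕ} [Fact p.Prime] [CharP F p] (hp2 : p ≠ 2)
    (hF : Fintype.card F = p ^ (2 * r + 1)) {a : ℕ} (ha : ¬ IsSquare (a : ZMod p)) :
    (a : F) ≠ 0 ∧ ¬ IsSquare (a : F) := by
  have ha0 : (a : ZMod p) ≠ 0 := fun e => ha (e ▸ IsSquare.zero)
  let φ : ZMod p →+* F := ZMod.castHom dvd_rfl F
  have hφ : φ (a : ZMod p) = (a : F) := map_natCast φ a
  have hne : (a : F) ≠ 0 := hφ ▸ (map_ne_zero φ).2 ha0
  refine ⟨hne, fun hs => ?_⟩
  have hch : ringChar F ≠ 2 := by rw [ringChar.eq F p]; exact hp2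
  have h1 := (FiniteField.isSquare_iff hch hne).1 hs
  have hx : (a : ZMod p) ^ (p / 2) = -1 :=
    (ZMod.pow_div_two_eq_neg_one_or_one p ha0).resolve_left fun h =>
      ha ((ZMod.euler_criterion p ha0).2 h)
  rw [hF, ← hφ, ← map_pow, pow_div_two_neg p hp2 hx r, map_neg, map_one] at h1
  exact Ring.neg_one_ne_one_of_char_ne_two hch h1

/-- The two unipotent representatives. -/
noncomputable def uni (ν : Fˣ) : Fin 2 → PSL F :=
  ![pm (bor 1 1), pm (bor 1 (ν : F))]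

theorem uni_zero (ν : Fˣ) : uni ν 0 = pm (bor 1 1) := rfl

theorem uni_one (ν : Fˣ) : uni ν 1 = pm (bor 1 (ν : F)) := rfl

theorem uni_exists (ν : Fˣ) (j : Fin 2) :
    ∃ b : Fˣ, uni ν j = pm (bor 1 (b : F)) ∧ (b = 1 ∨ b = ν) := by
  fin_cases j
  · exact ⟨1, by simp [uni], Or.inl rfl⟩
  · exact ⟨ν, rfl, Or.inr rfl⟩

theorem uni_pow (ν : Fˣ) (p : ℕ) [CharP F p] (j : Fin 2) : uni ν j ^ p = 1 := by
  obtain ⟨b, hb, -⟩ := uni_exists ν j
  rw [hb, ← map_pow, bor_one_pow, CharP.cast_eq_zero, zero_mul, bor_one_zero, map_one]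

theorem isSquare_nonsquares (hodd : Odd (Fintype.card F))
    (hh : IsHalves c η θ x₁ x₂ y₁ y₂) {ν : Fˣ} (hν : η ν = -1) {a : F} (_ha0 : a ≠ 0)
    (ha : ¬ IsSquare a) : IsSquare (a * (ν : F)) := by
  refine isSquare_mul_of_not ha fun h => ?_
  obtain ⟨r, hr⟩ := h
  have hr0 : r ≠ 0 := fun e => ν.ne_zero (by rw [hr, e, mul_zero])
  have h1 : η ν = 1 := (isSquare_of_eta hodd hh ν).2 ⟨Units.mk0 r hr0, Units.ext (by simpa using hr)⟩
  rw [hν] at h1
  exact absurd (congrArg Units.val h1) (by norm_num)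

theorem uni_swap (hodd : Odd (Fintype.card F)) (hh : IsHalves c η θ x₁ x₂ y₁ y₂) {ν : Fˣ}
    (hν : η ν = -1) {a : ℕ} (ha0 : (a : F) ≠ 0) (ha : ¬ IsSquare (a : F)) (j : Fin 2) :
    IsConj (uni ν (1 - j)) (uni ν j ^ a) := by
  have h := isSquare_nonsquares hodd hh hν ha0 ha
  have key : ∀ b b' : F, b ≠ 0 → b' ≠ 0 → IsSquare (b' * ((a : F) * b)) →
      IsConj (pm (bor 1 b')) (pm (bor 1 b) ^ a) := fun b b' hb hb' hs => by
    rw [← map_pow, bor_one_pow]
    exact MonoidHom.map_isConj _ ((isConj_bor_iff (one_mul 1) hb' (mul_ne_zero ha0 hb)).2 hs)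
  fin_cases j
  · simpa [uni] using key 1 (ν : F) one_ne_zero ν.ne_zero (by rw [mul_one, mul_comm]; exact h)
  · simpa [uni] using key (ν : F) 1 ν.ne_zero one_ne_zero (by rw [one_mul]; exact h)

theorem cls_cover (hc : Ell c) (hodd : Odd (Fintype.card F)) (hh : IsHalves c η θ x₁ x₂ y₁ y₂)
    {ν : Fˣ} (hν : η ν = -1) (x : PSL F) :
    x = 1 ∨ (∃ j, IsConj (uni ν j) x) ∨
      (∃ a : Fˣ, pm (dg a) ≠ 1 ∧ IsConj (pm (dg a)) x) ∨
      ∃ y : tor c, pm (y : SL F) ≠ 1 ∧ IsConj (pm (y : SL F)) x := by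
  obtain ⟨g, rfl⟩ := pm_surjective x
  rcases cases4' hc g with ⟨e, he, rfl⟩ | ⟨a, ha, hg⟩ | ⟨e, b, he, hb, hg⟩ | ⟨s, hs, hg⟩
  · exact Or.inl (pm_eq_one_iff.2 (bor_mem_center_iff.2 ⟨he, rfl⟩))
  · exact Or.inr (Or.inr (Or.inl ⟨a, fun h => ha (dg_mem_center_iff.1 (pm_eq_one_iff.1 h)),
      MonoidHom.map_isConj _ hg⟩))
  · refine Or.inr (Or.inl ?_)
    have h1 : pm (bor e b) = pm (bor 1 ((e : F) * b)) := by
      rw [bor_eq_cen_mul (mem_sgn.2 he) b, map_mul,
        pm_eq_one_iff.2 (bor_mem_center_iff.2 ⟨he, rfl⟩), one_mul]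
    have hg' : IsConj (pm (bor 1 ((e : F) * b))) (pm g) := h1 ▸ MonoidHom.map_isConj _ hg
    set w : Fˣ := Units.mk0 ((e : F) * b) (mul_ne_zero e.ne_zero hb) with hw
    rcases apply_sign hh.η_sq w with h | h
    · obtain ⟨t, ht⟩ := (isSquare_of_eta hodd hh w).1 h
      refine ⟨0, IsConj.trans ?_ hg'⟩
      refine MonoidHom.map_isConj _ ((isConj_bor_iff (one_mul 1) one_ne_zero w.ne_zero).2 ?_)
      exact ⟨t, by rw [one_mul, ht, Units.val_mul]⟩
    · obtain ⟨t, ht⟩ := (isSquare_of_eta hodd hh (ν * w)).1 (by rw [map_mul, hν, h]; norm_num)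
      refine ⟨1, IsConj.trans ?_ hg'⟩
      refine MonoidHom.map_isConj _ ((isConj_bor_iff (one_mul 1) ν.ne_zero w.ne_zero).2 ?_)
      exact ⟨t, by rw [← Units.val_mul, ht, Units.val_mul]⟩
  · exact Or.inr (Or.inr (Or.inr ⟨⟨s, (mem_torReg.1 hs).1⟩,
      fun h => (mem_torReg.1 hs).2 (pm_eq_one_iff.1 h), MonoidHom.map_isConj _ hg⟩))

theorem sq_ne_one_of_pow {L : Type u} [Group L] {s : L} {n : ℕ} (hn : Odd n) (h : s ^ n = 1)
    (hs : s ≠ 1) : s * s ≠ 1 := fun h2 => by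
  obtain ⟨r, rfl⟩ := hn
  rw [pow_succ, pow_mul, sq, h2, one_pow, one_mul] at h
  exact hs h

theorem invCount_uni_zero [Fintype (PSL F)] (hodd : Odd (Fintype.card F))
    (hm : ¬ IsSquare (-1 : F)) (ν : Fˣ) (j : Fin 2) : invCount (uni ν j) = 0 := by
  obtain ⟨b, hb, -⟩ := uni_exists ν j
  rw [hb, invCount, Nat.card_eq_zero]
  refine Or.inl ⟨fun x => ?_⟩
  obtain ⟨x, -, hx⟩ := x
  obtain ⟨g, rfl⟩ := pm_surjective x
  rw [← map_inv, ← map_inv, ← map_mul, ← map_mul, bor_one_inv] at hx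
  rcases pm_eq_pm_iff.1 hx with e | e
  · have h := (isConj_bor_iff (one_mul 1) b.ne_zero (neg_ne_zero.2 b.ne_zero)).1
      (isConj_iff.2 ⟨g, e⟩)
    obtain ⟨r, hr⟩ := h
    exact hm ⟨r / (b : F), by field_simp; linear_combination hr⟩
  · have h := trace_eq_of_isConj (isConj_iff.2 ⟨g, e⟩ :
      IsConj (bor 1 (b : F)) (negOne F * bor 1 (-(b : F))))
    rw [mt_mul, mt_negOne, neg_mul, one_mul, Matrix.trace_neg, trace_mt_bor, trace_mt_bor] at h
    simp only [inv_one, Units.val_one] at h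
    have h2 := two_ne_zero_of_odd hodd
    exact mul_ne_zero h2 h2 (by linear_combination h)

theorem invCount_uni_card [Fintype (PSL F)] (hodd : Odd (Fintype.card F)) {i : Fˣ}
    (hi : (i : F) * i = -1) (ν : Fˣ) (j : Fin 2) : invCount (uni ν j) = Fintype.card F := by
  obtain ⟨b, hb, -⟩ := uni_exists ν j
  have hs : pm (bor 1 (b : F)) * pm (bor 1 (b : F)) ≠ 1 := fun h => by
    rw [← map_mul, bor_mul, pm_eq_one_iff, bor_mem_center_iff] at h
    refine mul_ne_zero (two_ne_zero_of_odd hodd) b.ne_zero ?_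
    have := h.2
    simp only [Units.val_one, inv_one, one_mul, mul_one] at this
    linear_combination this
  have hcen : ∀ x : PSL F, x * pm (bor 1 (b : F)) = pm (bor 1 (b : F)) * x →
      ∃ (a : Fˣ) (d : F), a * a = 1 ∧ x = pm (bor a d) := by
    intro x h
    obtain ⟨g, rfl⟩ := pm_surjective x
    rw [← map_mul, ← map_mul] at h
    rcases pm_eq_pm_iff.1 h with e | e
    · obtain ⟨a, d, ha, hd⟩ := (mem_centralizer_bor (one_mul 1) b.ne_zero).1
        (Subgroup.mem_centralizer_singleton_iff.2 e)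
      exact ⟨a, d, ha, by rw [hd]⟩
    · exfalso
      have hconj : g * bor 1 (b : F) * g⁻¹ = negOne F * bor 1 (b : F) := by
        rw [e]; group
      have h := trace_eq_of_isConj (isConj_iff.2 ⟨g, hconj⟩ :
        IsConj (bor 1 (b : F)) (negOne F * bor 1 (b : F)))
      rw [mt_mul, mt_negOne, neg_mul, one_mul, Matrix.trace_neg, trace_mt_bor] at h
      simp only [inv_one, Units.val_one] at h
      have h2 := two_ne_zero_of_odd hodd
      exact mul_ne_zero h2 h2 (by linear_combination h)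
  rw [hb, invCount_eq hs (x0 := pm (dg i)) ?_ ?_]
  · rw [← Nat.card_eq_fintype_card (α := F)]
    refine (Nat.card_eq_of_bijective (fun d : F => (⟨pm (bor 1 d), ?_⟩ :
      Subgroup.centralizer ({pm (bor 1 (b : F))} : Set (PSL F)))) ⟨fun d d' h => ?_, fun x => ?_⟩).symm
    · rw [Subgroup.mem_centralizer_singleton_iff, ← map_mul, ← map_mul, bor_mul, bor_mul]
      simp [add_comm]
    · rcases pm_eq_pm_iff.1 (congrArg Subtype.val h) with e | e
      · exact (bor_inj e).2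
      · rw [show negOne F = bor (-1 : Fˣ) 0 from rfl, bor_mul] at e
        have h1 := congrArg Units.val (bor_inj e).1
        simp at h1
        exact absurd h1 fun h1 => two_ne_zero_of_odd hodd (by linear_combination h1)
    · obtain ⟨a, d, ha, hx⟩ := hcen x (Subgroup.mem_centralizer_singleton_iff.1 x.2)
      refine ⟨(a : F) * d, Subtype.ext ?_⟩
      show pm (bor 1 ((a : F) * d)) = (x : PSL F)
      rw [hx, bor_eq_cen_mul (mem_sgn.2 ha) d, map_mul,
        pm_eq_one_iff.2 (bor_mem_center_iff.2 ⟨ha, rfl⟩), one_mul]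
  · rw [← map_inv, ← map_mul, ← map_mul, show (pm (bor 1 (b : F)))⁻¹ = pm ((bor 1 (b : F))⁻¹) from (map_inv _ _).symm, bor_one_inv]
    congr 1
    rw [mul_inv_eq_iff_eq_mul]
    change bor i 0 * bor 1 (b : F) = bor 1 (-(b : F)) * bor i 0
    rw [bor_mul, bor_mul]
    congr 1
    simp only [inv_one, Units.val_one, mul_one, one_mul, zero_mul, mul_zero, add_zero, zero_add]
    have hi' : ((i⁻¹ : Fˣ) : F) = -(i : F) := by
      rw [Units.val_inv_eq_inv_val]
      exact inv_eq_of_mul_eq_one_right (by linear_combination -hi)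
    rw [hi']
    ring
  · intro x hx
    obtain ⟨a, d, ha, rfl⟩ := hcen x hx
    rw [← map_mul, ← map_mul, show (dg i : SL F) = bor i 0 from rfl, bor_mul, bor_mul, pm_eq_one_iff,
      bor_mem_center_iff]
    have hi2 : i * i = (-1 : Fˣ) := Units.ext (by simpa using hi)
    have hia : i * a * (i * a) = -1 := by rw [mul_mul_mul_comm, ha, mul_one, hi2]
    refine ⟨by rw [hia]; simp, ?_⟩
    have h' : (((i * a)⁻¹ : Fˣ) : F) = -((i : F) * a) := by
      rw [Units.val_inv_eq_inv_val, Units.val_mul]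
      refine inv_eq_of_mul_eq_one_right ?_
      have := congrArg Units.val hia
      simp only [Units.val_mul, Units.val_neg, Units.val_one] at this
      linear_combination -this
    rw [h']
    push_cast
    ring

/-- An involution inverting a torus and commuting with its involution. -/
theorem exists_j0 {T : Subgroup (SL F)} (hT : IsTorus T) (hodd : Odd (Fintype.card F)) :
    ∃ j0 : PSL F, orderOf j0 = 2 ∧ ∀ t ∈ T, j0 * pm t * j0⁻¹ = (pm t)⁻¹ := by
  obtain ⟨w, hwN, hwT, hw⟩ := hT.exists_inverting hodd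
  refine ⟨pm w, ?_, fun t ht => by rw [← map_inv, ← map_mul, ← map_mul, hw t ht, map_inv]⟩
  have hne : pm w ≠ 1 := fun h => hwT (hT.center_le (pm_eq_one_iff.1 h))
  have h2 : pm w ^ 2 = 1 := by
    rw [sq, ← map_mul, hT.sq_eq_negOne hodd hwN hwT, pm_eq_one_iff]
    exact negOne_mem_center
  rcases (Nat.dvd_prime Nat.prime_two).1 (orderOf_dvd_of_pow_eq_one h2) with h | h
  · exact absurd (orderOf_eq_one_iff.1 h) hne
  · exact h

end CfsgLib.JT
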