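import Cfsg.Agent.JankoThompson.LCharModel
import Cfsg.Agent.SL2C.Values
import Cfsg.Agent.SL2C.Weyl
import Cfsg.Agent.SL2C.Normalizer
import Cfsg.Agent.SL2C.ClassProducts
import Cfsg.Agent.Char.Inflation
import Cfsg.Agent.Char.Inner

/-!
Passing from SL₂ to PSL₂: class functions trivial on the centre, the two tori, inverting involutions.
-/

set_option autoImplicit false
set_option linter.unusedSectionVars false
set_option linter.style.haveILetI false

namespace CfsgLib.JT

universe u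

open Finset
open scoped ComplexConjugate Classical
open CfsgLib.SL2C

section Torus

variable {U : Type u} [Group U] [Fintype U] {L : Type u} [Group L]

theorem sum_two_to_one [IsCyclic U] (heven : Even (Fintype.card U)) (χ : U →* L)
    (hker : ∀ u, χ u = 1 ↔ u * u = 1) (f : L → ℂ) :
    ∑ u, f (χ u) = 2 * ∑ x ∈ univ.image χ, f x := by
  rw [two_mul, ← two_nsmul]
  refine sum_eq_two_nsmul_sum_image f fun v _ => ?_
  have h : (univ.filter fun y => χ y = χ v) = (univ.filter fun z : U => z * z = 1).image (v * ·) := by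
    ext y
    simp only [Finset.mem_filter, Finset.mem_univ, true_and, Finset.mem_image]
    constructor
    · intro hy
      exact ⟨v⁻¹ * y, (hker _).1 (by rw [map_mul, map_inv, hy, inv_mul_cancel]),
        mul_inv_cancel_left v y⟩
    · rintro ⟨z, hz, rfl⟩
      rw [map_mul, (hker z).2 hz, mul_one]
  rw [h, Finset.card_image_of_injective _ (mul_right_injective v), card_sq_one_cyclic heven]

theorem sum_range [IsCyclic U] (heven : Even (Fintype.card U)) (χ : U →* L) [Fintype χ.range]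
    (hker : ∀ u, χ u = 1 ↔ u * u = 1) (f : L → ℂ) :
    ∑ u, f (χ u) = 2 * ∑ o : χ.range, f o := by
  rw [sum_two_to_one heven χ hker f, Finset.sum_subtype (univ.image χ) (p := fun x => x ∈ χ.range)
    (fun x => by simp [MonoidHom.mem_range]) f]

theorem card_range [IsCyclic U] (heven : Even (Fintype.card U)) (χ : U →* L)
    (hker : ∀ u, χ u = 1 ↔ u * u = 1) : 2 * Nat.card χ.range = Fintype.card U := by
  haveI : Finite χ.range := Finite.of_surjective χ.rangeRestrict χ.rangeRestrict_surjective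
  letI := Fintype.ofFinite χ.range
  have h := sum_range heven χ hker (fun _ => 1)
  simp only [Finset.sum_const, Finset.card_univ, nsmul_eq_mul, mul_one] at h
  rw [Nat.card_eq_fintype_card]
  exact_mod_cast h.symm

/-- A cyclic torus of order `4m` modulo its involution: `A` is the odd part. -/
structure ATorus (χ : U →* L) (σ : U →* ℂˣ) (m : ℕ) where
  A : Subgroup L
  i0 : L
  ρ : U →* ↥A
  cardA : Nat.card A = m
  comm : ∀ a ∈ A, ∀ b ∈ A, a * b = b * a
  i0_ord : orderOf i0 = 2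
  i0_A : ∀ a ∈ A, i0 * a = a * i0
  i0_mem : ∃ y, χ y = i0
  range : ∀ u, (χ u = (ρ u : L) ∧ σ u = 1) ∨ (χ u = (ρ u : L) * i0 ∧ σ u = -1)
  surj : ∀ a : A, (∃ u, σ u = 1 ∧ ρ u = a) ∧ ∃ u, σ u = -1 ∧ ρ u = a
  sq_one : ∀ u, u * u = 1 → ρ u = 1 ∧ σ u = 1
  sum : ∀ [Fintype ↥A] (f : L → ℂ),
    ∑ u, f (χ u) = 2 * ((∑ a : A, f a) + ∑ a : A, f ((a : L) * i0))

theorem exists_ATorus [IsCyclic U] {m : ℕ} (hm : Odd m) (hcard : Fintype.card U = 4 * m)
    (χ : U →* L) (hker : ∀ u, χ u = 1 ↔ u * u = 1) (σ : U →* ℂˣ) (hσ : σ ≠ 1)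
    (hσ2 : σ * σ = 1) : Nonempty (ATorus χ σ m) := by
  have heven : Even (Fintype.card U) := ⟨2 * m, by omega⟩
  obtain ⟨g, hg⟩ := IsCyclic.exists_generator (α := U)
  have hord : orderOf g = 4 * m := by
    rw [orderOf_eq_card_of_forall_mem_zpowers hg, Nat.card_eq_fintype_card, hcard]
  have hpow : ∀ u, ∃ j : ℕ, g ^ j = u := fun u => (mem_powers_iff_mem_zpowers (x := g)).2 (hg u)
  have hσg : σ g = -1 := by
    rcases apply_sign hσ2 g with h | h
    · exact absurd (MonoidHom.ext fun u => by obtain ⟨j, rfl⟩ := hpow u; simp [h]) hσ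
    · exact h
  set i0 := χ (g ^ m) with hi0
  have hi2 : i0 * i0 = 1 := by
    rw [hi0, ← map_mul, ← pow_add, hker, ← pow_add]
    exact orderOf_dvd_iff_pow_eq_one.1 ⟨1, by rw [hord]; ring⟩
  have hi1 : i0 ≠ 1 := fun e => by
    rw [hi0, hker, ← pow_add, ← orderOf_dvd_iff_pow_eq_one, hord] at e
    have := hm.pos
    have := Nat.le_of_dvd (by omega) e
    omega
  have hiord : orderOf i0 = 2 := by
    rcases (Nat.dvd_prime Nat.prime_two).1 (orderOf_dvd_of_pow_eq_one (x := i0) (n := 2) (by rw [sq]; exact hi2))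
      with h | h
    · exact absurd (orderOf_eq_one_iff.1 h) hi1
    · exact h
  have hm1 : Even (m + 1) := by obtain ⟨r, rfl⟩ := hm; exact ⟨r + 1, by ring⟩
  have hi_pow : ∀ j : ℕ, i0 ^ j = if Even j then 1 else i0 := fun j => by
    rw [← pow_mod_orderOf, hiord]
    split_ifs with h
    · rw [Nat.even_iff.1 h, pow_zero]
    · rw [Nat.not_even_iff.1 h, pow_one]
  have hχm : ∀ j : ℕ, χ (g ^ j) ^ m = i0 ^ j := fun j => by
    rw [hi0, ← map_pow, ← map_pow, ← pow_mul, ← pow_mul, mul_comm]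
  letI : CommGroup U := IsCyclic.commGroup
  let ρ0 : U →* L := χ.comp (powMonoidHom (m + 1))
  have hρ : ∀ u, ρ0 u = χ (u ^ (m + 1)) := fun _ => rfl
  have hρi : ρ0 (g ^ m) = 1 := by
    rw [hρ, map_pow, ← hi0, hi_pow, if_pos hm1]
  have hrange : ∀ u, (χ u = ρ0 u ∧ σ u = 1) ∨ (χ u = ρ0 u * i0 ∧ σ u = -1) := by
    intro u
    obtain ⟨j, rfl⟩ := hpow u
    have h1 : ρ0 (g ^ j) = χ (g ^ j) * i0 ^ j := by
      rw [hρ, map_pow, pow_succ', hχm]
    rw [hi_pow] at h1
    by_cases hj : Even j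
    · rw [if_pos hj, mul_one] at h1
      exact Or.inl ⟨h1.symm, by rw [map_pow, hσg, hj.neg_one_pow]⟩
    · rw [if_neg hj] at h1
      exact Or.inr ⟨by rw [h1, mul_assoc, hi2, mul_one],
        by rw [map_pow, hσg, (Nat.not_even_iff_odd.1 hj).neg_one_pow]⟩
  have hApow : ∀ a ∈ ρ0.range, a ^ m = 1 := by
    rintro _ ⟨u, rfl⟩
    obtain ⟨j, rfl⟩ := hpow u
    rw [hρ, ← pow_mul, hχm, hi_pow, if_pos (hm1.mul_left j)]
  have hiA : i0 ∉ ρ0.range := fun h => by
    have h1 := hApow i0 h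
    rw [hi_pow, if_neg (Nat.not_even_iff_odd.2 hm)] at h1
    exact hi1 h1
  have hcommχ : ∀ x y : U, χ x * χ y = χ y * χ x := fun x y => by
    rw [← map_mul, mul_comm, map_mul]
  haveI : Finite ρ0.range := Finite.of_surjective ρ0.rangeRestrict ρ0.rangeRestrict_surjective
  letI := Fintype.ofFinite ρ0.range
  have hsum : ∀ f : L → ℂ, ∑ u, f (χ u) =
      2 * ((∑ a : ρ0.range, f a) + ∑ a : ρ0.range, f ((a : L) * i0)) := by
    intro f
    set S1 : Finset L := (univ : Finset ρ0.range).image fun a : ρ0.range => (a : L)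
    set S2 : Finset L := (univ : Finset ρ0.range).image fun a : ρ0.range => (a : L) * i0
    have hU : univ.image χ = S1 ∪ S2 := by
      ext x
      simp only [S1, S2, Finset.mem_image, Finset.mem_univ, true_and, Finset.mem_union]
      constructor
      · rintro ⟨u, rfl⟩
        rcases hrange u with ⟨h, -⟩ | ⟨h, -⟩
        · exact Or.inl ⟨⟨_, u, rfl⟩, h.symm⟩
        · exact Or.inr ⟨⟨_, u, rfl⟩, h.symm⟩
      · rintro (⟨⟨_, u, rfl⟩, rfl⟩ | ⟨⟨_, u, rfl⟩, rfl⟩)
        · exact ⟨_, rfl⟩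
        · exact ⟨u ^ (m + 1) * g ^ m, map_mul _ _ _⟩
    have hd : Disjoint S1 S2 := by
      rw [Finset.disjoint_left]
      intro x h1 h2
      simp only [S1, S2, Finset.mem_image, Finset.mem_univ, true_and] at h1 h2
      obtain ⟨a, rfl⟩ := h1
      obtain ⟨b, hb⟩ := h2
      exact hiA (by rw [show i0 = (b : L)⁻¹ * a by rw [← hb]; group]; exact mul_mem (inv_mem b.2) a.2)
    rw [sum_two_to_one heven χ hker f, hU, Finset.sum_union hd,
      Finset.sum_image (fun a _ b _ h => Subtype.ext h),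
      Finset.sum_image (fun a _ b _ h => Subtype.ext (mul_right_cancel h))]
  refine ⟨{
    A := ρ0.range, i0 := i0, ρ := ρ0.rangeRestrict
    cardA := ?_
    comm := ?_
    i0_ord := hiord
    i0_A := ?_
    i0_mem := ⟨_, rfl⟩
    range := hrange
    surj := ?_
    sq_one := ?_
    sum := fun {_} f => by convert hsum f }⟩
  · have h := hsum (fun _ => 1)
    simp only [Finset.sum_const, Finset.card_univ, nsmul_eq_mul, mul_one, hcard] at h
    rw [Nat.card_eq_fintype_card]
    have h' : ((4 * m : ℕ) : ℂ) = ((4 * Fintype.card ρ0.range : ℕ) : ℂ) := by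
      push_cast at h ⊢; linear_combination h
    have := Nat.cast_injective h'
    omega
  · rintro _ ⟨x, rfl⟩ _ ⟨y, rfl⟩; exact hcommχ _ _
  · rintro _ ⟨x, rfl⟩; exact hcommχ _ _
  · rintro ⟨_, u, rfl⟩
    have hy : σ (g ^ m) = -1 := by rw [map_pow, hσg, hm.neg_one_pow]
    have hmul : ρ0.rangeRestrict (u * g ^ m) = ρ0.rangeRestrict u :=
      Subtype.ext (show ρ0 (u * g ^ m) = ρ0 u by rw [map_mul, hρi, mul_one])
    rcases apply_sign hσ2 u with h | h
    · exact ⟨⟨u, h, rfl⟩, u * g ^ m, by rw [map_mul, h, hy, one_mul], hmul⟩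
    · exact ⟨⟨u * g ^ m, by rw [map_mul, h, hy]; norm_num, hmul⟩, u, h, rfl⟩
  · intro u hu
    have h1 := (hker u).2 hu
    refine ⟨Subtype.ext ?_, ?_⟩
    · change ρ0 u = 1
      rw [hρ, map_pow, h1, one_pow]
    · rcases hrange u with ⟨-, h⟩ | ⟨h, -⟩
      · exact h
      · exfalso
        rw [h1, hρ, map_pow, h1, one_pow, one_mul] at h
        exact hi1 h.symm

/-- The extension of a character of `A` to the torus, trivial on the four group. -/
def ATorus.ext {χ : U →* L} {σ : U →* ℂˣ} {m : ℕ} (D : ATorus χ σ m) (μ : ↥D.A →* ℂˣ) : U →* ℂˣ :=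
  μ.comp D.ρ

theorem ATorus.ext_apply {χ : U →* L} {σ : U →* ℂˣ} {m : ℕ} (D : ATorus χ σ m) (μ : ↥D.A →* ℂˣ)
    (u : U) : D.ext μ u = μ (D.ρ u) := rfl

theorem ATorus.ext_inv {χ : U →* L} {σ : U →* ℂˣ} {m : ℕ} (D : ATorus χ σ m) (μ : ↥D.A →* ℂˣ) :
    D.ext μ⁻¹ = (D.ext μ)⁻¹ := MonoidHom.ext fun _ => rfl

theorem ATorus.ext_sq_ne {χ : U →* L} {σ : U →* ℂˣ} {m : ℕ} (D : ATorus χ σ m) (hm : Odd m)
    (hσ2 : σ * σ = 1) {μ : ↥D.A →* ℂˣ} (hμ : μ ≠ 1) :
    D.ext μ * D.ext μ ≠ 1 ∧ D.ext μ * σ * (D.ext μ * σ) ≠ 1 := by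
  have h0 : D.ext μ * D.ext μ ≠ 1 := fun h => by
    refine inv_ne_self_of_ne_one (by rw [D.cardA]; exact hm) hμ (MonoidHom.ext fun a => ?_)
    obtain ⟨⟨u, -, rfl⟩, -⟩ := D.surj a
    have := DFunLike.congr_fun h u
    rw [MonoidHom.mul_apply, MonoidHom.one_apply, ATorus.ext_apply] at this
    rw [MonoidHom.inv_apply]
    exact inv_eq_of_mul_eq_one_left this
  refine ⟨h0, fun h => h0 (MonoidHom.ext fun u => ?_)⟩
  have h1 := DFunLike.congr_fun h u
  have h2 := DFunLike.congr_fun hσ2 u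
  simp only [MonoidHom.mul_apply, MonoidHom.one_apply] at h1 h2 ⊢
  rwa [mul_mul_mul_comm, h2, mul_one] at h1

end Torus

section Lift

variable {F : Type u} [Field F] [Fintype F]

/-- `f` is trivial on the centre. -/
def Cen (f : SL F → ℂ) : Prop := ∀ g, f (negOne F * g) = f g

/-- The function on PSL₂ of a function trivial on the centre. -/
noncomputable def lift (f : SL F → ℂ) : PSL F → ℂ :=
  fun x => f (Function.surjInv pm_surjective x)

theorem pm_eq_pm_iff {g h : SL F} : pm g = pm h ↔ g = h ∨ g = negOne F * h := by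
  constructor
  · intro e
    have h1 : g * h⁻¹ ∈ Subgroup.center (SL F) :=
      pm_eq_one_iff.1 (by rw [map_mul, map_inv, e, mul_inv_cancel])
    rcases center_cases h1 with h2 | h2
    · exact Or.inl (mul_inv_eq_one.1 h2)
    · exact Or.inr (mul_inv_eq_iff_eq_mul.1 h2)
  · rintro (rfl | rfl)
    · rfl
    · rw [map_mul, pm_eq_one_iff.2 negOne_mem_center, one_mul]

theorem lift_pm {f : SL F → ℂ} (hf : Cen f) (g : SL F) : lift f (pm g) = f g := by
  rw [lift]
  rcases pm_eq_pm_iff.1 (Function.surjInv_eq (f := pm) pm_surjective (pm g)) with h | h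
  · rw [h]
  · rw [h, hf]

theorem pm_ker (hodd : Odd (Fintype.card F)) (g : SL F) : pm g = 1 ↔ g * g = 1 :=
  pm_eq_one_iff.trans ⟨mul_self_eq_one_of_center, mem_center_of_mul_self hodd⟩

theorem negOne_comm (g : SL F) : negOne F * g = g * negOne F :=
  (Subgroup.mem_center_iff.1 negOne_mem_center g).symm

variable [Fintype (PSL F)]

theorem sum_pm (hodd : Odd (Fintype.card F)) (f : PSL F → ℂ) :
    ∑ g : SL F, f (pm g) = 2 * ∑ x, f x := by
  rw [two_mul, ← two_nsmul, sum_eq_two_nsmul_sum_image f fun v _ => ?_,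
    Finset.image_univ_of_surjective pm_surjective]
  · rw [show (univ.filter fun y : SL F => pm y = pm v) = {v, negOne F * v} from ?_,
      Finset.card_pair fun e => negOne_ne_one hodd (mul_eq_right.1 e.symm)]
    ext y
    simp only [Finset.mem_filter, Finset.mem_univ, true_and, pm_eq_pm_iff, Finset.mem_insert,
      Finset.mem_singleton]

theorem two_mul_card (hodd : Odd (Fintype.card F)) :
    2 * Nat.card (PSL F) = Fintype.card F * (Fintype.card F ^ 2 - 1) := by
  rw [← card_SL2_mul, Nat.card_eq_fintype_card, Nat.card_eq_fintype_card]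
  have h := sum_pm hodd (fun _ => (1 : ℂ))
  simp only [Finset.sum_const, Finset.card_univ, nsmul_eq_mul, mul_one] at h
  exact_mod_cast h.symm

theorem classInner_lift (hodd : Odd (Fintype.card F)) {f f' : SL F → ℂ} (hf : Cen f)
    (hf' : Cen f') : Cfsg.classInner (lift f) (lift f') = Cfsg.classInner f f' := by
  have h := sum_pm hodd fun x => lift f x * conj (lift f' x)
  simp only [lift_pm hf, lift_pm hf'] at h
  have hc : (Nat.card (SL F) : ℂ) = 2 * (Nat.card (PSL F) : ℂ) := by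
    have h1 := sum_pm hodd (fun _ => (1 : ℂ))
    simp only [Finset.sum_const, Finset.card_univ, nsmul_eq_mul, mul_one] at h1
    rw [Nat.card_eq_fintype_card, Nat.card_eq_fintype_card]
    exact h1
  rw [Cfsg.classInner, Cfsg.classInner, hc, h]
  field_simp

theorem lift_gen (hodd : Odd (Fintype.card F)) {f : SL F → ℂ} (hf : Cen f)
    (hg : Cfsg.IsGeneralizedCharacter (SL F) f) :
    Cfsg.IsGeneralizedCharacter (PSL F) (lift f) := by
  have hcls : Cfsg.IsClassFunction (PSL F) (lift f) := fun x y => by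
    obtain ⟨a, rfl⟩ := pm_surjective x
    obtain ⟨b, rfl⟩ := pm_surjective y
    rw [← map_inv, ← map_mul, ← map_mul, lift_pm hf, lift_pm hf,
      CfsgLib.Char.IsGeneralized.isClassFunction hg a b]
  refine CfsgLib.Char.isGeneralized_of_classInner_int hcls fun ψ hψ => ?_
  have hψ' : Cen (fun g => ψ (pm g)) := fun g =>
    congrArg ψ (pm_eq_pm_iff.2 (Or.inr rfl))
  have hl : lift (fun g => ψ (pm g)) = ψ := funext fun x => by
    obtain ⟨a, rfl⟩ := pm_surjective x
    exact lift_pm hψ' a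
  obtain ⟨z, hz⟩ := CfsgLib.Char.IsGeneralized.exists_classInner_eq_int hg
    (CfsgLib.Char.IsIrrCharacter.isGeneralized
      (CfsgLib.Char.IsIrrCharacter.comp_surjective hψ (pm : SL F →* PSL F) pm_surjective))
  refine ⟨z, ?_⟩
  rw [← hl, classInner_lift hodd hf hψ']
  exact hz

/-- The non-identity unipotent elements, split by the quadratic character. -/
theorem sum_unip {c : SL F} {η : Fˣ →* ℂˣ} {θ : tor c →* ℂˣ} {x₁ x₂ y₁ y₂ : SL F → ℂ}
    (hodd : Odd (Fintype.card F)) (hh : IsHalves c η θ x₁ x₂ y₁ y₂) {ν : Fˣ} (hν : η ν = -1)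
    {f : SL F → ℂ} (hf : ∀ g h, f (h * g * h⁻¹) = f g) :
    ∑ b ∈ univ.filter (fun b : F => b ≠ 0), f (bor 1 b) =
      ((Fintype.card F : ℂ) - 1) / 2 * (f (bor 1 1) + f (bor 1 (ν : F))) := by
  have h1 : ∀ u v : Fˣ, η u = η v → f (bor 1 (u : F)) = f (bor 1 (v : F)) := fun u v huv => by
    obtain ⟨t, ht⟩ := (isSquare_of_eta hodd hh (u * v⁻¹)).1 (by rw [map_mul, map_inv, huv, mul_inv_cancel])
    obtain ⟨x, hx⟩ := isConj_iff.1 (isConj_bor_one t (v : F))
    rw [show (u : F) = (t : F) * t * v by rw [← Units.val_mul, ← ht, ← Units.val_mul, inv_mul_cancel_right],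
      ← hx, hf]
  rw [sum_ne_zero_eq_sum_units fun b => f (bor 1 b),
    Finset.sum_congr rfl fun (u : Fˣ) _ => show f (bor 1 (u : F)) =
        (f (bor 1 1) + f (bor 1 (ν : F))) / 2 + (f (bor 1 1) - f (bor 1 (ν : F))) / 2 * ch η u by
      rcases apply_sign hh.η_sq u with e | e
      · rw [h1 u 1 (by rw [e, map_one]), Units.val_one, ch, e, Units.val_one]; ring
      · rw [h1 u ν (by rw [e, hν]), ch, e, Units.val_neg, Units.val_one]; ring,
    Finset.sum_add_distrib, ← Finset.mul_sum, show ∑ u : Fˣ, ch η u = 0 from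
      (sum_char η).trans (if_neg hh.η_ne), Finset.sum_const, Finset.card_univ, Fintype.card_units,
    nsmul_eq_mul, Nat.cast_sub Fintype.card_pos]
  push_cast
  ring

/-- The Weyl sum on PSL₂. -/
theorem sum_psl {c : SL F} (hc : Ell c) {η : Fˣ →* ℂˣ} {θ : tor c →* ℂˣ}
    {x₁ x₂ y₁ y₂ : SL F → ℂ} (hodd : Odd (Fintype.card F)) (hh : IsHalves c η θ x₁ x₂ y₁ y₂)
    {ν : Fˣ} (hν : η ν = -1) {f : PSL F → ℂ} (hf : ∀ g x, f (x * g * x⁻¹) = f g) :
    2 * ∑ x, f x = 2 * f 1 +
      (Fintype.card F : ℂ) * ((Fintype.card F : ℂ) + 1) / 2 * ((∑ a : Fˣ, f (pm (dg a))) - 2 * f 1) +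
      ((Fintype.card F : ℂ) ^ 2 - 1) * (f (pm (bor 1 1)) + f (pm (bor 1 (ν : F)))) +
      (Fintype.card F : ℂ) * ((Fintype.card F : ℂ) - 1) / 2 * ((∑ y : tor c, f (pm (y : SL F))) - 2 * f 1) := by
  have hcls : ∀ g h : SL F, f (pm (h * g * h⁻¹)) = f (pm g) := fun g h => by
    rw [map_mul, map_mul, map_inv, hf]
  have hneg : ∀ g : SL F, f (pm (negOne F * g)) = f (pm g) := fun g => by
    rw [show pm (negOne F * g) = pm g from pm_eq_pm_iff.2 (Or.inr rfl)]
  rw [← sum_pm hodd f, sum_eq hc hcls]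
  have hcen : ∀ e ∈ sgn F, f (pm (bor e 0)) = f 1 := fun e he => by
    rw [pm_eq_one_iff.2 (bor_mem_center_iff.2 ⟨mem_sgn.1 he, rfl⟩)]
  have hpar : ∀ e ∈ sgn F, ∑ b ∈ univ.filter (fun b : F => b ≠ 0), f (pm (bor e b)) =
      ∑ b ∈ univ.filter (fun b : F => b ≠ 0), f (pm (bor 1 b)) := fun e he => by
    rcases sgn_cases he with rfl | rfl
    · rfl
    · refine Finset.sum_bij' (fun b _ => -b) (fun b _ => -b) (fun b hb => by simpa using hb)
        (fun b hb => by simpa using hb) (fun b _ => neg_neg b) (fun b _ => neg_neg b) fun b _ => ?_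
      rw [bor_eq_cen_mul he b, show bor (-1 : Fˣ) (0 : F) = negOne F from rfl, hneg,
        show (((-1 : Fˣ) : F) * b) = -b by simp]
  rw [sum_sgn_eq hodd, sum_sgn_eq hodd, sum_reg fun a => f (pm (dg a)), sum_sgn_eq hodd,
    sum_torReg fun y => f (pm y), sum_sgn_eq hodd, hpar 1 (mem_sgn.2 (one_mul 1)),
    hpar (-1) neg_one_mem_sgn, hcen 1 (mem_sgn.2 (one_mul 1)), hcen (-1) neg_one_mem_sgn,
    sum_unip hodd hh hν (f := fun g => f (pm g)) hcls,
    show (dg (1 : Fˣ) : SL F) = bor 1 0 from rfl, show (dg (-1 : Fˣ) : SL F) = bor (-1) 0 from rfl,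
    hcen 1 (mem_sgn.2 (one_mul 1)), hcen (-1) neg_one_mem_sgn]
  ring

/-- Inverting involutions of `s`, given one and the centraliser. -/
theorem invCount_eq {L : Type u} [Group L] {s x0 : L} (hs : s * s ≠ 1) (hx0 : x0 * s * x0⁻¹ = s⁻¹)
    (hsq : ∀ c, c * s = s * c → x0 * c * (x0 * c) = 1) :
    invCount s = Nat.card (Subgroup.centralizer ({s} : Set L)) := by
  refine Nat.card_congr
    { toFun := fun x => ⟨x0⁻¹ * x.1, ?_⟩
      invFun := fun c => ⟨x0 * c.1, ?_, ?_⟩
      left_inv := fun x => Subtype.ext (mul_inv_cancel_left x0 x.1)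
      right_inv := fun c => Subtype.ext (inv_mul_cancel_left x0 c.1) }
  · rw [Subgroup.mem_centralizer_singleton_iff]
    have h1 : x.1 * s = s⁻¹ * x.1 := mul_inv_eq_iff_eq_mul.1 x.2.2
    have h2 : x0 * s = s⁻¹ * x0 := mul_inv_eq_iff_eq_mul.1 hx0
    have h3 : x0⁻¹ * s⁻¹ = s * x0⁻¹ := by
      rw [inv_mul_eq_iff_eq_mul, ← mul_assoc, h2, mul_inv_cancel_right]
    rw [mul_assoc, h1, ← mul_assoc, h3, mul_assoc]
  · have hc := Subgroup.mem_centralizer_singleton_iff.1 c.2
    have h := hsq c hc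
    rcases (Nat.dvd_prime Nat.prime_two).1 (orderOf_dvd_of_pow_eq_one (x := x0 * (c : L)) (n := 2) (by rw [sq]; exact h))
      with h1 | h1
    · exfalso
      rw [orderOf_eq_one_iff] at h1
      have hx : x0 = (c : L)⁻¹ := eq_inv_of_mul_eq_one_left h1
      rw [hx, inv_inv, mul_assoc, ← hc, inv_mul_cancel_left] at hx0
      exact hs (eq_inv_iff_mul_eq_one.1 hx0)
    · exact h1
  · have hc := Subgroup.mem_centralizer_singleton_iff.1 c.2
    rw [mul_inv_rev, ← mul_assoc, mul_assoc x0, hc, ← mul_assoc, mul_inv_cancel_right, hx0]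

/-- The centraliser in PSL₂ of an element of a torus of order above two. -/
theorem centralizer_pm {T : Subgroup (SL F)} (hT : IsTorus T) (hodd : Odd (Fintype.card F))
    {g : SL F} (hg : g ∈ T) (hs : pm g * pm g ≠ 1) :
    Subgroup.centralizer ({pm g} : Set (PSL F)) = T.map pm := by
  have hgc : g ∉ Subgroup.center (SL F) := fun h => hs (by rw [pm_eq_one_iff.2 h, one_mul])
  ext x
  obtain ⟨a, rfl⟩ := pm_surjective x
  rw [Subgroup.mem_centralizer_singleton_iff]
  constructor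
  · intro h
    have h1 : pm (a * g * a⁻¹) = pm g := by rw [map_mul, map_mul, map_inv, h, mul_inv_cancel_right]
    have hmem : a * g * a⁻¹ ∈ T := by
      rcases pm_eq_pm_iff.1 h1 with e | e <;> rw [e]
      · exact hg
      · exact mul_mem (hT.center_le negOne_mem_center) hg
    rcases hT.normalizer_dichotomy (hT.mem_normalizer_of_mem hg hgc hmem) with e | e
    · exact ⟨a, e, rfl⟩
    · exfalso
      rw [e g hg, map_inv] at h1
      exact hs (inv_eq_iff_mul_eq_one.1 h1)
  · rintro ⟨b, hb, hb'⟩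
    rw [← hb', ← map_mul, ← map_mul, hT.comm hb hg]

/-- The number of involutions inverting a regular element of a torus. -/
theorem invCount_torus {T : Subgroup (SL F)} (hT : IsTorus T) (hodd : Odd (Fintype.card F))
    {g : SL F} (hg : g ∈ T) (hs : pm g * pm g ≠ 1) :
    invCount (pm g) = Nat.card (T.map (pm : SL F →* PSL F)) := by
  obtain ⟨w, hwN, hwT, hw⟩ := hT.exists_inverting hodd
  rw [← centralizer_pm hT hodd hg hs]
  refine invCount_eq hs (x0 := pm w) (by rw [← map_inv, ← map_mul, ← map_mul, hw g hg, map_inv])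
    fun c hc => ?_
  have hcT : c ∈ T.map pm := by
    rw [← centralizer_pm hT hodd hg hs]
    exact Subgroup.mem_centralizer_singleton_iff.2 hc
  obtain ⟨t, ht, rfl⟩ := hcT
  have h2 : w * t * (w * t) = negOne F := by
    have h3 : w * t = t⁻¹ * w := mul_inv_eq_iff_eq_mul.1 (hw t ht)
    calc w * t * (w * t) = (t⁻¹ * w) * (w * t) := by rw [h3]
      _ = t⁻¹ * (w * w) * t := by group
      _ = t⁻¹ * negOne F * t := by rw [hT.sq_eq_negOne hodd hwN hwT]
      _ = negOne F := by rw [mul_assoc, negOne_comm, inv_mul_cancel_left]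
  rw [← map_mul, ← map_mul, h2, pm_eq_one_iff]
  exact negOne_mem_center

end Lift

end CfsgLib.JT
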