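import Cfsg.Agent.JankoThompson.Setting
import Cfsg.Agent.SL2C.AbChar
import Cfsg.Agent.Char.Generalized

/-!
The class functions of `PSL₂(q)`, `q ≡ ±3 (mod 8)`, from a table of values: `A` is the odd part of
the torus of the four group, `O` the other torus, `u 0`, `u 1` the two unipotent classes.
-/

set_option autoImplicit false
set_option linter.unusedSectionVars false

namespace CfsgLib.JT

universe u

open Finset
open scoped ComplexConjugate Classical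
open CfsgLib.SL2C (sum_char conj_char sum_dual card_dual)

/-- The number of involutions inverting `s`. -/
noncomputable def invCount {L : Type u} [Group L] (s : L) : ℕ :=
  Nat.card {x : L // orderOf x = 2 ∧ x * s * x⁻¹ = s⁻¹}

/-- The table of values. -/
structure Model (L : Type u) [Group L] [Fintype L] (p : ℕ) (Q k h : ℤ) where
  hp : p.Prime
  hodd : p ≠ 2
  hQ : ∃ n : ℕ, Q.natAbs = p ^ n
  hQ8 : Q % 8 = 3
  hk : 4 * k = Q + 1
  hh : 2 * h = Q - 1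
  card : 2 * (Nat.card L : ℤ) = |Q| * (Q ^ 2 - 1)
  A : Subgroup L
  O : Subgroup L
  cardA : (Nat.card A : ℤ) = |k|
  cardO : 2 * (Nat.card O : ℤ) = |Q - 1|
  commA : ∀ a ∈ A, ∀ b ∈ A, a * b = b * a
  commO : ∀ a ∈ O, ∀ b ∈ O, a * b = b * a
  i0 : L
  j0 : L
  i0_ord : orderOf i0 = 2
  j0_ord : orderOf j0 = 2
  i0_A : ∀ a ∈ A, i0 * a = a * i0
  j0_A : ∀ a ∈ A, j0 * a * j0⁻¹ = a⁻¹
  i0_j0 : i0 * j0 = j0 * i0
  u : Fin 2 → L
  u_pow : ∀ j, u j ^ p = 1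
  u_swap : ∀ a : ℕ, ¬ IsSquare (a : ZMod p) → ∀ j, IsConj (u (1 - j)) (u j ^ a)
  cover : ∀ x : L, x = 1 ∨ (∃ j, IsConj (u j) x) ∨ (∃ a : A, a ≠ 1 ∧ IsConj (a : L) x) ∨
    (∃ a : A, IsConj ((a : L) * i0) x) ∨ ∃ o : O, o ≠ 1 ∧ IsConj (o : L) x
  sum : ∀ f : L → ℂ, (∀ g x, f (x * g * x⁻¹) = f g) →
    2 * ∑ x, f x = 2 * f 1 + ((Q : ℂ) ^ 2 - 1) * (f (u 0) + f (u 1)) +
      (Q : ℂ) * ((Q : ℂ) - 1) * ((∑ a : A, f a) - f 1 + ∑ a : A, f ((a : L) * i0)) +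
      (Q : ℂ) * ((Q : ℂ) + 1) * ((∑ o : O, f o) - f 1)
  phi : Fin 3 → L → ℂ
  phiM : (↥A →* ℂˣ) → L → ℂ
  phiL : (↥O →* ℂˣ) → L → ℂ
  phi_gen : ∀ i, Cfsg.IsGeneralizedCharacter L (phi i)
  phiM_gen : ∀ μ, μ ≠ 1 → Cfsg.IsGeneralizedCharacter L (phiM μ)
  phiL_gen : ∀ l, l ≠ 1 → Cfsg.IsGeneralizedCharacter L (phiL l)
  phiM_inv : ∀ μ, phiM μ⁻¹ = phiM μ
  phi0_1 : phi 0 1 = (Q : ℂ) + 1
  phi_1 : ∀ i, i ≠ 0 → 2 * phi i 1 = 3 * (Q : ℂ) - 1
  phi0_u : ∀ j, phi 0 (u j) = 1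
  phi12_u : ∀ j, phi 1 (u (1 - j)) = phi 2 (u j)
  phi1_u : phi 1 (u 0) + phi 1 (u 1) = -1
  phi_a : ∀ i, ∀ a : A, a ≠ 1 → phi i (a : L) = if i = 0 then 0 else -2
  phi_ai : ∀ i, ∀ a : A, phi i ((a : L) * i0) = 0
  phi_o : ∀ i, ∀ o : O, o ≠ 1 → phi i (o : L) = if i = 0 then 2 else 1
  phi_inner : ∀ i j, i ≠ 0 → j ≠ 0 → Cfsg.classInner (phi i) (phi j) = if i = j then 2 else 1
  phiM_1 : ∀ μ, μ ≠ 1 → phiM μ 1 = 2 * ((Q : ℂ) - 1)
  phiM_u : ∀ μ, μ ≠ 1 → ∀ j, phiM μ (u j) = -2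
  phiM_a : ∀ μ, μ ≠ 1 → ∀ a : A, a ≠ 1 → phiM μ (a : L) = -2 * ((μ a : ℂ) + (μ⁻¹ a : ℂ))
  phiM_ai : ∀ μ, μ ≠ 1 → ∀ a : A, phiM μ ((a : L) * i0) = 0
  phiM_o : ∀ μ, μ ≠ 1 → ∀ o : O, o ≠ 1 → phiM μ (o : L) = 0
  phiL_1 : ∀ l, l ≠ 1 → phiL l 1 = (Q : ℂ) + 1
  phiL_u : ∀ l, l ≠ 1 → ∀ j, phiL l (u j) = 1
  phiL_a : ∀ l, l ≠ 1 → ∀ a : A, a ≠ 1 → phiL l (a : L) = 0
  phiL_ai : ∀ l, l ≠ 1 → ∀ a : A, phiL l ((a : L) * i0) = 0
  phiL_o : ∀ l, l ≠ 1 → ∀ o : O, o ≠ 1 → phiL l (o : L) = (l o : ℂ) + (l⁻¹ o : ℂ)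
  inv_u : ∀ j, 2 * (invCount (u j) : ℤ) = |Q| - Q
  inv_a : ∀ a : A, a ≠ 1 → 2 * (invCount (a : L) : ℤ) = |Q + 1|
  inv_o : ∀ o : O, o ≠ 1 → 2 * (invCount (o : L) : ℤ) = |Q - 1|

theorem orderOf_odd_of_pow {L : Type u} [Group L] {x : L} {n : ℕ} (hn : Odd n) (h : x ^ n = 1) :
    Odd (orderOf x) :=
  hn.of_dvd_nat (orderOf_dvd_of_pow_eq_one h)

theorem invCount_conj {L : Type u} [Group L] (g x : L) : invCount (x * g * x⁻¹) = invCount g := by
  refine Nat.card_congr ((MulAut.conj x).symm.toEquiv.subtypeEquiv fun y => ?_)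
  simp only [MulEquiv.toEquiv_eq_coe, EquivLike.coe_coe, MulAut.conj_symm_apply]
  constructor
  · rintro ⟨h1, h2⟩
    refine ⟨?_, ?_⟩
    · have h : x⁻¹ * y * x = MulAut.conj x⁻¹ y := by simp
      rw [h, MulEquiv.orderOf_eq, h1]
    · have h3 : x⁻¹ * (y * (x * g * x⁻¹) * y⁻¹) * x = x⁻¹ * (x * g * x⁻¹)⁻¹ * x := by rw [h2]
      simpa [mul_assoc] using h3
  · rintro ⟨h1, h2⟩
    refine ⟨?_, ?_⟩
    · have h : y = MulAut.conj x (x⁻¹ * y * x) := by simp [mul_assoc]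
      rw [h, MulEquiv.orderOf_eq, h1]
    · have h3 : x * (x⁻¹ * y * x * g * (x⁻¹ * y * x)⁻¹) * x⁻¹ = x * g⁻¹ * x⁻¹ := by rw [h2]
      simpa [mul_assoc] using h3

theorem dual_inv_inv {A : Type u} [Group A] (μ : A →* ℂˣ) : μ⁻¹⁻¹ = μ :=
  MonoidHom.ext fun a => by simp

theorem dual_inv_ne_one {A : Type u} [Group A] {μ : A →* ℂˣ} (h : μ ≠ 1) : μ⁻¹ ≠ 1 := fun e =>
  h (MonoidHom.ext fun a => by
    have := DFunLike.congr_fun e a
    simpa using this)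

theorem inv_ne_self_of_ne_one {A : Type u} [Group A] (hA : Odd (Nat.card A)) {μ : A →* ℂˣ}
    (hμ : μ ≠ 1) : μ⁻¹ ≠ μ := by
  intro h
  refine hμ (MonoidHom.ext fun a => ?_)
  have h1 : μ a ^ 2 = 1 := by
    rw [sq]
    have := DFunLike.congr_fun h a
    rw [MonoidHom.inv_apply] at this
    exact inv_eq_iff_mul_eq_one.1 this
  have h2 : μ a ^ Nat.card A = 1 := by
    rw [← map_pow, pow_card_eq_one', map_one]
  have h3 : orderOf (μ a) ∣ Nat.gcd 2 (Nat.card A) :=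
    Nat.dvd_gcd (orderOf_dvd_of_pow_eq_one h1) (orderOf_dvd_of_pow_eq_one h2)
  rw [hA.coprime_two_left.gcd_eq_one, Nat.dvd_one, orderOf_eq_one_iff] at h3
  exact h3

theorem sum_pair_mul {A : Type u} [Group A] [Fintype A] (hA : Odd (Nat.card A)) {μ ν : A →* ℂˣ}
    (hμ : μ ≠ 1) :
    ∑ a : A, ((μ a : ℂ) + (μ⁻¹ a : ℂ)) * ((ν a : ℂ) + (ν⁻¹ a : ℂ)) =
      if ν = μ ∨ ν = μ⁻¹ then 2 * (Fintype.card A : ℂ) else 0 := by
  have h : ∀ a : A, ((μ a : ℂ) + (μ⁻¹ a : ℂ)) * ((ν a : ℂ) + (ν⁻¹ a : ℂ)) =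
      ((μ * ν) a : ℂ) + ((μ * ν⁻¹) a : ℂ) + ((μ⁻¹ * ν) a : ℂ) + ((μ⁻¹ * ν⁻¹) a : ℂ) := fun a => by
    simp only [MonoidHom.mul_apply, Units.val_mul]
    ring
  have e1 : μ * ν = 1 ↔ ν = μ⁻¹ := by
    simp only [MonoidHom.ext_iff, MonoidHom.mul_apply, MonoidHom.inv_apply, MonoidHom.one_apply,
      mul_eq_one_iff_eq_inv']
  have e2 : μ * ν⁻¹ = 1 ↔ ν = μ := by
    simp only [MonoidHom.ext_iff, MonoidHom.mul_apply, MonoidHom.inv_apply, MonoidHom.one_apply,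
      mul_inv_eq_one]
    exact forall_congr' fun _ => eq_comm
  have e3 : μ⁻¹ * ν = 1 ↔ ν = μ := by
    simp only [MonoidHom.ext_iff, MonoidHom.mul_apply, MonoidHom.inv_apply, MonoidHom.one_apply,
      inv_mul_eq_one]
    exact forall_congr' fun _ => eq_comm
  have e4 : μ⁻¹ * ν⁻¹ = 1 ↔ ν = μ⁻¹ := by
    simp only [MonoidHom.ext_iff, MonoidHom.mul_apply, MonoidHom.inv_apply, MonoidHom.one_apply,
      mul_inv_eq_one]
    exact forall_congr' fun _ => eq_comm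
  simp only [h, Finset.sum_add_distrib, sum_char, e1, e2, e3, e4]
  have hne := inv_ne_self_of_ne_one hA hμ
  by_cases h1 : ν = μ
  · subst h1
    simp [hne.symm]
    ring
  · by_cases h2 : ν = μ⁻¹
    · subst h2
      simp [hne]
      ring
    · simp [h1, h2]

theorem sum_pair_single {A : Type u} [Group A] [Fintype A] {μ : A →* ℂˣ} (hμ : μ ≠ 1) :
    ∑ a : A, ((μ a : ℂ) + (μ⁻¹ a : ℂ)) = 0 := by
  rw [Finset.sum_add_distrib, sum_char, sum_char, if_neg hμ, if_neg (dual_inv_ne_one hμ), add_zero]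

theorem sum_dual_pair {A : Type u} [Group A] [Fintype A] (hA : ∀ a b : A, a * b = b * a) {a : A}
    (ha : a ≠ 1) :
    ∑ μ ∈ univ.filter (fun μ : A →* ℂˣ => μ ≠ 1), ((μ a : ℂ) + (μ⁻¹ a : ℂ)) = -2 := by
  have h0 : ∑ μ : A →* ℂˣ, ((μ a : ℂ) + (μ⁻¹ a : ℂ)) = 0 := by
    simp only [Finset.sum_add_distrib, MonoidHom.inv_apply, ← map_inv]
    rw [sum_dual hA, sum_dual hA, if_neg ha, if_neg (by simpa using ha), add_zero]
  rw [Finset.filter_ne', ← Finset.sum_erase_add _ _ (Finset.mem_univ (1 : A →* ℂˣ))] at *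
  simp only [MonoidHom.one_apply, MonoidHom.inv_apply, inv_one, Units.val_one] at h0 ⊢
  linear_combination h0

/-- One representative of each pair of inverse non-trivial linear characters. -/
theorem exists_half (A : Type u) [Group A] [Fintype A] (hodd : Odd (Nat.card A)) :
    ∃ (n : ℕ) (r : Fin n → (A →* ℂˣ)), (∀ l, r l ≠ 1) ∧
      (∀ l l', r l' = r l ∨ r l' = (r l)⁻¹ ↔ l' = l) ∧
      ∀ f : (A →* ℂˣ) → ℂ, (∀ μ, f μ⁻¹ = f μ) →
        2 * ∑ l, f (r l) = ∑ μ ∈ univ.filter (fun μ : A →* ℂˣ => μ ≠ 1), f μ := by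
  set e := Fintype.equivFin (A →* ℂˣ)
  set S := univ.filter (fun μ : A →* ℂˣ => μ ≠ 1 ∧ e μ < e μ⁻¹) with hS
  have hne : ∀ {μ : A →* ℂˣ}, μ ≠ 1 → e μ⁻¹ ≠ e μ := fun h he =>
    inv_ne_self_of_ne_one hodd h (e.injective he)
  refine ⟨S.card, fun l => (S.equivFin.symm l : A →* ℂˣ), fun l => ?_, fun l l' => ?_, fun f hf => ?_⟩
  · exact (Finset.mem_filter.1 (S.equivFin.symm l).2).2.1
  · refine ⟨?_, fun h => Or.inl (by rw [h])⟩
    rintro (h | h)
    · exact S.equivFin.symm.injective (Subtype.ext h)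
    · exfalso
      have h1 := (Finset.mem_filter.1 (S.equivFin.symm l).2).2.2
      have h2 := (Finset.mem_filter.1 (S.equivFin.symm l').2).2.2
      simp only at h
      rw [h, dual_inv_inv] at h2
      exact lt_asymm h1 h2
  · have h1 : ∑ l, f (S.equivFin.symm l : A →* ℂˣ) = ∑ μ ∈ S, f μ := by
      rw [Equiv.sum_comp S.equivFin.symm (fun μ : S => f μ), ← Finset.sum_coe_sort S]
    have h2 : ∑ μ ∈ S, f μ = ∑ μ ∈ univ.filter (fun μ : A →* ℂˣ => μ ≠ 1 ∧ e μ⁻¹ < e μ), f μ := by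
      refine Finset.sum_bij' (fun μ _ => μ⁻¹) (fun μ _ => μ⁻¹) ?_ ?_ ?_ ?_ ?_
      · intro μ hμ
        simp only [hS, Finset.mem_filter, Finset.mem_univ, true_and, dual_inv_inv] at hμ ⊢
        exact ⟨dual_inv_ne_one hμ.1, hμ.2⟩
      · intro μ hμ
        simp only [hS, Finset.mem_filter, Finset.mem_univ, true_and, dual_inv_inv] at hμ ⊢
        exact ⟨dual_inv_ne_one hμ.1, hμ.2⟩
      · intro μ _; exact dual_inv_inv μ
      · intro μ _; exact dual_inv_inv μ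
      · intro μ _; exact (hf μ).symm
    rw [h1, two_mul]
    nth_rewrite 2 [h2]
    rw [← Finset.sum_union]
    · refine Finset.sum_congr ?_ fun _ _ => rfl
      ext μ
      simp only [hS, Finset.mem_union, Finset.mem_filter, Finset.mem_univ, true_and]
      constructor
      · rintro (⟨h, -⟩ | ⟨h, -⟩) <;> exact h
      · intro h
        rcases lt_or_gt_of_ne (hne h) with h' | h'
        · exact Or.inr ⟨h, h'⟩
        · exact Or.inl ⟨h, h'⟩
    · rw [Finset.disjoint_left]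
      intro μ h h'
      simp only [hS, Finset.mem_filter, Finset.mem_univ, true_and] at h h'
      exact lt_asymm h.2 h'.2

namespace Model

variable {L : Type u} [Group L] [Fintype L] {p : ℕ} {Q k h : ℤ} (M : Model L p Q k h)

theorem exists_sign (hQ8 : Q % 8 = 3) (hk : 4 * k = Q + 1) : ∃ e : ℤ, e * e = 1 ∧ |Q| = e * Q ∧
    |k| = e * k ∧ |Q - 1| = e * (Q - 1) ∧ |Q + 1| = e * (Q + 1) ∧ |3 * Q - 1| = e * (3 * Q - 1) := by
  rcases le_or_gt 0 Q with h | h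
  · exact ⟨1, by norm_num, by rw [abs_of_nonneg h, one_mul],
      by rw [abs_of_nonneg (by omega), one_mul], by rw [abs_of_nonneg (by omega), one_mul],
      by rw [abs_of_nonneg (by omega), one_mul], by rw [abs_of_nonneg (by omega), one_mul]⟩
  · exact ⟨-1, by norm_num, by rw [abs_of_neg h, neg_one_mul],
      by rw [abs_of_neg (by omega), neg_one_mul], by rw [abs_of_neg (by omega), neg_one_mul],
      by rw [abs_of_neg (by omega), neg_one_mul], by rw [abs_of_neg (by omega), neg_one_mul]⟩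

include M in
theorem sizes : ∃ e : ℂ, 4 * (Nat.card M.A : ℂ) = e * ((Q : ℂ) + 1) ∧
    2 * (Nat.card M.O : ℂ) = e * ((Q : ℂ) - 1) ∧
    2 * (Nat.card L : ℂ) = e * (Q : ℂ) * ((Q : ℂ) ^ 2 - 1) ∧
    ((|Q| : ℤ) : ℂ) = e * (Q : ℂ) ∧ ((|Q - 1| : ℤ) : ℂ) = e * ((Q : ℂ) - 1) ∧
    ((|Q + 1| : ℤ) : ℂ) = e * ((Q : ℂ) + 1) ∧ e * e = 1 := by
  obtain ⟨e, e1, eQ, ek, e2, e3, -⟩ := exists_sign M.hQ8 M.hk
  refine ⟨(e : ℂ), ?_, ?_, ?_, ?_, ?_, ?_, by exact_mod_cast e1⟩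
  · have h : 4 * (Nat.card M.A : ℤ) = e * (Q + 1) := by rw [M.cardA, ek, ← M.hk]; ring
    have h' := congrArg (fun z : ℤ => (z : ℂ)) h
    push_cast at h'
    exact h'
  · have h : 2 * (Nat.card M.O : ℤ) = e * (Q - 1) := by rw [M.cardO, e2]
    have h' := congrArg (fun z : ℤ => (z : ℂ)) h
    push_cast at h'
    exact h'
  · have h : 2 * (Nat.card L : ℤ) = e * Q * (Q ^ 2 - 1) := by rw [M.card, eQ]
    have h' := congrArg (fun z : ℤ => (z : ℂ)) h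
    push_cast at h'
    exact h'
  · rw [eQ]; push_cast; rfl
  · rw [e2]; push_cast; rfl
  · rw [e3]; push_cast; rfl

theorem oddA : Odd (Nat.card M.A) := by
  have h := M.cardA
  have h8 := M.hQ8
  have hk := M.hk
  rcases abs_choice k with e | e <;> rw [e] at h <;> rw [Nat.odd_iff] <;> omega

theorem oddO : Odd (Nat.card M.O) := by
  have h := M.cardO
  have h8 := M.hQ8
  rcases abs_choice (Q - 1) with e | e <;> rw [e] at h <;> rw [Nat.odd_iff] <;> omega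

theorem comm_A (a b : M.A) : a * b = b * a := Subtype.ext (M.commA a a.2 b b.2)

theorem comm_O (a b : M.O) : a * b = b * a := Subtype.ext (M.commO a a.2 b b.2)

theorem pow_a (a : M.A) : (a : L) ^ Nat.card M.A = 1 := by
  rw [← SubgroupClass.coe_pow, pow_card_eq_one', OneMemClass.coe_one]

theorem pow_o (o : M.O) : (o : L) ^ Nat.card M.O = 1 := by
  rw [← SubgroupClass.coe_pow, pow_card_eq_one', OneMemClass.coe_one]

theorem even_of_ai {a : M.A} {x : L} (hx : IsConj ((a : L) * M.i0) x) : Even (orderOf x) := by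
  obtain ⟨g, rfl⟩ := isConj_iff.1 hx
  rw [show g * ((a : L) * M.i0) * g⁻¹ = MulAut.conj g ((a : L) * M.i0) by simp, MulEquiv.orderOf_eq]
  have hc : Commute (a : L) M.i0 := (M.i0_A a a.2).symm
  rw [hc.orderOf_mul_eq_mul_orderOf_of_coprime]
  · rw [M.i0_ord]; exact even_two.mul_left _
  · rw [M.i0_ord]
    exact (orderOf_odd_of_pow M.oddA (M.pow_a a)).coprime_two_right

theorem not_even_of_pow {x r : L} {n : ℕ} (hn : Odd n) (h : r ^ n = 1) (hx : IsConj r x) :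
    ¬ Even (orderOf x) := by
  obtain ⟨g, rfl⟩ := isConj_iff.1 hx
  rw [show g * r * g⁻¹ = MulAut.conj g r by simp, MulEquiv.orderOf_eq, Nat.not_even_iff_odd]
  exact orderOf_odd_of_pow hn h

theorem even_zero {f : L → ℂ} (hf : ∀ g x, f (x * g * x⁻¹) = f g)
    (h0 : ∀ a : M.A, f ((a : L) * M.i0) = 0) {x : L} (hx : Even (orderOf x)) : f x = 0 := by
  have hp2 : Odd p := M.hp.odd_of_ne_two M.hodd
  rcases M.cover x with rfl | ⟨j, hj⟩ | ⟨a, -, ha⟩ | ⟨a, ha⟩ | ⟨o, -, ho⟩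
  · simp at hx
  · exact absurd hx (not_even_of_pow hp2 (M.u_pow j) hj)
  · exact absurd hx (not_even_of_pow M.oddA (M.pow_a a) ha)
  · obtain ⟨g, rfl⟩ := isConj_iff.1 ha
    rw [hf, h0]
  · exact absurd hx (not_even_of_pow M.oddO (M.pow_o o) ho)

theorem cls_phi (i : Fin 3) : ∀ g x : L, M.phi i (x * g * x⁻¹) = M.phi i g :=
  CfsgLib.Char.IsGeneralized.isClassFunction (M.phi_gen i)

theorem cls_phiM {μ : ↥M.A →* ℂˣ} (hμ : μ ≠ 1) : ∀ g x : L, M.phiM μ (x * g * x⁻¹) = M.phiM μ g :=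
  CfsgLib.Char.IsGeneralized.isClassFunction (M.phiM_gen μ hμ)

theorem cls_phiL {l : ↥M.O →* ℂˣ} (hl : l ≠ 1) : ∀ g x : L, M.phiL l (x * g * x⁻¹) = M.phiL l g :=
  CfsgLib.Char.IsGeneralized.isClassFunction (M.phiL_gen l hl)

/-- The sum of a class function from its values. -/
theorem sum_vals {f : L → ℂ} (hf : ∀ g x, f (x * g * x⁻¹) = f g) (fa ga : M.A → ℂ) (fo : M.O → ℂ)
    (ha : ∀ a : M.A, a ≠ 1 → f a = fa a) (hg : ∀ a : M.A, f ((a : L) * M.i0) = ga a)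
    (ho : ∀ o : M.O, o ≠ 1 → f o = fo o) :
    2 * ∑ x, f x = 2 * f 1 + ((Q : ℂ) ^ 2 - 1) * (f (M.u 0) + f (M.u 1)) +
      (Q : ℂ) * ((Q : ℂ) - 1) * ((∑ a : M.A, fa a) - fa 1 + ∑ a : M.A, ga a) +
      (Q : ℂ) * ((Q : ℂ) + 1) * ((∑ o : M.O, fo o) - fo 1) := by
  have e1 : (∑ a : M.A, f a) - f 1 = (∑ a : M.A, fa a) - fa 1 := by
    rw [← Finset.sum_erase_add _ _ (Finset.mem_univ (1 : M.A)),
      ← Finset.sum_erase_add _ (f := fa) (Finset.mem_univ (1 : M.A)),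
      Finset.sum_congr rfl fun a ha' => ha a (Finset.ne_of_mem_erase ha')]
    simp
  have e2 : (∑ o : M.O, f o) - f 1 = (∑ o : M.O, fo o) - fo 1 := by
    rw [← Finset.sum_erase_add _ _ (Finset.mem_univ (1 : M.O)),
      ← Finset.sum_erase_add _ (f := fo) (Finset.mem_univ (1 : M.O)),
      Finset.sum_congr rfl fun o ho' => ho o (Finset.ne_of_mem_erase ho')]
    simp
  rw [M.sum f hf, e1, e2, Finset.sum_congr rfl fun a _ => hg a]

theorem card_ne : (Nat.card L : ℂ) ≠ 0 := Nat.cast_ne_zero.2 Nat.card_pos.ne'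

theorem inner_eq {f g : L → ℂ} {c : ℂ}
    (h : 2 * ∑ x, f x * conj (g x) = c * (2 * (Nat.card L : ℂ))) : Cfsg.classInner f g = c := by
  rw [Cfsg.classInner]
  field_simp [card_ne]
  linear_combination h / 2

theorem cls_mul {f g : L → ℂ} (hf : ∀ g x, f (x * g * x⁻¹) = f g)
    (hg : ∀ h x, g (x * h * x⁻¹) = g h) : ∀ y x, f (x * y * x⁻¹) * conj (g (x * y * x⁻¹)) =
      f y * conj (g y) := fun y x => by rw [hf, hg]

theorem conj_phi1 {i : Fin 3} (hi : i ≠ 0) : conj (M.phi i 1) = M.phi i 1 := by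
  have h : M.phi i 1 = (3 * (Q : ℂ) - 1) / 2 := by linear_combination M.phi_1 i hi / 2
  rw [h]; simp [map_ofNat]

theorem conj_pair {A : Type u} [Group A] (μ : A →* ℂˣ) (a : A) [Fintype A] :
    conj ((μ a : ℂ) + (μ⁻¹ a : ℂ)) = (μ a : ℂ) + (μ⁻¹ a : ℂ) := by
  rw [map_add, conj_char, conj_char, dual_inv_inv]; ring

theorem phi_pair_u {i : Fin 3} (hi : i ≠ 0) : M.phi i (M.u 0) + M.phi i (M.u 1) = -1 := by
  fin_cases i
  · simp at hi
  · exact M.phi1_u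
  · have h0 := M.phi12_u 0
    have h1 := M.phi12_u 1
    simp only [sub_zero, sub_self] at h0 h1
    simp only [Fin.reduceFinMk]
    rw [← h0, ← h1, add_comm]; exact M.phi1_u

theorem inner_phi0_phi0 : Cfsg.classInner (M.phi 0) (M.phi 0) = 2 := by
  obtain ⟨e, hA, hO, hN, -⟩ := M.sizes
  refine inner_eq ?_
  rw [M.sum_vals (f := fun x => M.phi 0 x * conj (M.phi 0 x)) (cls_mul (M.cls_phi 0) (M.cls_phi 0))
    (fun _ => 0) (fun _ => 0) (fun _ => 4) (fun a ha => by simp [M.phi_a 0 a ha])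
    (fun a => by simp [M.phi_ai 0 a]) (fun o ho => by simp [M.phi_o 0 o ho, map_ofNat]; norm_num)]
  simp only [M.phi0_1, M.phi0_u, map_add, map_intCast, map_one, Finset.sum_const, Finset.card_univ,
    nsmul_eq_mul, mul_zero, add_zero, sub_zero]
  rw [← Nat.card_eq_fintype_card]
  linear_combination (2 * (Q : ℂ) * ((Q : ℂ) + 1)) * hO - 2 * hN

theorem inner_phi0_phi {j : Fin 3} (hj : j ≠ 0) : Cfsg.classInner (M.phi j) (M.phi 0) = 1 := by
  obtain ⟨e, hA, hO, hN, -⟩ := M.sizes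
  refine inner_eq ?_
  rw [M.sum_vals (f := fun x => M.phi j x * conj (M.phi 0 x)) (cls_mul (M.cls_phi j) (M.cls_phi 0))
    (fun _ => 0) (fun _ => 0) (fun _ => 2) (fun a ha => by simp [M.phi_a 0 a ha])
    (fun a => by simp [M.phi_ai 0 a])
    (fun o ho => by simp [M.phi_o 0 o ho, M.phi_o j o ho, hj, map_ofNat])]
  simp only [M.phi0_1, M.phi0_u, map_add, map_intCast, map_one, Finset.sum_const, Finset.card_univ,
    nsmul_eq_mul, mul_zero, add_zero, sub_zero, mul_one]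
  rw [← Nat.card_eq_fintype_card, M.phi_pair_u hj]
  linear_combination ((Q : ℂ) * ((Q : ℂ) + 1)) * hO - hN + ((Q : ℂ) + 1) * M.phi_1 j hj

theorem inner_phi_one (i : Fin 3) :
    Cfsg.classInner (M.phi i) (fun _ => 1) = if i = 0 then 1 else 0 := by
  obtain ⟨e, hA, hO, hN, -⟩ := M.sizes
  refine inner_eq ?_
  rw [M.sum_vals (f := fun x => M.phi i x * conj (1 : ℂ))
    (fun y x => by rw [M.cls_phi i y x]) (fun _ => if i = 0 then 0 else -2) (fun _ => 0)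
    (fun _ => if i = 0 then 2 else 1) (fun a ha => by simp [M.phi_a i a ha])
    (fun a => by simp [M.phi_ai i a]) (fun o ho => by simp [M.phi_o i o ho])]
  simp only [map_one, mul_one, Finset.sum_const, Finset.card_univ, nsmul_eq_mul, mul_zero, add_zero]
  rw [← Nat.card_eq_fintype_card, ← Nat.card_eq_fintype_card]
  by_cases hi : i = 0
  · subst hi
    simp only [if_true, M.phi0_1, M.phi0_u]
    linear_combination ((Q : ℂ) * ((Q : ℂ) + 1)) * hO - hN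
  · simp only [if_neg hi, M.phi_pair_u hi]
    linear_combination (-(Q : ℂ) * ((Q : ℂ) - 1) / 2) * hA + ((Q : ℂ) * ((Q : ℂ) + 1) / 2) * hO +
      M.phi_1 i hi

theorem inner_phi_phiM (i : Fin 3) {μ : ↥M.A →* ℂˣ} (hμ : μ ≠ 1) :
    Cfsg.classInner (M.phi i) (M.phiM μ) = 0 := by
  obtain ⟨e, hA, hO, hN, -⟩ := M.sizes
  refine inner_eq ?_
  rw [M.sum_vals (f := fun x => M.phi i x * conj (M.phiM μ x))
    (cls_mul (M.cls_phi i) (M.cls_phiM hμ))
    (fun a => (if i = 0 then 0 else 4) * ((μ a : ℂ) + (μ⁻¹ a : ℂ))) (fun _ => 0) (fun _ => 0)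
    (fun a ha => by
      rw [M.phi_a i a ha, M.phiM_a μ hμ a ha, map_mul, conj_pair, map_neg, map_ofNat]
      split_ifs <;> ring)
    (fun a => by simp [M.phiM_ai μ hμ a]) (fun o ho => by simp [M.phiM_o μ hμ o ho])]
  simp only [M.phiM_1 μ hμ, M.phiM_u μ hμ, map_neg, map_mul, map_sub, map_intCast, map_one,
    map_ofNat, ← Finset.mul_sum, sum_pair_single hμ, Finset.sum_const_zero, Units.val_one]
  by_cases hi : i = 0
  · subst hi
    simp only [if_true, M.phi0_1, M.phi0_u]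
    ring
  · simp only [if_neg hi]
    linear_combination (-2 * ((Q : ℂ) ^ 2 - 1)) * M.phi_pair_u hi +
      (2 * ((Q : ℂ) - 1)) * M.phi_1 i hi

theorem inner_phi_phiL (i : Fin 3) {l : ↥M.O →* ℂˣ} (hl : l ≠ 1) :
    Cfsg.classInner (M.phi i) (M.phiL l) = 0 := by
  obtain ⟨e, hA, hO, hN, -⟩ := M.sizes
  refine inner_eq ?_
  rw [M.sum_vals (f := fun x => M.phi i x * conj (M.phiL l x))
    (cls_mul (M.cls_phi i) (M.cls_phiL hl))
    (fun _ => 0) (fun _ => 0) (fun o => (if i = 0 then 2 else 1) * ((l o : ℂ) + (l⁻¹ o : ℂ)))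
    (fun a ha => by simp [M.phiL_a l hl a ha])
    (fun a => by simp [M.phiL_ai l hl a])
    (fun o ho => by rw [M.phi_o i o ho, M.phiL_o l hl o ho, conj_pair])]
  simp only [M.phiL_1 l hl, M.phiL_u l hl, map_add, map_intCast, map_one,
    ← Finset.mul_sum, sum_pair_single hl, Finset.sum_const_zero, Units.val_one, mul_one]
  by_cases hi : i = 0
  · subst hi
    simp only [if_true, M.phi0_1, M.phi0_u]
    ring
  · simp only [if_neg hi]
    linear_combination ((Q : ℂ) ^ 2 - 1) * M.phi_pair_u hi + ((Q : ℂ) + 1) * M.phi_1 i hi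

theorem inner_phiM_phiM {μ ν : ↥M.A →* ℂˣ} (hμ : μ ≠ 1) (hν : ν ≠ 1) :
    Cfsg.classInner (M.phiM μ) (M.phiM ν) = if ν = μ ∨ ν = μ⁻¹ then 2 else 0 := by
  obtain ⟨e, hA, hO, hN, -⟩ := M.sizes
  refine inner_eq ?_
  rw [M.sum_vals (f := fun x => M.phiM μ x * conj (M.phiM ν x))
    (cls_mul (M.cls_phiM hμ) (M.cls_phiM hν))
    (fun a => 4 * (((μ a : ℂ) + (μ⁻¹ a : ℂ)) * ((ν a : ℂ) + (ν⁻¹ a : ℂ)))) (fun _ => 0)
    (fun _ => 0)
    (fun a ha => by
      rw [M.phiM_a μ hμ a ha, M.phiM_a ν hν a ha, map_mul, conj_pair, map_neg, map_ofNat]; ring)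
    (fun a => by simp [M.phiM_ai μ hμ a]) (fun o ho => by simp [M.phiM_o μ hμ o ho])]
  simp only [M.phiM_1 μ hμ, M.phiM_1 ν hν, M.phiM_u μ hμ, M.phiM_u ν hν, map_neg, map_mul, map_sub,
    map_intCast, map_one, map_ofNat, ← Finset.mul_sum, sum_pair_mul M.oddA hμ,
    Finset.sum_const_zero, Units.val_one, mul_one]
  rw [← Nat.card_eq_fintype_card]
  split_ifs
  · linear_combination (2 * (Q : ℂ) * ((Q : ℂ) - 1)) * hA - 2 * hN
  · ring

theorem inner_phiM_one {μ : ↥M.A →* ℂˣ} (hμ : μ ≠ 1) :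
    Cfsg.classInner (M.phiM μ) (fun _ => 1) = 0 := by
  refine inner_eq ?_
  rw [M.sum_vals (f := fun x => M.phiM μ x * conj (1 : ℂ))
    (fun y x => by rw [M.cls_phiM hμ y x]) (fun a => -2 * ((μ a : ℂ) + (μ⁻¹ a : ℂ))) (fun _ => 0)
    (fun _ => 0) (fun a ha => by simp [M.phiM_a μ hμ a ha])
    (fun a => by simp [M.phiM_ai μ hμ a]) (fun o ho => by simp [M.phiM_o μ hμ o ho])]
  simp only [M.phiM_1 μ hμ, M.phiM_u μ hμ, map_one, ← Finset.mul_sum, sum_pair_single hμ,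
    Finset.sum_const_zero, Units.val_one, mul_one]
  ring

theorem inner_phiM_phiL {μ : ↥M.A →* ℂˣ} (hμ : μ ≠ 1) {l : ↥M.O →* ℂˣ} (hl : l ≠ 1) :
    Cfsg.classInner (M.phiM μ) (M.phiL l) = 0 := by
  refine inner_eq ?_
  rw [M.sum_vals (f := fun x => M.phiM μ x * conj (M.phiL l x))
    (cls_mul (M.cls_phiM hμ) (M.cls_phiL hl)) (fun _ => 0) (fun _ => 0) (fun _ => 0)
    (fun a ha => by simp [M.phiL_a l hl a ha])
    (fun a => by simp [M.phiL_ai l hl a]) (fun o ho => by simp [M.phiM_o μ hμ o ho])]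
  simp only [M.phiM_1 μ hμ, M.phiM_u μ hμ, M.phiL_1 l hl, M.phiL_u l hl, map_add, map_intCast,
    map_one, Finset.sum_const_zero]
  ring

theorem inner_phiL_one {l : ↥M.O →* ℂˣ} (hl : l ≠ 1) :
    Cfsg.classInner (M.phiL l) (fun _ => 1) = 0 := by
  refine inner_eq ?_
  rw [M.sum_vals (f := fun x => M.phiL l x * conj (1 : ℂ))
    (fun y x => by rw [M.cls_phiL hl y x]) (fun _ => 0) (fun _ => 0)
    (fun o => (l o : ℂ) + (l⁻¹ o : ℂ)) (fun a ha => by simp [M.phiL_a l hl a ha])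
    (fun a => by simp [M.phiL_ai l hl a]) (fun o ho => by simp [M.phiL_o l hl o ho])]
  simp only [M.phiL_1 l hl, M.phiL_u l hl, map_one, sum_pair_single hl, Finset.sum_const_zero,
    Units.val_one, mul_one]
  ring

theorem inner_phiL_phiL {l l' : ↥M.O →* ℂˣ} (hl : l ≠ 1) (hl' : l' ≠ 1) :
    Cfsg.classInner (M.phiL l) (M.phiL l') = if l' = l ∨ l' = l⁻¹ then 1 else 0 := by
  obtain ⟨e, hA, hO, hN, -⟩ := M.sizes
  refine inner_eq ?_
  rw [M.sum_vals (f := fun x => M.phiL l x * conj (M.phiL l' x))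
    (cls_mul (M.cls_phiL hl) (M.cls_phiL hl')) (fun _ => 0) (fun _ => 0)
    (fun o => ((l o : ℂ) + (l⁻¹ o : ℂ)) * ((l' o : ℂ) + (l'⁻¹ o : ℂ)))
    (fun a ha => by simp [M.phiL_a l hl a ha])
    (fun a => by simp [M.phiL_ai l hl a])
    (fun o ho => by rw [M.phiL_o l hl o ho, M.phiL_o l' hl' o ho, conj_pair])]
  simp only [M.phiL_1 l hl, M.phiL_1 l' hl', M.phiL_u l hl, M.phiL_u l' hl', map_add, map_intCast,
    map_one, sum_pair_mul M.oddO hl, Finset.sum_const_zero, Units.val_one, mul_one]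
  rw [← Nat.card_eq_fintype_card]
  split_ifs
  · linear_combination ((Q : ℂ) * ((Q : ℂ) + 1)) * hO - hN
  · ring

theorem delta_eq {n : ℕ} (r : Fin n → (↥M.O →* ℂˣ)) (hr : ∀ l, r l ≠ 1)
    (hsum : ∀ f : (↥M.O →* ℂˣ) → ℂ, (∀ μ, f μ⁻¹ = f μ) →
      2 * ∑ l, f (r l) = ∑ μ ∈ univ.filter (fun μ : ↥M.O →* ℂˣ => μ ≠ 1), f μ)
    [Fintype (↥M.A →* ℂˣ)] (x : L) :
    (if x = 1 then 2 * (Nat.card L : ℂ) else 0) =
      2 * M.phi 0 x + 2 * (h : ℂ) * (M.phi 1 x + M.phi 2 x)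
      + ((Q : ℂ) - 1) * (univ.filter fun μ : ↥M.A →* ℂˣ => μ ≠ 1).sum (fun μ => M.phiM μ x)
      + 2 * ((Q : ℂ) + 1) * ∑ l, M.phiL (r l) x := by
  obtain ⟨e, hA, hO, hN, -⟩ := M.sizes
  have hh : 2 * (h : ℂ) = (Q : ℂ) - 1 := by exact_mod_cast M.hh
  have cA : (((univ.filter fun μ : ↥M.A →* ℂˣ => μ ≠ 1).card : ℕ) : ℂ) =
      (Nat.card M.A : ℂ) - 1 := by
    rw [Finset.filter_ne', Finset.card_erase_of_mem (Finset.mem_univ _), Finset.card_univ]
    have hc : Fintype.card (↥M.A →* ℂˣ) = Nat.card M.A := by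
      have h := card_dual M.comm_A
      simp only [← Nat.card_eq_fintype_card] at h ⊢
      exact h
    rw [hc, Nat.cast_sub Nat.card_pos, Nat.cast_one]
  have cO : 2 * (n : ℂ) = (Nat.card M.O : ℂ) - 1 := by
    have h1 := hsum (fun _ => 1) (fun _ => rfl)
    simp only [Finset.sum_const, Finset.card_univ, Fintype.card_fin, nsmul_eq_mul, mul_one,
      Finset.filter_ne'] at h1
    rw [h1, Finset.card_erase_of_mem (Finset.mem_univ _), Finset.card_univ,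
      card_dual M.comm_O, ← Nat.card_eq_fintype_card,
      Nat.cast_sub Nat.card_pos, Nat.cast_one]
  set S := univ.filter fun μ : ↥M.A →* ℂˣ => μ ≠ 1 with hS
  have hmem : ∀ μ ∈ S, μ ≠ 1 := fun μ hμ => (Finset.mem_filter.1 hμ).2
  have hne : ∀ {g r : L}, r ≠ 1 → IsConj r g → g ≠ 1 := by
    intro g r h1 h2 h3
    exact h1 (isConj_one_left.1 (h3 ▸ h2))
  rcases M.cover x with rfl | ⟨j, hj⟩ | ⟨a, ha1, ha⟩ | ⟨a, ha⟩ | ⟨o, ho1, ho⟩
  · rw [if_pos rfl, Finset.sum_congr rfl fun μ hμ => M.phiM_1 μ (hmem μ hμ),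
      Finset.sum_congr rfl fun l _ => M.phiL_1 (r l) (hr l), M.phi0_1]
    simp only [Finset.sum_const, Finset.card_univ, Fintype.card_fin, nsmul_eq_mul, cA]
    linear_combination hN - ((Q : ℂ) - 1) ^ 2 / 2 * hA - ((Q : ℂ) + 1) ^ 2 / 2 * hO -
      ((Q : ℂ) + 1) ^ 2 * cO - (h : ℂ) * (M.phi_1 1 (by decide) + M.phi_1 2 (by decide)) -
      (3 * (Q : ℂ) - 1) * hh
  · by_cases h1 : x = 1
    · obtain rfl := h1
      have hu : M.u j = 1 := isConj_one_left.1 hj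
      rw [if_pos rfl, Finset.sum_congr rfl fun μ hμ => M.phiM_1 μ (hmem μ hμ),
        Finset.sum_congr rfl fun l _ => M.phiL_1 (r l) (hr l), M.phi0_1]
      simp only [Finset.sum_const, Finset.card_univ, Fintype.card_fin, nsmul_eq_mul, cA]
      linear_combination hN - ((Q : ℂ) - 1) ^ 2 / 2 * hA - ((Q : ℂ) + 1) ^ 2 / 2 * hO -
        ((Q : ℂ) + 1) ^ 2 * cO - (h : ℂ) * (M.phi_1 1 (by decide) + M.phi_1 2 (by decide)) -
        (3 * (Q : ℂ) - 1) * hh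
    obtain ⟨g, rfl⟩ := isConj_iff.1 hj
    rw [if_neg h1]
    have hM : ∀ μ ∈ S, M.phiM μ (g * M.u j * g⁻¹) = -2 := fun μ hμ => by
      rw [M.cls_phiM (hmem μ hμ), M.phiM_u μ (hmem μ hμ)]
    have hL : ∀ l ∈ (univ : Finset (Fin n)), M.phiL (r l) (g * M.u j * g⁻¹) = 1 := fun l _ => by
      rw [M.cls_phiL (hr l), M.phiL_u (r l) (hr l)]
    rw [Finset.sum_congr rfl hM, Finset.sum_congr rfl hL, M.cls_phi, M.cls_phi, M.cls_phi, M.phi0_u,
      ← M.phi12_u j]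
    have hp : M.phi 1 (M.u j) + M.phi 1 (M.u (1 - j)) = -1 := by
      fin_cases j
      · simpa using M.phi1_u
      · simpa [add_comm] using M.phi1_u
    simp only [Finset.sum_const, Finset.card_univ, Fintype.card_fin, nsmul_eq_mul, cA]
    linear_combination -2 * (h : ℂ) * hp + hh + ((Q : ℂ) - 1) / 2 * hA -
      ((Q : ℂ) + 1) * cO - ((Q : ℂ) + 1) / 2 * hO
  · obtain ⟨g, rfl⟩ := isConj_iff.1 ha
    rw [if_neg (hne (by simpa using ha1) ha)]
    have hM : ∀ μ ∈ S, M.phiM μ (g * a * g⁻¹) = -2 * ((μ a : ℂ) + (μ⁻¹ a : ℂ)) := fun μ hμ => by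
      rw [M.cls_phiM (hmem μ hμ), M.phiM_a μ (hmem μ hμ) a ha1]
    have hL : ∀ l ∈ (univ : Finset (Fin n)), M.phiL (r l) (g * a * g⁻¹) = 0 := fun l _ => by
      rw [M.cls_phiL (hr l), M.phiL_a (r l) (hr l) a ha1]
    rw [Finset.sum_congr rfl hM, Finset.sum_congr rfl hL, M.cls_phi, M.cls_phi, M.cls_phi,
      M.phi_a 0 a ha1, M.phi_a 1 a ha1, M.phi_a 2 a ha1]
    have hd := sum_dual_pair (A := M.A) M.comm_A ha1
    rw [← Finset.mul_sum, show ∑ μ ∈ S, ((μ a : ℂ) + (μ⁻¹ a : ℂ)) = -2 from ?_]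
    · simp only [if_true, Fin.reduceEq, if_false, Finset.sum_const_zero, mul_zero, add_zero]
      linear_combination 4 * hh
    · rw [← hd, hS]
      congr 1
      ext μ; simp
  · obtain ⟨g, rfl⟩ := isConj_iff.1 ha
    have hne1 : (a : L) * M.i0 ≠ 1 := fun h1 => by
      have := M.even_of_ai (IsConj.refl ((a : L) * M.i0))
      rw [h1, orderOf_one] at this
      simp at this
    rw [if_neg (hne hne1 ha)]
    have hM : ∀ μ ∈ S, M.phiM μ (g * ((a : L) * M.i0) * g⁻¹) = 0 := fun μ hμ => by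
      rw [M.cls_phiM (hmem μ hμ), M.phiM_ai μ (hmem μ hμ)]
    have hL : ∀ l ∈ (univ : Finset (Fin n)), M.phiL (r l) (g * ((a : L) * M.i0) * g⁻¹) = 0 :=
      fun l _ => by rw [M.cls_phiL (hr l), M.phiL_ai (r l) (hr l)]
    rw [Finset.sum_congr rfl hM, Finset.sum_congr rfl hL, M.cls_phi, M.cls_phi, M.cls_phi,
      M.phi_ai, M.phi_ai, M.phi_ai]
    simp
  · obtain ⟨g, rfl⟩ := isConj_iff.1 ho
    rw [if_neg (hne (by simpa using ho1) ho)]
    have hM : ∀ μ ∈ S, M.phiM μ (g * o * g⁻¹) = 0 := fun μ hμ => by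
      rw [M.cls_phiM (hmem μ hμ), M.phiM_o μ (hmem μ hμ) o ho1]
    have hL : ∀ l ∈ (univ : Finset (Fin n)),
        M.phiL (r l) (g * o * g⁻¹) = ((r l o : ℂ) + ((r l)⁻¹ o : ℂ)) := fun l _ => by
      rw [M.cls_phiL (hr l), M.phiL_o (r l) (hr l) o ho1]
    rw [Finset.sum_congr rfl hM, Finset.sum_congr rfl hL, M.cls_phi, M.cls_phi, M.cls_phi,
      M.phi_o 0 o ho1, M.phi_o 1 o ho1, M.phi_o 2 o ho1]
    have hd := sum_dual_pair (A := M.O) M.comm_O ho1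
    have h2 := hsum (fun μ => (μ o : ℂ) + (μ⁻¹ o : ℂ)) (fun μ => by rw [dual_inv_inv, add_comm])
    rw [hd] at h2
    simp only [if_true, Fin.reduceEq, if_false, Finset.sum_const_zero, mul_zero, add_zero]
    linear_combination -2 * hh - ((Q : ℂ) + 1) * h2

include M in
theorem two_invCount_one : 2 * (invCount (1 : L) : ℂ) = (Q : ℂ) * ((Q : ℂ) - 1) := by
  have h1 : (invCount (1 : L) : ℂ) = ∑ x : L, if orderOf x = 2 then (1 : ℂ) else 0 := by
    rw [invCount, Nat.card_eq_fintype_card, Fintype.card_subtype, Finset.sum_boole]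
    simp
  have hcls : ∀ g x : L, (if orderOf (x * g * x⁻¹) = 2 then (1 : ℂ) else 0) =
      if orderOf g = 2 then (1 : ℂ) else 0 := fun g x => by
    rw [show x * g * x⁻¹ = MulAut.conj x g by simp, MulEquiv.orderOf_eq]
  have hno : ∀ {r : L} {n : ℕ}, Odd n → r ^ n = 1 → orderOf r ≠ 2 := fun hn h h2 =>
    not_even_of_pow hn h (IsConj.refl _) (by rw [h2]; exact even_two)
  have hp2 : Odd p := M.hp.odd_of_ne_two M.hodd
  rw [h1, M.sum_vals hcls (fun _ => 0) (fun a => if a = 1 then 1 else 0) (fun _ => 0)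
    (fun a _ => if_neg (hno M.oddA (M.pow_a a)))
    (fun a => by
      by_cases h : a = 1
      · subst h; simp [M.i0_ord]
      · rw [if_neg h, if_neg]
        intro h2
        have hsq : ((a : L) * M.i0) ^ 2 = 1 := by rw [← h2, pow_orderOf_eq_one]
        rw [(show Commute (a : L) M.i0 from (M.i0_A a a.2).symm).mul_pow] at hsq
        rw [show M.i0 ^ 2 = 1 by rw [← M.i0_ord, pow_orderOf_eq_one], mul_one] at hsq
        have := orderOf_dvd_of_pow_eq_one hsq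
        rcases (Nat.dvd_prime Nat.prime_two).1 this with h3 | h3
        · exact h (Subtype.ext (orderOf_eq_one_iff.1 h3))
        · exact hno M.oddA (M.pow_a a) h3)
    (fun o _ => if_neg (hno M.oddO (M.pow_o o))), if_neg (by simp), if_neg (hno hp2 (M.u_pow 0)),
    if_neg (hno hp2 (M.u_pow 1))]
  simp

theorem pairs0 : 2 * ∑ s : L, M.phi 0 s * (invCount s : ℂ) =
    (Nat.card L : ℂ) * (|Q - 1| : ℤ) := by
  obtain ⟨e, hA, hO, hN, hQ, hm, hp, he⟩ := M.sizes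
  have hu : ∀ j, 2 * (invCount (M.u j) : ℂ) = e * (Q : ℂ) - Q := fun j => by
    have h := congrArg (fun z : ℤ => (z : ℂ)) (M.inv_u j)
    push_cast at h
    rw [h, hQ]
  have ho : ∀ o : M.O, o ≠ 1 → (invCount (o : L) : ℂ) = e * ((Q : ℂ) - 1) / 2 := fun o ho => by
    have h := congrArg (fun z : ℤ => (z : ℂ)) (M.inv_o o ho)
    push_cast at h
    rw [hm] at h
    linear_combination h / 2
  rw [M.sum_vals (f := fun s => M.phi 0 s * (invCount s : ℂ))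
    (fun y x => by rw [M.cls_phi, invCount_conj]) (fun _ => 0) (fun _ => 0)
    (fun _ => e * ((Q : ℂ) - 1)) (fun a ha => by simp [M.phi_a 0 a ha])
    (fun a => by simp [M.phi_ai 0 a])
    (fun o ho' => by rw [M.phi_o 0 o ho', ho o ho']; simp; ring)]
  simp only [M.phi0_1, M.phi0_u, one_mul, Finset.sum_const, Finset.card_univ, nsmul_eq_mul,
    mul_zero, add_zero, sub_zero]
  rw [← Nat.card_eq_fintype_card, hm]
  linear_combination ((Q : ℂ) + 1) * M.two_invCount_one + ((Q : ℂ) ^ 2 - 1) / 2 * (hu 0 + hu 1) +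
    e * (Q : ℂ) * ((Q : ℂ) + 1) * ((Q : ℂ) - 1) / 2 * hO - e * ((Q : ℂ) - 1) / 2 * hN

theorem pairs1 {i : Fin 3} (hi : i ≠ 0) :
    2 * ((|Q + 1| : ℤ) : ℂ) * ∑ s : L, M.phi i s * (invCount s : ℂ) =
      (Nat.card L : ℂ) * ((3 * Q - 1 : ℤ) : ℂ) := by
  obtain ⟨e, hA, hO, hN, hQ, hm, hp, he⟩ := M.sizes
  have hu : ∀ j, (invCount (M.u j) : ℂ) = (e * (Q : ℂ) - Q) / 2 := fun j => by
    have h := congrArg (fun z : ℤ => (z : ℂ)) (M.inv_u j)
    push_cast at h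
    rw [hQ] at h
    linear_combination h / 2
  have ha : ∀ a : M.A, a ≠ 1 → (invCount (a : L) : ℂ) = e * ((Q : ℂ) + 1) / 2 := fun a ha => by
    have h := congrArg (fun z : ℤ => (z : ℂ)) (M.inv_a a ha)
    push_cast at h
    rw [hp] at h
    linear_combination h / 2
  have ho : ∀ o : M.O, o ≠ 1 → (invCount (o : L) : ℂ) = e * ((Q : ℂ) - 1) / 2 := fun o ho => by
    have h := congrArg (fun z : ℤ => (z : ℂ)) (M.inv_o o ho)
    push_cast at h
    rw [hm] at h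
    linear_combination h / 2
  have key := M.sum_vals (f := fun s => M.phi i s * (invCount s : ℂ))
    (fun y x => by rw [M.cls_phi, invCount_conj]) (fun _ => -(e * ((Q : ℂ) + 1))) (fun _ => 0)
    (fun _ => e * ((Q : ℂ) - 1) / 2)
    (fun a ha' => by rw [M.phi_a i a ha', if_neg hi, ha a ha']; ring)
    (fun a => by simp [M.phi_ai i a])
    (fun o ho' => by rw [M.phi_o i o ho', if_neg hi, ho o ho', one_mul])
  simp only [hu, Finset.sum_const, Finset.card_univ, nsmul_eq_mul, mul_zero, add_zero] at key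
  rw [← Nat.card_eq_fintype_card, ← Nat.card_eq_fintype_card] at key
  rw [hp]
  push_cast
  have h4 : 4 * ∑ s : L, M.phi i s * (invCount s : ℂ) =
      (Q : ℂ) * ((Q : ℂ) - 1) * (3 * Q - 1) := by
    linear_combination 2 * key + 2 * M.phi i 1 * M.two_invCount_one +
      (Q : ℂ) * ((Q : ℂ) - 1) * M.phi_1 i hi +
      ((Q : ℂ) ^ 2 - 1) * (e * (Q : ℂ) - Q) * M.phi_pair_u hi -
      e * (Q : ℂ) * ((Q : ℂ) - 1) * ((Q : ℂ) + 1) / 2 * hA +
      e * (Q : ℂ) * ((Q : ℂ) + 1) * ((Q : ℂ) - 1) / 2 * hO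
      - (Q : ℂ) * ((Q : ℂ) ^ 2 - 1) * ((Q : ℂ) + 1) / 2 * he
      + (Q : ℂ) * ((Q : ℂ) ^ 2 - 1) * ((Q : ℂ) - 1) / 2 * he
  linear_combination e * ((Q : ℂ) + 1) / 2 * h4 - (3 * (Q : ℂ) - 1) / 2 * hN

theorem swap_eq (a : ℕ) (hsq : ¬ IsSquare (a : ZMod p))
    (hmod : ∀ d : ℕ, d ∣ Nat.card L → ¬ p ∣ d → a % d = 1 % d) (x : L) :
    M.phi 0 (x ^ a) = M.phi 0 x ∧ M.phi 1 (x ^ a) = M.phi 2 x ∧ M.phi 2 (x ^ a) = M.phi 1 x ∧
      (∀ μ, μ ≠ 1 → M.phiM μ (x ^ a) = M.phiM μ x) ∧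
      ∀ l, l ≠ 1 → M.phiL l (x ^ a) = M.phiL l x := by
  have fix : ∀ (r : L) (N : ℕ), r ^ N = 1 → ¬ p ∣ N → r ^ a = r := fun r N hr hN => by
    have hd : ¬ p ∣ orderOf r := fun h => hN (h.trans (orderOf_dvd_of_pow_eq_one hr))
    have h1 := hmod (orderOf r) (orderOf_dvd_natCard r) hd
    rw [← pow_mod_orderOf, h1, pow_mod_orderOf, pow_one]
  have hpQ : ∀ {N : ℕ} {z : ℤ}, (p ∣ N) → (N : ℤ) ∣ z → Q ∣ z - 1 ∨ Q ∣ z + 1 → False := by
    intro N z hN hz hz'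
    have h1 : (p : ℤ) ∣ z := (Int.natCast_dvd_natCast.2 hN).trans hz
    obtain ⟨n, hn⟩ := M.hQ
    rcases n with _ | n
    · have := M.hQ8; simp at hn; omega
    have h2 : (p : ℤ) ∣ Q := by
      rw [← Int.dvd_natAbs, hn]; exact_mod_cast dvd_pow_self p (Nat.succ_ne_zero n)
    have h3 : (p : ℤ) ∣ 1 := by
      rcases hz' with h | h
      · have := dvd_sub h1 (h2.trans h); simpa using this
      · have := dvd_sub (h2.trans h) h1; simpa using this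
    exact M.hp.one_lt.ne' (by exact_mod_cast Int.eq_one_of_dvd_one (by positivity) h3)
  have hpA : ¬ p ∣ 2 * Nat.card M.A := fun hd => by
    refine hpQ (N := 2 * Nat.card M.A) (z := Q + 1) hd ?_ (Or.inl (by simp))
    rw [← M.hk, Nat.cast_mul, M.cardA]
    push_cast
    rw [show (4 : ℤ) * k = 2 * (2 * k) by ring]
    exact mul_dvd_mul dvd_rfl (Dvd.dvd.mul_left ((abs_dvd k k).2 dvd_rfl) 2)
  have hpO : ¬ p ∣ Nat.card M.O := fun hd => by
    refine hpQ (N := Nat.card M.O) (z := Q - 1) hd ?_ (Or.inr (by simp))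
    exact (Dvd.intro_left 2 M.cardO).trans ((abs_dvd _ _).2 dvd_rfl)
  rcases M.cover x with rfl | ⟨j, hj⟩ | ⟨b, hb1, hb⟩ | ⟨b, hb⟩ | ⟨o, ho1, ho⟩
  · have h1 : M.phi 1 1 = M.phi 2 1 := by
      linear_combination (M.phi_1 1 (by decide) - M.phi_1 2 (by decide)) / 2
    simp [h1]
  · obtain ⟨g, rfl⟩ := isConj_iff.1 hj
    obtain ⟨w, hw⟩ := isConj_iff.1 (M.u_swap a hsq j)
    rw [conj_pow, ← hw]
    refine ⟨?_, ?_, ?_, fun μ hμ => ?_, fun l hl => ?_⟩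
    · simp only [M.cls_phi, M.phi0_u]
    · simp only [M.cls_phi, M.phi12_u]
    · simp only [M.cls_phi]
      rw [← M.phi12_u (1 - j)]
      simp
    · simp only [M.cls_phiM hμ, M.phiM_u μ hμ]
    · simp only [M.cls_phiL hl, M.phiL_u l hl]
  · obtain ⟨g, rfl⟩ := isConj_iff.1 hb
    rw [conj_pow, fix _ _ (M.pow_a b) (fun h => hpA (h.mul_left 2))]
    simp [M.cls_phi, M.phi_a _ b hb1]
  · obtain ⟨g, rfl⟩ := isConj_iff.1 hb
    have hc : Commute (b : L) M.i0 := (M.i0_A b b.2).symm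
    rw [conj_pow, fix _ (2 * Nat.card M.A) ?_ hpA]
    · simp [M.cls_phi, M.phi_ai]
    · rw [hc.mul_pow, pow_mul', M.pow_a b, one_pow, pow_mul,
        show M.i0 ^ 2 = 1 by rw [← M.i0_ord, pow_orderOf_eq_one], one_pow, one_mul]
  · obtain ⟨g, rfl⟩ := isConj_iff.1 ho
    rw [conj_pow, fix _ _ (M.pow_o o) hpO]
    simp [M.cls_phi, M.phi_o _ o ho1]

include M in
theorem exists_LFns : Nonempty (LFns L p Q k h) := by
  obtain ⟨n, r, hr, hr', hsum⟩ := exists_half ↥M.O M.oddO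
  refine ⟨{
    hp := M.hp
    hodd := M.hodd
    hQ := M.hQ
    hQ8 := M.hQ8
    hk := M.hk
    hh := M.hh
    card := M.card
    A := M.A
    cardA := M.cardA
    commA := M.commA
    i0 := M.i0
    j0 := M.j0
    i0_ord := M.i0_ord
    j0_ord := M.j0_ord
    i0_A := M.i0_A
    j0_A := M.j0_A
    i0_j0 := M.i0_j0
    phi := M.phi
    phiM := M.phiM
    lamT := Fin n
    lamFin := inferInstance
    phiL := fun l => M.phiL (r l)
    phi_gen := M.phi_gen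
    phiM_gen := M.phiM_gen
    phiL_gen := fun l => M.phiL_gen (r l) (hr l)
    phi_even := fun i x hx => M.even_zero (M.cls_phi i) (M.phi_ai i) hx
    phiM_even := fun μ hμ x hx => M.even_zero (M.cls_phiM hμ) (M.phiM_ai μ hμ) hx
    phiL_even := fun l x hx => M.even_zero (M.cls_phiL (hr l)) (M.phiL_ai (r l) (hr l)) hx
    phi_phi := ?_
    phi_one := M.inner_phi_one
    phi_phiM := fun i μ hμ => M.inner_phi_phiM i hμ
    phi_phiL := fun i l => M.inner_phi_phiL i (hr l)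
    phiM_phiM := fun μ ν hμ hν => M.inner_phiM_phiM hμ hν
    phiM_one := fun μ hμ => M.inner_phiM_one hμ
    phiM_phiL := fun μ hμ l => M.inner_phiM_phiL hμ (hr l)
    phiL_phiL := fun l l' => by
      rw [M.inner_phiL_phiL (hr l) (hr l')]
      simp only [hr' l l']
      by_cases h : l = l'
      · simp [h]
      · simp [h, Ne.symm h]
    phiL_one := fun l => M.inner_phiL_one (hr l)
    phi_A := M.phi_a
    phiM_A := fun μ hμ x hx => by rw [M.phiM_a μ hμ x hx, MonoidHom.inv_apply, map_inv]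
    phiL_A := fun l x hx => M.phiL_a (r l) (hr l) x hx
    phiM_inv := M.phiM_inv
    delta := fun {_} x => M.delta_eq r hr hsum x
    swap := fun a ha hd x => by
      obtain ⟨h0, h1, h2, hM, hL⟩ := M.swap_eq a ha hd x
      exact ⟨h0, h1, h2, hM, fun l => hL (r l) (hr l)⟩
    pairs0 := M.pairs0
    pairs1 := fun i hi => M.pairs1 hi
    inverting_A := M.inv_a }⟩
  intro i j
  by_cases hi : i = 0 <;> by_cases hj : j = 0
  · subst hi; subst hj; rw [if_pos rfl]; exact M.inner_phi0_phi0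
  · subst hi
    rw [if_neg (Ne.symm hj), ← CfsgLib.Char.classInner_conj, M.inner_phi0_phi hj, map_one]
  · subst hj
    rw [if_neg hi, M.inner_phi0_phi hi]
  · exact M.phi_inner i j hi hj

end Model

end CfsgLib.JT
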