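import Cfsg.Agent.NormCyclic.Basic
import Cfsg.Agent.Solvable.CoprimeAbelian
import Mathlib.GroupTheory.Transfer

/-!
# Local structure above a torus of `C(t) = ⟨t⟩ × PSL₂(q)`, abelian Sylow 2-subgroups of order eight

`U` is a four-group containing `t` whose centraliser is `(U × A)⟨x⟩`, with `A` of odd order inverted
by the involution `x`, and `y` is an element of odd order commuting with `x` which permutes the
three involutions of `U` cyclically.
-/

set_option autoImplicit false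
set_option linter.unusedSectionVars false
set_option linter.style.haveILetI false

namespace CfsgLib.JT

open Subgroup
open CfsgLib.NormCyclic (Inv)

/-- The local configuration. -/
structure Loc (G : Type*) [Group G] where
  /-- the involution -/
  t : G
  /-- the four-group -/
  U : Subgroup G
  /-- the odd part of the torus -/
  A : Subgroup G
  /-- the involution inverting the torus -/
  x : G
  /-- the element cycling the four-group -/
  y : G
  ht : Inv t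
  tU : t ∈ U
  cardU : Nat.card U = 4
  sqU : ∀ u ∈ U, u * u = 1
  yU : ∀ u ∈ U, y * u * y⁻¹ ∈ U
  yfree : ∀ u ∈ U, y * u * y⁻¹ = u → u = 1
  yodd : Odd (orderOf y)
  yx : Commute y x
  hx : Inv x
  xU : x ∉ U
  xcomm : ∀ u ∈ U, Commute x u
  Aodd : Odd (Nat.card A)
  Acomm : ∀ a ∈ A, ∀ b ∈ A, Commute a b
  AU : ∀ a ∈ A, ∀ u ∈ U, Commute a u
  xinv : ∀ a ∈ A, x * a * x⁻¹ = a⁻¹
  centU : ∀ g : G, (∀ u ∈ U, Commute g u) → ∃ u ∈ U, ∃ a ∈ A, g = u * a ∨ g = x * (u * a)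
  torus : ∀ a ∈ A, a ≠ 1 → ∀ g : G, Commute g t → Commute g a → ∃ u ∈ U, ∃ b ∈ A, g = u * b
  abelian : ∀ P : Sylow 2 G, IsMulCommutative (P : Subgroup G)

theorem conj_three {G : Type*} [Group G] (z a : G) :
    z ^ 3 * a * (z ^ 3)⁻¹ = z * (z * (z * a * z⁻¹) * z⁻¹) * z⁻¹ := by
  simp [pow_succ, mul_assoc]

theorem conj_two {G : Type*} [Group G] (z a : G) :
    z ^ 2 * a * (z ^ 2)⁻¹ = z * (z * a * z⁻¹) * z⁻¹ := by
  simp [pow_succ, mul_assoc]

namespace Loc

variable {G : Type*} [Group G] (D : Loc G)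

include D

theorem t_sq : D.t * D.t = 1 := D.ht.1

theorem U_inv {u : G} (hu : u ∈ D.U) : u⁻¹ = u := inv_eq_of_mul_eq_one_right (D.sqU u hu)

theorem U_comm {u v : G} (hu : u ∈ D.U) (hv : v ∈ D.U) : Commute u v := by
  have h := D.sqU _ (mul_mem hu hv)
  show u * v = v * u
  calc u * v = (u * v)⁻¹ := (inv_eq_of_mul_eq_one_right h).symm
    _ = v * u := by rw [mul_inv_rev, D.U_inv hu, D.U_inv hv]

theorem odd_orderOf [Finite G] {a : G} (ha : a ∈ D.A) : Odd (orderOf a) :=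
  D.Aodd.of_dvd_nat (orderOf_dvd_natCard _ ha)

theorem eq_one_of_sq [Finite G] {a : G} (ha : a ∈ D.A) (h : a * a = 1) : a = 1 := by
  obtain ⟨m, hm⟩ := D.odd_orderOf ha
  have h1 := pow_orderOf_eq_one a
  rwa [hm, pow_succ, pow_mul, pow_two, h, one_pow, one_mul] at h1

theorem eq_one_of_inv [Finite G] {a : G} (ha : a ∈ D.A) (h : a⁻¹ = a) : a = 1 :=
  D.eq_one_of_sq ha (by nth_rw 1 [← h]; exact inv_mul_cancel a)

theorem U_inter_A [Finite G] {g : G} (hu : g ∈ D.U) (ha : g ∈ D.A) : g = 1 :=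
  D.eq_one_of_sq ha (D.sqU g hu)

theorem split_eq [Finite G] {u v a b : G} (hu : u ∈ D.U) (hv : v ∈ D.U) (ha : a ∈ D.A)
    (hb : b ∈ D.A) (h : u * a = v * b) : u = v ∧ a = b := by
  have h1 : v⁻¹ * u = b * a⁻¹ := by
    calc v⁻¹ * u = v⁻¹ * (u * a) * a⁻¹ := by group
      _ = b * a⁻¹ := by rw [h]; group
  have h2 : v⁻¹ * u = 1 :=
    D.U_inter_A (mul_mem (inv_mem hv) hu) (h1 ▸ mul_mem hb (inv_mem ha))
  have h3 : u = v := (inv_mul_eq_one.1 h2).symm
  exact ⟨h3, mul_left_cancel (h3 ▸ h : v * a = v * b)⟩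

/-- The group `U × A`. -/
def UA : Subgroup G where
  carrier := {g | ∃ u ∈ D.U, ∃ a ∈ D.A, g = u * a}
  one_mem' := ⟨1, one_mem _, 1, one_mem _, (mul_one _).symm⟩
  mul_mem' := by
    rintro _ _ ⟨u, hu, a, ha, rfl⟩ ⟨v, hv, b, hb, rfl⟩
    refine ⟨u * v, mul_mem hu hv, a * b, mul_mem ha hb, ?_⟩
    calc u * a * (v * b) = u * (a * v) * b := by group
      _ = u * v * (a * b) := by rw [(D.AU a ha v hv).eq]; group
  inv_mem' := by
    rintro _ ⟨u, hu, a, ha, rfl⟩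
    refine ⟨u⁻¹, inv_mem hu, a⁻¹, inv_mem ha, ?_⟩
    rw [mul_inv_rev]
    exact ((D.AU a ha u hu).inv_inv).eq

theorem mem_UA {g : G} : g ∈ D.UA ↔ ∃ u ∈ D.U, ∃ a ∈ D.A, g = u * a := Iff.rfl

theorem U_le_UA : D.U ≤ D.UA := fun u hu => ⟨u, hu, 1, one_mem _, (mul_one u).symm⟩

theorem A_le_UA : D.A ≤ D.UA := fun a ha => ⟨1, one_mem _, a, ha, (one_mul a).symm⟩

theorem UA_comm {g v : G} (hg : g ∈ D.UA) (hv : v ∈ D.U) : Commute g v := by
  obtain ⟨u, hu, a, ha, rfl⟩ := hg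
  exact (D.U_comm hu hv).mul_left (D.AU a ha v hv)

theorem UA_commA {g b : G} (hg : g ∈ D.UA) (hb : b ∈ D.A) : Commute g b := by
  obtain ⟨u, hu, a, ha, rfl⟩ := hg
  exact (D.AU b hb u hu).symm.mul_left (D.Acomm a ha b hb)

theorem cent_cases {g : G} (hg : ∀ u ∈ D.U, Commute g u) : g ∈ D.UA ∨ D.x * g ∈ D.UA := by
  obtain ⟨u, hu, a, ha, h | h⟩ := D.centU g hg
  · exact Or.inl ⟨u, hu, a, ha, h⟩
  · refine Or.inr ⟨u, hu, a, ha, ?_⟩
    rw [h, ← mul_assoc, D.hx.1, one_mul]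

/-- An element of `U × A` times `x` squares to one. -/
theorem x_mul_sq {w : G} (hw : w ∈ D.UA) : D.x * w * (D.x * w) = 1 := by
  obtain ⟨u, hu, a, ha, rfl⟩ := hw
  have h : D.x * (u * a) * D.x⁻¹ = u * a⁻¹ := by
    rw [show D.x * (u * a) * D.x⁻¹ = D.x * u * D.x⁻¹ * (D.x * a * D.x⁻¹) by group,
      D.xinv a ha, (D.xcomm u hu).eq, mul_inv_cancel_right]
  rw [D.hx.inv_eq] at h
  rw [show D.x * (u * a) * (D.x * (u * a)) = D.x * (u * a) * D.x * (u * a) by group, h,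
    show u * a⁻¹ * (u * a) = u * (a⁻¹ * u) * a by group, ((D.AU a ha u hu).inv_left).eq,
    show u * (u * a⁻¹) * a = u * u by group, D.sqU u hu]

theorem x_inv_UA {w : G} (hw : w ∈ D.UA) : D.x * w * D.x ∈ D.UA := by
  have h := D.x_mul_sq hw
  rw [show D.x * w * D.x = (D.x * w * (D.x * w)) * w⁻¹ by group, h, one_mul]
  exact inv_mem hw

theorem mem_A_of_odd [Finite G] {g : G} (hg : ∀ u ∈ D.U, Commute g u) (ho : Odd (orderOf g)) :
    g ∈ D.A := by
  obtain ⟨m, hm⟩ := ho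
  have h1 := pow_orderOf_eq_one g
  rcases D.cent_cases hg with ⟨u, hu, a, ha, rfl⟩ | h
  · rw [(D.AU a ha u hu).symm.mul_pow, hm] at h1
    have e : u ^ (2 * m + 1) = u := by rw [pow_succ, pow_mul, pow_two, D.sqU u hu, one_pow, one_mul]
    rw [e] at h1
    have : u = 1 := D.U_inter_A hu (eq_inv_of_mul_eq_one_left h1 ▸ inv_mem (pow_mem ha _))
    rwa [this, one_mul]
  · have h2 := D.x_mul_sq h
    simp only [← mul_assoc, D.hx.1, one_mul] at h2
    rw [hm, pow_succ, pow_mul, pow_two, h2, one_pow, one_mul] at h1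
    rw [h1]; exact one_mem _

theorem y_pow_U (n : ℕ) {u : G} (hu : u ∈ D.U) : D.y ^ n * u * (D.y ^ n)⁻¹ ∈ D.U := by
  induction n with
  | zero => simpa using hu
  | succ n ih =>
    rw [pow_succ', show D.y * D.y ^ n * u * (D.y * D.y ^ n)⁻¹ =
      D.y * (D.y ^ n * u * (D.y ^ n)⁻¹) * D.y⁻¹ by group]
    exact D.yU _ ih

variable [Finite G]

theorem y_inv_eq : ∃ n : ℕ, D.y ^ n = D.y⁻¹ := by
  refine ⟨orderOf D.y - 1, eq_inv_of_mul_eq_one_left ?_⟩
  rw [← pow_succ, Nat.sub_add_cancel (orderOf_pos D.y), pow_orderOf_eq_one]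

theorem y_inv_U {u : G} (hu : u ∈ D.U) : D.y⁻¹ * u * D.y ∈ D.U := by
  obtain ⟨n, hn⟩ := D.y_inv_eq
  have h := D.y_pow_U n hu
  rwa [hn, inv_inv] at h

theorem U_cases {u : G} (hu : u ∈ D.U) :
    u = 1 ∨ u = D.t ∨ u = D.y * D.t * D.y⁻¹ ∨ u = D.t * (D.y * D.t * D.y⁻¹) := by
  classical
  haveI := Fintype.ofFinite G
  have h1 : D.y * D.t * D.y⁻¹ ≠ D.t := fun e => D.ht.2 (D.yfree _ D.tU e)
  have h2 : D.y * D.t * D.y⁻¹ ≠ 1 := fun e => D.ht.2 (conj_eq_one_iff.1 e)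
  have hs : ({1, D.t, D.y * D.t * D.y⁻¹, D.t * (D.y * D.t * D.y⁻¹)} : Finset G) =
      (Finset.univ.filter fun g => g ∈ D.U) := by
    refine Finset.eq_of_subset_of_card_le ?_ (le_of_eq ?_)
    · intro g hg
      simp only [Finset.mem_insert, Finset.mem_singleton] at hg
      rw [Finset.mem_filter]
      refine ⟨Finset.mem_univ _, ?_⟩
      rcases hg with rfl | rfl | rfl | rfl
      exacts [one_mem _, D.tU, D.yU _ D.tU, mul_mem D.tU (D.yU _ D.tU)]
    · rw [show (Finset.univ.filter fun g => g ∈ D.U).card = 4 by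
        rw [← Fintype.card_subtype, ← Nat.card_eq_fintype_card]; exact D.cardU]
      rw [Finset.card_insert_of_notMem, Finset.card_insert_of_notMem, Finset.card_insert_of_notMem,
        Finset.card_singleton]
      · simp only [Finset.mem_singleton]
        exact fun e => D.ht.2 (mul_eq_right.1 e.symm)
      · simp only [Finset.mem_insert, Finset.mem_singleton, not_or]
        exact ⟨h1.symm, fun e => h2 (mul_eq_left.1 e.symm)⟩
      · simp only [Finset.mem_insert, Finset.mem_singleton, not_or]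
        refine ⟨D.ht.2.symm, h2.symm, fun e => h1 ?_⟩
        have := congrArg (D.t * ·) e
        simp only [← mul_assoc, D.t_sq, one_mul, mul_one] at this
        simpa [mul_assoc] using this.symm
  have : u ∈ ({1, D.t, D.y * D.t * D.y⁻¹, D.t * (D.y * D.t * D.y⁻¹)} : Finset G) := by
    rw [hs]; simp [hu]
  simpa using this

theorem y_two : D.y * (D.y * D.t * D.y⁻¹) * D.y⁻¹ = D.t * (D.y * D.t * D.y⁻¹) := by
  set v := D.y * D.t * D.y⁻¹ with hv
  have hvU : v ∈ D.U := D.yU _ D.tU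
  rcases D.U_cases (D.yU _ hvU) with h | h | h | h
  · exact absurd (conj_eq_one_iff.1 (conj_eq_one_iff.1 h)) D.ht.2
  · exfalso
    have e : D.y * (D.t * v) * D.y⁻¹ = D.t * v := by
      rw [show D.y * (D.t * v) * D.y⁻¹ = (D.y * D.t * D.y⁻¹) * (D.y * v * D.y⁻¹) by group, ← hv, h,
        (D.U_comm hvU D.tU).eq]
    have e1 := D.yfree _ (mul_mem D.tU hvU) e
    exact D.ht.2 (D.yfree _ D.tU (by rw [← hv, eq_inv_of_mul_eq_one_right e1, D.ht.inv_eq]))
  · exfalso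
    exact D.ht.2 (conj_eq_one_iff.1 (D.yfree _ hvU h))
  · exact h

theorem y_three : D.y * (D.t * (D.y * D.t * D.y⁻¹)) * D.y⁻¹ = D.t := by
  set v := D.y * D.t * D.y⁻¹ with hv
  rw [show D.y * (D.t * v) * D.y⁻¹ = (D.y * D.t * D.y⁻¹) * (D.y * v * D.y⁻¹) by group, D.y_two,
    ← hv, ← mul_assoc, (D.U_comm (D.yU _ D.tU) D.tU).eq, mul_assoc, D.sqU _ (D.yU _ D.tU), mul_one]

/-- Every involution of `U` is a conjugate of `t` by a power of `y`. -/
theorem U_orbit {u : G} (hu : u ∈ D.U) (hu1 : u ≠ 1) :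
    u = D.t ∨ u = D.y * D.t * D.y⁻¹ ∨ u = D.y ^ 2 * D.t * (D.y ^ 2)⁻¹ := by
  rcases D.U_cases hu with h | h | h | h
  · exact absurd h hu1
  · exact Or.inl h
  · exact Or.inr (Or.inl h)
  · refine Or.inr (Or.inr ?_)
    rw [h, ← D.y_two, pow_two]
    group

theorem y_cubed_comm {u : G} (hu : u ∈ D.U) : Commute (D.y ^ 3) u := by
  have h3 : Commute (D.y ^ 3) D.t := by
    refine mul_inv_eq_iff_eq_mul.1 ?_
    rw [conj_three, D.y_two, D.y_three]
  rcases D.U_cases hu with h | h | h | h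
  · rw [h]; exact Commute.one_right _
  · rw [h]; exact h3
  · rw [h]; exact ((Commute.pow_self D.y 3).mul_right h3).mul_right (Commute.pow_self D.y 3).inv_right
  · rw [h]; exact h3.mul_right
      (((Commute.pow_self D.y 3).mul_right h3).mul_right (Commute.pow_self D.y 3).inv_right)

theorem y_cubed : D.y ^ 3 = 1 := by
  have ho : Odd (orderOf (D.y ^ 3)) := D.yodd.of_dvd_nat (orderOf_pow_dvd 3)
  have hA := D.mem_A_of_odd (fun u hu => D.y_cubed_comm hu) ho
  have h := D.xinv _ hA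
  rw [((D.yx.pow_left 3).symm).eq, mul_inv_cancel_right] at h
  exact D.eq_one_of_inv hA h.symm

theorem y_conj_A {a : G} (ha : a ∈ D.A) : D.y * a * D.y⁻¹ ∈ D.A := by
  refine D.mem_A_of_odd (fun u hu => ?_) ?_
  · have h := (D.AU a ha _ (D.y_inv_U hu)).map (MulAut.conj D.y).toMonoidHom
    simpa [mul_assoc] using h
  · rw [show D.y * a * D.y⁻¹ = MulAut.conj D.y a from rfl, MulEquiv.orderOf_eq]
    exact D.odd_orderOf ha

theorem y_pow_A (n : ℕ) {a : G} (ha : a ∈ D.A) : D.y ^ n * a * (D.y ^ n)⁻¹ ∈ D.A := by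
  induction n with
  | zero => simpa using ha
  | succ n ih =>
    rw [pow_succ', show D.y * D.y ^ n * a * (D.y * D.y ^ n)⁻¹ =
      D.y * (D.y ^ n * a * (D.y ^ n)⁻¹) * D.y⁻¹ by group]
    exact D.y_conj_A ih

/-- The centraliser of a nontrivial element of `A` meets the centraliser of an involution of `U`
inside `U × A`. -/
theorem torus_all {u a g : G} (hu : u ∈ D.U) (hu1 : u ≠ 1) (ha : a ∈ D.A) (ha1 : a ≠ 1)
    (hgu : Commute g u) (hga : Commute g a) : g ∈ D.UA := by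
  obtain ⟨n, hn⟩ : ∃ n : ℕ, u = D.y ^ n * D.t * (D.y ^ n)⁻¹ := by
    rcases D.U_orbit hu hu1 with h | h | h
    exacts [⟨0, by simp [h]⟩, ⟨1, by simp [h]⟩, ⟨2, h⟩]
  obtain ⟨m, hm⟩ : ∃ m : ℕ, D.y ^ m = (D.y ^ n)⁻¹ := by
    obtain ⟨k, hk⟩ := D.y_inv_eq
    exact ⟨k * n, by rw [pow_mul, hk, inv_pow]⟩
  set z := D.y ^ n with hz
  have ha' : z⁻¹ * a * z ∈ D.A := by
    have := D.y_pow_A m ha
    rwa [hm, inv_inv] at this
  have h1 : Commute (z⁻¹ * g * z) D.t := by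
    have := (Commute.conj_iff z⁻¹).2 hgu
    rw [hn] at this
    simpa [mul_assoc] using this
  have h2 : Commute (z⁻¹ * g * z) (z⁻¹ * a * z) := by
    simpa [mul_assoc] using (Commute.conj_iff z⁻¹).2 hga
  have hne : z⁻¹ * a * z ≠ 1 := fun e => ha1 (by
    have := congrArg (fun w => z * w * z⁻¹) e
    simpa [mul_assoc] using this)
  obtain ⟨v, hv, b, hb, he⟩ := D.torus _ ha' hne _ h1 h2
  refine ⟨z * v * z⁻¹, D.y_pow_U n hv, z * b * z⁻¹, D.y_pow_A n hb, ?_⟩
  rw [show z * v * z⁻¹ * (z * b * z⁻¹) = z * (v * b) * z⁻¹ by group, ← he]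
  group

/-- An element normalising `U` is a power of `y` times an element centralising `U`. -/
theorem norm_U {g : G} (hg : ∀ u ∈ D.U, g * u * g⁻¹ ∈ D.U) :
    ∃ i < 3, ∀ u ∈ D.U, Commute ((D.y ^ i)⁻¹ * g) u := by
  obtain ⟨i, hi, hgi⟩ : ∃ i < 3, g * D.t * g⁻¹ = D.y ^ i * D.t * (D.y ^ i)⁻¹ := by
    rcases D.U_orbit (hg _ D.tU) (fun e => D.ht.2 (conj_eq_one_iff.1 e)) with h | h | h
    exacts [⟨0, by norm_num, by simp [h]⟩, ⟨1, by norm_num, by simp [h]⟩, ⟨2, by norm_num, h⟩]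
  refine ⟨i, hi, ?_⟩
  set h := (D.y ^ i)⁻¹ * g with hh
  have hht : Commute h D.t := by
    refine mul_inv_eq_iff_eq_mul.1 ?_
    rw [hh, show (D.y ^ i)⁻¹ * g * D.t * ((D.y ^ i)⁻¹ * g)⁻¹ =
      (D.y ^ i)⁻¹ * (g * D.t * g⁻¹) * D.y ^ i by group, hgi]
    group
  have hhU : ∀ u ∈ D.U, h * u * h⁻¹ ∈ D.U := by
    intro u hu
    obtain ⟨k, hk⟩ := D.y_inv_eq
    have := D.y_pow_U (k * i) (hg u hu)
    rw [pow_mul, hk, inv_pow, inv_inv] at this
    rwa [hh, show (D.y ^ i)⁻¹ * g * u * ((D.y ^ i)⁻¹ * g)⁻¹ =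
      (D.y ^ i)⁻¹ * (g * u * g⁻¹) * D.y ^ i by group]
  set v := D.y * D.t * D.y⁻¹ with hv
  have hvU : v ∈ D.U := D.yU _ D.tU
  suffices key : Commute h v by
    intro u hu
    rcases D.U_cases hu with e | e | e | e
    · rw [e]; exact Commute.one_right _
    · rw [e]; exact hht
    · rw [e]; exact key
    · rw [e]; exact hht.mul_right key
  have hcases : h * v * h⁻¹ = v ∨ h * v * h⁻¹ = D.t * v := by
    rcases D.U_cases (hhU v hvU) with e | e | e | e
    · exact absurd (conj_eq_one_iff.1 e) fun e' => D.ht.2 (conj_eq_one_iff.1 e')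
    · exfalso
      refine D.ht.2 (D.yfree _ D.tU (mul_left_cancel (a := h) (mul_right_cancel (b := h⁻¹) ?_)))
      rw [← hv, e, hht.eq, mul_inv_cancel_right]
    · exact Or.inl e
    · exact Or.inr e
  rcases hcases with e | e
  · exact mul_inv_eq_iff_eq_mul.1 e
  exfalso
  -- the two-part of `h` would act on `U` as a transvection inside an abelian two-group
  obtain ⟨a, m, hm, hord⟩ := Nat.exists_eq_two_pow_mul_odd (orderOf_pos h).ne'
  set h₂ := h ^ m with hh2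
  have hsq : h * h * v * (h * h)⁻¹ = v := by
    rw [show h * h * v * (h * h)⁻¹ = h * (h * v * h⁻¹) * h⁻¹ by group, e,
      show h * (D.t * v) * h⁻¹ = (h * D.t * h⁻¹) * (h * v * h⁻¹) by group, e, hht.eq,
      mul_inv_cancel_right, ← mul_assoc, D.t_sq, one_mul]
  have e2 : h₂ * v * h₂⁻¹ = D.t * v := by
    obtain ⟨j, rfl⟩ := hm
    have hc : Commute ((h * h) ^ j) v := Commute.pow_left (mul_inv_eq_iff_eq_mul.1 hsq) j
    rw [hh2, pow_succ', pow_mul, pow_two,
      show h * (h * h) ^ j * v * (h * (h * h) ^ j)⁻¹ =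
        h * ((h * h) ^ j * v * ((h * h) ^ j)⁻¹) * h⁻¹ by group,
      hc.eq, mul_inv_cancel_right, e]
  have h2t : Commute h₂ D.t := hht.pow_left m
  have hd : orderOf h₂ ∣ 2 ^ a := orderOf_dvd_of_pow_eq_one (by
    rw [hh2, ← pow_mul, mul_comm, ← hord, pow_orderOf_eq_one])
  obtain ⟨b, -, hb⟩ := (Nat.dvd_prime_pow Nat.prime_two).1 hd
  have hp : IsPGroup 2 (zpowers h₂) := IsPGroup.of_card (n := b) (by rw [Nat.card_zpowers, hb])
  have hU2 : IsPGroup 2 D.U := IsPGroup.of_card (n := 2) (by rw [D.cardU]; rfl)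
  have hN : zpowers h₂ ≤ normalizer (D.U : Set G) := by
    rw [zpowers_le, hh2]
    refine pow_mem (mem_normalizer_iff.2 fun z => ⟨hhU z, fun hz => ?_⟩) m
    have hinv : ∀ w ∈ D.U, h⁻¹ * w * h ∈ D.U := fun w hw => by
      have h4 : ∀ k : ℕ, h ^ k * w * (h ^ k)⁻¹ ∈ D.U := by
        intro k
        induction k with
        | zero => simpa using hw
        | succ k ih =>
          rw [pow_succ', show h * h ^ k * w * (h * h ^ k)⁻¹ = h * (h ^ k * w * (h ^ k)⁻¹) * h⁻¹ by group]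
          exact hhU _ ih
      have := h4 (orderOf h - 1)
      rwa [show h ^ (orderOf h - 1) = h⁻¹ from eq_inv_of_mul_eq_one_left (by
        rw [← pow_succ, Nat.sub_add_cancel (orderOf_pos h), pow_orderOf_eq_one]), inv_inv] at this
    simpa [mul_assoc] using hinv _ hz
  obtain ⟨P, hP⟩ := (hp.to_sup_of_normal_right' hU2 hN).exists_le_sylow
  have hcomm := (D.abelian P).is_comm.comm ⟨h₂, hP (mem_sup_left (mem_zpowers h₂))⟩ ⟨v, hP (mem_sup_right hvU)⟩
  have hcomm' : h₂ * v = v * h₂ := congrArg Subtype.val hcomm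
  rw [hcomm', mul_inv_cancel_right] at e2
  exact D.ht.2 (mul_eq_right.1 e2.symm)

/-! ### The centraliser of an element of `A` fixed by no nontrivial power of `y` -/

/-- An element normalising `U` and centralising `a ∈ A` moved by `y` lies in `U × A`. -/
theorem norm_cent {a g : G} (ha : a ∈ D.A) (ha1 : a ≠ 1) (hya : D.y * a * D.y⁻¹ ≠ a)
    (hg : ∀ u ∈ D.U, g * u * g⁻¹ ∈ D.U) (hga : Commute g a) : g ∈ D.UA := by
  obtain ⟨i, hi, hc⟩ := D.norm_U hg
  set c := (D.y ^ i)⁻¹ * g with hcd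
  have hgc : g = D.y ^ i * c := by rw [hcd, mul_inv_cancel_left]
  by_cases h0 : i = 0
  · subst h0
    rw [pow_zero, one_mul] at hgc
    exact D.torus_all D.tU D.ht.2 ha ha1 (hgc ▸ hc _ D.tU) hga
  exfalso
  have hcase : c * a * c⁻¹ = a ∨ c * a * c⁻¹ = a⁻¹ := by
    rcases D.cent_cases hc with h | h
    · left
      rw [(D.UA_commA h ha).eq, mul_inv_cancel_right]
    · right
      have h1 : c = D.x * (D.x * c) := by rw [← mul_assoc, D.hx.1, one_mul]
      rw [h1, show D.x * (D.x * c) * a * (D.x * (D.x * c))⁻¹ =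
        D.x * ((D.x * c) * a * (D.x * c)⁻¹) * D.x⁻¹ by group, (D.UA_commA h ha).eq,
        mul_inv_cancel_right, D.xinv a ha]
  have hfix : g * a * g⁻¹ = a := by rw [hga.eq, mul_inv_cancel_right]
  set z := D.y ^ i with hz
  have hz3 : z ^ 3 = 1 := by rw [hz, ← pow_mul, mul_comm, pow_mul, D.y_cubed, one_pow]
  have hza : z * a * z⁻¹ = a := by
    rw [hgc, show z * c * a * (z * c)⁻¹ = z * (c * a * c⁻¹) * z⁻¹ by group] at hfix
    rcases hcase with e | e
    · rwa [e] at hfix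
    rw [e] at hfix
    exfalso
    have h1 : z * a * z⁻¹ = a⁻¹ := by
      rw [show z * a * z⁻¹ = (z * a⁻¹ * z⁻¹)⁻¹ by group, hfix]
    have h3 : z ^ 3 * a * (z ^ 3)⁻¹ = a⁻¹ := by
      rw [conj_three, h1, hfix, h1]
    rw [hz3] at h3
    exact ha1 (D.eq_one_of_inv ha (by simpa using h3.symm))
  apply hya
  obtain rfl | rfl : i = 1 ∨ i = 2 := by omega
  · simpa [hz] using hza
  · have hy2 : D.y = (z ^ 2) := by
      rw [hz, ← pow_mul, show (2 * 2) = 3 + 1 from rfl, pow_succ, D.y_cubed, one_mul]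
    rw [hy2, conj_two, hza, hza]

end Loc

end CfsgLib.JT
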