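import Cfsg.Agent.JankoThompson.Local

/-!
# The free case: centralisers, fusion and inverting involutions on `U × A`
-/

set_option autoImplicit false
set_option linter.unusedSectionVars false
set_option linter.style.haveILetI false

namespace CfsgLib.JT

open Subgroup
open CfsgLib.NormCyclic (Inv)

namespace Loc

variable {G : Type*} [Group G] [Finite G] (D : Loc G)

include D

theorem U_not_cyclic : ¬ IsCyclic D.U := fun h => by
  obtain ⟨g, hg⟩ := h.exists_ofOrder_eq_natCard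
  rw [D.cardU, ← Subgroup.orderOf_coe] at hg
  have := orderOf_dvd_of_pow_eq_one (show (g : G) ^ 2 = 1 by rw [pow_two, D.sqU _ g.2])
  rw [hg] at this
  norm_num at this

/-- `U` is a Sylow subgroup of the centraliser of a nontrivial element of `A`. -/
theorem eq_U_of_two {a : G} (ha : a ∈ D.A) (ha1 : a ≠ 1) {P : Subgroup G} (hP : IsPGroup 2 P)
    (hUP : D.U ≤ P) (hPa : P ≤ centralizer ({a} : Set G)) : P = D.U := by
  refine le_antisymm (fun g hg => ?_) hUP
  obtain ⟨S, hS⟩ := hP.exists_le_sylow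
  have hgt : Commute g D.t :=
    congrArg Subtype.val ((D.abelian S).is_comm.comm ⟨g, hS hg⟩ ⟨D.t, hS (hUP D.tU)⟩)
  obtain ⟨u, hu, b, hb, rfl⟩ :=
    D.torus_all D.tU D.ht.2 ha ha1 hgt (mem_centralizer_singleton_iff.1 (hPa hg))
  have hbP : b ∈ P := by simpa using mul_mem (inv_mem (hUP hu)) hg
  obtain ⟨n, hn⟩ := hP ⟨b, hbP⟩
  have hn' : b ^ 2 ^ n = 1 := congrArg Subtype.val hn
  have h1 := Nat.dvd_gcd (orderOf_dvd_of_pow_eq_one hn') (dvd_refl (orderOf b))
  rw [Nat.Coprime.gcd_eq_one ((Nat.coprime_two_left.2 (D.odd_orderOf hb)).pow_left n),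
    Nat.dvd_one, orderOf_eq_one_iff] at h1
  rwa [h1, mul_one]

/-- An odd subgroup of `C(a)` normalised by `U` lies in `A`. -/
theorem odd_le_A {a : G} (ha : a ∈ D.A) (ha1 : a ≠ 1) {O : Subgroup G} (hO : Odd (Nat.card O))
    (hOa : O ≤ centralizer ({a} : Set G)) (hUO : D.U ≤ normalizer (O : Set G)) : O ≤ D.A := by
  haveI : IsMulCommutative D.U := ⟨⟨fun u v => Subtype.ext (D.U_comm u.2 v.2)⟩⟩
  have hcop : (Nat.card D.U).Coprime (Nat.card O) := by
    rw [D.cardU]; exact (Nat.coprime_two_left.2 hO).pow_left 2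
  rw [← CfsgLib.CoprimeAct.generated_by_centralizers D.U_not_cyclic hUO hcop]
  refine iSup₂_le fun u ⟨hu, hu1⟩ g ⟨hgO, hgu⟩ => ?_
  have hgUA := D.torus_all hu hu1 ha ha1 (mem_centralizer_singleton_iff.1 hgu)
    (mem_centralizer_singleton_iff.1 (hOa hgO))
  exact D.mem_A_of_odd (fun v hv => D.UA_comm hgUA hv)
    (hO.of_dvd_nat (orderOf_dvd_natCard _ hgO))

theorem UA_le_cent {a : G} (ha : a ∈ D.A) : D.UA ≤ centralizer ({a} : Set G) := fun _ hg =>
  mem_centralizer_singleton_iff.2 (D.UA_commA hg ha)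

set_option maxHeartbeats 800000 in
/-- The centraliser of an element of `A` not fixed by `y` is `U × A`. -/
theorem cent_of_moved {a : G} (ha : a ∈ D.A) (ha1 : a ≠ 1) (hya : D.y * a * D.y⁻¹ ≠ a) :
    centralizer ({a} : Set G) = D.UA := by
  haveI := Fact.mk Nat.prime_two
  set H := centralizer ({a} : Set G) with hH
  have hUH : D.U ≤ H := D.U_le_UA.trans (D.UA_le_cent ha)
  have hU2 : IsPGroup 2 D.U := IsPGroup.of_card (n := 2) (by rw [D.cardU]; rfl)
  obtain ⟨P, hP⟩ := (hU2.comap_subtype (K := H)).exists_le_sylow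
  have hPU : ∀ p ∈ (P : Subgroup H), (p : G) ∈ D.U := fun p hp => by
    rw [← D.eq_U_of_two ha ha1 (P.isPGroup'.map H.subtype) (fun u hu => ⟨⟨u, hUH hu⟩, hP (mem_subgroupOf.2 hu), rfl⟩)
      (map_subtype_le _)]
    exact ⟨p, hp, rfl⟩
  have hNC : normalizer ((P : Subgroup H) : Set H) ≤ centralizer ((P : Subgroup H) : Set H) := by
    intro g hg
    have hgU : ∀ u ∈ D.U, (g : G) * u * (g : G)⁻¹ ∈ D.U := fun u hu =>
      hPU _ ((mem_normalizer_iff.1 hg ⟨u, hUH hu⟩).1 (hP (mem_subgroupOf.2 hu)))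
    have hgUA := D.norm_cent ha ha1 hya hgU (mem_centralizer_singleton_iff.1 g.2)
    exact mem_centralizer_iff.2 fun p hp => Subtype.ext (D.UA_comm hgUA (hPU p hp)).symm
  have hcompl := MonoidHom.ker_transferSylow_isComplement' P hNC
  set O := (MonoidHom.transferSylow P hNC).ker with hOdef
  have hOodd : Odd (Nat.card O) := by
    rw [← hcompl.index_eq_card, Nat.odd_iff, ← Nat.two_dvd_ne_zero]
    exact P.not_dvd_index
  have hO' : O.map H.subtype ≤ D.A := by
    refine D.odd_le_A ha ha1 (by rwa [card_map_of_injective H.subtype_injective]) (map_subtype_le _) ?_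
    intro u hu
    have h1 := le_normalizer_map H.subtype (mem_map_of_mem H.subtype
      (show (⟨u, hUH hu⟩ : H) ∈ normalizer (O : Set H) from
        (normalizer_eq_top_iff.2 (inferInstance : O.Normal)).symm ▸ mem_top _))
    exact h1
  refine le_antisymm (fun g hg => ?_) (D.UA_le_cent ha)
  obtain ⟨⟨⟨o, ho⟩, ⟨p, hp⟩⟩, he⟩ := hcompl.2 ⟨g, hg⟩
  have := congrArg Subtype.val he
  simp only [Subgroup.coe_mul] at this
  rw [← this]
  exact mul_mem (D.A_le_UA (hO' ⟨o, ho, rfl⟩)) (D.U_le_UA (hPU p hp))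

/-- `y` fixes no nontrivial element of `A`. -/
def Free : Prop := ∀ a ∈ D.A, D.y * a * D.y⁻¹ = a → a = 1

variable (hF : D.Free)

include hF

theorem cent_A {a : G} (ha : a ∈ D.A) (ha1 : a ≠ 1) : centralizer ({a} : Set G) = D.UA :=
  D.cent_of_moved ha ha1 fun e => ha1 (hF a ha e)

/-- The centraliser of `u * a` is `U × A`. -/
theorem cent_mul {u a : G} (hu : u ∈ D.U) (ha : a ∈ D.A) (ha1 : a ≠ 1) :
    centralizer ({u * a} : Set G) = D.UA := by
  refine le_antisymm (fun g hg => ?_) fun g hg => mem_centralizer_singleton_iff.2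
    ((D.UA_comm hg hu).mul_right (D.UA_commA hg ha))
  have hc : Commute g (u * a) := mem_centralizer_singleton_iff.1 hg
  have h2 : (u * a) ^ 2 = a ^ 2 := by
    rw [(D.AU a ha u hu).symm.mul_pow, pow_two u, D.sqU u hu, one_mul]
  have hne : a ^ 2 ≠ 1 := fun e => ha1 (D.eq_one_of_sq ha (by rw [← pow_two]; exact e))
  rw [← D.cent_A hF (pow_mem ha 2) hne]
  exact mem_centralizer_singleton_iff.2 (h2 ▸ hc.pow_right 2)

theorem UA_odd_mem {g : G} (hg : g ∈ D.UA) (ho : Odd (orderOf g)) : g ∈ D.A :=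
  D.mem_A_of_odd (fun _ hv => D.UA_comm hg hv) ho

theorem UA_two_mem {g : G} (hg : g ∈ D.UA) (h : g * g = 1) : g ∈ D.U := by
  obtain ⟨u, hu, a, ha, rfl⟩ := hg
  have e : (u * a) ^ 2 = a ^ 2 := by
    rw [(D.AU a ha u hu).symm.mul_pow, pow_two u, D.sqU u hu, one_mul]
  rw [pow_two, h, pow_two] at e
  rwa [D.eq_one_of_sq ha e.symm, mul_one]

/-- An element conjugating one element of `U × A` outside `U` to another normalises `U`. -/
theorem fusion {u v a b g : G} (hu : u ∈ D.U) (hv : v ∈ D.U) (ha : a ∈ D.A) (hb : b ∈ D.A)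
    (ha1 : a ≠ 1) (h : g * (u * a) * g⁻¹ = v * b) :
    ∃ i < 3, ∀ w ∈ D.U, Commute ((D.y ^ i)⁻¹ * g) w := by
  have hb1 : b ≠ 1 := by
    rintro rfl
    rw [mul_one] at h
    have h1 : g * (u * a) * (u * a) * g⁻¹ = 1 := by
      rw [show g * (u * a) * (u * a) * g⁻¹ = g * (u * a) * g⁻¹ * (g * (u * a) * g⁻¹) by group, h,
        D.sqU v hv]
    rw [mul_assoc g, conj_eq_one_iff] at h1
    have := D.UA_two_mem hF ⟨u, hu, a, ha, rfl⟩ h1
    exact ha1 (D.U_inter_A (by simpa using mul_mem (inv_mem hu) this) ha)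
  refine D.norm_U fun w hw => ?_
  have hmem : g * w * g⁻¹ ∈ D.UA := by
    rw [← D.cent_mul hF hv hb hb1, ← h]
    exact mem_centralizer_singleton_iff.2
      ((Commute.conj_iff g).2 ((D.U_comm hw hu).mul_right (D.AU a ha w hw).symm))
  exact D.UA_two_mem hF hmem (by rw [conj_mul, D.sqU w hw, mul_one, mul_inv_cancel])

/-- The involutions inverting an element of `U × A` outside `U` form the coset `x(U × A)`. -/
theorem inverters {u a i : G} (hu : u ∈ D.U) (ha : a ∈ D.A) (ha1 : a ≠ 1) :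
    (Inv i ∧ i * (u * a) * i = (u * a)⁻¹) ↔ ∃ w ∈ D.UA, i = D.x * w := by
  constructor
  · rintro ⟨hi, h⟩
    have hconj : i * (u * a) * i⁻¹ = u * a⁻¹ := by
      rw [hi.inv_eq, h, mul_inv_rev, D.U_inv hu]
      exact ((D.AU a ha u hu).inv_left).eq
    obtain ⟨j, hj, hc⟩ := D.fusion hF hu hu ha (inv_mem ha) ha1 hconj
    have hj0 : j = 0 := by
      by_contra hj0
      have hi2 : i * i * D.t * (i * i)⁻¹ = D.t := by rw [hi.1, one_mul, inv_one, mul_one]
      have hij : ∀ w ∈ D.U, i * w * i⁻¹ = D.y ^ j * w * (D.y ^ j)⁻¹ := fun w hw => by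
        rw [show i * w * i⁻¹ = D.y ^ j * ((D.y ^ j)⁻¹ * i * w * ((D.y ^ j)⁻¹ * i)⁻¹) * (D.y ^ j)⁻¹
          by group, (hc w hw).eq, mul_inv_cancel_right]
      rw [show i * i * D.t * (i * i)⁻¹ = i * (i * D.t * i⁻¹) * i⁻¹ by group, hij _ D.tU,
        hij _ (D.y_pow_U j D.tU)] at hi2
      obtain rfl | rfl : j = 1 ∨ j = 2 := by omega
      · rw [pow_one, D.y_two] at hi2
        exact D.ht.2 (D.yfree _ D.tU (mul_eq_left.1 hi2 ▸ (conj_eq_one_iff.1 (mul_eq_left.1 hi2)).symm ▸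
          (by simp)))
      · rw [conj_two, conj_two, D.y_two, D.y_three] at hi2
        exact D.ht.2 (D.yfree _ D.tU hi2)
    subst hj0
    simp only [pow_zero, inv_one, one_mul] at hc
    rcases D.cent_cases hc with hm | hm
    · exfalso
      refine ha1 (D.eq_one_of_inv ha ?_)
      have h3 : Commute i (u * a) := (D.UA_comm hm hu).mul_right (D.UA_commA hm ha)
      rw [h3.eq, mul_inv_cancel_right] at hconj
      exact (mul_left_cancel hconj).symm
    · exact ⟨_, hm, by rw [← mul_assoc, D.hx.1, one_mul]⟩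
  · rintro ⟨w, hw, rfl⟩
    refine ⟨⟨D.x_mul_sq hw, fun e => D.xU ?_⟩, ?_⟩
    · have hx : D.x ∈ D.UA := by rw [eq_inv_of_mul_eq_one_left e]; exact inv_mem hw
      exact D.UA_two_mem hF hx D.hx.1
    · have h1 : D.x * w * (u * a) * (D.x * w)⁻¹ = u * a⁻¹ := by
        rw [show D.x * w * (u * a) * (D.x * w)⁻¹ = D.x * (w * (u * a) * w⁻¹) * D.x⁻¹ by group,
          ((D.UA_comm hw hu).mul_right (D.UA_commA hw ha)).eq, mul_inv_cancel_right,
          show D.x * (u * a) * D.x⁻¹ = D.x * u * D.x⁻¹ * (D.x * a * D.x⁻¹) by group,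
          D.xinv a ha, (D.xcomm u hu).eq, mul_inv_cancel_right]
      rw [inv_eq_of_mul_eq_one_right (D.x_mul_sq hw)] at h1
      rw [h1, mul_inv_rev, D.U_inv hu]
      exact ((D.AU a ha u hu).inv_left).eq.symm

end Loc

end CfsgLib.JT
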