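import Cfsg.Agent.JankoThompson.PatternShape
import Mathlib.Tactic.FinCases

/-!
The first shape: the order formula.
-/

set_option autoImplicit false

namespace CfsgLib.JT

universe u v w

open Classical

variable {ι : Type u} {M : Type v} {Λ : Type w} [Fintype ι] [Fintype M] [Fintype Λ] {Q k h : ℤ} {V : SVecs ι M Λ Q k h}

/-- The eight points of the first shape. -/
def ShapeP.L (S : ShapeP V) : List ι := [V.o, S.a, S.b, S.c, S.u, S.w, V.s S.u, V.s S.w]

namespace ShapeP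

variable (S : ShapeP V)

/-- The inner product on the eight points. -/
theorem lsum_L {R : Type*} [CommRing R] (f : ι → ℤ) (g : ι → R) :
    lsum S.L f g = (f V.o : R) * g V.o + (f S.a : R) * g S.a + (f S.b : R) * g S.b + (f S.c : R) * g S.c
      + (f S.u : R) * g S.u + (f S.w : R) * g S.w + (f (V.s S.u) : R) * g (V.s S.u)
      + (f (V.s S.w) : R) * g (V.s S.w) := by
  simp only [L, lsum, List.map_cons, List.map_nil, List.sum_cons, List.sum_nil]
  ring

/-- The inner product of two functions fixed by the field automorphism. -/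
theorem lsum_fixed (f g : ι → ℤ) (hf : ∀ x, f (V.s x) = f x) (hg : ∀ x, g (V.s x) = g x) :
    lsum S.L f g = f V.o * g V.o + f S.a * g S.a + f S.b * g S.b + f S.c * g S.c
      + 2 * (f S.u * g S.u) + 2 * (f S.w * g S.w) := by
  rw [lsum_L]
  simp only [Int.cast_id, hf, hg]
  ring

theorem X0_sum {R : Type*} [CommRing R] (g : ι → R) :
    ∑ x, (V.X 0 x : R) * g x = g V.o + g S.a + g S.b + g S.c := by
  have hnd : [V.o, S.a, S.b, S.c].Nodup := S.nd.sublist (by simp)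
  rw [sum_eq_lsum hnd _ g fun x hx => by rw [S.X0, if_neg hx]]
  simp only [lsum, List.map_cons, List.map_nil, List.sum_cons, List.sum_nil, S.X0, List.mem_cons, true_or,
    or_true, if_true, Int.cast_one, one_mul]
  ring

theorem X1_sum {R : Type*} [CommRing R] (g : ι → R) :
    ∑ x, (V.X 1 x : R) * g x = g S.a + g S.b + g S.u + g S.w := by
  have hnd : [S.a, S.b, S.u, S.w].Nodup := by
    have := S.nd; simp at this ⊢; grind
  rw [sum_eq_lsum hnd _ g fun x hx => by rw [S.X1, if_neg hx]]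
  simp only [lsum, List.map_cons, List.map_nil, List.sum_cons, List.sum_nil, S.X1, List.mem_cons, true_or,
    or_true, if_true, Int.cast_one, one_mul]
  ring

theorem X_out (i : Fin 3) (x : ι) (hx : x ∉ S.L) : V.X i x = 0 := by
  simp only [L, List.mem_cons, List.not_mem_nil, or_false, not_or] at hx
  fin_cases i
  · simp [S.X0, hx]
  · simp [S.X1, hx]
  · simp [S.X2, hx]

/-- Interchanges the two points shared by the three columns. -/
def swapAB : ShapeP V where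
  a := S.b
  b := S.a
  c := S.c
  u := S.u
  w := S.w
  nd := by have := S.nd; simp at this ⊢; grind
  X0 x := by rw [S.X0]; exact if_congr (by simp; tauto) rfl rfl
  X1 x := by rw [S.X1]; exact if_congr (by simp; tauto) rfl rfl
  X2 x := by rw [S.X2]; exact if_congr (by simp; tauto) rfl rfl

/-- Interchanges the two remaining points. -/
def swapUW : ShapeP V where
  a := S.a
  b := S.b
  c := S.c
  u := S.w
  w := S.u
  nd := by have := S.nd; simp at this ⊢; grind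
  X0 x := by rw [S.X0]
  X1 x := by rw [S.X1]; exact if_congr (by simp; tauto) rfl rfl
  X2 x := by rw [S.X2]; exact if_congr (by simp; tauto) rfl rfl

theorem mem_swapAB (x : ι) : x ∈ S.swapAB.L ↔ x ∈ S.L := by simp [L, swapAB]; tauto

theorem mem_swapUW (x : ι) : x ∈ S.swapUW.L ↔ x ∈ S.L := by simp [L, swapUW]; tauto

/-- The functions of the orbit of `m` are `b - c` outside the exceptional points. -/
def IsT (m : M) : Prop :=
  ∀ j, V.Fv m j S.a = 0 ∧ V.Fv m j S.b = 1 ∧ V.Fv m j S.c = -1 ∧ V.Fv m j S.u = 0 ∧ V.Fv m j S.w = 0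

/-- The functions of the orbit of `m` are `u + su` outside the exceptional points. -/
def IsU (m : M) : Prop :=
  ∀ j, V.Fv m j S.a = 0 ∧ V.Fv m j S.b = 0 ∧ V.Fv m j S.c = 0 ∧ V.Fv m j S.u = 1 ∧ V.Fv m j S.w = 0

theorem fv_sol (m : M) (j : Fin 3) :
    (V.Fv m j S.a = 1 ∧ V.Fv m j S.b = 0 ∧ V.Fv m j S.c = -1 ∧ V.Fv m j S.u = 0 ∧ V.Fv m j S.w = 0) ∨
    (V.Fv m j S.a = 0 ∧ V.Fv m j S.b = 1 ∧ V.Fv m j S.c = -1 ∧ V.Fv m j S.u = 0 ∧ V.Fv m j S.w = 0) ∨
    (V.Fv m j S.a = 0 ∧ V.Fv m j S.b = 0 ∧ V.Fv m j S.c = 0 ∧ V.Fv m j S.u = 1 ∧ V.Fv m j S.w = 0) ∨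
    (V.Fv m j S.a = 0 ∧ V.Fv m j S.b = 0 ∧ V.Fv m j S.c = 0 ∧ V.Fv m j S.u = 0 ∧ V.Fv m j S.w = 1) := by
  have h0 := V.FvX m j 0
  have h1 := V.FvX m j 1
  rw [Finset.sum_congr rfl fun x _ => mul_comm (V.Fv m j x) (V.X 0 x)] at h0
  rw [Finset.sum_congr rfl fun x _ => mul_comm (V.Fv m j x) (V.X 1 x)] at h1
  have e0 := S.X0_sum (V.Fv m j)
  have e1 := S.X1_sum (V.Fv m j)
  simp only [Int.cast_id] at e0 e1
  rw [e0, V.Fv_one, if_pos rfl] at h0
  rw [e1, if_neg (by decide)] at h1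
  have hn : lsum S.L (V.Fv m j) (V.Fv m j) ≤ 3 := by
    have := lsum_self_le S.nd (V.Fv m j)
    rw [V.FvFv, if_pos rfl] at this
    exact this
  rw [S.lsum_fixed _ _ (V.s_Fv m j) (V.s_Fv m j), V.Fv_one] at hn
  generalize V.Fv m j S.a = a, V.Fv m j S.b = b, V.Fv m j S.c = c, V.Fv m j S.u = u,
    V.Fv m j S.w = w at *
  have ha1 : -1 ≤ a := by nlinarith
  have ha2 : a ≤ 1 := by nlinarith
  have hb1 : -1 ≤ b := by nlinarith
  have hb2 : b ≤ 1 := by nlinarith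
  have hu1 : -1 ≤ u := by nlinarith
  have hu2 : u ≤ 1 := by nlinarith
  obtain rfl : c = -a - b := by omega
  obtain rfl : w = 1 - a - b - u := by omega
  interval_cases a <;> interval_cases b <;> interval_cases u <;> first | omega | simp_all

theorem fv_pair (m : M) (j : Fin 3) :
    ∃ p, p ∉ S.L ∧ V.Fv m j p * V.Fv m j p = 1 ∧ ∀ x, x ∉ S.L → x ≠ p → V.Fv m j x = 0 := by
  refine exists_one (L := S.L) S.nd _ ?_
  rw [V.FvFv, if_pos rfl]
  rw [show lsum S.L (V.Fv m j) (V.Fv m j) = _ from S.lsum_fixed _ _ (V.s_Fv m j) (V.s_Fv m j), V.Fv_one]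
  rcases S.fv_sol m j with h | h | h | h <;> obtain ⟨h1, h2, h3, h4, h5⟩ := h <;>
    simp [h1, h2, h3, h4, h5]

theorem same_L (m : M) (j j' : Fin 3) : ∀ x ∈ S.L, V.Fv m j x = V.Fv m j' x := by
  have key : V.Fv m j S.a = V.Fv m j' S.a ∧ V.Fv m j S.b = V.Fv m j' S.b ∧ V.Fv m j S.u = V.Fv m j' S.u := by
    choose p hp hp1 hp2 using S.fv_pair m
    have hrel : ∀ i i', i ≠ i' → lsum S.L (V.Fv m i) (V.Fv m i') + V.Fv m i (p i) * V.Fv m i' (p i) = 2 := by
      intro i i' hne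
      have := sum_eq_lsum_add S.nd (V.Fv m i) (V.Fv m i') (hp i) (hp2 i)
      simp only [Int.cast_id] at this
      rw [V.FvFv, if_neg hne] at this
      exact this.symm
    have hle : ∀ i i', V.Fv m i (p i) * V.Fv m i' (p i) ≤ 1 := by
      intro i i'
      by_cases e : p i = p i'
      · rw [e]
        nlinarith [mul_self_nonneg (V.Fv m i (p i') - V.Fv m i' (p i')), hp1 i', (show V.Fv m i (p i') * V.Fv m i (p i') = 1 by rw [← e]; exact hp1 i)]
      · rw [hp2 i' _ (hp i) e, mul_zero]; norm_num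
    have hL : ∀ i i', lsum S.L (V.Fv m i) (V.Fv m i') =
        V.Fv m i S.a * V.Fv m i' S.a + V.Fv m i S.b * V.Fv m i' S.b + V.Fv m i S.c * V.Fv m i' S.c
          + 2 * (V.Fv m i S.u * V.Fv m i' S.u) + 2 * (V.Fv m i S.w * V.Fv m i' S.w) := by
      intro i i'
      rw [show lsum S.L (V.Fv m i) (V.Fv m i') = _ from S.lsum_fixed _ _ (V.s_Fv m i) (V.s_Fv m i'), V.Fv_one]
      ring
    by_cases hjj : j = j'
    · subst hjj; exact ⟨rfl, rfl, rfl⟩
    obtain ⟨j'', h1, h2⟩ : ∃ j'' : Fin 3, j'' ≠ j ∧ j'' ≠ j' := by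
      revert hjj; revert j j'; decide
    have hne : ∀ i i' : Fin 3, i ≠ i' → lsum S.L (V.Fv m i) (V.Fv m i') = 2 →
        p i ≠ p i' := by
      intro i i' hii h2' e
      have := hrel i i' hii
      rw [h2'] at this
      have h0 : V.Fv m i (p i) * V.Fv m i' (p i) = 0 := by omega
      rcases mul_eq_zero.1 h0 with h | h
      · have := hp1 i; rw [h] at this; simp at this
      · have := hp1 i'; rw [← e, h] at this; simp at this
    have heq : ∀ i i' : Fin 3, i ≠ i' → lsum S.L (V.Fv m i) (V.Fv m i') = 1 →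
        p i = p i' := by
      intro i i' hii h1'
      by_contra e
      have := hrel i i' hii
      rw [h1', hp2 i' _ (hp i) e] at this
      simp at this
    have r1 := hrel j j' hjj
    have r2 := hrel j'' j h1
    have r3 := hrel j'' j' h2
    have l1 := hle j j'
    have l2 := hle j'' j
    have l3 := hle j'' j'
    have n1 := hne j j' hjj
    have n2 := hne j'' j h1
    have n3 := hne j'' j' h2
    have q1 := heq j j' hjj
    have q2 := heq j'' j h1
    have q3 := heq j'' j' h2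
    rw [hL] at r1 r2 r3 n1 n2 n3 q1 q2 q3
    rcases S.fv_sol m j with h | h | h | h <;> obtain ⟨a1, b1, c1, u1, w1⟩ := h <;>
      rcases S.fv_sol m j' with h | h | h | h <;> obtain ⟨a2, b2, c2, u2, w2⟩ := h <;>
      rcases S.fv_sol m j'' with h | h | h | h <;> obtain ⟨a3, b3, c3, u3, w3⟩ := h <;>
      simp only [a1, b1, c1, u1, w1, a2, b2, c2, u2, w2, a3, b3, c3, u3, w3] at r1 r2 r3 n1 n2 n3 q1 q2 q3 ⊢ <;>
      first
      | (norm_num; done)
      | (exfalso; omega)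
      | (exfalso; norm_num at n1 n2 n3 q1 q2 q3; grind)
  obtain ⟨ka, kb, ku⟩ := key
  have kc : V.Fv m j S.c = V.Fv m j' S.c ∧ V.Fv m j S.w = V.Fv m j' S.w := by
    rcases S.fv_sol m j with h | h | h | h <;> rcases S.fv_sol m j' with h' | h' | h' | h' <;> omega
  intro x hx
  simp only [L, List.mem_cons, List.not_mem_nil, or_false] at hx
  rcases hx with rfl | rfl | rfl | rfl | rfl | rfl | rfl | rfl <;>
    simp [V.Fv_one, V.s_Fv, ka, kb, ku, kc.1, kc.2]

theorem exists_type (m : M) :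
    ∃ S' : ShapeP V, (∀ x, x ∈ S'.L ↔ x ∈ S.L) ∧ (S'.IsT m ∨ S'.IsU m) := by
  have hj : ∀ j, V.Fv m j S.a = V.Fv m 0 S.a ∧ V.Fv m j S.b = V.Fv m 0 S.b ∧ V.Fv m j S.c = V.Fv m 0 S.c ∧
      V.Fv m j S.u = V.Fv m 0 S.u ∧ V.Fv m j S.w = V.Fv m 0 S.w := fun j => by
    have h := S.same_L m j 0
    exact ⟨h _ (by simp [L]), h _ (by simp [L]), h _ (by simp [L]), h _ (by simp [L]), h _ (by simp [L])⟩
  rcases S.fv_sol m 0 with h | h | h | h
  · exact ⟨S.swapAB, S.mem_swapAB, Or.inl fun j => by simp [swapAB, hj j, h]⟩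
  · exact ⟨S, fun _ => Iff.rfl, Or.inl fun j => by simp [hj j, h]⟩
  · exact ⟨S, fun _ => Iff.rfl, Or.inr fun j => by simp [hj j, h]⟩
  · exact ⟨S.swapUW, S.mem_swapUW, Or.inr fun j => by simp [swapUW, hj j, h]⟩

theorem exists_orb (m : M) : Nonempty (Orb V S.L m) := by
  refine Orb.exists_orb V S.L m S.nd (fun j x hx => S.same_L m j 0 x hx) ?_
  rw [show lsum S.L (V.Fv m 0) (V.Fv m 0) = _ from S.lsum_fixed _ _ (V.s_Fv m 0) (V.s_Fv m 0), V.Fv_one]
  rcases S.fv_sol m 0 with h | h | h | h <;> obtain ⟨h1, h2, h3, h4, h5⟩ := h <;>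
    simp [h1, h2, h3, h4, h5]

theorem zero_on_L {f : ι → ℤ} (hs : ∀ x, f (V.s x) = f x) (ho : f V.o = 0) (ha : f S.a = 0) (hb : f S.b = 0)
    (hc : f S.c = 0) (hu : f S.u = 0) (hw : f S.w = 0) : ∀ x ∈ S.L, f x = 0 := by
  intro x hx
  simp only [L, List.mem_cons, List.not_mem_nil, or_false] at hx
  rcases hx with rfl | rfl | rfl | rfl | rfl | rfl | rfl | rfl <;> simp [hs, ho, ha, hb, hc, hu, hw]

theorem th_zero (n : M) : ∀ x ∈ S.L, V.Th n x = 0 := by
  obtain ⟨S', hS, ht⟩ := S.exists_type n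
  intro x hx
  revert x
  suffices ∀ x ∈ S'.L, V.Th n x = 0 from fun x hx => this x ((hS x).2 hx)
  obtain ⟨O⟩ := S'.exists_orb n
  have hb := O.th_bound
  rw [S'.lsum_fixed _ _ (V.s_Th n) (V.s_Th n), S'.lsum_fixed _ _ (V.s_Fv n 0) (V.s_Th n), V.Th_one,
    V.Fv_one] at hb
  have h0 := V.XTh 0 n
  have h1 := V.XTh 1 n
  have e0 := S'.X0_sum (V.Th n)
  have e1 := S'.X1_sum (V.Th n)
  simp only [Int.cast_id] at e0 e1
  rw [e0, V.Th_one] at h0
  rw [e1] at h1
  have key : V.Th n S'.a = 0 ∧ V.Th n S'.b = 0 ∧ V.Th n S'.c = 0 ∧ V.Th n S'.u = 0 ∧ V.Th n S'.w = 0 := by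
    rcases ht with h | h <;> simp only [h 0] at hb <;>
    · generalize V.Th n S'.a = a, V.Th n S'.b = b, V.Th n S'.c = c, V.Th n S'.u = u, V.Th n S'.w = w at *
      have hN : a * a + b * b + 2 * (u * u) ≤ 2 := by
        nlinarith [mul_self_nonneg (b - c + 1), mul_self_nonneg (b - c), mul_self_nonneg (2 * u + 1),
          mul_self_nonneg u, mul_self_nonneg c, mul_self_nonneg w]
      have ha1 : -1 ≤ a := by nlinarith
      have ha2 : a ≤ 1 := by nlinarith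
      have hb1 : -1 ≤ b := by nlinarith
      have hb2 : b ≤ 1 := by nlinarith
      have hu1 : -1 ≤ u := by nlinarith
      have hu2 : u ≤ 1 := by nlinarith
      obtain rfl : c = -a - b := by omega
      obtain rfl : w = -a - b - u := by omega
      interval_cases a <;> interval_cases b <;> interval_cases u <;> first | omega | simp_all
  exact S'.zero_on_L (V.s_Th n) (V.Th_one n) key.1 key.2.1 key.2.2.1 key.2.2.2.1 key.2.2.2.2

theorem tl_sol (l : Λ) (m : M) :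
    (S.IsT m → ∀ x ∈ S.L, V.Tl l x = 0) ∧
    (S.IsU m → V.Tl l S.c = 0 ∧ V.Tl l S.u = 0 ∧ V.Tl l S.w = 0 ∧ V.Tl l S.b = -V.Tl l S.a) := by
  obtain ⟨O⟩ := S.exists_orb m
  have hb := O.tl_bound l
  rw [S.lsum_fixed _ _ (V.s_Tl l) (V.s_Tl l), S.lsum_fixed _ _ (V.s_Fv m 0) (V.s_Tl l), V.Tl_one,
    V.Fv_one] at hb
  have h0 := V.XTl 0 l
  have h1 := V.XTl 1 l
  have e0 := S.X0_sum (V.Tl l)
  have e1 := S.X1_sum (V.Tl l)
  simp only [Int.cast_id] at e0 e1
  rw [e0, V.Tl_one] at h0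
  rw [e1] at h1
  constructor
  · intro h
    simp only [h 0] at hb
    have key : V.Tl l S.a = 0 ∧ V.Tl l S.b = 0 ∧ V.Tl l S.c = 0 ∧ V.Tl l S.u = 0 ∧ V.Tl l S.w = 0 := by
      generalize V.Tl l S.a = a, V.Tl l S.b = b, V.Tl l S.c = c, V.Tl l S.u = u, V.Tl l S.w = w at *
      have ha1 : -1 ≤ a := by nlinarith
      have ha2 : a ≤ 1 := by nlinarith
      have hb1 : -1 ≤ b := by nlinarith
      have hb2 : b ≤ 1 := by nlinarith
      have hu1 : -1 ≤ u := by nlinarith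
      have hu2 : u ≤ 1 := by nlinarith
      obtain rfl : c = -a - b := by omega
      obtain rfl : w = -a - b - u := by omega
      interval_cases a <;> interval_cases b <;> interval_cases u <;> first | omega | simp_all
    exact S.zero_on_L (V.s_Tl l) (V.Tl_one l) key.1 key.2.1 key.2.2.1 key.2.2.2.1 key.2.2.2.2
  · intro h
    simp only [h 0] at hb
    generalize V.Tl l S.a = a, V.Tl l S.b = b, V.Tl l S.c = c, V.Tl l S.u = u, V.Tl l S.w = w at *
    have ha1 : -1 ≤ a := by nlinarith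
    have ha2 : a ≤ 1 := by nlinarith
    have hb1 : -1 ≤ b := by nlinarith
    have hb2 : b ≤ 1 := by nlinarith
    have hu1 : -1 ≤ u := by nlinarith
    have hu2 : u ≤ 1 := by nlinarith
    obtain rfl : c = -a - b := by omega
    obtain rfl : w = -a - b - u := by omega
    interval_cases a <;> interval_cases b <;> interval_cases u <;> first | omega | simp_all

theorem f1_sol (m : M) :
    (S.IsT m → V.F1 m S.a = -1 ∧ V.F1 m S.b = 0 ∧ V.F1 m S.c = 0 ∧ V.F1 m S.u = -1 ∧ V.F1 m S.w = -1) ∧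
    (S.IsU m → V.F1 m S.a = -1 ∧ V.F1 m S.b = -1 ∧ V.F1 m S.c = 1 ∧ V.F1 m S.u = 0 ∧ V.F1 m S.w = -1) := by
  obtain ⟨O⟩ := S.exists_orb m
  have hb := O.f1_bound
  have hs := O.f1_strict (S.th_zero m)
  rw [S.lsum_fixed _ _ (V.s_F1 m) (V.s_F1 m), S.lsum_fixed _ _ (V.s_Fv m 0) (V.s_F1 m), V.F1_one,
    V.Fv_one] at hb hs
  have h0 := V.F1X m 0
  have h1 := V.F1X m 1
  rw [Finset.sum_congr rfl fun x _ => mul_comm (V.F1 m x) (V.X 0 x)] at h0
  rw [Finset.sum_congr rfl fun x _ => mul_comm (V.F1 m x) (V.X 1 x)] at h1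
  have e0 := S.X0_sum (V.F1 m)
  have e1 := S.X1_sum (V.F1 m)
  simp only [Int.cast_id] at e0 e1
  rw [e0, V.F1_one, if_pos rfl] at h0
  rw [e1, if_neg (by decide)] at h1
  constructor <;> intro h <;> simp only [h 0] at hb hs <;>
  · generalize V.F1 m S.a = a, V.F1 m S.b = b, V.F1 m S.c = c, V.F1 m S.u = u, V.F1 m S.w = w at *
    have ha1 : -2 ≤ a := by nlinarith
    have ha2 : a ≤ 2 := by nlinarith
    have hb1 : -2 ≤ b := by nlinarith
    have hb2 : b ≤ 2 := by nlinarith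
    have hu1 : -1 ≤ u := by nlinarith
    have hu2 : u ≤ 1 := by nlinarith
    obtain rfl : c = -1 - a - b := by omega
    obtain rfl : w = -3 - a - b - u := by omega
    interval_cases a <;> interval_cases b <;> interval_cases u <;> first | omega | simp_all

theorem exists_star (m : M) (h : S.IsT m ∨ S.IsU m) : Nonempty (Star V S.L m) := by
  obtain ⟨O⟩ := S.exists_orb m
  have hf := S.f1_sol m
  obtain ⟨T, -⟩ := O.exists_star
    (by
      rw [S.lsum_fixed _ _ (V.s_Fv m 0) (V.s_F1 m), V.Fv_one]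
      rcases h with h | h
      · simp [h 0, hf.1 h]
      · simp [h 0, hf.2 h])
    (by
      rw [S.lsum_fixed _ _ (V.s_F1 m) (V.s_F1 m), V.F1_one]
      rcases h with h | h
      · simp [hf.1 h]
      · simp [hf.2 h])
  exact ⟨T⟩

theorem kappa (m n : M) : V.F1 n S.c = V.F1 m S.c ∧ V.F1 n S.u = V.F1 m S.u ∧ V.F1 n S.w = V.F1 m S.w := by
  let D : ι → ℤ := fun x => V.F1 n x - V.F1 m x
  have hD : lsum S.L D D ≤ 2 := le_trans (lsum_self_le S.nd D) (V.sub_le_two m n)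
  have hs : ∀ x, D (V.s x) = D x := fun x => by simp [D, V.s_F1]
  have hX : ∀ i, ∑ x, V.X i x * D x = 0 := fun i => by
    simp only [D, mul_sub, Finset.sum_sub_distrib]
    rw [Finset.sum_congr rfl fun x _ => mul_comm (V.X i x) (V.F1 n x),
      Finset.sum_congr rfl fun x _ => mul_comm (V.X i x) (V.F1 m x), V.F1X, V.F1X, sub_self]
  rw [S.lsum_fixed D D hs hs] at hD
  have e0 := S.X0_sum D
  have e1 := S.X1_sum D
  simp only [Int.cast_id] at e0 e1
  rw [hX] at e0 e1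
  have ho : D V.o = 0 := by simp [D, V.F1_one]
  rw [ho] at hD e0
  suffices D S.c = 0 ∧ D S.u = 0 ∧ D S.w = 0 by
    simp only [D, sub_eq_zero] at this; exact this
  generalize D S.a = a, D S.b = b, D S.c = c, D S.u = u, D S.w = w at *
  have ha1 : -1 ≤ a := by nlinarith
  have ha2 : a ≤ 1 := by nlinarith
  have hb1 : -1 ≤ b := by nlinarith
  have hb2 : b ≤ 1 := by nlinarith
  have hu1 : -1 ≤ u := by nlinarith
  have hu2 : u ≤ 1 := by nlinarith
  obtain rfl : c = -a - b := by omega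
  obtain rfl : w = -a - b - u := by omega
  interval_cases a <;> interval_cases b <;> interval_cases u <;> first | omega | simp_all

theorem z_val (x : ι) (hx : x ∈ S.L) :
    V.z x = V.X 0 x + h * (V.X 1 x + V.X 2 x) + (Q + 1) * ∑ l, V.Tl l x := by
  rw [V.z_eq, Finset.sum_eq_zero fun n _ => S.th_zero n x hx]
  ring

theorem z_points :
    (V.z V.o = 1) ∧ (V.z S.a = Q + (Q + 1) * ∑ l, V.Tl l S.a) ∧ (V.z S.b = Q + (Q + 1) * ∑ l, V.Tl l S.b) ∧
    (V.z S.c = 1 + (Q + 1) * ∑ l, V.Tl l S.c) ∧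
    (V.z S.u = h + (Q + 1) * ∑ l, V.Tl l S.u) ∧ (V.z S.w = h + (Q + 1) * ∑ l, V.Tl l S.w) ∧
    (V.z (V.s S.u) = h + (Q + 1) * ∑ l, V.Tl l S.u) ∧ (V.z (V.s S.w) = h + (Q + 1) * ∑ l, V.Tl l S.w) := by
  have hm : ∀ x ∈ [V.o, S.a, S.b, S.c, S.u, S.w, V.s S.u, V.s S.w], x ∈ S.L := fun x hx => hx
  have nd := S.nd
  simp at nd
  have hQ := V.hh
  refine ⟨?_, ?_, ?_, ?_, ?_, ?_, ?_, ?_⟩ <;> rw [S.z_val _ (hm _ (by simp))] <;>
    simp only [S.X0, S.X1, S.X2, List.mem_cons, List.not_mem_nil, or_false, V.s_Tl, V.Tl_one,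
      Finset.sum_const_zero]
  all_goals grind

theorem deg_X : 1 + V.d S.a + V.d S.b + V.d S.c = 0 ∧ V.d S.a + V.d S.b + V.d S.u + V.d S.w = 0 := by
  have e0 := S.X0_sum V.d
  have e1 := S.X1_sum V.d
  simp only [Int.cast_id] at e0 e1
  rw [V.X_deg, V.d_o] at e0
  rw [V.X_deg] at e1
  exact ⟨e0.symm, e1.symm⟩

theorem conclusion_T (m : M) (hT : S.IsT m) :
    (V.g : ℚ) = (Q : ℚ) ^ 3 * ((Q : ℚ) ^ 2 - 1) * ((Q : ℚ) ^ 2 - Q + 1) ∧ ∃ r : ℚ, 3 * r ^ 2 = (Q : ℚ) := by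
  obtain ⟨T⟩ := S.exists_star m (Or.inl hT)
  obtain ⟨f1, f2, f3, f4, f5⟩ := (S.f1_sol m).1 hT
  have htl : ∀ l, ∀ x ∈ S.L, V.Tl l x = 0 := fun l => (S.tl_sol l m).1 hT
  obtain ⟨zo, za, zb, zc, zu, zw, zu', zw'⟩ := S.z_points
  simp [htl _ S.a (by simp [L]), htl _ S.b (by simp [L]), htl _ S.c (by simp [L]),
    htl _ S.u (by simp [L]), htl _ S.w (by simp [L])] at za zb zc zu zw zu' zw'
  obtain ⟨d1, d2⟩ := S.deg_X
  have hv := T.fv_pairs S.X_out S.th_zero (fun l => lsum_eq_zero_of_zero _ _ (htl l)) 0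
  have hp := T.f1_pairs S.X_out S.th_zero (fun l => lsum_eq_zero_of_zero _ _ (htl l))
  have dv := T.fv_deg 0
  have dp := T.f1_deg
  have h0 := V.pairsX0
  have h1 := V.pairsX1
  rw [S.X0_sum, zo, za, zb, zc, V.d_o] at h0
  rw [S.X1_sum, za, zb, zu, zw] at h1
  rw [S.lsum_L] at hv hp dv dp
  simp only [hT 0, f1, f2, f3, f4, f5, V.F1_one, V.Fv_one, V.s_Fv, V.s_F1, V.s_d, zo, za, zb, zc, zu, zw,
    zu', zw', Int.cast_id, V.d_o] at hv hp dv dp
  have ev : T.ε 0 * V.d (T.η 0) = V.d S.c - V.d S.b := by linear_combination dv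
  have ep : T.εp * V.d T.p = V.d S.c - V.d S.b := by linear_combination dp - d1 + 2 * d2
  rw [ev] at hv
  rw [ep] at hp
  have hne : V.d S.b ≠ V.d S.c := fun e => by
    have : T.ε 0 * V.d (T.η 0) ≠ 0 :=
      mul_ne_zero (fun h0' => by simpa [h0'] using T.hε 0) (V.d_ne _)
    rw [ev, e, sub_self] at this
    exact this rfl
  have hsw : ∀ x : ℚ, x / ((V.d S.b : ℚ) - V.d S.c) = -(x / ((V.d S.c : ℚ) - V.d S.b)) := fun x => by
    rw [← div_neg, neg_sub]
  refine order_of_first Q (V.d S.a) (V.d S.b) (V.d S.c) (V.d S.u) (V.d S.w) _ _ _ _ (h : ℚ)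
    (le_trans (by norm_num) V.hQ) (by exact_mod_cast V.hh) V.Rhs'
    (V.d_ne _) (V.d_ne _) (V.d_ne _) (V.d_ne _) (V.d_ne _) hne d1 d2 ?_ ?_ ?_ ?_
  · rw [← h0]; push_cast; ring
  · rw [← h1]
  · rw [hsw]; push_cast at hv ⊢; linear_combination hv
  · rw [hsw, ← hp]; push_cast; ring

theorem false_U (m : M) (hU : S.IsU m) : False := by
  obtain ⟨T⟩ := S.exists_star m (Or.inr hU)
  obtain ⟨f1, f2, f3, f4, f5⟩ := (S.f1_sol m).2 hU
  have htl : ∀ l, V.Tl l S.c = 0 ∧ V.Tl l S.u = 0 ∧ V.Tl l S.w = 0 ∧ V.Tl l S.b = -V.Tl l S.a :=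
    fun l => (S.tl_sol l m).2 hU
  obtain ⟨zo, -, -, zc, zu, zw, zu', zw'⟩ := S.z_points
  simp [fun l => (htl l).1, fun l => (htl l).2.1, fun l => (htl l).2.2.1] at zc zu zw zu' zw'
  obtain ⟨d1, d2⟩ := S.deg_X
  have hf : ∀ l, lsum S.L (V.F1 m) (V.Tl l) = 0 := fun l => by
    rw [S.lsum_fixed _ _ (V.s_F1 m) (V.s_Tl l)]
    simp [f1, f2, f3, f4, f5, V.Tl_one, htl l]
  have hp := T.f1_pairs S.X_out S.th_zero hf
  have dp := T.f1_deg
  have h0 := V.pairsX0
  have h1 := V.pairsX1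
  rw [S.X0_sum, zo, zc, V.d_o] at h0
  rw [S.X1_sum, zu, zw] at h1
  rw [S.lsum_L] at hp dp
  simp only [f1, f2, f3, f4, f5, V.F1_one, V.s_F1, V.s_d, zo, zc, zu, zw, zu', zw', Int.cast_id,
    V.d_o] at hp dp
  have dW : V.d S.w = V.d S.c + 1 - V.d S.u := by linear_combination d2 - d1
  have ep : T.εp * V.d T.p = -(2 * V.d S.u) := by linear_combination dp + d1 + 2 * dW
  rw [ep] at hp
  have cU := V.congr S.u 0 fun n => by rw [(S.kappa m n).2.1, f4]
  have cW := V.congr S.w (-1) fun n => by rw [(S.kappa m n).2.2, f5]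
  have cC := V.congr S.c 1 fun n => by rw [(S.kappa m n).1, f3]
  rw [zu] at cU
  rw [zw] at cW
  rw [zc] at cC
  refine false_of_second Q k h (V.d S.c) (V.d S.u) (V.d S.w) V.g
    ((V.z S.a : ℚ) ^ 2 / (V.d S.a : ℚ) + (V.z S.b : ℚ) ^ 2 / (V.d S.b : ℚ)) _ _ _
    V.hQ8 V.hQ V.hk V.hh V.hk3 V.hk1 V.Rhs' V.g_dvd (V.d_ne _) (V.d_ne _) (V.d_ne _) dW ?_ ?_ ?_ ?_ ?_ ?_
  · rw [← h0]; push_cast; ring
  · rw [← h1]
  · rw [← hp]
    have hh : 2 * (h : ℚ) = (Q : ℚ) - 1 := by exact_mod_cast V.hh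
    rw [← hh]
    have : (V.d S.u : ℚ) ≠ 0 := Int.cast_ne_zero.2 (V.d_ne _)
    push_cast
    field_simp
    ring
  · simpa using cU
  · rwa [show V.d S.w + 3 * h + 4 = V.d S.w + 3 * h - 4 * (-1) by ring]
  · rwa [show V.d S.c - 1 = V.d S.c + 3 * 1 - 4 * 1 by ring]

include S in
theorem conclusion :
    (V.g : ℚ) = (Q : ℚ) ^ 3 * ((Q : ℚ) ^ 2 - 1) * ((Q : ℚ) ^ 2 - Q + 1) ∧ ∃ r : ℚ, 3 * r ^ 2 = (Q : ℚ) := by
  obtain ⟨S', -, h | h⟩ := S.exists_type V.m0
  · exact S'.conclusion_T V.m0 h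
  · exact (S'.false_U V.m0 h).elim

end ShapeP

end CfsgLib.JT
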