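import Cfsg.Agent.JankoThompson.Arith
import Mathlib.Tactic.Positivity
import Mathlib.Tactic.Linarith

/-!
The third pattern of the principal 2-block (a character fixed by the field automorphism in both
exceptional columns): its two equations have no solution in integers.
-/

set_option autoImplicit false

namespace CfsgLib.JT

private def t5 (k : ℤ) : ℤ := 112 * k ^ 3 - 64 * k ^ 2 + 9 * k
private def t4 (k : ℤ) : ℤ := 2048 * k ^ 5 - 3840 * k ^ 4 + 3520 * k ^ 3 - 1184 * k ^ 2 + 96 * k + 9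
private def t3 (k : ℤ) : ℤ :=
  16384 * k ^ 7 - 49152 * k ^ 6 + 67584 * k ^ 5 - 51200 * k ^ 4 + 23296 * k ^ 3 - 4288 * k ^ 2 - 264 * k + 120
private def t2 (k : ℤ) : ℤ := 6144 * k ^ 4 - 9216 * k ^ 3 + 9472 * k ^ 2 - 3744 * k + 472
private def t1 (k : ℤ) : ℤ := -4096 * k ^ 5 + 12288 * k ^ 4 - 14080 * k ^ 3 + 11520 * k ^ 2 - 4080 * k + 480
private def t0 (k : ℤ) : ℤ := -1024 * k ^ 3 + 2560 * k ^ 2 - 1152 * k + 144

set_option maxRecDepth 20000 in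
private theorem third_bound (k : ℤ) (hk : 1 < |k|) :
    4 * |t5 k| * (|t0 k| + |t1 k| + |t2 k|) < 4 * t3 k * t5 k - t4 k ^ 2 := by
  rcases lt_abs.1 hk with h | h
  · obtain ⟨n, hn⟩ := Int.eq_ofNat_of_zero_le (show 0 ≤ k - 2 by omega)
    obtain rfl : k = (n : ℤ) + 2 := by omega
    clear hn h hk
    have e5 : 0 ≤ t5 ((n : ℤ) + 2) := by unfold t5; ring_nf; positivity
    have e2 : 0 ≤ t2 ((n : ℤ) + 2) := by clear e5; unfold t2; ring_nf; positivity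
    have e1 : 0 ≤ -t1 ((n : ℤ) + 2) := by clear e5 e2; unfold t1; ring_nf; positivity
    have e0 : 0 ≤ -t0 ((n : ℤ) + 2) := by clear e5 e2 e1; unfold t0; ring_nf; positivity
    rw [abs_of_nonneg e5, abs_of_nonneg e2, abs_of_nonpos (neg_nonneg.1 e1), abs_of_nonpos (neg_nonneg.1 e0),
      ← sub_pos]
    clear e5 e2 e1 e0
    simp only [t0, t1, t2, t3, t4, t5]
    ring_nf
    positivity
  · obtain ⟨n, hn⟩ := Int.eq_ofNat_of_zero_le (show 0 ≤ -k - 2 by omega)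
    obtain rfl : k = -(n : ℤ) - 2 := by omega
    clear hn h hk
    have e5 : 0 ≤ -t5 (-(n : ℤ) - 2) := by unfold t5; ring_nf; positivity
    have e2 : 0 ≤ t2 (-(n : ℤ) - 2) := by clear e5; unfold t2; ring_nf; positivity
    have e1 : 0 ≤ t1 (-(n : ℤ) - 2) := by clear e5 e2; unfold t1; ring_nf; positivity
    have e0 : 0 ≤ t0 (-(n : ℤ) - 2) := by clear e5 e2 e1; unfold t0; ring_nf; positivity
    rw [abs_of_nonpos (neg_nonneg.1 e5), abs_of_nonneg e2, abs_of_nonneg e1, abs_of_nonneg e0, ← sub_pos]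
    clear e5 e2 e1 e0
    simp only [t0, t1, t2, t3, t4, t5]
    ring_nf
    positivity

/-- The quintic of the third pattern has no root in nonzero integers. -/
theorem third_quintic_ne_zero (k b : ℤ) (hk : 1 < |k|) (hb : b ≠ 0) :
    ((1 + k * b) * (4 * k - 1) * (b + 2) ^ 2 + 8 * (2 * k - 1) ^ 3 * b * (2 * k * b + 1)) *
        (8 * (2 * k - 1) * (b + 4 * k) * (2 * k * b + 1) - (4 * (2 * k - 1) - 5) * (4 * k - 1) * (b + 2) ^ 2) -
      32 * (2 * k - 1) ^ 3 * b * (2 * k * b + 1) * (4 * k - 1) * (b + 2) ^ 2 ≠ 0 := by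
  intro h0
  have hG : b ^ 3 * ((2 * t5 k * b + t4 k) ^ 2 + (4 * t3 k * t5 k - t4 k ^ 2)) =
      -(4 * t5 k * (t2 k * b ^ 2 + t1 k * b + t0 k)) := by
    simp only [t0, t1, t2, t3, t4, t5]
    linear_combination (4 * (112 * k ^ 3 - 64 * k ^ 2 + 9 * k)) * h0
  have hD := third_bound k hk
  generalize t5 k = a5, t4 k = a4, t3 k = a3, t2 k = a2, t1 k = a1, t0 k = a0 at hG hD
  have hb1 : 1 ≤ |b| := Int.one_le_abs hb
  have h3 : 0 < |b| ^ 3 := by positivity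
  have hR : |a2 * b ^ 2 + a1 * b + a0| ≤ |b| ^ 3 * (|a0| + |a1| + |a2|) := by
    have e2 : |b| ^ 2 ≤ |b| ^ 3 := pow_le_pow_right₀ hb1 (by norm_num)
    have e1 : |b| ≤ |b| ^ 3 := le_self_pow₀ hb1 (by norm_num)
    have := abs_add_three (a2 * b ^ 2) (a1 * b) a0
    rw [abs_mul, abs_mul, abs_pow] at this
    nlinarith [mul_le_mul_of_nonneg_left e2 (abs_nonneg a2), mul_le_mul_of_nonneg_left e1 (abs_nonneg a1),
      mul_le_mul_of_nonneg_left (one_le_pow₀ (n := 3) hb1) (abs_nonneg a0)]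
  have hL := congrArg abs hG
  rw [abs_mul, abs_pow, abs_neg, abs_mul, abs_mul, abs_of_nonneg (show (0 : ℤ) ≤ 4 by norm_num)] at hL
  have hA : 4 * a3 * a5 - a4 ^ 2 ≤ |(2 * a5 * b + a4) ^ 2 + (4 * a3 * a5 - a4 ^ 2)| :=
    le_trans (le_add_of_nonneg_left (sq_nonneg _)) (le_abs_self _)
  nlinarith [mul_le_mul_of_nonneg_left hA h3.le, mul_lt_mul_of_pos_left hD h3,
    mul_le_mul_of_nonneg_left hR (show (0 : ℤ) ≤ 4 * |a5| by positivity)]

/-- The third pattern is impossible. -/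
theorem false_of_third (Q k h A B U W : ℤ) (g R1 R2 R3 : ℚ) (hQ8 : Q % 8 = 3) (hQ : 5 ≤ |Q|)
    (hk : 4 * k = Q + 1) (hh : 2 * h = Q - 1) (hk1 : 1 < |k|) (hR : Rhs (Q : ℚ) g R1 R2 R3) (hA : A ≠ 0)
    (hB : B ≠ 0) (hU : U ≠ 0) (hW : W ≠ 0) (dA : A = -1 - 2 * B) (dU : U = 1 + B - W)
    (e1 : 1 + (Q : ℚ) ^ 2 / A + 2 * (1 + h : ℚ) ^ 2 / B = R1)
    (e2 : (Q : ℚ) ^ 2 / A + (1 + h : ℚ) ^ 2 / B + 4 * (h : ℚ) ^ 2 / U + (h : ℚ) ^ 2 / W = R2)
    (e3 : 1 - (Q : ℚ) ^ 2 / A - 8 * (h : ℚ) ^ 2 / U - 18 * (h : ℚ) ^ 2 / W = R3)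
    (cB : k ∣ B + 3 * (1 + h)) : False := by
  have hh2 : h = 2 * k - 1 := by omega
  have hQk : Q = 4 * k - 1 := by omega
  obtain ⟨b, hb⟩ : k ∣ B := by
    have := dvd_sub cB (dvd_mul_left k 6)
    rwa [show B + 3 * (1 + h) - 6 * k = B by omega] at this
  have hk0 : k ≠ 0 := by rintro rfl; simp at hk1
  have hb0 : b ≠ 0 := by rintro rfl; simp [hb] at hB
  subst hb
  have hh0 : h ≠ 0 := by omega
  refine third_quintic_ne_zero k b hk1 hb0 ?_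
  rw [← hh2, show 4 * k - 1 = Q by omega]
  -- over the rationals
  have hA' : (A : ℚ) ≠ 0 := Int.cast_ne_zero.2 hA
  have hU' : (U : ℚ) ≠ 0 := Int.cast_ne_zero.2 hU
  have hW' : (W : ℚ) ≠ 0 := Int.cast_ne_zero.2 hW
  have hk' : (k : ℚ) ≠ 0 := Int.cast_ne_zero.2 hk0
  have hb' : (b : ℚ) ≠ 0 := Int.cast_ne_zero.2 hb0
  have hQ0 : (Q : ℚ) ≠ 0 := Int.cast_ne_zero.2 (by omega)
  have hhq : (h : ℚ) = 2 * k - 1 := by exact_mod_cast hh2
  have hQq : (Q : ℚ) = 4 * k - 1 := by exact_mod_cast hQk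
  have hAq : (A : ℚ) = -1 - 2 * (k * b) := by exact_mod_cast dA
  push_cast at e1 e2
  have k1 : -16 * ((h : ℚ) ^ 2 / W) = R3 + 2 * R2 - R1 := by linear_combination e3 + 2 * e2 - e1
  have k3 : (R3 + 2 * R2 - R1) * ((Q : ℚ) ^ 2 - 1) = 8 * Q * R1 := by
    linear_combination ((Q : ℚ) + 1) * hR.r3 + 2 * hR.r2
  have hR1 : R1 * ((Q : ℚ) * W) = -2 * (h : ℚ) ^ 2 * ((Q : ℚ) ^ 2 - 1) := by
    rw [← k1] at k3
    field_simp at k3
    linear_combination -(1 / 8 : ℚ) * k3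
  -- first equation
  have hW1 : (Q : ℚ) * W * ((b : ℚ) + 2) ^ 2 + 8 * (h : ℚ) ^ 3 * b * (2 * k * b + 1) = 0 := by
    rw [← e1] at hR1
    have h2 : (1 : ℚ) + h = 2 * k := by linear_combination hhq
    rw [h2] at hR1
    field_simp at hR1
    simp only [hhq, hQq, hAq] at hR1 ⊢
    refine mul_left_cancel₀ hk' ?_
    linear_combination (-1 / 2 : ℚ) * hR1
  -- second equation
  have hW2 : 4 * (h : ℚ) ^ 2 * b * W =
      U * (((b : ℚ) + 4 * k) * W + (h : ℚ) ^ 2 * (4 * h - 5) * b) := by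
    have k4 : (R2 - R1) * ((Q : ℚ) ^ 2 - 1) = R1 * (3 * Q - Q ^ 2) := by linear_combination hR.r2
    have hQs : (Q : ℚ) ^ 2 - 1 ≠ 0 := by
      have : (Q : ℤ) ^ 2 - 1 ≠ 0 := by
        intro e; rcases mul_eq_zero.1 (show (Q - 1) * (Q + 1) = 0 by linear_combination e) with e' | e' <;> omega
      exact_mod_cast this
    have k5 : (R2 - R1) * (W : ℚ) = -2 * (h : ℚ) ^ 2 * (3 - Q) := by
      refine mul_right_cancel₀ hQs (mul_right_cancel₀ hQ0 ?_)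
      linear_combination (W : ℚ) * Q * k4 + (3 * (Q : ℚ) - Q ^ 2) * hR1
    rw [← e2, ← e1, show (1 : ℚ) + h = 2 * k by linear_combination hhq] at k5
    field_simp at k5
    simp only [hhq, hQq] at k5 ⊢
    refine mul_left_cancel₀ hA' ?_
    linear_combination k5
  have hUq : (U : ℚ) = 1 + k * b - W := by exact_mod_cast dU
  have key : (h : ℚ) ^ 2 * b * (((1 + (k : ℚ) * b) * Q * (b + 2) ^ 2 + 8 * (h : ℚ) ^ 3 * b * (2 * k * b + 1)) *
        (8 * (h : ℚ) * (b + 4 * k) * (2 * k * b + 1) - (4 * (h : ℚ) - 5) * Q * (b + 2) ^ 2) -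
      32 * (h : ℚ) ^ 3 * b * (2 * k * b + 1) * Q * (b + 2) ^ 2) = 0 := by
    rw [hUq] at hW2
    linear_combination ((Q : ℚ) * ((b : ℚ) + 2) ^ 2) ^ 2 * hW2
        + ((Q : ℚ) * ((b : ℚ) + 2) ^ 2 * ((1 + (k : ℚ) * b - W) * ((b : ℚ) + 4 * k) - 4 * (h : ℚ) ^ 2 * b
            - (h : ℚ) ^ 2 * b * (4 * (h : ℚ) - 5))
          + ((b : ℚ) + 4 * k) * (8 * (h : ℚ) ^ 3 * b * (2 * k * b + 1))) * hW1
  have := mul_eq_zero.1 key
  rcases this with e | e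
  · exact absurd e (mul_ne_zero (pow_ne_zero 2 (Int.cast_ne_zero.2 hh0)) hb')
  · exact_mod_cast e

end CfsgLib.JT
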