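import Cfsg.Agent.JankoThompson.PatternShape
import Cfsg.Agent.JankoThompson.PatternArith
import Mathlib.Tactic.FinCases

/-!
The second shape is impossible.
-/

set_option autoImplicit false

namespace CfsgLib.JT

universe u v w

open Classical

variable {ι : Type u} {M : Type v} {Λ : Type w} [Fintype ι] [Fintype M] [Fintype Λ] {Q k h : ℤ} {V : SVecs ι M Λ Q k h}

/-- The seven points of the second shape. -/
def ShapeQ.L (S : ShapeQ V) : List ι := [V.o, S.a, S.b, V.s S.b, S.u, S.w, V.s S.w]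

namespace ShapeQ

variable (S : ShapeQ V)

theorem lsum_L {R : Type*} [CommRing R] (f : ι → ℤ) (g : ι → R) :
    lsum S.L f g = (f V.o : R) * g V.o + (f S.a : R) * g S.a + (f S.b : R) * g S.b
      + (f (V.s S.b) : R) * g (V.s S.b) + (f S.u : R) * g S.u + (f S.w : R) * g S.w
      + (f (V.s S.w) : R) * g (V.s S.w) := by
  simp only [L, lsum, List.map_cons, List.map_nil, List.sum_cons, List.sum_nil]
  ring

theorem lsum_fixed (f g : ι → ℤ) (hf : ∀ x, f (V.s x) = f x) (hg : ∀ x, g (V.s x) = g x) :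
    lsum S.L f g = f V.o * g V.o + f S.a * g S.a + 2 * (f S.b * g S.b) + f S.u * g S.u
      + 2 * (f S.w * g S.w) := by
  rw [lsum_L]
  simp only [Int.cast_id, hf, hg]
  ring

theorem lsum_cons (p : ι) (f g : ι → ℤ) : lsum (p :: S.L) f g = f p * g p + lsum S.L f g := by
  simp [lsum]

theorem X0_sum {R : Type*} [CommRing R] (g : ι → R) :
    ∑ x, (V.X 0 x : R) * g x = g V.o + g S.a + g S.b + g (V.s S.b) := by
  have hnd : [V.o, S.a, S.b, V.s S.b].Nodup := S.nd.sublist (by simp)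
  rw [sum_eq_lsum hnd _ g fun x hx => by rw [S.X0, if_neg hx]]
  simp only [lsum, List.map_cons, List.map_nil, List.sum_cons, List.sum_nil, S.X0, List.mem_cons, true_or,
    or_true, if_true, Int.cast_one, one_mul]
  ring

theorem X1_sum {R : Type*} [CommRing R] (g : ι → R) :
    ∑ x, (V.X 1 x : R) * g x = g S.a + g S.b + g S.u + g S.w := by
  have hnd : [S.a, S.b, S.u, S.w].Nodup := by
    have := S.nd; simp at this ⊢; grind
  rw [sum_eq_lsum hnd _ g fun x hx => by rw [S.X1, if_neg hx]]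
  simp only [lsum, List.map_cons, List.map_nil, List.sum_cons, List.sum_nil, S.X1, List.mem_cons, true_or,
    or_true, if_true, Int.cast_one, one_mul]
  ring

theorem X_out (i : Fin 3) (x : ι) (hx : x ∉ S.L) : V.X i x = 0 := by
  simp only [L, List.mem_cons, List.not_mem_nil, or_false, not_or] at hx
  fin_cases i
  · simp [S.X0, hx]
  · simp [S.X1, hx]
  · simp [S.X2, hx]

/-- The two linear relations of a function fixed by the field automorphism. -/
theorem relations (f : ι → ℤ) (hs : ∀ x, f (V.s x) = f x) :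
    ∑ x, V.X 0 x * f x = f V.o + f S.a + 2 * f S.b ∧
      ∑ x, V.X 1 x * f x = f S.a + f S.b + f S.u + f S.w := by
  have e0 := S.X0_sum f
  have e1 := S.X1_sum f
  simp only [Int.cast_id, hs] at e0 e1
  exact ⟨by rw [e0]; ring, e1⟩

theorem zero_on_L {f : ι → ℤ} (hs : ∀ x, f (V.s x) = f x) (ho : f V.o = 0) (ha : f S.a = 0) (hb : f S.b = 0)
    (hu : f S.u = 0) (hw : f S.w = 0) : ∀ x ∈ S.L, f x = 0 := by
  intro x hx
  simp only [L, List.mem_cons, List.not_mem_nil, or_false] at hx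
  rcases hx with rfl | rfl | rfl | rfl | rfl | rfl | rfl <;> simp [hs, ho, ha, hb, hu, hw]

theorem fv_sol (m : M) (j : Fin 3) :
    (V.Fv m j S.a = 0 ∧ V.Fv m j S.b = 0 ∧ V.Fv m j S.u = 0 ∧ V.Fv m j S.w = 1) ∨
    (V.Fv m j S.a = 0 ∧ V.Fv m j S.b = 0 ∧ V.Fv m j S.u = 1 ∧ V.Fv m j S.w = 0) := by
  have h0 := V.FvX m j 0
  have h1 := V.FvX m j 1
  rw [Finset.sum_congr rfl fun x _ => mul_comm (V.Fv m j x) (V.X 0 x)] at h0
  rw [Finset.sum_congr rfl fun x _ => mul_comm (V.Fv m j x) (V.X 1 x)] at h1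
  obtain ⟨e0, e1⟩ := S.relations _ (V.s_Fv m j)
  rw [e0, V.Fv_one, if_pos rfl] at h0
  rw [e1, if_neg (by decide)] at h1
  have hn : lsum S.L (V.Fv m j) (V.Fv m j) ≤ 3 := by
    have := lsum_self_le (L := S.L) S.nd (V.Fv m j)
    rw [V.FvFv, if_pos rfl] at this
    exact this
  rw [S.lsum_fixed _ _ (V.s_Fv m j) (V.s_Fv m j), V.Fv_one] at hn
  generalize V.Fv m j S.a = a, V.Fv m j S.b = b, V.Fv m j S.u = u, V.Fv m j S.w = w at *
  have hb1 : -1 ≤ b := by nlinarith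
  have hb2 : b ≤ 1 := by nlinarith
  have hu1 : -1 ≤ u := by nlinarith
  have hu2 : u ≤ 1 := by nlinarith
  obtain rfl : a = -2 * b := by omega
  obtain rfl : w = 1 + b - u := by omega
  interval_cases b <;> interval_cases u <;> omega

/-- The functions of the orbit of `m` are `w + sw` outside the exceptional points. -/
def IsW (m : M) : Prop :=
  ∀ j, V.Fv m j S.a = 0 ∧ V.Fv m j S.b = 0 ∧ V.Fv m j S.u = 0 ∧ V.Fv m j S.w = 1

/-- The functions of the orbit of `m` are `u` on the seven points. -/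
def IsU (m : M) : Prop :=
  ∀ j, V.Fv m j S.a = 0 ∧ V.Fv m j S.b = 0 ∧ V.Fv m j S.u = 1 ∧ V.Fv m j S.w = 0

theorem exists_type (m : M) : S.IsW m ∨ S.IsU m := by
  have key : ∀ i j, V.Fv m i S.w = 1 → V.Fv m j S.w = 1 := by
    intro i j hi
    rcases S.fv_sol m j with h | h
    · exact h.2.2.2
    exfalso
    obtain ⟨ha, hb, hu, hw⟩ := h
    rcases S.fv_sol m i with h | h
    swap
    · omega
    obtain ⟨ha', hb', hu', hw'⟩ := h
    have hij : i ≠ j := fun e => by subst e; omega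
    obtain ⟨p, hp, hp1, hp2⟩ := exists_one (L := S.L) S.nd (V.Fv m i) (by
      rw [V.FvFv, if_pos rfl, S.lsum_fixed _ _ (V.s_Fv m i) (V.s_Fv m i), V.Fv_one, ha', hb', hu', hw']
      norm_num)
    have h := sum_eq_lsum_add (L := S.L) S.nd (V.Fv m i) (V.Fv m j) hp hp2
    simp only [Int.cast_id] at h
    rw [V.FvFv, if_neg hij, S.lsum_fixed _ _ (V.s_Fv m i) (V.s_Fv m j), V.Fv_one, ha', hb', hu', hw',
      hw] at h
    have hle : lsum (p :: S.L) (V.Fv m j) (V.Fv m j) ≤ 3 := by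
      have := lsum_self_le (L := p :: S.L) (List.nodup_cons.2 ⟨hp, S.nd⟩) (V.Fv m j)
      rw [V.FvFv, if_pos rfl] at this
      exact this
    rw [S.lsum_cons, S.lsum_fixed _ _ (V.s_Fv m j) (V.s_Fv m j), V.Fv_one, ha, hb, hu, hw] at hle
    nlinarith [mul_self_nonneg (V.Fv m j p - V.Fv m i p)]
  rcases S.fv_sol m 0 with h | h
  · left
    intro j
    rcases S.fv_sol m j with h' | h'
    · exact h'
    · have := key 0 j h.2.2.2; omega
  · right
    intro j
    rcases S.fv_sol m j with h' | h'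
    · have := key j 0 h'.2.2.2; omega
    · exact h'

theorem orbW (m : M) (hW : S.IsW m) : Nonempty (Orb V S.L m) := by
  refine Orb.exists_orb V S.L m S.nd (fun j => ?_) ?_
  · intro x hx
    simp only [L, List.mem_cons, List.not_mem_nil, or_false] at hx
    rcases hx with rfl | rfl | rfl | rfl | rfl | rfl | rfl <;> simp [V.Fv_one, V.s_Fv, hW j, hW 0]
  · rw [S.lsum_fixed _ _ (V.s_Fv m 0) (V.s_Fv m 0), V.Fv_one]
    simp [hW 0]

theorem f1_sol (m : M) :
    V.F1 m S.a = -1 ∧ V.F1 m S.b = 0 ∧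
      (V.F1 m S.u = -2 ∧ V.F1 m S.w = 0 ∨ V.F1 m S.u = -1 ∧ V.F1 m S.w = -1) := by
  have h0 := V.F1X m 0
  have h1 := V.F1X m 1
  rw [Finset.sum_congr rfl fun x _ => mul_comm (V.F1 m x) (V.X 0 x)] at h0
  rw [Finset.sum_congr rfl fun x _ => mul_comm (V.F1 m x) (V.X 1 x)] at h1
  obtain ⟨e0, e1⟩ := S.relations _ (V.s_F1 m)
  rw [e0, V.F1_one, if_pos rfl] at h0
  rw [e1, if_neg (by decide)] at h1
  have hn : lsum S.L (V.F1 m) (V.F1 m) ≤ 7 := by
    have := lsum_self_le (L := S.L) S.nd (V.F1 m)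
    rw [V.F1F1, if_pos (Or.inl rfl)] at this
    exact this
  rw [S.lsum_fixed _ _ (V.s_F1 m) (V.s_F1 m), V.F1_one] at hn
  generalize V.F1 m S.a = a, V.F1 m S.b = b, V.F1 m S.u = u, V.F1 m S.w = w at *
  have hb1 : -1 ≤ b := by nlinarith
  have hb2 : b ≤ 1 := by nlinarith
  have hw1 : -1 ≤ w := by nlinarith
  have hw2 : w ≤ 1 := by nlinarith
  obtain rfl : a = -1 - 2 * b := by omega
  obtain rfl : u = -2 + b - w := by omega
  interval_cases b <;> interval_cases w <;> omega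

theorem starW (m : M) (hW : S.IsW m) (hTh : ∀ x ∈ S.L, V.Th m x = 0) :
    V.F1 m S.u = -2 ∧ V.F1 m S.w = 0 ∧ Nonempty (Star V S.L m) := by
  obtain ⟨O⟩ := S.orbW m hW
  have hs := O.f1_strict hTh
  rw [S.lsum_fixed _ _ (V.s_F1 m) (V.s_F1 m), S.lsum_fixed _ _ (V.s_Fv m 0) (V.s_F1 m), V.F1_one,
    V.Fv_one] at hs
  obtain ⟨ha, hb, h⟩ := S.f1_sol m
  simp only [hW 0, ha, hb] at hs
  rcases h with ⟨hu, hw⟩ | ⟨hu, hw⟩
  swap
  · rw [hu, hw] at hs; norm_num at hs
  refine ⟨hu, hw, ?_⟩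
  obtain ⟨T, -⟩ := O.exists_star
    (by rw [S.lsum_fixed _ _ (V.s_Fv m 0) (V.s_F1 m), V.Fv_one]; simp [hW 0, hw])
    (by rw [S.lsum_fixed _ _ (V.s_F1 m) (V.s_F1 m), V.F1_one]; simp [ha, hb, hu, hw])
  exact ⟨T⟩

/-- A unit outside the seven points has one companion. -/
theorem second (m : M) (hU : S.IsU m) (i : Fin 3) (p : ι) (hp : p ∉ S.L) (hp0 : V.Fv m i p ≠ 0) :
    V.Fv m i p * V.Fv m i p = 1 ∧ ∃ q, q ∉ S.L ∧ q ≠ p ∧ V.Fv m i q * V.Fv m i q = 1 ∧
      ∀ g : ι → ℤ, ∑ x, V.Fv m i x * g x =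
        lsum S.L (V.Fv m i) g + V.Fv m i p * g p + V.Fv m i q * g q := by
  have nd : (p :: S.L).Nodup := List.nodup_cons.2 ⟨hp, S.nd⟩
  have hL : lsum S.L (V.Fv m i) (V.Fv m i) = 1 := by
    rw [S.lsum_fixed _ _ (V.s_Fv m i) (V.s_Fv m i), V.Fv_one]; simp [hU i]
  have hle : lsum (p :: S.L) (V.Fv m i) (V.Fv m i) ≤ 3 := by
    have := lsum_self_le nd (V.Fv m i)
    rw [V.FvFv, if_pos rfl] at this
    exact this
  rw [S.lsum_cons, hL] at hle
  have h1 : V.Fv m i p * V.Fv m i p = 1 := by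
    have : -1 ≤ V.Fv m i p := by nlinarith
    have : V.Fv m i p ≤ 1 := by nlinarith
    interval_cases V.Fv m i p <;> simp_all
  obtain ⟨q, hq, hq1, hq2⟩ := exists_one nd (V.Fv m i) (by
    rw [S.lsum_cons, hL, h1, V.FvFv, if_pos rfl]; norm_num)
  simp only [List.mem_cons, not_or] at hq
  refine ⟨h1, q, hq.2, hq.1, hq1, fun g => ?_⟩
  have := sum_eq_lsum_add nd (V.Fv m i) g (by simp [hq]) hq2
  simp only [Int.cast_id] at this
  rw [this, S.lsum_cons]
  ring

theorem exists_shared (m : M) (hU : S.IsU m) :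
    ∃ η₀, η₀ ∉ S.L ∧ (∀ j, V.Fv m j η₀ = V.Fv m 0 η₀) ∧ V.Fv m 0 η₀ * V.Fv m 0 η₀ = 1 := by
  have hL : ∀ i (g : ι → ℤ), (∀ x, g (V.s x) = g x) → lsum S.L (V.Fv m i) g = g S.u := by
    intro i g hg
    rw [S.lsum_fixed _ _ (V.s_Fv m i) hg, V.Fv_one]; simp [hU i]
  obtain ⟨p, hp, hp0⟩ := exists_out (L := S.L) S.nd (V.Fv m 0) (by
    rw [hL 0 _ (V.s_Fv m 0), (hU 0).2.2.1, V.FvFv, if_pos rfl]; norm_num)
  obtain ⟨hp1, q, hq, hqp, hq1, hsum⟩ := S.second m hU 0 p hp hp0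
  have hu : ∀ i, ∀ x ∉ S.L, V.Fv m i x = 0 ∨ V.Fv m i x = 1 ∨ V.Fv m i x = -1 := by
    intro i x hx
    by_cases h0 : V.Fv m i x = 0
    · exact Or.inl h0
    · exact Or.inr (mul_self_eq_one_iff.1 (S.second m hU i x hx h0).1)
  have hj : ∀ i, i ≠ 0 →
      (V.Fv m i p = V.Fv m 0 p ∧ V.Fv m i q = 0) ∨ (V.Fv m i p = 0 ∧ V.Fv m i q = V.Fv m 0 q) := by
    intro i hi
    have h := hsum (V.Fv m i)
    rw [V.FvFv, if_neg (Ne.symm hi), hL 0 _ (V.s_Fv m i), (hU i).2.2.1] at h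
    rcases hu i p hp with e | e | e <;> rcases hu i q hq with e' | e' | e' <;>
      rcases mul_self_eq_one_iff.1 hp1 with e'' | e'' <;> rcases mul_self_eq_one_iff.1 hq1 with e3 | e3 <;>
      rw [e, e', e'', e3] at h <;> rw [e, e', e'', e3] <;> omega
  -- a common point, unless the three pairs form a triangle
  rcases hj 1 (by decide) with h1 | h1 <;> rcases hj 2 (by decide) with h2 | h2
  · refine ⟨p, hp, fun j => ?_, hp1⟩
    fin_cases j
    exacts [rfl, h1.1, h2.1]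
  rotate_left 2
  · refine ⟨q, hq, fun j => ?_, hq1⟩
    fin_cases j
    exacts [rfl, h1.2, h2.2]
  all_goals exfalso
  all_goals
    have key : ∀ i i' : Fin 3, i ≠ 0 → i' ≠ 0 → i ≠ i' →
        V.Fv m i p = V.Fv m 0 p → V.Fv m i q = 0 → V.Fv m i' p = 0 → V.Fv m i' q = V.Fv m 0 q → False := by
      intro i i' hi hi' hii hip hiq hi'p hi'q
      obtain ⟨-, x, hx, -, hx1, hs1⟩ := S.second m hU i p hp (by rw [hip]; exact hp0)
      obtain ⟨-, y, hy, -, hy1, hs2⟩ := S.second m hU i' q hq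
        (by rw [hi'q]; intro e; rw [e] at hq1; simp at hq1)
      have h12 := hs1 (V.Fv m i')
      rw [V.FvFv, if_neg hii, hL i _ (V.s_Fv m i'), (hU i').2.2.1, hi'p, mul_zero] at h12
      have h12' := hs2 (V.Fv m i)
      rw [V.FvFv, if_neg (Ne.symm hii), hL i' _ (V.s_Fv m i), (hU i).2.2.1, hiq, mul_zero] at h12'
      have hxy : x = y := by
        by_contra hne
        by_cases hxq : x = q
        · subst hxq
          rw [hiq] at h12
          simp at h12
        · obtain ⟨-, y', hy', -, -, hs3⟩ := S.second m hU i' x hx (fun e => by rw [e] at h12; simp at h12)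
          have h3 := hs3 (V.Fv m i')
          have h4 := hs2 (fun z => if z = x then 1 else 0)
          simp only [mul_ite, mul_one, mul_zero, Finset.sum_ite_eq', Finset.mem_univ, if_true, lsum,
            Int.cast_id, if_neg (Ne.symm hxq), if_neg (Ne.symm hne), add_zero] at h4
          rw [List.sum_eq_zero (l := List.map _ _) (fun z hz => by
            obtain ⟨z', hz', rfl⟩ := List.mem_map.1 hz
            rw [if_neg]; exact fun e => hx (e ▸ hz'))] at h4
          rw [h4] at h12; simp at h12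
      subst hxy
      have hr : ∀ i (p q : ι), (∀ g : ι → ℤ, ∑ x, V.Fv m i x * g x =
          lsum S.L (V.Fv m i) g + V.Fv m i p * g p + V.Fv m i q * g q) →
          V.Fv m i p * V.F1 m p + V.Fv m i q * V.F1 m q = -V.F1 m S.u := by
        intro i p q hs
        have := hs (V.F1 m)
        rw [hL i _ (V.s_F1 m), show ∑ x, V.Fv m i x * V.F1 m x = 0 by
          rw [← V.F1Fv m i]; exact Finset.sum_congr rfl fun x _ => mul_comm _ _] at this
        linarith
      have r0 := hr 0 p q hsum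
      have r1 := hr i p x hs1
      have r2 := hr i' q x hs2
      rw [hip] at r1
      rw [hi'q] at r2
      obtain ⟨-, -, hru⟩ := S.f1_sol m
      rcases hru with ⟨hru, -⟩ | ⟨hru, -⟩
      · rw [hru] at r0
        have hn : lsum (p :: q :: S.L) (V.F1 m) (V.F1 m) ≤ 7 := by
          have := lsum_self_le (L := p :: q :: S.L)
            (List.nodup_cons.2 ⟨by simp [hp, Ne.symm hqp], List.nodup_cons.2 ⟨hq, S.nd⟩⟩) (V.F1 m)
          rw [V.F1F1, if_pos (Or.inl rfl)] at this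
          exact this
        obtain ⟨ha, hb, hru'⟩ := S.f1_sol m
        have hw : V.F1 m S.w = 0 := by omega
        simp only [lsum, L, List.map_cons, List.map_nil, List.sum_cons, List.sum_nil, Int.cast_id,
          V.s_F1, V.F1_one, ha, hb, hru, hw] at hn
        nlinarith [mul_self_nonneg (V.Fv m 0 p * V.F1 m p - 1), mul_self_nonneg (V.Fv m 0 q * V.F1 m q - 1)]
      · rw [hru] at r0 r1 r2
        have : V.Fv m i x = V.Fv m i' x := by
          rcases mul_self_eq_one_iff.1 hx1 with e | e <;> rcases mul_self_eq_one_iff.1 hy1 with e' | e' <;>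
            rw [e, e'] at h12 <;> rw [e, e'] <;> omega
        rw [this] at r1
        omega
  · exact key 1 2 (by decide) (by decide) (by decide) h1.1 h1.2 h2.1 h2.2
  · exact key 2 1 (by decide) (by decide) (by decide) h2.1 h2.2 h1.1 h1.2

theorem orbU (m : M) (hU : S.IsU m) :
    ∃ η₀, η₀ ∉ S.L ∧ V.Fv m 0 η₀ * V.Fv m 0 η₀ = 1 ∧ Nonempty (Orb V (η₀ :: S.L) m) := by
  obtain ⟨η₀, h0, hsame, h1⟩ := S.exists_shared m hU
  refine ⟨η₀, h0, h1, Orb.exists_orb V _ m (List.nodup_cons.2 ⟨h0, S.nd⟩) (fun j => ?_) ?_⟩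
  · intro x hx
    simp only [L, List.mem_cons, List.not_mem_nil, or_false] at hx
    rcases hx with rfl | rfl | rfl | rfl | rfl | rfl | rfl | rfl <;>
      simp [V.Fv_one, V.s_Fv, hU j, hU 0, hsame j]
  · rw [S.lsum_cons, h1, S.lsum_fixed _ _ (V.s_Fv m 0) (V.s_Fv m 0), V.Fv_one]
    simp [hU 0]

theorem th_zero (n : M) : ∀ x ∈ S.L, V.Th n x = 0 := by
  obtain ⟨e0, e1⟩ := S.relations _ (V.s_Th n)
  rw [V.XTh, V.Th_one] at e0
  rw [V.XTh] at e1
  suffices V.Th n S.a = 0 ∧ V.Th n S.b = 0 ∧ V.Th n S.u = 0 ∧ V.Th n S.w = 0 from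
    S.zero_on_L (V.s_Th n) (V.Th_one n) this.1 this.2.1 this.2.2.1 this.2.2.2
  rcases S.exists_type n with h | h
  · obtain ⟨O⟩ := S.orbW n h
    have hb := O.th_bound
    rw [S.lsum_fixed _ _ (V.s_Th n) (V.s_Th n), S.lsum_fixed _ _ (V.s_Fv n 0) (V.s_Th n), V.Th_one,
      V.Fv_one] at hb
    simp only [h 0] at hb
    generalize V.Th n S.a = a, V.Th n S.b = b, V.Th n S.u = u, V.Th n S.w = w at *
    have hN : b * b + w * w ≤ 1 := by
      nlinarith [mul_self_nonneg (2 * w + 1), mul_self_nonneg a, mul_self_nonneg u]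
    have hb1 : -1 ≤ b := by nlinarith
    have hb2 : b ≤ 1 := by nlinarith
    have hw1 : -1 ≤ w := by nlinarith
    have hw2 : w ≤ 1 := by nlinarith
    obtain rfl : a = -2 * b := by omega
    obtain rfl : u = b - w := by omega
    interval_cases b <;> interval_cases w <;> omega
  · obtain ⟨η₀, -, h1, ⟨O⟩⟩ := S.orbU n h
    have hb := O.th_bound
    rw [S.lsum_cons, S.lsum_cons, S.lsum_fixed _ _ (V.s_Th n) (V.s_Th n),
      S.lsum_fixed _ _ (V.s_Fv n 0) (V.s_Th n), V.Th_one, V.Fv_one] at hb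
    simp only [h 0] at hb
    generalize V.Th n S.a = a, V.Th n S.b = b, V.Th n S.u = u, V.Th n S.w = w, V.Th n η₀ = x,
      V.Fv n 0 η₀ = ε at *
    obtain ⟨y, rfl⟩ : ∃ y, x = ε * y := ⟨ε * x, by rw [← mul_assoc, h1, one_mul]⟩
    rw [show ε * y * (ε * y) = y * y by linear_combination y * y * h1,
      show ε * (ε * y) = y by linear_combination y * h1] at hb
    have hN : b * b + w * w ≤ 1 := by
      nlinarith [mul_self_nonneg (u + y + 1), mul_self_nonneg (u + y), mul_self_nonneg a, mul_self_nonneg u,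
        mul_self_nonneg y]
    have hN2 : y * y ≤ 2 := by
      nlinarith [mul_self_nonneg (u + y + 1), mul_self_nonneg (u + y), mul_self_nonneg a, mul_self_nonneg u,
        mul_self_nonneg b, mul_self_nonneg w]
    have hb1 : -1 ≤ b := by nlinarith
    have hb2 : b ≤ 1 := by nlinarith
    have hw1 : -1 ≤ w := by nlinarith
    have hw2 : w ≤ 1 := by nlinarith
    have hy1 : -1 ≤ y := by nlinarith
    have hy2 : y ≤ 1 := by nlinarith
    obtain rfl : a = -2 * b := by omega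
    obtain rfl : u = b - w := by omega
    interval_cases b <;> interval_cases w <;> interval_cases y <;> omega

theorem tl_zero (m : M) (l : Λ) : ∀ x ∈ S.L, V.Tl l x = 0 := by
  obtain ⟨e0, e1⟩ := S.relations _ (V.s_Tl l)
  rw [V.XTl, V.Tl_one] at e0
  rw [V.XTl] at e1
  have hn : lsum S.L (V.Tl l) (V.Tl l) ≤ 2 := by
    have := lsum_self_le (L := S.L) S.nd (V.Tl l)
    rwa [V.TlTl] at this
  rw [S.lsum_fixed _ _ (V.s_Tl l) (V.s_Tl l), V.Tl_one] at hn
  suffices V.Tl l S.a = 0 ∧ V.Tl l S.b = 0 ∧ V.Tl l S.u = 0 ∧ V.Tl l S.w = 0 from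
    S.zero_on_L (V.s_Tl l) (V.Tl_one l) this.1 this.2.1 this.2.2.1 this.2.2.2
  generalize V.Tl l S.a = a, V.Tl l S.b = b, V.Tl l S.u = u, V.Tl l S.w = w at *
  have hb1 : -1 ≤ b := by nlinarith
  have hb2 : b ≤ 1 := by nlinarith
  have hw1 : -1 ≤ w := by nlinarith
  have hw2 : w ≤ 1 := by nlinarith
  obtain rfl : a = -2 * b := by omega
  obtain rfl : u = b - w := by omega
  interval_cases b <;> interval_cases w <;> omega

theorem z_points (m : M) :
    V.z V.o = 1 ∧ V.z S.a = Q ∧ V.z S.b = 1 + h ∧ V.z (V.s S.b) = 1 + h ∧ V.z S.u = 2 * h ∧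
      V.z S.w = h ∧ V.z (V.s S.w) = h := by
  have nd := S.nd
  simp at nd
  have nd2 : V.s S.b ≠ V.s S.w := fun e => by
    have := V.s.injective e
    tauto
  have hQ := V.hh
  have hm : ∀ x ∈ [V.o, S.a, S.b, V.s S.b, S.u, S.w, V.s S.w], x ∈ S.L := fun x hx => hx
  refine ⟨?_, ?_, ?_, ?_, ?_, ?_, ?_⟩ <;>
    rw [V.z_eq, Finset.sum_eq_zero fun n _ => S.th_zero n _ (hm _ (by simp)),
      Finset.sum_eq_zero fun l _ => S.tl_zero m l _ (hm _ (by simp))] <;>
    simp only [S.X0, S.X1, S.X2, List.mem_cons, List.not_mem_nil, or_false] <;> grind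

theorem deg_X : 1 + V.d S.a + 2 * V.d S.b = 0 ∧ V.d S.a + V.d S.b + V.d S.u + V.d S.w = 0 := by
  obtain ⟨e0, e1⟩ := S.relations _ V.s_d
  rw [V.X_deg, V.d_o] at e0
  rw [V.X_deg] at e1
  exact ⟨e0.symm, e1.symm⟩

theorem false_W (m : M) (hW : S.IsW m) : False := by
  obtain ⟨hu, hw, ⟨T⟩⟩ := S.starW m hW (S.th_zero m)
  obtain ⟨ha, hb, -⟩ := S.f1_sol m
  have hp := T.f1_pairs S.X_out S.th_zero fun l => lsum_eq_zero_of_zero _ _ (S.tl_zero m l)
  have dp := T.f1_deg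
  obtain ⟨zo, za, zb, zb', zu, zw, zw'⟩ := S.z_points m
  obtain ⟨d1, d2⟩ := S.deg_X
  have h0 := V.pairsX0
  have h1 := V.pairsX1
  rw [S.X0_sum, zo, za, zb, zb', V.d_o, V.s_d] at h0
  rw [S.X1_sum, za, zb, zu, zw] at h1
  rw [S.lsum_L] at hp dp
  simp only [ha, hb, hu, hw, V.F1_one, V.s_F1, V.s_d, zo, za, zb, zb', zu, zw, zw', Int.cast_id,
    V.d_o] at hp dp
  have ep : T.εp * V.d T.p = -(2 * V.d S.w) := by linear_combination dp - d1 + 2 * d2
  rw [ep] at hp
  have hc : ∀ n, V.F1 n S.b = 0 := fun n => (S.f1_sol n).2.1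
  have cB := V.congr S.b 0 hc
  rw [zb] at cB
  refine false_of_third Q k h (V.d S.a) (V.d S.b) (V.d S.u) (V.d S.w) _ _ _ _ V.hQ8 V.hQ V.hk V.hh V.hk1
    V.Rhs' (V.d_ne _) (V.d_ne _) (V.d_ne _) (V.d_ne _) (by omega) (by omega) ?_ ?_ ?_ ?_
  · rw [← h0]; push_cast; ring
  · rw [← h1]; push_cast; ring
  · rw [← hp]
    have hh : 2 * (h : ℚ) = (Q : ℚ) - 1 := by exact_mod_cast V.hh
    rw [← hh]
    have : (V.d S.w : ℚ) ≠ 0 := Int.cast_ne_zero.2 (V.d_ne _)
    have : (V.d S.u : ℚ) ≠ 0 := Int.cast_ne_zero.2 (V.d_ne _)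
    have : (V.d S.a : ℚ) ≠ 0 := Int.cast_ne_zero.2 (V.d_ne _)
    push_cast
    field_simp
    ring
  · simpa using cB

theorem false_U (m : M) (hU : S.IsU m) : False := by
  obtain ⟨η₀, h0, hε, ⟨O⟩⟩ := S.orbU m hU
  obtain ⟨ha, hb, hruw⟩ := S.f1_sol m
  have hb' := O.f1_bound
  rw [S.lsum_cons, S.lsum_cons, S.lsum_fixed _ _ (V.s_F1 m) (V.s_F1 m),
    S.lsum_fixed _ _ (V.s_Fv m 0) (V.s_F1 m), V.F1_one, V.Fv_one] at hb'
  simp only [hU 0, ha, hb] at hb'
  have key : V.F1 m S.u = -1 ∧ V.F1 m S.w = -1 ∧ V.F1 m η₀ = V.Fv m 0 η₀ := by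
    generalize V.F1 m S.u = u, V.F1 m S.w = w, V.F1 m η₀ = x, V.Fv m 0 η₀ = ε at *
    obtain ⟨y, rfl⟩ : ∃ y, x = ε * y := ⟨ε * x, by rw [← mul_assoc, hε, one_mul]⟩
    rw [show ε * y * (ε * y) = y * y by linear_combination y * y * hε,
      show ε * (ε * y) = y by linear_combination y * hε] at hb'
    rcases hruw with ⟨rfl, rfl⟩ | ⟨rfl, rfl⟩
    · exfalso; nlinarith [mul_self_nonneg (2 * y - 3), mul_self_nonneg (y - 1)]
    · obtain rfl : y = 1 := by
        have : 0 ≤ y := by nlinarith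
        have : y ≤ 2 := by nlinarith
        interval_cases y <;> omega
      simp
  obtain ⟨hu, hw, hη⟩ := key
  obtain ⟨T, -⟩ := O.exists_star
    (by rw [S.lsum_cons, S.lsum_fixed _ _ (V.s_Fv m 0) (V.s_F1 m), V.Fv_one, hη, hε]; simp [hU 0, hu])
    (by rw [S.lsum_cons, S.lsum_fixed _ _ (V.s_F1 m) (V.s_F1 m), V.F1_one, hη, hε]; simp [ha, hb, hu, hw])
  -- the functions of all orbits vanish at the shared point
  have hTh0 : ∀ n, V.Th n η₀ = 0 := by
    intro n
    let e := V.Fv m 0 η₀ * V.Th n η₀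
    have hL : ∀ f : ι → ℤ, lsum S.L f (V.Th n) = 0 := fun f => lsum_eq_zero_of_zero _ _ (S.th_zero n)
    have hη' : ∀ j, V.Th n (T.η j) = T.ε j * (∑ x, V.Fv m j x * V.Th n x - e) := fun j => by
      rw [T.at_eta j (V.Th n), S.lsum_cons, hL, add_zero]
    have hp' : V.Th n T.p = T.εp * ((if n = m ∨ n = V.w m ∨ n = V.w (V.w m) then 1 else 0) - e) := by
      rw [T.at_p (V.Th n), V.F1Th, S.lsum_cons, hL, add_zero, hη]
    have nd : ([T.p, T.η 0, T.η 1, T.η 2] ++ (η₀ :: S.L)).Nodup := by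
      refine List.nodup_append.2 ⟨?_, T.nd, ?_⟩
      · simp [T.inj.eq_iff, T.p_ne]
      · intro x hx y hy hxy
        simp only [List.mem_cons, List.not_mem_nil, or_false] at hx
        rcases hx with rfl | rfl | rfl | rfl
        · exact T.p_notMem (hxy ▸ hy)
        all_goals exact T.notMem _ (hxy ▸ hy)
    have hb := lsum_self_le nd (V.Th n)
    rw [V.ThTh] at hb
    simp only [lsum, List.map_append, List.sum_append, List.map_cons, List.map_nil, List.sum_cons,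
      List.sum_nil, Int.cast_id] at hb
    have hz : ((S.L.map fun x => V.Th n x * V.Th n x).sum) = 0 := by
      have := hL (V.Th n)
      simpa [lsum] using this
    rw [hz] at hb
    have sq : ∀ (ε a : ℤ), ε * ε = 1 → ε * a * (ε * a) = a * a := fun ε a h => by
      linear_combination a * a * h
    have he : e * e = V.Th n η₀ * V.Th n η₀ := sq _ _ hε
    rw [hη' 0, hη' 1, hη' 2, hp', sq _ _ (T.hε 0), sq _ _ (T.hε 1), sq _ _ (T.hε 2), sq _ _ T.hεp,
      ← he, V.FvTh, V.FvTh, V.FvTh] at hb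
    have : e = 0 := by
      have h1 := Ne.symm (V.wne m)
      have h2 := Ne.symm (V.w2ne m)
      have h3 := Ne.symm (V.wne (V.w m))
      clear_value e
      by_cases hn : n = m ∨ n = V.w m ∨ n = V.w (V.w m)
      · rcases hn with rfl | rfl | rfl <;>
          simp [h1, h2, h3, Ne.symm h1, Ne.symm h2, Ne.symm h3, pow_two] at hb <;> nlinarith
      · have hn' := not_or.1 hn
        simp [hn, hn'.1, (not_or.1 hn'.2).1, (not_or.1 hn'.2).2, pow_two] at hb
        nlinarith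
    rcases mul_eq_zero.1 this with h' | h'
    · rw [h'] at hε; simp at hε
    · exact h'
  have hTh : ∀ n, ∀ x ∈ η₀ :: S.L, V.Th n x = 0 := by
    intro n x hx
    rcases List.mem_cons.1 hx with rfl | hx
    · exact hTh0 n
    · exact S.th_zero n x hx
  have hTl0 : ∀ l, V.Tl l η₀ = 0 := fun l => by
    have h := O.tl_bound l
    rw [S.lsum_cons, S.lsum_cons, lsum_eq_zero_of_zero _ _ (S.tl_zero m l),
      lsum_eq_zero_of_zero _ _ (S.tl_zero m l), add_zero, add_zero] at h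
    have h' : (V.Fv m 0 η₀ * V.Tl l η₀) ^ 2 = V.Tl l η₀ * V.Tl l η₀ := by
      linear_combination V.Tl l η₀ * V.Tl l η₀ * hε
    rw [h'] at h
    nlinarith
  have hTl : ∀ l, ∀ x ∈ η₀ :: S.L, V.Tl l x = 0 := by
    intro l x hx
    rcases List.mem_cons.1 hx with rfl | hx
    · exact hTl0 l
    · exact S.tl_zero m l x hx
  have hz0 : V.z η₀ = 0 := by
    rw [V.z_eq, S.X_out 0 _ h0, S.X_out 1 _ h0, S.X_out 2 _ h0]
    simp [hTh0, hTl0]
  have hX : ∀ i x, x ∉ η₀ :: S.L → V.X i x = 0 := fun i x hx =>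
    S.X_out i x fun h => hx (List.mem_cons_of_mem _ h)
  have hv := O.fv_pairs hX hTh (fun l => lsum_eq_zero_of_zero _ _ (hTl l)) 0
  have dv := O.fv_deg 0
  obtain ⟨zo, za, zb, zb', zu, zw, zw'⟩ := S.z_points m
  rw [S.lsum_cons] at dv
  rw [show lsum (η₀ :: S.L) (V.Fv m 0) (fun x => (V.z x : ℚ) ^ 2 / (V.d x : ℚ)) =
    (V.Fv m 0 η₀ : ℚ) * ((V.z η₀ : ℚ) ^ 2 / (V.d η₀ : ℚ)) +
      lsum S.L (V.Fv m 0) (fun x => (V.z x : ℚ) ^ 2 / (V.d x : ℚ)) by simp [lsum]] at hv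
  rw [S.lsum_L] at hv dv
  simp only [hU 0, V.Fv_one, V.s_Fv, hz0, zu, Int.cast_id] at hv dv
  have hd : V.d S.u + V.Fv m 0 η₀ * V.d η₀ + O.ε 0 * V.d (O.η 0) = 0 := by linear_combination dv
  have hE : O.ε 0 * V.d (O.η 0) ≠ 0 :=
    mul_ne_zero (fun h0' => by simpa [h0'] using O.hε 0) (V.d_ne _)
  have hu0 := V.d_ne S.u
  generalize O.ε 0 * V.d (O.η 0) = E at hv hd hE
  have hQ1 : (Q : ℚ) - 1 ≠ 0 := by
    intro e
    have h1 : Q = 1 := by exact_mod_cast sub_eq_zero.1 e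
    have := V.hQ
    rw [h1] at this
    norm_num at this
  have hh : 2 * (h : ℚ) = (Q : ℚ) - 1 := by exact_mod_cast V.hh
  have hE' : (E : ℚ) ≠ 0 := Int.cast_ne_zero.2 hE
  have hu' : (V.d S.u : ℚ) ≠ 0 := Int.cast_ne_zero.2 hu0
  push_cast at hv
  rw [hh] at hv
  field_simp at hv
  have hsum : (E : ℚ) + V.d S.u = 0 := by
    refine (mul_eq_zero.1 (show ((Q : ℚ) - 1) ^ 2 * ((E : ℚ) + V.d S.u) = 0 from ?_)).resolve_left
      (pow_ne_zero 2 hQ1)
    linear_combination hv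
  have hsum' : E + V.d S.u = 0 := by exact_mod_cast hsum
  have : V.Fv m 0 η₀ * V.d η₀ = 0 := by omega
  rcases mul_eq_zero.1 this with h' | h'
  · rw [h'] at hε; simp at hε
  · exact V.d_ne _ h'

include S in
theorem false : False := by
  rcases S.exists_type V.m0 with h | h
  · exact S.false_W V.m0 h
  · exact S.false_U V.m0 h

end ShapeQ

end CfsgLib.JT
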