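import Cfsg.Agent.JankoThompson.PatternSigned
import Cfsg.Agent.JankoThompson.PatternP
import Cfsg.Agent.JankoThompson.PatternQ

/-!
The multiplicities of the principal 2-block force the order of the group.
-/

set_option autoImplicit false

namespace CfsgLib.JT

universe u v w

/-- The order formula, and `Q / 3` is a rational square. -/
theorem Vecs.conclusion {ι : Type u} {M : Type v} {Λ : Type w} [Fintype ι] [Fintype M] [Fintype Λ] {Q k h : ℤ}
    (V : Vecs ι M Λ Q k h) :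
    (V.g : ℚ) = (Q : ℚ) ^ 3 * ((Q : ℚ) ^ 2 - 1) * ((Q : ℚ) ^ 2 - Q + 1) ∧ ∃ r : ℚ, 3 * r ^ 2 = (Q : ℚ) := by
  obtain ⟨S, hS⟩ := V.exists_signed
  rw [← hS]
  rcases S.shape with ⟨⟨P⟩⟩ | ⟨⟨P⟩⟩
  · exact P.conclusion
  · exact P.false.elim

end CfsgLib.JT
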