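import Mathlib.Tactic

/-!
The combinatorics of the three functions of the section for a centraliser `C₂ × PSL₂(3)`.
-/

set_option autoImplicit false

namespace CfsgLib.JT

open Finset

/-- The signed degree equation of the second pattern. -/
theorem three_arith {A U W : ℤ} (hA : A % 8 = 2) (hU : U % 8 = 2) (hW : W % 8 = 1) (hW1 : W ≠ 1)
    (hsum : W = 1 + A - U) (h : 1 + 4 / (A : ℚ) = 4 / (U : ℚ) + 1 / (W : ℚ)) :
    A = -6 ∧ U = 10 ∧ W = -15 := by
  have hA0 : (A : ℚ) ≠ 0 := by exact_mod_cast (show A ≠ 0 by omega)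
  have hU0 : (U : ℚ) ≠ 0 := by exact_mod_cast (show U ≠ 0 by omega)
  have hW0 : (W : ℚ) ≠ 0 := by exact_mod_cast (show W ≠ 0 by omega)
  have hpoly : (A + 4) * U * W = 4 * A * W + A * U := by
    field_simp at h
    have : ((((A + 4) * U * W : ℤ)) : ℚ) = ((4 * A * W + A * U : ℤ) : ℚ) := by
      push_cast; linear_combination h
    exact_mod_cast this
  by_cases hU2 : U = 2
  · exfalso
    subst hU2
    obtain rfl : W = A - 1 := by omega
    have : (A - 2) * (A - 2) = 0 := by nlinarith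
    have := mul_self_eq_zero.1 this
    omega
  have hWb : (1 : ℚ) / W ≤ 1 / 9 := by
    rcases lt_or_ge W 0 with hw | hw
    · exact (div_nonpos_of_nonneg_of_nonpos (by norm_num) (by exact_mod_cast hw.le)).trans (by norm_num)
    · exact one_div_le_one_div_of_le (by norm_num) (by exact_mod_cast (show (9 : ℤ) ≤ W by omega))
  rcases (show U ≤ -6 ∨ 10 ≤ U by omega) with hu | hu
  · exfalso
    have hUb : 4 / (U : ℚ) < 0 :=
      div_neg_of_pos_of_neg (by norm_num) (by exact_mod_cast (show U < 0 by omega))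
    rcases (show A ≤ -14 ∨ A = -6 ∨ 2 ≤ A by omega) with ha | ha | ha
    · have : -(2 / 7 : ℚ) ≤ 4 / (A : ℚ) := by
        rw [le_div_iff_of_neg (by exact_mod_cast (show A < 0 by omega))]
        have : (A : ℚ) ≤ -14 := by exact_mod_cast ha
        linarith
      linarith
    · rw [ha] at h; push_cast at h; linarith
    · have : (0 : ℚ) < 4 / (A : ℚ) := div_pos (by norm_num) (by exact_mod_cast (show 0 < A by omega))
      linarith
  have hUb : 4 / (U : ℚ) ≤ 2 / 5 := by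
    rw [div_le_iff₀ (by exact_mod_cast (show 0 < U by omega))]
    have : (10 : ℚ) ≤ U := by exact_mod_cast hu
    linarith
  rcases (show A ≤ -14 ∨ A = -6 ∨ 2 ≤ A by omega) with ha | ha | ha
  · exfalso
    have : -(2 / 7 : ℚ) ≤ 4 / (A : ℚ) := by
      rw [le_div_iff_of_neg (by exact_mod_cast (show A < 0 by omega))]
      have : (A : ℚ) ≤ -14 := by exact_mod_cast ha
      linarith
    linarith
  · subst ha
    obtain rfl : W = -5 - U := by omega
    have : (U - 10) * (U + 6) = 0 := by nlinarith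
    rcases mul_eq_zero.1 this with e | e <;> omega
  · exfalso
    have : (0 : ℚ) < 4 / (A : ℚ) := div_pos (by norm_num) (by exact_mod_cast (show 0 < A by omega))
    linarith

/-- The integer data of a group with an involution centraliser `C₂ × A₄`. -/
structure ThreeData (ι : Type*) [Fintype ι] where
  o : ι
  d : ι → ℕ
  d_pos : ∀ c, 0 < d c
  d_o : d o = 1
  d_two : ∀ c, c ≠ o → 2 ≤ d c
  X : Fin 3 → ι → ℤ
  XX : ∀ i j, ∑ c, X i c * X j c = if i = j then 4 else 2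
  X_one : ∀ i, X i o = if i = 0 then 1 else 0
  X_deg : ∀ i, ∑ c, X i c * (d c : ℤ) = 0
  s : Equiv.Perm ι
  s_d : ∀ c, d (s c) = d c
  s_X0 : ∀ c, X 0 (s c) = X 0 c
  s_X1 : ∀ c, X 1 (s c) = X 2 c
  congr : ∀ c, (8 : ℤ) ∣ (d c : ℤ) + 7 * (X 0 c + (X 1 c + X 2 c))
  n : ℕ
  n_ne : n ≠ 0
  dvd : ∀ c, d c ∣ n
  pairs : ∀ i, ∑ c, (X i c : ℚ) * ((X 0 c + (X 1 c + X 2 c) : ℤ) : ℚ) ^ 2 / (d c : ℚ) = 1152 / (n : ℚ)

variable {ι : Type*} [Fintype ι]

theorem abs_le_one_of_sq {x : ℤ} (h : x * x ≤ 3) : x = -1 ∨ x = 0 ∨ x = 1 := by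
  have h1 : -2 < x := by nlinarith
  have h2 : x < 2 := by nlinarith
  omega

theorem sign_mul_cases {v x : ℤ} (hv : v = -1 ∨ v = 1) (hx : x = -1 ∨ x = 0 ∨ x = 1) :
    (v * x = -1 ∧ x = -v) ∨ (v * x = 0 ∧ x = 0) ∨ (v * x = 1 ∧ x = v) := by
  rcases hv with rfl | rfl <;> rcases hx with rfl | rfl | rfl <;> norm_num

theorem sign_sq {v : ℤ} (hv : v = -1 ∨ v = 1) : (v : ℚ) ^ 2 = 1 := by
  rcases hv with rfl | rfl <;> norm_num

theorem sign_div {v : ℤ} (hv : v = -1 ∨ v = 1) (d : ℕ) : (v : ℚ) / d = 1 / ((v * d : ℤ) : ℚ) := by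
  rcases hv with rfl | rfl <;> push_cast <;> simp [div_eq_mul_inv, inv_neg]

/-- The signed degree equation of the first pattern. -/
theorem three_arith' {C U W : ℤ} (hC : C ≠ 0) (hU : U ≠ 0) (hW : W ≠ 0) (hC1 : C ≠ -1) (hU1 : U ≠ 1)
    (hW1 : W ≠ 1) (hsum : U + W = 1 + C) (h : 1 + 1 / (C : ℚ) = 1 / (U : ℚ) + 1 / (W : ℚ)) : False := by
  have hC' : (C : ℚ) ≠ 0 := Int.cast_ne_zero.2 hC
  have hU' : (U : ℚ) ≠ 0 := Int.cast_ne_zero.2 hU
  have hW' : (W : ℚ) ≠ 0 := Int.cast_ne_zero.2 hW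
  have h1 : (C + 1) * (U * W) = C * (U + W) := by
    field_simp at h
    refine (Int.cast_inj (α := ℚ)).1 ?_
    push_cast
    linear_combination h
  rw [hsum] at h1
  have h2 : U * W = C := mul_left_cancel₀ (show C + 1 ≠ 0 by omega) (by linarith)
  have h3 : (U - 1) * (W - 1) = 0 := by linarith
  rcases mul_eq_zero.1 h3 with e | e <;> omega

namespace ThreeData

variable (T : ThreeData ι)

/-- The sum of the second and third functions plus the first. -/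
def z (x : ι) : ℤ := T.X 0 x + (T.X 1 x + T.X 2 x)

/-- A normalised position of the three functions. -/
structure Frame where
  a : ι
  b : ι
  c : ι
  u : ι
  w : ι
  ab : a ≠ b
  ac : a ≠ c
  bc : b ≠ c
  ao : a ≠ T.o
  bo : b ≠ T.o
  co : c ≠ T.o
  uw : u ≠ w
  ua : u ≠ a
  ub : u ≠ b
  uo : u ≠ T.o
  uc : u ≠ c
  wa : w ≠ a
  wb : w ≠ b
  wo : w ≠ T.o
  wc : w ≠ c
  supp0 : ∀ x, T.X 0 x ≠ 0 → x = T.o ∨ x = a ∨ x = b ∨ x = c
  supp1 : ∀ x, T.X 1 x ≠ 0 → x = a ∨ x = b ∨ x = u ∨ x = w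
  a0 : T.X 0 a = -1 ∨ T.X 0 a = 1
  b0 : T.X 0 b = -1 ∨ T.X 0 b = 1
  c0 : T.X 0 c = -1 ∨ T.X 0 c = 1
  u0 : T.X 0 u = 0
  w0 : T.X 0 w = 0
  a1 : T.X 1 a = T.X 0 a
  b1 : T.X 1 b = T.X 0 b
  c1 : T.X 1 c = 0
  u1 : T.X 1 u = -1 ∨ T.X 1 u = 1
  w1 : T.X 1 w = -1 ∨ T.X 1 w = 1

variable {T}

namespace Frame

variable [DecidableEq ι] (P : T.Frame)

theorem ho : T.X 0 T.o = 1 := by rw [T.X_one, if_pos rfl]

theorem sum0 (f : ι → ℚ) :
    ∑ x, (T.X 0 x : ℚ) * f x =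
      f T.o + (T.X 0 P.a : ℚ) * f P.a + (T.X 0 P.b : ℚ) * f P.b + (T.X 0 P.c : ℚ) * f P.c := by
  rw [← Finset.sum_subset (Finset.subset_univ ({T.o, P.a, P.b, P.c} : Finset ι)) (fun x _ hx => by
    simp only [Finset.mem_insert, Finset.mem_singleton, not_or] at hx
    have : T.X 0 x = 0 := by
      by_contra hne
      rcases P.supp0 x hne with e | e | e | e
      exacts [hx.1 e, hx.2.1 e, hx.2.2.1 e, hx.2.2.2 e]
    rw [this, Int.cast_zero, zero_mul])]
  rw [Finset.sum_insert (by simp [P.ao.symm, P.bo.symm, P.co.symm]),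
    Finset.sum_insert (by simp [P.ab, P.ac]), Finset.sum_pair P.bc, ho (T := T), Int.cast_one]
  ring

theorem sum1 (f : ι → ℚ) :
    ∑ x, (T.X 1 x : ℚ) * f x = (T.X 0 P.a : ℚ) * f P.a + (T.X 0 P.b : ℚ) * f P.b
      + (T.X 1 P.u : ℚ) * f P.u + (T.X 1 P.w : ℚ) * f P.w := by
  rw [← Finset.sum_subset (Finset.subset_univ ({P.a, P.b, P.u, P.w} : Finset ι)) (fun x _ hx => by
    simp only [Finset.mem_insert, Finset.mem_singleton, not_or] at hx
    have : T.X 1 x = 0 := by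
      by_contra hne
      rcases P.supp1 x hne with e | e | e | e
      exacts [hx.1 e, hx.2.1 e, hx.2.2.1 e, hx.2.2.2 e]
    rw [this, Int.cast_zero, zero_mul])]
  rw [Finset.sum_insert (by simp [P.ab, P.ua.symm, P.wa.symm]),
    Finset.sum_insert (by simp [P.ub.symm, P.wb.symm]), Finset.sum_pair P.uw, P.a1, P.b1]
  ring

theorem deg0 : 1 + T.X 0 P.a * T.d P.a + T.X 0 P.b * T.d P.b + T.X 0 P.c * T.d P.c = 0 := by
  have h := P.sum0 (fun x => (T.d x : ℚ))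
  have h' : ∑ x, (T.X 0 x : ℚ) * (T.d x : ℚ) = 0 := by
    have := congrArg (fun z : ℤ => (z : ℚ)) (T.X_deg 0); push_cast at this; exact this
  rw [h', T.d_o, Nat.cast_one] at h
  refine (Int.cast_inj (α := ℚ)).1 ?_
  push_cast
  linarith

theorem deg1 : T.X 0 P.a * T.d P.a + T.X 0 P.b * T.d P.b + T.X 1 P.u * T.d P.u + T.X 1 P.w * T.d P.w = 0 := by
  have h := P.sum1 (fun x => (T.d x : ℚ))
  have h' : ∑ x, (T.X 1 x : ℚ) * (T.d x : ℚ) = 0 := by
    have := congrArg (fun z : ℤ => (z : ℚ)) (T.X_deg 1); push_cast at this; exact this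
  rw [h'] at h
  refine (Int.cast_inj (α := ℚ)).1 ?_
  push_cast
  linarith

theorem inner02 : T.X 0 P.a * T.X 2 P.a + T.X 0 P.b * T.X 2 P.b + T.X 0 P.c * T.X 2 P.c = 2 := by
  have h := P.sum0 (fun x => (T.X 2 x : ℚ))
  have h' : ∑ x, (T.X 0 x : ℚ) * (T.X 2 x : ℚ) = 2 := by
    have := congrArg (fun z : ℤ => (z : ℚ)) (T.XX 0 2); rw [if_neg (by decide)] at this
    push_cast at this; exact this
  rw [h', T.X_one, if_neg (by decide), Int.cast_zero] at h
  refine (Int.cast_inj (α := ℚ)).1 ?_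
  push_cast
  linarith

theorem inner12 : T.X 0 P.a * T.X 2 P.a + T.X 0 P.b * T.X 2 P.b
    + T.X 1 P.u * T.X 2 P.u + T.X 1 P.w * T.X 2 P.w = 2 := by
  have h := P.sum1 (fun x => (T.X 2 x : ℚ))
  have h' : ∑ x, (T.X 1 x : ℚ) * (T.X 2 x : ℚ) = 2 := by
    have := congrArg (fun z : ℤ => (z : ℚ)) (T.XX 1 2); rw [if_neg (by decide)] at this
    push_cast at this; exact this
  rw [h'] at h
  refine (Int.cast_inj (α := ℚ)).1 ?_
  push_cast
  linarith

theorem eq0 : 1 + (T.X 0 P.a : ℚ) * ((T.z P.a : ℚ) ^ 2 / T.d P.a) + (T.X 0 P.b : ℚ) * ((T.z P.b : ℚ) ^ 2 / T.d P.b)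
    + (T.X 0 P.c : ℚ) * ((T.z P.c : ℚ) ^ 2 / T.d P.c) = 1152 / (T.n : ℚ) := by
  have h := P.sum0 (fun x => (T.z x : ℚ) ^ 2 / T.d x)
  have hz : T.z T.o = 1 := by
    simp only [z, T.X_one, if_pos, if_neg (show (1 : Fin 3) ≠ 0 by decide),
      if_neg (show (2 : Fin 3) ≠ 0 by decide)]; rfl
  rw [hz, T.d_o] at h
  rw [← T.pairs 0, Finset.sum_congr rfl fun x _ => (mul_div_assoc _ _ _)]
  refine Eq.trans ?_ (show (∑ x, (T.X 0 x : ℚ) * ((T.z x : ℚ) ^ 2 / T.d x)) = _ from h).symm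
  push_cast
  ring

theorem eq1 : (T.X 0 P.a : ℚ) * ((T.z P.a : ℚ) ^ 2 / T.d P.a) + (T.X 0 P.b : ℚ) * ((T.z P.b : ℚ) ^ 2 / T.d P.b)
    + (T.X 1 P.u : ℚ) * ((T.z P.u : ℚ) ^ 2 / T.d P.u) + (T.X 1 P.w : ℚ) * ((T.z P.w : ℚ) ^ 2 / T.d P.w) =
      1152 / (T.n : ℚ) := by
  rw [← T.pairs 1, ← P.sum1 (fun x => (T.z x : ℚ) ^ 2 / T.d x)]
  exact Finset.sum_congr rfl fun x _ => (mul_div_assoc _ _ _).symm

theorem deg_ne_one {x : ι} (hx : x ≠ T.o) {v : ℤ} (hv : v = -1 ∨ v = 1) :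
    v * (T.d x : ℤ) ≠ 1 ∧ v * (T.d x : ℤ) ≠ -1 ∧ v * (T.d x : ℤ) ≠ 0 := by
  have := T.d_two x hx
  rcases hv with rfl | rfl <;> omega

/-- The two functions share the same two positions. -/
theorem false_of_same (h21 : ∀ x, T.X 2 x = -1 ∨ T.X 2 x = 0 ∨ T.X 2 x = 1) (hc2 : T.X 2 P.c = 0) :
    False := by
  have h02 := P.inner02
  rw [hc2, mul_zero, add_zero] at h02
  have h12 := P.inner12
  have ha := sign_mul_cases P.a0 (h21 P.a)
  have hb := sign_mul_cases P.b0 (h21 P.b)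
  have hu := sign_mul_cases P.u1 (h21 P.u)
  have hw := sign_mul_cases P.w1 (h21 P.w)
  obtain ⟨ea, ea'⟩ : T.X 0 P.a * T.X 2 P.a = 1 ∧ T.X 2 P.a = T.X 0 P.a := by omega
  obtain ⟨eb, eb'⟩ : T.X 0 P.b * T.X 2 P.b = 1 ∧ T.X 2 P.b = T.X 0 P.b := by omega
  have hd1 := P.deg1
  have hd0 := P.deg0
  by_cases hu2 : T.X 2 P.u = 0
  · have hw2 : T.X 2 P.w = 0 := by
      rw [hu2, mul_zero] at h12
      omega
    have e0 := P.eq0
    have e1 := P.eq1
    simp only [z, P.a1, P.b1, P.c1, ea', eb', hc2, P.u0, P.w0, hu2, hw2, add_zero, zero_add] at e0 e1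
    obtain ⟨-, hC1, hC0⟩ := deg_ne_one P.co P.c0
    obtain ⟨hU1, -, hU0⟩ := deg_ne_one P.uo P.u1
    obtain ⟨hW1, -, hW0⟩ := deg_ne_one P.wo P.w1
    refine three_arith' hC0 hU0 hW0 hC1 hU1 hW1 (by linarith) ?_
    rw [← sign_div P.c0, ← sign_div P.u1, ← sign_div P.w1]
    push_cast at e0 e1
    linear_combination e0 - e1 - ((T.X 0 P.c : ℚ) / T.d P.c) * (sign_sq P.c0)
      + ((T.X 1 P.u : ℚ) / T.d P.u) * (sign_sq P.u1) + ((T.X 1 P.w : ℚ) / T.d P.w) * (sign_sq P.w1)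
  · have hw2 : T.X 2 P.w ≠ 0 := fun e => by
      rw [e, mul_zero] at h12
      omega
    have hsupp2 : ∀ x, x ∉ ({P.a, P.b, P.u, P.w} : Finset ι) → T.X 2 x = 0 := by
      intro x hx
      have h := T.XX 2 2
      rw [if_pos rfl] at h
      have hle := Finset.sum_le_sum_of_subset_of_nonneg (f := fun y => T.X 2 y * T.X 2 y)
        (Finset.subset_univ (insert x ({P.a, P.b, P.u, P.w} : Finset ι))) (fun y _ _ => mul_self_nonneg _)
      rw [Finset.sum_insert hx, Finset.sum_insert (by simp [P.ab, P.ua.symm, P.wa.symm]),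
        Finset.sum_insert (by simp [P.ub.symm, P.wb.symm]), Finset.sum_pair P.uw, h] at hle
      have one : ∀ y, T.X 2 y ≠ 0 → T.X 2 y * T.X 2 y = 1 := fun y hy => by
        rcases h21 y with e | e | e
        · rw [e]; norm_num
        · exact absurd e hy
        · rw [e]; norm_num
      rw [one P.a (by rcases P.a0 with e | e <;> omega), one P.b (by rcases P.b0 with e | e <;> omega),
        one P.u hu2, one P.w hw2] at hle
      exact mul_self_eq_zero.1 (le_antisymm (by linarith) (mul_self_nonneg _))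
    have hd2 := T.X_deg 2
    rw [← Finset.sum_subset (Finset.subset_univ ({P.a, P.b, P.u, P.w} : Finset ι)) (fun x _ hx => by
        rw [hsupp2 x hx, zero_mul]), Finset.sum_insert (by simp [P.ab, P.ua.symm, P.wa.symm]),
      Finset.sum_insert (by simp [P.ub.symm, P.wb.symm]), Finset.sum_pair P.uw, ea', eb'] at hd2
    have := T.d_two P.u P.uo
    have := T.d_two P.w P.wo
    rcases hu with ⟨f, f'⟩ | ⟨f, f'⟩ | ⟨f, f'⟩ <;> rcases hw with ⟨g, g'⟩ | ⟨g, g'⟩ | ⟨g, g'⟩ <;>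
      first
      | omega
      | (rcases P.u1 with p | p <;> rcases P.w1 with q | q <;>
          simp only [f', g', p, q] at hd2 hd1 <;> omega)

/-- One shared position. -/
theorem false_of_shift (h21 : ∀ x, T.X 2 x = -1 ∨ T.X 2 x = 0 ∨ T.X 2 x = 1) (ha2 : T.X 2 P.a = 0)
    (hda : T.d P.a = T.d P.c) (hXa : T.X 0 P.a = T.X 0 P.c)
    (hu2 : T.X 2 P.u = T.X 1 P.u) (hw2 : T.X 2 P.w = 0) : False := by
  have h02 := P.inner02
  rw [ha2, mul_zero, zero_add] at h02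
  have hb := sign_mul_cases P.b0 (h21 P.b)
  have hc := sign_mul_cases P.c0 (h21 P.c)
  obtain ⟨eb, eb'⟩ : T.X 0 P.b * T.X 2 P.b = 1 ∧ T.X 2 P.b = T.X 0 P.b := by omega
  obtain ⟨ec, ec'⟩ : T.X 0 P.c * T.X 2 P.c = 1 ∧ T.X 2 P.c = T.X 0 P.c := by omega
  have e0 := P.eq0
  have e1 := P.eq1
  have hd0 := P.deg0
  have hd1 := P.deg1
  simp only [z, P.a1, P.b1, P.c1, ha2, eb', ec', P.u0, P.w0, hu2, hw2, add_zero, zero_add] at e0 e1
  rw [← hXa, ← hda] at e0 hd0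
  have cA := T.congr P.a
  rw [P.a1, ha2] at cA
  have cU := T.congr P.u
  rw [P.u0, hu2] at cU
  have cW := T.congr P.w
  rw [P.w0, hw2] at cW
  obtain ⟨hW1, -, hW0⟩ := deg_ne_one P.wo P.w1
  push_cast at e0 e1
  have heq : 1 + 4 / ((T.X 0 P.a * T.d P.a : ℤ) : ℚ) =
      4 / ((T.X 1 P.u * T.d P.u : ℤ) : ℚ) + 1 / ((T.X 1 P.w * T.d P.w : ℤ) : ℚ) := by
    rw [div_eq_mul_one_div (4 : ℚ) ((T.X 0 P.a * T.d P.a : ℤ) : ℚ),
      div_eq_mul_one_div (4 : ℚ) ((T.X 1 P.u * T.d P.u : ℤ) : ℚ),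
      ← sign_div P.a0, ← sign_div P.u1, ← sign_div P.w1]
    linear_combination e0 - e1 - ((T.X 0 P.a : ℚ) * 4 / T.d P.a) * (sign_sq P.a0)
      + ((T.X 1 P.u : ℚ) * 4 / T.d P.u) * (sign_sq P.u1)
      + ((T.X 1 P.w : ℚ) / T.d P.w) * (sign_sq P.w1)
  obtain ⟨hA6, hU10, hW15⟩ := three_arith
    (by rcases P.a0 with e | e <;> rw [e] at cA ⊢ <;> omega)
    (by rcases P.u1 with e | e <;> rw [e] at cU ⊢ <;> omega)
    (by rcases P.w1 with e | e <;> rw [e] at cW ⊢ <;> omega) hW1 (by linarith) heq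
  have hB : T.X 0 P.b * T.d P.b = 11 := by linarith
  have e2 : 1 + 8 * (1 / ((T.X 0 P.a * T.d P.a : ℤ) : ℚ)) + 9 * (1 / ((T.X 0 P.b * T.d P.b : ℤ) : ℚ)) =
      1152 / (T.n : ℚ) := by
    rw [← sign_div P.a0, ← sign_div P.b0]
    linear_combination e0 - ((T.X 0 P.a : ℚ) * 8 / T.d P.a) * (sign_sq P.a0)
      - ((T.X 0 P.b : ℚ) * 9 / T.d P.b) * (sign_sq P.b0)
  rw [hA6, hB] at e2
  have hn : (T.n : ℚ) ≠ 0 := Nat.cast_ne_zero.2 T.n_ne
  norm_num at e2
  rw [eq_div_iff hn] at e2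
  have hn2 : T.n = 2376 := by
    have : (T.n : ℚ) = 2376 := by linarith
    exact_mod_cast this
  have hdu : T.d P.u = 10 := by rcases P.u1 with e | e <;> rw [e] at hU10 <;> omega
  have := T.dvd P.u
  rw [hdu, hn2] at this
  norm_num at this

/-- The same frame with the two new positions exchanged. -/
def swap (P : T.Frame) : T.Frame :=
  { a := P.a, b := P.b, c := P.c, u := P.w, w := P.u
    ab := P.ab, ac := P.ac, bc := P.bc, ao := P.ao, bo := P.bo, co := P.co, uw := P.uw.symm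
    ua := P.wa, ub := P.wb, uo := P.wo, uc := P.wc, wa := P.ua, wb := P.ub, wo := P.uo, wc := P.uc
    supp0 := P.supp0
    supp1 := fun x h => (P.supp1 x h).imp_right fun h' => h'.imp_right Or.symm
    a0 := P.a0, b0 := P.b0, c0 := P.c0, u0 := P.w0, w0 := P.u0
    a1 := P.a1, b1 := P.b1, c1 := P.c1, u1 := P.w1, w1 := P.u1 }

end Frame

open Classical in
/-- There is no such data. -/
theorem false_of_data (T : ThreeData ι) : False := by
  have ho0 : T.X 0 T.o = 1 := by rw [T.X_one, if_pos rfl]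
  have hnorm : ∀ i, ∑ x, T.X i x * T.X i x = 4 := fun i => by have := T.XX i i; rwa [if_pos rfl] at this
  have h01 : ∀ x, T.X 0 x = -1 ∨ T.X 0 x = 0 ∨ T.X 0 x = 1 := fun x => by
    by_cases hx : x = T.o
    · exact Or.inr (Or.inr (hx ▸ ho0))
    · refine abs_le_one_of_sq ?_
      have := Finset.sum_le_sum_of_subset_of_nonneg (f := fun y => T.X 0 y * T.X 0 y)
        (Finset.subset_univ ({x, T.o} : Finset ι)) (fun y _ _ => mul_self_nonneg _)
      rw [Finset.sum_pair hx, ho0, hnorm] at this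
      linarith
  have h11 : ∀ x, T.X 1 x = -1 ∨ T.X 1 x = 0 ∨ T.X 1 x = 1 := fun x => by
    have hle : T.X 1 x * T.X 1 x ≤ 4 := (hnorm 1) ▸ Finset.single_le_sum (f := fun y => T.X 1 y * T.X 1 y)
      (fun y _ => mul_self_nonneg _) (Finset.mem_univ x)
    have hb1 : -3 < T.X 1 x := by nlinarith
    have hb2 : T.X 1 x < 3 := by nlinarith
    by_contra hcon
    have h2 : T.X 1 x * T.X 1 x = 4 := by
      rcases (show T.X 1 x = 2 ∨ T.X 1 x = -2 by omega) with e | e <;> rw [e] <;> norm_num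
    have hz : ∀ y, y ≠ x → T.X 1 y = 0 := fun y hy => by
      have := Finset.sum_le_sum_of_subset_of_nonneg (f := fun w => T.X 1 w * T.X 1 w)
        (Finset.subset_univ ({y, x} : Finset ι)) (fun w _ _ => mul_self_nonneg _)
      rw [Finset.sum_pair hy, hnorm] at this
      exact mul_self_eq_zero.1 (le_antisymm (by linarith) (mul_self_nonneg _))
    have h := T.X_deg 1
    rw [Finset.sum_eq_single x (fun y _ hy => by rw [hz y hy, zero_mul])
      (fun h' => absurd (Finset.mem_univ x) h')] at h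
    have := T.d_pos x
    rcases mul_eq_zero.1 h with e | e <;> omega
  have h21 : ∀ x, T.X 2 x = -1 ∨ T.X 2 x = 0 ∨ T.X 2 x = 1 := fun x => T.s_X1 x ▸ h11 _
  have hcard : ∀ i, (∀ x, T.X i x = -1 ∨ T.X i x = 0 ∨ T.X i x = 1) →
      ((Finset.univ : Finset ι).filter fun x => T.X i x ≠ 0).card = 4 := fun i hi => by
    have h := hnorm i
    rw [← Finset.sum_filter_of_ne (p := fun x => T.X i x ≠ 0) (fun x _ hx => left_ne_zero_of_mul hx),
      Finset.sum_congr rfl (g := fun _ => (1 : ℤ)) (fun x hx => by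
        rcases hi x with e | e | e
        · simp [e]
        · exact absurd e (Finset.mem_filter.1 hx).2
        · simp [e]), Finset.sum_const, nsmul_eq_mul, mul_one] at h
    exact_mod_cast h
  set S0 := (Finset.univ : Finset ι).filter fun x => T.X 0 x ≠ 0 with hS0
  have hoS : T.o ∈ S0 := Finset.mem_filter.2 ⟨Finset.mem_univ _, by simp [ho0]⟩
  obtain ⟨p, q, r, hpq, hpr, hqr, he⟩ := Finset.card_eq_three.1
    (show (S0.erase T.o).card = 3 by rw [Finset.card_erase_of_mem hoS, hcard 0 h01])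
  have hval : ∀ x ∈ S0.erase T.o, (T.X 0 x = -1 ∨ T.X 0 x = 1) ∧ x ≠ T.o := fun x hx => by
    refine ⟨?_, Finset.ne_of_mem_erase hx⟩
    rcases h01 x with e | e | e
    · exact Or.inl e
    · exact absurd e (Finset.mem_filter.1 (Finset.mem_of_mem_erase hx)).2
    · exact Or.inr e
  have hin : ∀ i, i ≠ 0 →
      T.X 0 p * T.X i p + T.X 0 q * T.X i q + T.X 0 r * T.X i r = 2 := fun i hi => by
    have h := T.XX 0 i
    rw [if_neg hi.symm, ← Finset.sum_filter_of_ne (p := fun x => T.X 0 x ≠ 0)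
      (fun x _ hx => left_ne_zero_of_mul hx), ← hS0,
      ← Finset.add_sum_erase S0 _ hoS, T.X_one i, if_neg hi, mul_zero, zero_add, he,
      Finset.sum_insert (by simp [hpq, hpr]), Finset.sum_pair hqr] at h
    linarith
  have hmem : ∀ x, x = p ∨ x = q ∨ x = r → x ∈ S0.erase T.o := fun x hx => by rw [he]; simpa using hx
  -- the zero of the third function
  obtain ⟨x₀, hx₀, hx₀2⟩ : ∃ x, (x = p ∨ x = q ∨ x = r) ∧ T.X 2 x = 0 := by
    have h := hin 2 (by decide)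
    have h1 := sign_mul_cases (hval p (hmem p (Or.inl rfl))).1 (h21 p)
    have h2 := sign_mul_cases (hval q (hmem q (Or.inr (Or.inl rfl)))).1 (h21 q)
    have h3 := sign_mul_cases (hval r (hmem r (Or.inr (Or.inr rfl)))).1 (h21 r)
    rcases h1 with ⟨e, -⟩ | ⟨e, e'⟩ | ⟨e, -⟩
    rotate_left
    · exact ⟨p, Or.inl rfl, e'⟩
    all_goals
      rcases h2 with ⟨f, -⟩ | ⟨f, f'⟩ | ⟨f, -⟩
      rotate_left
      · exact ⟨q, Or.inr (Or.inl rfl), f'⟩
      all_goals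
        rcases h3 with ⟨g, -⟩ | ⟨g, g'⟩ | ⟨g, -⟩
        rotate_left
        · exact ⟨r, Or.inr (Or.inr rfl), g'⟩
        all_goals omega
  obtain ⟨a, b, c, hab, hac, hbc, hset, hXa, hXb, hXc, hpos⟩ : ∃ a b c, a ≠ b ∧ a ≠ c ∧ b ≠ c ∧
      (∀ x, (x = p ∨ x = q ∨ x = r) ↔ (x = a ∨ x = b ∨ x = c)) ∧
      T.X 1 a = T.X 0 a ∧ T.X 1 b = T.X 0 b ∧ T.X 1 c = 0 ∧ (x₀ = a ∨ x₀ = c) := by
    have h := hin 1 (by decide)
    have h1 := sign_mul_cases (hval p (hmem p (Or.inl rfl))).1 (h11 p)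
    have h2 := sign_mul_cases (hval q (hmem q (Or.inr (Or.inl rfl)))).1 (h11 q)
    have h3 := sign_mul_cases (hval r (hmem r (Or.inr (Or.inr rfl)))).1 (h11 r)
    rcases (show (T.X 1 p = 0 ∧ T.X 1 q = T.X 0 q ∧ T.X 1 r = T.X 0 r) ∨
        (T.X 1 p = T.X 0 p ∧ T.X 1 q = 0 ∧ T.X 1 r = T.X 0 r) ∨
        (T.X 1 p = T.X 0 p ∧ T.X 1 q = T.X 0 q ∧ T.X 1 r = 0) by omega) with
      ⟨e1, e2, e3⟩ | ⟨e1, e2, e3⟩ | ⟨e1, e2, e3⟩
    · by_cases hb : x₀ = r
      · exact ⟨r, q, p, hqr.symm, hpr.symm, hpq.symm, fun x => ⟨by rintro (h | h | h) <;> simp [h], by rintro (h | h | h) <;> simp [h]⟩, e3, e2, e1, Or.inl hb⟩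
      · exact ⟨q, r, p, hqr, hpq.symm, hpr.symm, fun x => ⟨by rintro (h | h | h) <;> simp [h], by rintro (h | h | h) <;> simp [h]⟩, e2, e3, e1, by rcases hx₀ with h | h | h <;> first | exact absurd h hb | simp [h]⟩
    · by_cases hb : x₀ = r
      · exact ⟨r, p, q, hpr.symm, hqr.symm, hpq, fun x => ⟨by rintro (h | h | h) <;> simp [h], by rintro (h | h | h) <;> simp [h]⟩, e3, e1, e2, Or.inl hb⟩
      · exact ⟨p, r, q, hpr, hpq, hqr.symm, fun x => ⟨by rintro (h | h | h) <;> simp [h], by rintro (h | h | h) <;> simp [h]⟩, e1, e3, e2, by rcases hx₀ with h | h | h <;> first | exact absurd h hb | simp [h]⟩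
    · by_cases hb : x₀ = q
      · exact ⟨q, p, r, hpq.symm, hqr, hpr, fun x => ⟨by rintro (h | h | h) <;> simp [h], by rintro (h | h | h) <;> simp [h]⟩, e2, e1, e3, Or.inl hb⟩
      · exact ⟨p, q, r, hpq, hpr, hqr, fun x => ⟨by rintro (h | h | h) <;> simp [h], by rintro (h | h | h) <;> simp [h]⟩, e1, e2, e3, by rcases hx₀ with h | h | h <;> first | exact absurd h hb | simp [h]⟩
  have hma := hval a (hmem a ((hset a).2 (Or.inl rfl)))
  have hmb := hval b (hmem b ((hset b).2 (Or.inr (Or.inl rfl))))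
  have hmc := hval c (hmem c ((hset c).2 (Or.inr (Or.inr rfl))))
  have hsupp0 : ∀ x, T.X 0 x ≠ 0 → x = T.o ∨ x = a ∨ x = b ∨ x = c := fun x hx => by
    by_cases hxo : x = T.o
    · exact Or.inl hxo
    · have : x ∈ S0.erase T.o :=
        Finset.mem_erase.2 ⟨hxo, Finset.mem_filter.2 ⟨Finset.mem_univ _, hx⟩⟩
      rw [he] at this
      simp only [Finset.mem_insert, Finset.mem_singleton] at this
      exact Or.inr ((hset x).1 this)
  -- the two further positions of the second function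
  set S1 := (Finset.univ : Finset ι).filter fun x => T.X 1 x ≠ 0 with hS1
  have ha1 : a ∈ S1 := Finset.mem_filter.2 ⟨Finset.mem_univ _, by rw [hXa]; have := hma.1; omega⟩
  have hb1 : b ∈ S1 := Finset.mem_filter.2 ⟨Finset.mem_univ _, by rw [hXb]; have := hmb.1; omega⟩
  obtain ⟨u, w, huw, hrest⟩ := Finset.card_eq_two.1
    (show ((S1.erase a).erase b).card = 2 by
      rw [Finset.card_erase_of_mem (Finset.mem_erase.2 ⟨hab.symm, hb1⟩),
        Finset.card_erase_of_mem ha1, hcard 1 h11])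
  have hnew : ∀ x, x = u ∨ x = w →
      T.X 0 x = 0 ∧ x ≠ a ∧ x ≠ b ∧ x ≠ T.o ∧ x ≠ c ∧ (T.X 1 x = -1 ∨ T.X 1 x = 1) := by
    intro x hx
    have hx0 : x ∈ (S1.erase a).erase b := by rw [hrest]; simpa using hx
    obtain ⟨hxb, hx'⟩ := Finset.mem_erase.1 hx0
    obtain ⟨hxa, hx''⟩ := Finset.mem_erase.1 hx'
    have h1 := (Finset.mem_filter.1 hx'').2
    have hxo : x ≠ T.o := fun e => h1 (by rw [e, T.X_one]; rfl)
    have hxc : x ≠ c := fun e => h1 (e ▸ hXc)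
    refine ⟨?_, hxa, hxb, hxo, hxc, by rcases h11 x with e | e | e <;> omega⟩
    by_contra h
    rcases hsupp0 x h with e | e | e | e <;> contradiction
  have hsupp1 : ∀ x, T.X 1 x ≠ 0 → x = a ∨ x = b ∨ x = u ∨ x = w := fun x hx => by
    by_cases hxa : x = a
    · exact Or.inl hxa
    by_cases hxb : x = b
    · exact Or.inr (Or.inl hxb)
    have : x ∈ (S1.erase a).erase b :=
      Finset.mem_erase.2 ⟨hxb, Finset.mem_erase.2 ⟨hxa, Finset.mem_filter.2 ⟨Finset.mem_univ _, hx⟩⟩⟩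
    rw [hrest] at this
    simp only [Finset.mem_insert, Finset.mem_singleton] at this
    exact Or.inr (Or.inr this)
  obtain ⟨hu0, hua, hub, huo, huc, hu1⟩ := hnew u (Or.inl rfl)
  obtain ⟨hw0, hwa, hwb, hwo, hwc, hw1⟩ := hnew w (Or.inr rfl)
  let P : T.Frame :=
    ⟨a, b, c, u, w, hab, hac, hbc, hma.2, hmb.2, hmc.2, huw, hua, hub, huo, huc, hwa, hwb, hwo, hwc,
      hsupp0, hsupp1, hma.1, hmb.1, hmc.1, hu0, hw0, hXa, hXb, hXc, hu1, hw1⟩
  by_cases hxc : x₀ = c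
  · subst hxc
    exact P.false_of_same h21 hx₀2
  obtain rfl := hpos.resolve_right hxc
  -- the power map moves the position
  have h0 : T.X 0 (T.s x₀) ≠ 0 := by
    rw [T.s_X0]; have := hma.1; omega
  have h1 : T.X 1 (T.s x₀) = 0 := by rw [T.s_X1]; exact hx₀2
  obtain ⟨hdac, hXac⟩ : T.d x₀ = T.d c ∧ T.X 0 x₀ = T.X 0 c := by
    rcases hsupp0 _ h0 with e | e | e | e
    · have h := T.s_d x₀
      rw [e, T.d_o] at h
      have := T.d_two x₀ hma.2
      omega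
    · rw [e, hXa] at h1; have := hma.1; omega
    · rw [e, hXb] at h1; have := hmb.1; omega
    · exact ⟨by rw [← e, T.s_d], by rw [← e, T.s_X0]⟩
  have h12 := P.inner12
  have h02 := P.inner02
  simp only [P, hx₀2, mul_zero, zero_add] at h12 h02
  have hb := sign_mul_cases hmb.1 (h21 b)
  have hc := sign_mul_cases hmc.1 (h21 c)
  have hu := sign_mul_cases hu1 (h21 u)
  have hw := sign_mul_cases hw1 (h21 w)
  rcases (show (T.X 2 u = T.X 1 u ∧ T.X 2 w = 0) ∨ (T.X 2 w = T.X 1 w ∧ T.X 2 u = 0) by omega) with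
    ⟨e1, e2⟩ | ⟨e1, e2⟩
  · exact P.false_of_shift h21 hx₀2 hdac hXac e1 e2
  · exact P.swap.false_of_shift h21 hx₀2 hdac hXac e1 e2

end ThreeData

end CfsgLib.JT
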