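import Cfsg.Agent.JankoThompson.SectVec
import Cfsg.Agent.JankoThompson.ThreeArith
import Cfsg.Agent.Char.Central
import Cfsg.Agent.J1Order.Main
import Mathlib.GroupTheory.Sylow

/-!
No simple group with all involutions conjugate has an involution centraliser `C₂ × PSL₂(3)`.
-/

set_option autoImplicit false
set_option linter.style.haveILetI false
set_option linter.unusedSectionVars false

namespace CfsgLib.JT

open CfsgLib.Char Finset
open scoped ComplexConjugate Classical

universe u v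

variable {G : Type u} [Group G] [Fintype G] {L : Type v} [Group L] [Fintype L] {p : ℕ} {Q k h : ℤ}

attribute [local instance] LFns.lamFin

/-- For `Q = 3` there are no further functions. -/
theorem LFns.lamT_isEmpty (Lf : LFns L p Q k h) (hQ : Q = 3) : IsEmpty Lf.lamT := by
  have hk1 : k = 1 := by have := Lf.hk; omega
  have hh1 : h = 1 := by have := Lf.hh; omega
  subst hQ hk1 hh1
  have hz2 : ∀ (s : Finset (↥Lf.A →* ℂˣ)) (f : (↥Lf.A →* ℂˣ) → ℂ), (∀ μ ∈ s, μ ≠ 1) → ∑ μ ∈ s, f μ = 0 := by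
    intro s f hs
    refine Finset.sum_eq_zero fun μ hμ => absurd ?_ (hs μ hμ)
    haveI : Subsingleton ↥Lf.A := by
      refine Finite.card_le_one_iff_subsingleton.1 ?_
      have := Lf.cardA
      rw [abs_one] at this
      omega
    exact MonoidHom.ext fun a => by rw [Subsingleton.elim a 1, map_one, map_one]
  set Φ : L → ℂ := fun x => if x = 1 then 2 * (Nat.card L : ℂ) else 0 with hΦ
  have hΦ' : Φ = (2 : ℂ) • Lf.phi 0 + (2 : ℂ) • Lf.phi 1 + (2 : ℂ) • Lf.phi 2 + (8 : ℂ) • ∑ l, Lf.phiL l := by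
    funext x
    have h := Lf.delta x
    rw [hz2 _ (fun μ => Lf.phiM μ x) (by intro μ hμ; simpa using hμ)] at h
    rw [hΦ]
    simp only [Pi.add_apply, Pi.smul_apply, smul_eq_mul, Finset.sum_apply]
    rw [h]
    push_cast
    ring
  have h1 : Cfsg.classInner Φ Φ = 4 * (Nat.card L : ℂ) := by
    rw [classInner_def, Finset.sum_eq_single (1 : L) (fun x _ hx => by simp [hΦ, hx])
      (fun h => absurd (Finset.mem_univ _) h)]
    have hne : (Nat.card L : ℂ) ≠ 0 := by simp
    simp only [hΦ, if_pos, map_mul, map_ofNat, map_natCast]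
    field_simp
    ring
  have hsym : ∀ i l, Cfsg.classInner (Lf.phiL l) (Lf.phi i) = 0 := fun i l => by
    rw [← classInner_conj, Lf.phi_phiL, map_zero]
  have hn : Cfsg.classInner (∑ l, Lf.phiL l) (∑ l, Lf.phiL l) = (Fintype.card Lf.lamT : ℂ) := by
    rw [classInner_sum_left]
    simp [classInner_sum_right, Lf.phiL_phiL]
  have h3 : 2 * (Nat.card L : ℂ) = 24 := by
    have h : ((2 * (Nat.card L : ℤ) : ℤ) : ℂ) = ((|(3 : ℤ)| * ((3 : ℤ) ^ 2 - 1) : ℤ) : ℂ) := by rw [Lf.card]
    norm_num at h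
    rw [Nat.card_eq_fintype_card]
    exact h
  rw [hΦ'] at h1
  simp only [classInner_add_left, classInner_add_right, classInner_smul_left, classInner_smul_right,
    classInner_sum_left, classInner_sum_right, Lf.phi_phi, Lf.phi_phiL, hsym, Lf.phiL_phiL,
    Finset.sum_const_zero, mul_zero, add_zero, zero_add, Finset.sum_ite_eq, Finset.mem_univ, if_true,
    Finset.sum_const, Finset.card_univ, nsmul_eq_mul, mul_one, map_ofNat] at h1
  norm_num at h1
  simp (config := { decide := true }) only [if_true, if_false] at h1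
  rw [← Nat.card_eq_fintype_card (α := L)] at h1
  have h0 : (Fintype.card Lf.lamT : ℂ) = 0 := by linear_combination (1 / 64 : ℂ) * h1 + (1 / 32 : ℂ) * h3
  exact Fintype.card_eq_zero_iff.1 (Nat.cast_eq_zero.1 h0)

theorem Ctx.false_of_three [IsSimpleGroup G] (hnc : ¬ ∀ x y : G, x * y = y * x) (K : Ctx G L)
    (Lf : LFns L p Q k h) (hQ : |Q| = 3)
    (hsyl : ∀ P : Sylow 2 G, Nat.card (P : Subgroup G) = 8 ∧ ∀ x ∈ (P : Subgroup G), x * x = 1) :
    False := by
  have hQ3 : Q = 3 := by have := Lf.hQ8; rcases abs_choice Q with e | e <;> omega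
  subst hQ3
  haveI := Lf.lamT_isEmpty rfl
  have hk1 : k = 1 := by have := Lf.hk; omega
  have hh1 : h = 1 := by have := Lf.hh; omega
  subst hk1 hh1
  have hA : Subsingleton ↥Lf.A := by
    refine Finite.card_le_one_iff_subsingleton.1 ?_
    have := Lf.cardA
    rw [abs_one] at this
    omega
  haveI : IsEmpty (Pair ↥Lf.A) := ⟨fun m => m.rep_ne (MonoidHom.ext fun a => by
    rw [Subsingleton.elim a 1, map_one, map_one])⟩
  have hz : ∀ c, K.vz Lf c = K.vX Lf 0 c + (K.vX Lf 1 c + K.vX Lf 2 c) := fun c => by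
    simp [Ctx.vz]
  haveI := Fact.mk Lf.hp
  obtain ⟨a, hcop, hsq, hmod⟩ := exists_swap_exponent (n := Nat.card G) Lf.hp Lf.hodd Nat.card_pos
  obtain ⟨s, hs⟩ := exists_powPerm hcop
  have hLd : Nat.card L ∣ Nat.card G := Subgroup.card_dvd_of_injective K.emb K.emb_inj
  have hsw := Lf.swap a hsq fun d hd hpd => hmod d (hd.trans hLd) hpd
  haveI : Fact (Nat.Prime 2) := ⟨Nat.prime_two⟩
  obtain ⟨S⟩ : Nonempty (Sylow 2 G) := inferInstance
  have hL : 2 * (Nat.card L : ℂ) = 24 := by
    have h : ((2 * (Nat.card L : ℤ) : ℤ) : ℂ) = ((|(3 : ℤ)| * ((3 : ℤ) ^ 2 - 1) : ℤ) : ℂ) := by rw [Lf.card]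
    norm_num at h
    rw [Nat.card_eq_fintype_card]
    exact h
  refine ThreeData.false_of_data
    { o := triv G, d := deg, d_pos := deg_pos, d_o := deg_triv
      d_two := ?_
      X := K.vX Lf, XX := K.vXX Lf, X_one := K.vX_one Lf, X_deg := K.vX_deg Lf
      s := s
      s_d := ?_
      s_X0 := fun c => K.mlt_sect_pow hcop (Lf.phi_gen 0) (Lf.phi_gen 0) (fun x => (hsw x).1) hs c
      s_X1 := fun c => K.mlt_sect_pow hcop (Lf.phi_gen 2) (Lf.phi_gen 1) (fun x => (hsw x).2.2.1) hs c
      congr := ?_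
      n := Nat.card G, n_ne := Nat.card_pos.ne'
      dvd := fun c => IsIrrCharacter.degree_dvd_card (mem_irrFinset.1 c.2) (deg_spec c)
      pairs := ?_ }
  · intro c hc
    by_contra hlt
    have h1 : deg c = 1 := by have := deg_pos c; omega
    exact hc (Subtype.ext (CfsgLib.J1Order.eq_one_of_degree_one hnc (mem_irrFinset.1 c.2)
      (by rw [deg_spec, h1, Nat.cast_one])))
  · intro c
    have h1 := hs c 1
    rw [one_pow, deg_spec, deg_spec] at h1
    exact_mod_cast h1
  · intro c
    obtain ⟨N, hN⟩ := IsGeneralized.exists_classInner_eq_int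
      (isGeneralized_one (G := ↥(S : Subgroup G)))
      (IsGeneralized.comp (IsIrrCharacter.isGeneralized (mem_irrFinset.1 c.2)) (S : Subgroup G).subtype)
    refine ⟨N, (Int.cast_inj (α := ℂ)).1 ?_⟩
    rw [classInner_def, (hsyl S).1, ← Finset.add_sum_erase _ _ (Finset.mem_univ (1 : ↥(S : Subgroup G))),
      Finset.sum_congr rfl (g := fun _ => ((K.vz Lf c : ℤ) : ℂ)) fun x hx => ?_, Finset.sum_const,
      Finset.card_erase_of_mem (Finset.mem_univ _), Finset.card_univ, ← Nat.card_eq_fintype_card, (hsyl S).1,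
      nsmul_eq_mul, one_mul] at hN
    · simp only [map_one, deg_spec, Complex.conj_natCast, Subgroup.coe_subtype, OneMemClass.coe_one] at hN
      rw [← hz c]
      push_cast at hN ⊢
      linear_combination (8 : ℂ) * hN
    · rw [one_mul]
      show conj ((c : G → ℂ) (x : G)) = _
      rw [← IsClassFunction.apply_eq_of_isConj (isClassFunction_irr c) (K.conjInv _ ?_), K.apply_t Lf c,
        map_intCast]
      refine orderOf_eq_prime (by rw [sq]; exact (hsyl S).2 _ x.2) fun e => ?_
      exact Finset.ne_of_mem_erase hx (Subtype.ext e)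
  · intro i
    have e := K.vX_pairs Lf i
    set T : ℚ := ∑ c, (K.vX Lf i c : ℚ) * (K.vz Lf c : ℚ) ^ 2 / (deg c : ℚ) with hT
    have hTeq : (∑ c, (K.vX Lf i c : ℚ) *
        ((K.vX Lf 0 c + (K.vX Lf 1 c + K.vX Lf 2 c) : ℤ) : ℚ) ^ 2 / (deg c : ℚ)) = T :=
      Finset.sum_congr rfl fun c _ => by rw [hz c]
    rw [hTeq, eq_div_iff (by simp : (Nat.card G : ℚ) ≠ 0)]
    refine Rat.cast_injective (α := ℂ) ?_
    push_cast
    have hLne : (Nat.card L : ℂ) = 12 := by linear_combination (1 / 2 : ℂ) * hL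
    rw [hLne] at e
    by_cases hi : i = 0
    · subst hi
      have h1 := Lf.pairs0
      rw [hLne] at h1
      norm_num [-Nat.card_eq_fintype_card] at h1
      linear_combination (48 : ℂ) * e + (48 : ℂ) * h1
    · have h1 := Lf.pairs1 i hi
      rw [hLne] at h1
      norm_num [-Nat.card_eq_fintype_card] at h1
      linear_combination (48 : ℂ) * e + (12 : ℂ) * h1

end CfsgLib.JT
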