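import Cfsg.Agent.JankoThompson.Prelim
import Cfsg.Agent.JankoThompson.Three
import Cfsg.Agent.JankoThompson.FreeVec
import Cfsg.Agent.JankoThompson.LocalMain
import Cfsg.Agent.JankoThompson.LChar
import Cfsg.Agent.JankoThompson.Pattern
import Cfsg.Agent.JankoThompson.FixedShape
import Cfsg.Agent.CTwoAbelian.Cover
import Cfsg.Agent.InvChar.OneSixtyEight
import Cfsg.Agent.J1Order.Main
import Cfsg.Prelude.Def_Sporadic
import Mathlib.FieldTheory.Finite.GaloisField

/-!
Simple groups with abelian Sylow two-subgroups and an involution centraliser `C₂ × PSL₂(q)`, given that the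
element of order three acts freely on the torus.
-/

set_option autoImplicit false
set_option linter.style.haveILetI false

namespace CfsgLib.JT

open Subgroup
open CfsgLib.Linear.SmallSub (P2)

universe u v

attribute [local instance] LFns.lamFin

/-- Every field is isomorphic to one in the lowest universe. -/
theorem exists_small_field (F : Type v) [Field F] [Fintype F] :
    ∃ (F₀ : Type) (_ : Field F₀) (_ : Fintype F₀), Fintype.card F₀ = Fintype.card F ∧
      Nonempty (P2 F ≃* P2 F₀) := by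
  obtain ⟨p, hp, n, hn⟩ := FiniteField.card' F
  haveI := Fact.mk hn.1
  haveI := Fintype.ofFinite (GaloisField p n)
  have hc : Fintype.card F = Fintype.card (GaloisField p n) := by
    rw [← Nat.card_eq_fintype_card (α := GaloisField p n), GaloisField.card p n n.pos.ne', hn.2]
  refine ⟨GaloisField p n, inferInstance, inferInstance, hc.symm, ?_⟩
  haveI := hp
  letI := ZMod.algebra F p
  obtain ⟨f⟩ : Nonempty (F ≃+* GaloisField p n) :=
    ⟨(GaloisField.algEquivGaloisFieldOfFintype p n hn.2).toRingEquiv⟩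
  exact CfsgLib.InvChar.psl_congr f

/-- A field order with a third of itself a rational square is an odd power of three. -/
theorem three_pow_of_sq {q : ℕ} (hq : 3 < q) (hpp : IsPrimePow q) {r : ℚ} (hr : 3 * r ^ 2 = (q : ℚ)) :
    ∃ m : ℕ, 1 ≤ m ∧ q = 3 ^ (2 * m + 1) := by
  have hden : (r.den : ℤ) ^ 2 * q = 3 * r.num ^ 2 := by
    have hd : (r.den : ℚ) ≠ 0 := by simp
    have h : (r.den : ℚ) ^ 2 * q = 3 * (r.num : ℚ) ^ 2 := by
      rw [← hr, ← Rat.mul_den_eq_num]; ring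
    exact_mod_cast h
  have hq3 : (r.den : ℕ) ^ 2 * q = 3 * r.num.natAbs ^ 2 := by
    have h := congrArg Int.natAbs hden
    simpa [Int.natAbs_mul, Int.natAbs_pow] using h
  have hd1 : r.den = 1 := by
    have hcop : (r.den ^ 2).Coprime (r.num.natAbs ^ 2) := Nat.Coprime.pow 2 2 r.reduced.symm
    have h3 : r.den ^ 2 ∣ 3 := hcop.dvd_of_dvd_mul_right ⟨q, hq3.symm⟩
    rcases (Nat.dvd_prime Nat.prime_three).1 h3 with h | h
    · exact (Nat.pow_eq_one.1 h).resolve_right (by norm_num)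
    · exfalso
      have : r.den < 2 := by nlinarith
      interval_cases r.den <;> simp_all
  rw [hd1, one_pow, one_mul] at hq3
  obtain ⟨p, n, hp, hn, hpn⟩ := (isPrimePow_def q).1 hpp
  have hp' := hp.nat_prime
  have hp3 : p = 3 := ((Nat.prime_dvd_prime_iff_eq Nat.prime_three hp').1
    (Nat.prime_three.dvd_of_dvd_pow (hpn.symm ▸ hq3 ▸ Dvd.intro _ rfl))).symm
  subst hp3
  obtain ⟨j, -, hj⟩ := (Nat.dvd_prime_pow Nat.prime_three).1
    (show r.num.natAbs ∣ 3 ^ n from hpn.symm ▸ hq3 ▸ Dvd.intro_left _ (by ring : 3 * r.num.natAbs * r.num.natAbs = _))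
  refine ⟨j, ?_, by rw [hq3, hj]; ring⟩
  by_contra h
  rw [hq3, hj, show j = 0 by omega] at hq
  norm_num at hq

/-- The conclusion, given the freeness of the torus. -/
theorem main_of_free {G : Type u} [Group G] [Finite G] [IsSimpleGroup G]
    (hfree : ∀ [Fintype G] {L : Type} [Group L] [Fintype L] {p : ℕ} {Q k h : ℤ} (K : Ctx G L)
      (Lf : LFns L p Q k h) [IsCyclic Lf.A]
      (_ : ∀ P : Sylow 2 G, Nat.card (P : Subgroup G) = 8 ∧ ∀ x ∈ (P : Subgroup G), x * x = 1)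
      (D : Loc G) (_ : D.t = K.t) (_ : D.U = Subgroup.closure ({K.t, K.emb Lf.i0} : Set G))
      (_ : D.A = Lf.A.map K.emb), D.Free)
    (hab : ∀ P : Sylow 2 G, ∀ a b : P, a * b = b * a) {F : Type v} [Field F] [Fintype F]
    (hq : 3 ≤ Fintype.card F) {t : G} (ht : orderOf t = 2)
    (e : ↥(centralizer ({t} : Set G)) ≃* Multiplicative (ZMod 2) × P2 F) :
    (∃ m : ℕ, 1 ≤ m ∧ Fintype.card F = 3 ^ (2 * m + 1) ∧
        Nat.card G = (3 ^ (2 * m + 1)) ^ 3 * ((3 ^ (2 * m + 1)) ^ 3 + 1) * (3 ^ (2 * m + 1) - 1)) ∨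
      ((Fintype.card F = 4 ∨ Fintype.card F = 5) ∧ Cfsg.IsJ1 G) := by
  classical
  letI := Fintype.ofFinite G
  obtain ⟨F₀, _, _, hc₀, ⟨f⟩⟩ := exists_small_field F
  have hnc : ¬ ∀ x y : G, x * y = y * x := fun h => not_comm ht hq e ⟨⟨h⟩⟩
  by_cases h45 : Fintype.card F = 4 ∨ Fintype.card F = 5
  · right
    refine ⟨h45, inferInstance, ?_⟩
    obtain ⟨g⟩ : Nonempty (P2 F₀ ≃* alternatingGroup (Fin 5)) := by
      rcases h45 with h | h
      · exact CfsgLib.CTwoAbelian.nonempty_psl_two_four_alt (hc₀.trans h)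
      · exact CfsgLib.Linear.Small.nonempty_psl_two_five (hc₀.trans h)
    obtain ⟨S, htS, hle⟩ := exists_sylow_le ht hab
    exact CfsgLib.J1Order.card_eq (e.trans (MulEquiv.prodCongr (MulEquiv.refl _) (f.trans g))) ht
      ⟨S, htS, fun x hx => mem_centralizer_singleton_iff.1 (hle hx)⟩
  left
  obtain ⟨hodd, h8⟩ := (field_cases ht hab hq e).resolve_left fun h => h45 (Or.inl h)
  obtain ⟨K, hKt⟩ := exists_ctx ht hab hq hodd f e
  have hsyl := sylow_eight ht hab hq e
  letI : Fintype (P2 F₀) := Fintype.ofFinite _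
  obtain ⟨p, Q, k, h, hQ, ⟨Lf⟩⟩ := exists_LFns (F := F₀) (by rwa [hc₀])
  rw [hc₀] at hQ
  rcases eq_or_lt_of_le hq with h3 | h3
  · exact (K.false_of_three hnc Lf (by rw [hQ, ← h3]; rfl) hsyl).elim
  have h11 : 11 ≤ Fintype.card F := by
    have := Nat.odd_iff.1 hodd
    omega
  have hQ8 := Lf.hQ8
  have hk := Lf.hk
  have hkA : 4 * (Nat.card Lf.A : ℤ) = if Fintype.card F % 4 = 1 then (Fintype.card F : ℤ) - 1
      else (Fintype.card F : ℤ) + 1 := by
    rw [Lf.cardA]
    rcases abs_choice Q with eQ | eQ <;> rcases abs_choice k with ek | ek <;>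
      rw [eQ] at hQ <;> rw [ek] <;> split_ifs <;> have := abs_nonneg k <;> omega
  have hA2 : 1 < Nat.card Lf.A := by
    split_ifs at hkA <;> omega
  have hA4 : 4 * Nat.card Lf.A = if Fintype.card F₀ % 4 = 1 then Fintype.card F₀ - 1 else Fintype.card F₀ + 1 := by
    rw [hc₀]
    split_ifs at hkA ⊢ <;> omega
  have hAodd : Odd (Nat.card Lf.A) := by
    rw [Nat.odd_iff]
    split_ifs at hkA <;> omega
  have hL : LShape Lf.A Lf.i0 Lf.j0 := lshape (by rwa [hc₀]) Lf.i0_ord Lf.j0_ord Lf.i0_j0 Lf.commA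
    Lf.i0_A Lf.j0_A hA2 hA4
  have hA1 : Lf.A ≠ ⊥ := fun hbot => by rw [hbot, card_bot] at hA2; omega
  haveI : IsCyclic Lf.A := isCyclic_of_cent_invol (by rwa [hc₀]) hL.hi hAodd fun a ha => Lf.i0_A a ha
  obtain ⟨D, hDt, hDU, hDA, hy, -⟩ := K.exists_loc hL hA1 hsyl
  have hF := K.freeTorus_of_free (j0 := Lf.j0) hA1 D hDt hDU hDA hy (hfree K Lf hsyl D hDt hDU hDA)
  obtain ⟨V, hVg⟩ := K.exists_vecs Lf hF
  obtain ⟨hg, r, hr⟩ := V.conclusion
  have hQpos : 0 ≤ Q := by
    have : (0 : ℚ) ≤ (Q : ℚ) := hr ▸ by positivity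
    exact_mod_cast this
  have hQq : Q = (Fintype.card F : ℤ) := by rwa [abs_of_nonneg hQpos] at hQ
  subst hQq
  obtain ⟨m, hm, hqm⟩ := three_pow_of_sq h3 (FiniteField.isPrimePow_card F) (r := r) (by exact_mod_cast hr)
  refine ⟨m, hm, hqm, ?_⟩
  rw [hVg, gSigned, if_neg (by omega)] at hg
  rw [← hqm]
  set q := Fintype.card F
  have h1 : 1 ≤ q := by omega
  refine (Nat.cast_inj (R := ℚ)).1 ?_
  push_cast [Nat.cast_sub h1] at hg ⊢
  rw [hg]
  ring

end CfsgLib.JT
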