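import Cfsg.Agent.JankoThompson.Setting
import Mathlib.Algebra.BigOperators.Ring.Finset
import Mathlib.Algebra.Order.BigOperators.Ring.Finset
import Mathlib.Algebra.BigOperators.Group.Finset.Piecewise
import Mathlib.Algebra.Field.Rat
import Mathlib.Algebra.Order.Ring.Rat
import Mathlib.Tactic.LinearCombination
import Mathlib.Tactic.FieldSimp
import Mathlib.Tactic.Linarith
import Mathlib.Tactic.IntervalCases

/-!
The principal 2-block, with the signs of the three columns of the involution section absorbed into the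
degrees, and the part of the argument which depends on one orbit of the free torus only.
-/

set_option autoImplicit false

namespace CfsgLib.JT

universe u v w

open Classical

variable {ι : Type u} {M : Type v} {Λ : Type w} [Fintype ι] [Fintype M] [Fintype Λ] {Q k h : ℤ}

/-- `Vecs` after multiplying each coordinate by a sign, so that the columns `X` consist of `0`s and `1`s. -/
structure SVecs (ι : Type u) (M : Type v) (Λ : Type w) [Fintype ι] [Fintype M] [Fintype Λ] (Q k h : ℤ) where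
  hQ8 : Q % 8 = 3
  hQ : 5 ≤ |Q|
  hk : 4 * k = Q + 1
  hh : 2 * h = Q - 1
  hk3 : ¬ (3 : ℤ) ∣ k
  hk1 : 1 < |k|
  o : ι
  d : ι → ℤ
  d_ne : ∀ c, d c ≠ 0
  d_o : d o = 1
  X : Fin 3 → ι → ℤ
  X01 : ∀ i c, X i c = 0 ∨ X i c = 1
  Th : M → ι → ℤ
  Tl : Λ → ι → ℤ
  F1 : M → ι → ℤ
  Fv : M → Fin 3 → ι → ℤ
  w : Equiv.Perm M
  w3 : ∀ m, w (w (w m)) = m
  wne : ∀ m, w m ≠ m
  m0 : M
  XX : ∀ i j, ∑ c, X i c * X j c = if i = j then 4 else 2
  X_one : ∀ i, X i o = if i = 0 then 1 else 0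
  XTh : ∀ i m, ∑ c, X i c * Th m c = 0
  XTl : ∀ i l, ∑ c, X i c * Tl l c = 0
  ThTh : ∀ m, ∑ c, Th m c * Th m c = 4
  TlTl : ∀ l, ∑ c, Tl l c * Tl l c = 2
  Th_one : ∀ m, Th m o = 0
  Tl_one : ∀ l, Tl l o = 0
  F1_one : ∀ m, F1 m o = 1
  Fv_one : ∀ m j, Fv m j o = 0
  F1X : ∀ m i, ∑ c, F1 m c * X i c = if i = 0 then 0 else -3
  FvX : ∀ m j i, ∑ c, Fv m j c * X i c = if i = 0 then 0 else 1
  F1Tl : ∀ m l, ∑ c, F1 m c * Tl l c = 0
  FvTl : ∀ m j l, ∑ c, Fv m j c * Tl l c = 0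
  F1Th : ∀ m n, ∑ c, F1 m c * Th n c = if n = m ∨ n = w m ∨ n = w (w m) then 1 else 0
  FvTh : ∀ m j n, ∑ c, Fv m j c * Th n c =
    if n = (w ^ (j : ℕ)) m then 1 else if n = m ∨ n = w m ∨ n = w (w m) then -1 else 0
  F1F1 : ∀ m n, ∑ c, F1 m c * F1 n c = if n = m ∨ n = w m ∨ n = w (w m) then 7 else 6
  F1Fv : ∀ m j, ∑ c, F1 m c * Fv m j c = 0
  FvFv : ∀ m j j', ∑ c, Fv m j c * Fv m j' c = if j = j' then 3 else 2
  X_deg : ∀ i, ∑ c, X i c * d c = 0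
  F1_deg : ∀ m, ∑ c, F1 m c * d c = 0
  Fv_deg : ∀ m j, ∑ c, Fv m j c * d c = 0
  z : ι → ℤ
  z_eq : ∀ c, z c = X 0 c + h * (X 1 c + X 2 c) + (Q - 1) * ∑ m, Th m c + (Q + 1) * ∑ l, Tl l c
  s : Equiv.Perm ι
  s_o : s o = o
  s_d : ∀ c, d (s c) = d c
  s_X0 : ∀ c, X 0 (s c) = X 0 c
  s_X1 : ∀ c, X 1 (s c) = X 2 c
  s_X2 : ∀ c, X 2 (s c) = X 1 c
  s_Th : ∀ m c, Th m (s c) = Th m c
  s_Tl : ∀ l c, Tl l (s c) = Tl l c
  s_F1 : ∀ m c, F1 m (s c) = F1 m c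
  s_Fv : ∀ m j c, Fv m j (s c) = Fv m j c
  g : ℤ
  g_dvd : Q * (Q ^ 2 - 1) ∣ g
  g_ne : g ≠ 0
  pairsX0 : ∑ c, (X 0 c : ℚ) * ((z c : ℚ) ^ 2 / (d c : ℚ)) =
    (Q : ℚ) ^ 2 * ((Q : ℚ) ^ 2 - 1) ^ 2 * ((Q : ℚ) - 1) / (g : ℚ)
  pairsX1 : ∑ c, (X 1 c : ℚ) * ((z c : ℚ) ^ 2 / (d c : ℚ)) =
    (Q : ℚ) ^ 2 * ((Q : ℚ) ^ 2 - 1) * ((Q : ℚ) - 1) * (3 * (Q : ℚ) - 1) / (g : ℚ)
  pairsF1 : ∀ m, ∑ c, (F1 m c : ℚ) * ((z c : ℚ) ^ 2 / (d c : ℚ)) =
    (Q : ℚ) ^ 2 * ((Q : ℚ) ^ 2 - 1) ^ 2 * ((Q : ℚ) + 1) / (g : ℚ)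
  pairsFv : ∀ m j, ∑ c, (Fv m j c : ℚ) * ((z c : ℚ) ^ 2 / (d c : ℚ)) = 0
  congr : ∀ c κ, (∀ m, F1 m c = κ) → k ∣ d c + 3 * z c - 4 * κ

/-! ### sums over an explicit list of points -/

/-- The inner product restricted to a list of points. -/
def lsum {α R : Type*} [Ring R] (L : List α) (f : α → ℤ) (g : α → R) : R :=
  (L.map fun x => (f x : R) * g x).sum

section Lists

variable {R : Type*} [Ring R]

theorem lsum_eq_finset {L : List ι} (hL : L.Nodup) (f : ι → ℤ) (g : ι → R) :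
    lsum L f g = ∑ x ∈ L.toFinset, (f x : R) * g x :=
  (List.sum_toFinset _ hL).symm

theorem sum_eq_lsum {L : List ι} (hL : L.Nodup) (f : ι → ℤ) (g : ι → R)
    (hf : ∀ x, x ∉ L → f x = 0) : ∑ x, (f x : R) * g x = lsum L f g := by
  rw [lsum_eq_finset hL]
  exact (Finset.sum_subset (Finset.subset_univ _) fun x _ hx => by
    rw [hf x (fun h => hx (List.mem_toFinset.2 h)), Int.cast_zero, zero_mul]).symm

theorem lsum_self_le {L : List ι} (hL : L.Nodup) (f : ι → ℤ) : lsum L f f ≤ ∑ x, f x * f x := by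
  rw [lsum_eq_finset hL]
  simp only [Int.cast_id]
  exact Finset.sum_le_univ_sum_of_nonneg fun x => mul_self_nonneg (f x)

theorem eq_zero_of_lsum_eq {L : List ι} (hL : L.Nodup) (f : ι → ℤ)
    (he : ∑ x, f x * f x ≤ lsum L f f) {x : ι} (hx : x ∉ L) : f x = 0 := by
  rw [lsum_eq_finset hL, ← Finset.sum_add_sum_compl L.toFinset] at he
  simp only [Int.cast_id, add_le_iff_nonpos_right] at he
  have h0 := (Finset.sum_eq_zero_iff_of_nonneg fun y _ => mul_self_nonneg (f y)).1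
    (le_antisymm he (Finset.sum_nonneg fun y _ => mul_self_nonneg (f y))) x
    (Finset.mem_compl.2 fun h => hx (List.mem_toFinset.1 h))
  exact mul_self_eq_zero.1 h0

theorem exists_out {L : List ι} (hL : L.Nodup) (f : ι → ℤ) (he : lsum L f f < ∑ x, f x * f x) :
    ∃ p, p ∉ L ∧ f p ≠ 0 := by
  by_contra hne
  push Not at hne
  rw [← sum_eq_lsum hL f f hne] at he
  simp at he

/-- One unit of norm outside `L`. -/
theorem exists_one {L : List ι} (hL : L.Nodup) (f : ι → ℤ) (he : lsum L f f + 1 = ∑ x, f x * f x) :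
    ∃ p, p ∉ L ∧ f p * f p = 1 ∧ ∀ x, x ∉ L → x ≠ p → f x = 0 := by
  obtain ⟨p, hp, hp0⟩ := exists_out hL f (by omega)
  have hL' : (p :: L).Nodup := List.nodup_cons.2 ⟨hp, hL⟩
  have h1 : f p * f p + lsum L f f ≤ ∑ x, f x * f x := by
    simpa [lsum] using lsum_self_le hL' f
  have h2 : 0 < f p * f p := mul_self_pos.2 hp0
  refine ⟨p, hp, by omega, fun x hx hxp => eq_zero_of_lsum_eq hL' f ?_ (by simp [hx, hxp])⟩
  have : lsum (p :: L) f f = f p * f p + lsum L f f := by simp [lsum]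
  omega

theorem sum_eq_lsum_add {L : List ι} (hL : L.Nodup) (f : ι → ℤ) (g : ι → R) {p : ι} (hp : p ∉ L)
    (hf : ∀ x, x ∉ L → x ≠ p → f x = 0) :
    ∑ x, (f x : R) * g x = lsum L f g + (f p : R) * g p := by
  rw [sum_eq_lsum (L := p :: L) (List.nodup_cons.2 ⟨hp, hL⟩) f g
    (fun x hx => hf x (fun h => hx (List.mem_cons_of_mem _ h)) (fun h => hx (h ▸ List.mem_cons_self)))]
  simp only [lsum, List.map_cons, List.sum_cons]
  exact add_comm _ _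

end Lists

/-- On the points `L` the three functions of an orbit agree; outside they have three different points. -/
structure Orb (V : SVecs ι M Λ Q k h) (L : List ι) (m : M) where
  nd : L.Nodup
  η : Fin 3 → ι
  ε : Fin 3 → ℤ
  hε : ∀ j, ε j * ε j = 1
  inj : Function.Injective η
  notMem : ∀ j, η j ∉ L
  same : ∀ j, ∀ x ∈ L, V.Fv m j x = V.Fv m 0 x
  val : ∀ j, V.Fv m j (η j) = ε j
  supp : ∀ j x, x ∉ L → x ≠ η j → V.Fv m j x = 0

theorem Orb.exists_orb (V : SVecs ι M Λ Q k h) (L : List ι) (m : M) (nd : L.Nodup)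
    (same : ∀ j, ∀ x ∈ L, V.Fv m j x = V.Fv m 0 x) (hn : lsum L (V.Fv m 0) (V.Fv m 0) = 2) :
    Nonempty (Orb V L m) := by
  have hj : ∀ j (f : ι → ℤ), lsum L (V.Fv m j) f = lsum L (V.Fv m 0) f := fun j f => by
    unfold lsum; rw [List.map_congr_left fun x hx => by rw [same j x hx]]
  have key : ∀ j, ∃ p, p ∉ L ∧ V.Fv m j p * V.Fv m j p = 1 ∧ ∀ x, x ∉ L → x ≠ p → V.Fv m j x = 0 := by
    intro j
    refine exists_one nd _ ?_
    have : lsum L (V.Fv m j) (V.Fv m j) = lsum L (V.Fv m 0) (V.Fv m 0) := by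
      unfold lsum; rw [List.map_congr_left fun x hx => by rw [same j x hx]]
    rw [this, hn, V.FvFv]; simp
  choose η h1 h2 h3 using key
  refine ⟨⟨nd, η, fun j => V.Fv m j (η j), h2, ?_, h1, same, fun j => rfl, h3⟩⟩
  intro j j' e
  by_contra hne
  have h := V.FvFv m j j'
  rw [if_neg hne] at h
  have h' := sum_eq_lsum_add nd (V.Fv m j) (V.Fv m j') (h1 j) (h3 j)
  simp only [Int.cast_id] at h'
  have : lsum L (V.Fv m j) (V.Fv m j') = 2 := by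
    rw [← hn]; unfold lsum
    rw [List.map_congr_left fun x hx => by rw [same j x hx, same j' x hx]]
  have h4 := h2 j
  have h5 := h2 j'
  rw [h, this, e] at h'
  have hz : V.Fv m j (η j') * V.Fv m j' (η j') = 0 := by omega
  rcases mul_eq_zero.1 hz with h6 | h6
  · rw [e, h6] at h4; simp at h4
  · rw [h6] at h5; simp at h5

variable {V : SVecs ι M Λ Q k h} {L : List ι} {m : M}

theorem Orb.fv_sum {R : Type*} [Ring R] (O : Orb V L m) (j : Fin 3) (g : ι → R) :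
    ∑ x, (V.Fv m j x : R) * g x = lsum L (V.Fv m 0) g + (O.ε j : R) * g (O.η j) := by
  rw [sum_eq_lsum_add O.nd _ g (O.notMem j) (O.supp j), O.val]
  congr 1
  unfold lsum
  rw [List.map_congr_left fun x hx => by rw [O.same j x hx]]

/-- The value of a function at an exceptional point. -/
theorem Orb.at_eta (O : Orb V L m) (j : Fin 3) (f : ι → ℤ) :
    f (O.η j) = O.ε j * (∑ x, V.Fv m j x * f x - lsum L (V.Fv m 0) f) := by
  have := O.fv_sum j f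
  simp only [Int.cast_id] at this
  rw [this, add_sub_cancel_left, ← mul_assoc, O.hε, one_mul]

theorem Orb.norm_ge (O : Orb V L m) (f : ι → ℤ) :
    lsum L f f + (f (O.η 0) * f (O.η 0) + f (O.η 1) * f (O.η 1) + f (O.η 2) * f (O.η 2))
      ≤ ∑ x, f x * f x := by
  have nd : ([O.η 0, O.η 1, O.η 2] ++ L).Nodup := by
    refine List.nodup_append.2 ⟨?_, O.nd, ?_⟩
    · simp [O.inj.eq_iff]
    · intro x hx y hy e
      simp only [List.mem_cons, List.not_mem_nil, or_false] at hx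
      rcases hx with rfl | rfl | rfl <;> exact O.notMem _ (e ▸ hy)
  have := lsum_self_le nd f
  simp [lsum] at this ⊢
  omega

theorem Orb.norm_ge' (O : Orb V L m) (f : ι → ℤ) (δ : Fin 3 → ℤ)
    (hδ : ∀ j, ∑ x, V.Fv m j x * f x = δ j) :
    lsum L f f + ((δ 0 - lsum L (V.Fv m 0) f) ^ 2 + (δ 1 - lsum L (V.Fv m 0) f) ^ 2
      + (δ 2 - lsum L (V.Fv m 0) f) ^ 2) ≤ ∑ x, f x * f x := by
  have h1 := O.norm_ge f
  rw [O.at_eta 0 f, O.at_eta 1 f, O.at_eta 2 f, hδ, hδ, hδ] at h1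
  linear_combination h1 - (δ 0 - lsum L (V.Fv m 0) f) ^ 2 * O.hε 0
    - (δ 1 - lsum L (V.Fv m 0) f) ^ 2 * O.hε 1 - (δ 2 - lsum L (V.Fv m 0) f) ^ 2 * O.hε 2

theorem SVecs.w2ne (V : SVecs ι M Λ Q k h) (m : M) : V.w (V.w m) ≠ m := fun e =>
  V.wne m (by have := congrArg V.w e; rw [V.w3] at this; exact this.symm)

/-- The inequality for the own function of an orbit. -/
theorem Orb.th_bound (O : Orb V L m) :
    lsum L (V.Th m) (V.Th m) + (3 + 2 * lsum L (V.Fv m 0) (V.Th m)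
      + 3 * lsum L (V.Fv m 0) (V.Th m) ^ 2) ≤ 4 := by
  have h := O.norm_ge' (V.Th m) (fun j => if j = 0 then 1 else -1) fun j => by
    rw [V.FvTh]
    fin_cases j <;> simp [Ne.symm (V.wne m), Ne.symm (V.w2ne m), pow_two]
  rw [V.ThTh] at h
  simp at h
  linarith

theorem Orb.f1_bound (O : Orb V L m) :
    lsum L (V.F1 m) (V.F1 m) + 3 * lsum L (V.Fv m 0) (V.F1 m) ^ 2 ≤ 7 := by
  have h := O.norm_ge' (V.F1 m) (fun _ => 0) fun j => by
    rw [← V.F1Fv m j]; exact Finset.sum_congr rfl fun x _ => mul_comm _ _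
  rw [V.F1F1, if_pos (Or.inl rfl)] at h
  simp at h
  linarith

theorem Orb.tl_bound (O : Orb V L m) (l : Λ) :
    lsum L (V.Tl l) (V.Tl l) + 3 * lsum L (V.Fv m 0) (V.Tl l) ^ 2 ≤ 2 := by
  have h := O.norm_ge' (V.Tl l) (fun _ => 0) fun j => V.FvTl m j l
  rw [V.TlTl] at h
  simp at h
  linarith

/-- The remaining point of the function `F1` of an orbit. -/
structure Star (V : SVecs ι M Λ Q k h) (L : List ι) (m : M) extends Orb V L m where
  p : ι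
  εp : ℤ
  hεp : εp * εp = 1
  p_notMem : p ∉ L
  p_ne : ∀ j, p ≠ η j
  p_val : V.F1 m p = εp
  p_supp : ∀ x, x ∉ L → x ≠ p → V.F1 m x = 0

theorem Orb.exists_star (O : Orb V L m) (he : lsum L (V.Fv m 0) (V.F1 m) = 0)
    (hn : lsum L (V.F1 m) (V.F1 m) = 6) : ∃ S : Star V L m, S.toOrb = O := by
  obtain ⟨p, hp, hp1, hp2⟩ := exists_one O.nd (V.F1 m) (by
    rw [hn, V.F1F1, if_pos (Or.inl rfl)]; rfl)
  refine ⟨⟨O, p, _, hp1, hp, fun j e => ?_, rfl, hp2⟩, rfl⟩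
  have := O.at_eta j (V.F1 m)
  rw [he, show ∑ x, V.Fv m j x * V.F1 m x = 0 by
    rw [← V.F1Fv m j]; exact Finset.sum_congr rfl fun x _ => mul_comm _ _] at this
  rw [← e] at this
  rw [this] at hp1
  simp at hp1

theorem Star.f1_sum {R : Type*} [Ring R] (S : Star V L m) (g : ι → R) :
    ∑ x, (V.F1 m x : R) * g x = lsum L (V.F1 m) g + (S.εp : R) * g S.p := by
  rw [sum_eq_lsum_add S.nd _ g S.p_notMem S.p_supp, S.p_val]

theorem Star.at_p (S : Star V L m) (f : ι → ℤ) :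
    f S.p = S.εp * (∑ x, V.F1 m x * f x - lsum L (V.F1 m) f) := by
  have := S.f1_sum f
  simp only [Int.cast_id] at this
  rw [this, add_sub_cancel_left, ← mul_assoc, S.hεp, one_mul]

theorem lsum_eq_zero_of_zero {L : List ι} (v f : ι → ℤ) (hf : ∀ x ∈ L, f x = 0) : lsum L v f = 0 := by
  unfold lsum
  refine List.sum_eq_zero fun y hy => ?_
  obtain ⟨x, hx, rfl⟩ := List.mem_map.1 hy
  rw [hf x hx]; simp

theorem sum_ite_orbit (V : SVecs ι M Λ Q k h) (m : M) (f : M → ℤ)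
    (hf : ∀ n, ¬ (n = m ∨ n = V.w m ∨ n = V.w (V.w m)) → f n = 0) :
    ∑ n, f n = f m + f (V.w m) + f (V.w (V.w m)) := by
  rw [← Finset.sum_subset (Finset.subset_univ {m, V.w m, V.w (V.w m)}) fun n _ hn => hf n (by simpa using hn),
    Finset.sum_insert (by simp [Ne.symm (V.wne m), Ne.symm (V.w2ne m)]),
    Finset.sum_insert (by simp [Ne.symm (V.wne (V.w m))]), Finset.sum_singleton, add_assoc]

theorem Orb.th_sum_eta (O : Orb V L m) (hTh : ∀ n, ∀ x ∈ L, V.Th n x = 0) (j : Fin 3) :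
    ∑ n, V.Th n (O.η j) = -O.ε j := by
  have hv : ∀ n, V.Th n (O.η j) = O.ε j *
      (if n = (V.w ^ (j : ℕ)) m then 1 else if n = m ∨ n = V.w m ∨ n = V.w (V.w m) then -1 else 0) := by
    intro n
    rw [O.at_eta j (V.Th n), V.FvTh, lsum_eq_zero_of_zero _ _ (hTh n), sub_zero]
  have h1 := Ne.symm (V.wne m)
  have h2 := Ne.symm (V.w2ne m)
  have h3 := Ne.symm (V.wne (V.w m))
  rw [sum_ite_orbit V m _ fun n hn => by
    rw [hv, if_neg, if_neg hn, mul_zero]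
    fin_cases j <;> simp only [not_or] at hn <;> simp_all [pow_two]]
  simp only [hv]
  fin_cases j <;> simp [h1, h2, h3, Ne.symm h1, Ne.symm h2, Ne.symm h3, pow_two]

theorem Star.th_sum_p (S : Star V L m) (hTh : ∀ n, ∀ x ∈ L, V.Th n x = 0) :
    ∑ n, V.Th n S.p = 3 * S.εp := by
  have hv : ∀ n, V.Th n S.p = S.εp * (if n = m ∨ n = V.w m ∨ n = V.w (V.w m) then 1 else 0) := by
    intro n
    rw [S.at_p (V.Th n), V.F1Th, lsum_eq_zero_of_zero _ _ (hTh n), sub_zero]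
  rw [sum_ite_orbit V m _ fun n hn => by rw [hv, if_neg hn, mul_zero]]
  simp only [hv, true_or, or_true, if_true]
  ring

theorem Orb.z_eta (O : Orb V L m) (hX : ∀ i x, x ∉ L → V.X i x = 0)
    (hTh : ∀ n, ∀ x ∈ L, V.Th n x = 0) (hTl : ∀ l, lsum L (V.Fv m 0) (V.Tl l) = 0) (j : Fin 3) :
    V.z (O.η j) = -((Q - 1) * O.ε j) := by
  have hl : ∀ l, V.Tl l (O.η j) = 0 := fun l => by
    rw [O.at_eta j (V.Tl l), V.FvTl, hTl, sub_zero, mul_zero]
  rw [V.z_eq, hX 0 _ (O.notMem j), hX 1 _ (O.notMem j), hX 2 _ (O.notMem j), O.th_sum_eta hTh]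
  simp [hl]

theorem Star.z_p (S : Star V L m) (hX : ∀ i x, x ∉ L → V.X i x = 0)
    (hTh : ∀ n, ∀ x ∈ L, V.Th n x = 0) (hTl : ∀ l, lsum L (V.F1 m) (V.Tl l) = 0) :
    V.z S.p = 3 * (Q - 1) * S.εp := by
  have hl : ∀ l, V.Tl l S.p = 0 := fun l => by
    rw [S.at_p (V.Tl l), V.F1Tl, hTl, sub_zero, mul_zero]
  rw [V.z_eq, hX 0 _ S.p_notMem, hX 1 _ S.p_notMem, hX 2 _ S.p_notMem, S.th_sum_p hTh]
  simp [hl]
  ring

/-- The term of an exceptional point, with the sign in the degree. -/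
theorem signed_term (ε : ℤ) (hε : ε * ε = 1) (d : ℤ) (r : ℚ) :
    (ε : ℚ) * (r / (d : ℚ)) = r / ((ε * d : ℤ) : ℚ) := by
  rcases mul_self_eq_one_iff.1 hε with rfl | rfl <;> simp [div_neg]

theorem Orb.fv_deg (O : Orb V L m) (j : Fin 3) :
    lsum L (V.Fv m 0) V.d + O.ε j * V.d (O.η j) = 0 := by
  have := O.fv_sum j V.d
  simp only [Int.cast_id] at this
  rw [← this, V.Fv_deg]

theorem Orb.fv_pairs (O : Orb V L m) (hX : ∀ i x, x ∉ L → V.X i x = 0)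
    (hTh : ∀ n, ∀ x ∈ L, V.Th n x = 0) (hTl : ∀ l, lsum L (V.Fv m 0) (V.Tl l) = 0) (j : Fin 3) :
    lsum L (V.Fv m 0) (fun x => (V.z x : ℚ) ^ 2 / (V.d x : ℚ))
      + ((Q : ℚ) - 1) ^ 2 / ((O.ε j * V.d (O.η j) : ℤ) : ℚ) = 0 := by
  have := O.fv_sum j (fun x => (V.z x : ℚ) ^ 2 / (V.d x : ℚ))
  rw [V.pairsFv, O.z_eta hX hTh hTl j] at this
  rw [← signed_term _ (O.hε j), show ((Q : ℚ) - 1) ^ 2 = ((-((Q - 1) * O.ε j) : ℤ) : ℚ) ^ 2 by
    have : ((O.ε j : ℚ)) * O.ε j = 1 := by exact_mod_cast O.hε j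
    push_cast; linear_combination -((Q : ℚ) - 1) ^ 2 * this]
  exact this.symm

theorem Star.f1_deg (S : Star V L m) : lsum L (V.F1 m) V.d + S.εp * V.d S.p = 0 := by
  have := S.f1_sum V.d
  simp only [Int.cast_id] at this
  rw [← this, V.F1_deg]

theorem Star.f1_pairs (S : Star V L m) (hX : ∀ i x, x ∉ L → V.X i x = 0)
    (hTh : ∀ n, ∀ x ∈ L, V.Th n x = 0) (hTl : ∀ l, lsum L (V.F1 m) (V.Tl l) = 0) :
    lsum L (V.F1 m) (fun x => (V.z x : ℚ) ^ 2 / (V.d x : ℚ))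
      + 9 * ((Q : ℚ) - 1) ^ 2 / ((S.εp * V.d S.p : ℤ) : ℚ) =
    (Q : ℚ) ^ 2 * ((Q : ℚ) ^ 2 - 1) ^ 2 * ((Q : ℚ) + 1) / (V.g : ℚ) := by
  have := S.f1_sum (fun x => (V.z x : ℚ) ^ 2 / (V.d x : ℚ))
  rw [V.pairsF1, S.z_p hX hTh hTl] at this
  rw [← signed_term _ S.hεp, show 9 * ((Q : ℚ) - 1) ^ 2 = ((3 * (Q - 1) * S.εp : ℤ) : ℚ) ^ 2 by
    have : ((S.εp : ℚ)) * S.εp = 1 := by exact_mod_cast S.hεp
    push_cast; linear_combination -9 * ((Q : ℚ) - 1) ^ 2 * this]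
  exact this.symm

theorem SVecs.rhs (V : SVecs ι M Λ Q k h) :
    ((Q : ℚ) ^ 2 * ((Q : ℚ) ^ 2 - 1) ^ 2 * ((Q : ℚ) - 1) / (V.g : ℚ)) * V.g =
      (Q : ℚ) ^ 2 * ((Q : ℚ) ^ 2 - 1) ^ 2 * ((Q : ℚ) - 1) :=
  div_mul_cancel₀ _ (Int.cast_ne_zero.2 V.g_ne)

end CfsgLib.JT
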