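import Cfsg.Agent.JankoThompson.PatternBase
import Cfsg.Agent.JankoThompson.Arith
import Mathlib.Data.Finset.Card

/-!
The two possible shapes of the three columns of the involution section.
-/

set_option autoImplicit false

namespace CfsgLib.JT

universe u v w

open Classical

variable {ι : Type u} {M : Type v} {Λ : Type w} [Fintype ι] [Fintype M] [Fintype Λ] {Q k h : ℤ}

/-- The two columns exchanged by the field automorphism meet the first one in the same points. -/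
structure ShapeP (V : SVecs ι M Λ Q k h) where
  a : ι
  b : ι
  c : ι
  u : ι
  w : ι
  nd : [V.o, a, b, c, u, w, V.s u, V.s w].Nodup
  X0 : ∀ x, V.X 0 x = if x ∈ [V.o, a, b, c] then 1 else 0
  X1 : ∀ x, V.X 1 x = if x ∈ [a, b, u, w] then 1 else 0
  X2 : ∀ x, V.X 2 x = if x ∈ [a, b, V.s u, V.s w] then 1 else 0

/-- The two columns exchanged by the field automorphism share a fixed point outside the first one. -/
structure ShapeQ (V : SVecs ι M Λ Q k h) where
  a : ι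
  b : ι
  u : ι
  w : ι
  nd : [V.o, a, b, V.s b, u, w, V.s w].Nodup
  su : V.s u = u
  X0 : ∀ x, V.X 0 x = if x ∈ [V.o, a, b, V.s b] then 1 else 0
  X1 : ∀ x, V.X 1 x = if x ∈ [a, b, u, w] then 1 else 0
  X2 : ∀ x, V.X 2 x = if x ∈ [a, V.s b, u, V.s w] then 1 else 0

theorem SVecs.shape (V : SVecs ι M Λ Q k h) : Nonempty (ShapeP V) ∨ Nonempty (ShapeQ V) := by
  let S : Fin 3 → Finset ι := fun i => Finset.univ.filter fun x => V.X i x = 1
  have hmem : ∀ i x, x ∈ S i ↔ V.X i x = 1 := fun i x => by simp [S]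
  have hind : ∀ i (l : List ι), S i = l.toFinset → ∀ x, V.X i x = if x ∈ l then 1 else 0 := by
    intro i l hl x
    have : x ∈ l ↔ V.X i x = 1 := by rw [← List.mem_toFinset, ← hl, hmem]
    rcases V.X01 i x with e | e <;> simp [this, e]
  have hinter : ∀ i j, ((S i ∩ S j).card : ℤ) = if i = j then 4 else 2 := by
    intro i j
    rw [← V.XX i j, show S i ∩ S j = Finset.univ.filter fun x => V.X i x = 1 ∧ V.X j x = 1 by
      ext x; simp [S], Finset.card_filter, Nat.cast_sum]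
    refine Finset.sum_congr rfl fun x _ => ?_
    rcases V.X01 i x with e | e <;> rcases V.X01 j x with e' | e' <;> simp [e, e']
  have hcard : ∀ i, (S i).card = 4 := fun i => by
    have := hinter i i
    rw [Finset.inter_self, if_pos rfl] at this
    exact_mod_cast this
  have h2 : ∀ i j, i ≠ j → (S i ∩ S j).card = 2 := fun i j hij => by
    have := hinter i j
    rw [if_neg hij] at this
    exact_mod_cast this
  have ho : ∀ i, V.o ∈ S i ↔ i = 0 := fun i => by
    rw [hmem, V.X_one]; split_ifs with e <;> simp [e]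
  have hs0 : ∀ x, V.s x ∈ S 0 ↔ x ∈ S 0 := fun x => by rw [hmem, hmem, V.s_X0]
  have hs1 : ∀ x, V.s x ∈ S 1 ↔ x ∈ S 2 := fun x => by rw [hmem, hmem, V.s_X1]
  have hs2 : ∀ x, V.s x ∈ S 2 ↔ x ∈ S 1 := fun x => by rw [hmem, hmem, V.s_X2]
  have inj := V.s.injective
  by_cases hT : S 0 ∩ S 1 = S 0 ∩ S 2
  · left
    obtain ⟨a, b, hab, hT1⟩ := Finset.card_eq_two.1 (h2 0 1 (by decide))
    have h12 : S 0 ∩ S 1 = S 1 ∩ S 2 := by
      refine Finset.eq_of_subset_of_card_le (fun x hx => ?_) (by rw [h2 0 1 (by decide), h2 1 2 (by decide)])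
      have := hT ▸ hx
      simp only [Finset.mem_inter] at hx this ⊢
      exact ⟨hx.2, this.2⟩
    have hst : ∀ x, V.s x ∈ S 0 ∩ S 1 ↔ x ∈ S 0 ∩ S 1 := fun x => by
      conv_rhs => rw [hT]
      simp [hs0, hs1]
    have ha : a ∈ S 0 ∩ S 1 := by simp [hT1]
    have hb : b ∈ S 0 ∩ S 1 := by simp [hT1]
    have hc1 : ((S 0).erase V.o \ (S 0 ∩ S 1)).card = 1 := by
      rw [Finset.card_sdiff_of_subset, Finset.card_erase_of_mem ((ho 0).2 rfl), hcard, h2 0 1 (by decide)]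
      intro x hx
      rw [Finset.mem_inter] at hx
      exact Finset.mem_erase.2 ⟨fun e => absurd ((ho 1).1 (e ▸ hx.2)) (by decide), hx.1⟩
    obtain ⟨c, hc⟩ := Finset.card_eq_one.1 hc1
    have hc' : c ∈ (S 0).erase V.o \ (S 0 ∩ S 1) := by simp [hc]
    obtain ⟨u, w, huw, hU⟩ := Finset.card_eq_two.1 (show (S 1 \ (S 0 ∩ S 1)).card = 2 by
      rw [Finset.card_sdiff_of_subset Finset.inter_subset_right, hcard, h2 0 1 (by decide)])
    have hu : u ∈ S 1 \ (S 0 ∩ S 1) := by simp [hU]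
    have hw : w ∈ S 1 \ (S 0 ∩ S 1) := by simp [hU]
    have hsu : V.s u ∈ S 2 \ (S 0 ∩ S 1) := by
      rw [Finset.mem_sdiff] at hu ⊢; exact ⟨(hs2 u).2 hu.1, fun e => hu.2 ((hst u).1 e)⟩
    have hsw : V.s w ∈ S 2 \ (S 0 ∩ S 1) := by
      rw [Finset.mem_sdiff] at hw ⊢; exact ⟨(hs2 w).2 hw.1, fun e => hw.2 ((hst w).1 e)⟩
    simp only [Finset.mem_sdiff, Finset.mem_inter, Finset.mem_erase] at ha hb hc' hu hw hsu hsw
    have n1 : ∀ x, x ∈ S 1 → x ∈ S 2 → x ∈ S 0 := fun x h h' =>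
      (Finset.mem_inter.1 (h12 ▸ Finset.mem_inter.2 ⟨h, h'⟩)).1
    have hnd : [V.o, a, b, c, u, w, V.s u, V.s w].Nodup := by
      have := ho 1
      have := ho 2
      have o0 := (ho 0).2 rfl
      have ha2 : a ∈ S 2 := (Finset.mem_inter.1 (hT ▸ Finset.mem_inter.2 ha)).2
      have hb2 : b ∈ S 2 := (Finset.mem_inter.1 (hT ▸ Finset.mem_inter.2 hb)).2
      simp only [List.nodup_cons, List.mem_cons, List.not_mem_nil, or_false, List.nodup_nil, and_true,
        not_or, not_false_eq_true]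
      refine ⟨⟨?_, ?_, ?_, ?_, ?_, ?_, ?_⟩, ⟨hab, ?_, ?_, ?_, ?_, ?_⟩, ⟨?_, ?_, ?_, ?_, ?_⟩, ⟨?_, ?_, ?_, ?_⟩,
        ⟨huw, ?_, ?_⟩, ⟨?_, ?_⟩, fun e => huw (inj e)⟩
      all_goals intro e; subst_vars; grind
    refine ⟨⟨a, b, c, u, w, hnd, hind 0 _ ?_, hind 1 _ ?_, hind 2 _ ?_⟩⟩
    all_goals symm
    all_goals refine Finset.eq_of_subset_of_card_le ?_ ?_
    · intro x hx; simp at hx
      rcases hx with rfl | rfl | rfl | rfl
      · exact (ho 0).2 rfl
      · exact ha.1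
      · exact hb.1
      · exact hc'.1.2
    · rw [hcard, List.toFinset_card_of_nodup (by simp at hnd ⊢; grind)]; rfl
    · intro x hx; simp at hx
      rcases hx with rfl | rfl | rfl | rfl
      · exact ha.2
      · exact hb.2
      · exact hu.1
      · exact hw.1
    · rw [hcard, List.toFinset_card_of_nodup (by simp at hnd ⊢; grind)]; rfl
    · intro x hx; simp at hx
      rcases hx with rfl | rfl | rfl | rfl
      · exact (Finset.mem_inter.1 (hT ▸ Finset.mem_inter.2 ha)).2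
      · exact (Finset.mem_inter.1 (hT ▸ Finset.mem_inter.2 hb)).2
      · exact hsu.1
      · exact hsw.1
    · rw [hcard, List.toFinset_card_of_nodup (by simp at hnd ⊢; grind)]; rfl
  · right
    have hI : ((S 0 ∩ S 1) ∩ (S 0 ∩ S 2)).card = 1 := by
      have hu := Finset.card_union_add_card_inter (S 0 ∩ S 1) (S 0 ∩ S 2)
      have hsub : (S 0 ∩ S 1) ∪ (S 0 ∩ S 2) ⊆ (S 0).erase V.o := by
        intro x hx
        simp only [Finset.mem_union, Finset.mem_inter] at hx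
        refine Finset.mem_erase.2 ⟨fun e => ?_, hx.elim And.left And.left⟩
        subst e
        rcases hx with hx | hx
        · exact absurd ((ho 1).1 hx.2) (by decide)
        · exact absurd ((ho 2).1 hx.2) (by decide)
      have := Finset.card_le_card hsub
      rw [Finset.card_erase_of_mem ((ho 0).2 rfl), hcard] at this
      rw [h2 0 1 (by decide), h2 0 2 (by decide)] at hu
      by_contra hne
      have hle : (S 0 ∩ S 1) ∩ (S 0 ∩ S 2) = S 0 ∩ S 1 :=
        Finset.eq_of_subset_of_card_le Finset.inter_subset_left (by rw [h2 0 1 (by decide)]; omega)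
      exact hT (Finset.eq_of_subset_of_card_le (Finset.inter_eq_left.1 hle)
        (by rw [h2 0 1 (by decide), h2 0 2 (by decide)]))
    obtain ⟨a, ha⟩ := Finset.card_eq_one.1 hI
    have hA : ∀ x, x ∈ S 0 → x ∈ S 1 → x ∈ S 2 → x = a := fun x h0 h1 h2' => by
      have : x ∈ (S 0 ∩ S 1) ∩ (S 0 ∩ S 2) := by simp [h0, h1, h2']
      simpa [ha] using this
    have ha' : a ∈ (S 0 ∩ S 1) ∩ (S 0 ∩ S 2) := by simp [ha]
    simp only [Finset.mem_inter] at ha'
    obtain ⟨⟨ha0, ha1⟩, -, ha2⟩ := ha'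
    have hsa : V.s a = a := hA _ ((hs0 a).2 ha0) ((hs1 a).2 ha2) ((hs2 a).2 ha1)
    obtain ⟨b, hb⟩ := Finset.card_eq_one.1 (show ((S 0 ∩ S 1).erase a).card = 1 by
      rw [Finset.card_erase_of_mem (by simp [ha0, ha1]), h2 0 1 (by decide)])
    have hb' : b ∈ (S 0 ∩ S 1).erase a := by simp [hb]
    simp only [Finset.mem_erase, Finset.mem_inter] at hb'
    obtain ⟨hba, hb0, hb1⟩ := hb'
    obtain ⟨u, hu⟩ := Finset.card_eq_one.1 (show ((S 1 ∩ S 2).erase a).card = 1 by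
      rw [Finset.card_erase_of_mem (by simp [ha1, ha2]), h2 1 2 (by decide)])
    have hU : ∀ x, x ∈ S 1 → x ∈ S 2 → x ≠ a → x = u := fun x h1 h2' hne => by
      have : x ∈ (S 1 ∩ S 2).erase a := by simp [h1, h2', hne]
      simpa [hu] using this
    have hu' : u ∈ (S 1 ∩ S 2).erase a := by simp [hu]
    simp only [Finset.mem_erase, Finset.mem_inter] at hu'
    obtain ⟨hua, hu1, hu2⟩ := hu'
    have hu0 : u ∉ S 0 := fun e => hua (hA u e hu1 hu2)
    have hsu : V.s u = u := hU _ ((hs1 u).2 hu2) ((hs2 u).2 hu1) fun e => hua (inj (e.trans hsa.symm))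
    have hb2 : b ∉ S 2 := fun e => hba (hA b hb0 hb1 e)
    obtain ⟨w, hw⟩ := Finset.card_eq_one.1 (show (S 1 \ ({a, b, u} : Finset ι)).card = 1 by
      rw [Finset.card_sdiff_of_subset (by intro x hx; simp at hx; rcases hx with rfl | rfl | rfl <;> assumption),
        hcard, show ({a, b, u} : Finset ι).card = 3 from Finset.card_eq_three.2
          ⟨a, b, u, Ne.symm hba, Ne.symm hua, fun e => hb2 (e ▸ hu2), rfl⟩])
    have hw' : w ∈ S 1 \ ({a, b, u} : Finset ι) := by simp [hw]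
    simp only [Finset.mem_sdiff, Finset.mem_insert, Finset.mem_singleton, not_or] at hw'
    obtain ⟨hw1, hwa, hwb, hwu⟩ := hw'
    have hw2 : w ∉ S 2 := fun e => hwu (hU w hw1 e hwa)
    have hw0 : w ∉ S 0 := fun e => by
      have : w ∈ (S 0 ∩ S 1).erase a := by simp [e, hw1, hwa]
      exact hwb (by simpa [hb] using this)
    have hsb0 := (hs0 b).2 hb0
    have hsb2 := (hs2 b).2 hb1
    have hsb1 : V.s b ∉ S 1 := fun e => hb2 ((hs1 b).1 e)
    have hsw0 : V.s w ∉ S 0 := fun e => hw0 ((hs0 w).1 e)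
    have hsw2 := (hs2 w).2 hw1
    have hsw1 : V.s w ∉ S 1 := fun e => hw2 ((hs1 w).1 e)
    have o0 := (ho 0).2 rfl
    have o1 : V.o ∉ S 1 := fun e => absurd ((ho 1).1 e) (by decide)
    have o2 : V.o ∉ S 2 := fun e => absurd ((ho 2).1 e) (by decide)
    have hnd : [V.o, a, b, V.s b, u, w, V.s w].Nodup := by
      simp only [List.nodup_cons, List.mem_cons, List.not_mem_nil, or_false, List.nodup_nil, and_true,
        not_or, not_false_eq_true]
      refine ⟨⟨?_, ?_, ?_, ?_, ?_, ?_⟩, ⟨Ne.symm hba, ?_, ?_, ?_, ?_⟩, ⟨?_, ?_, ?_, ?_⟩, ⟨?_, ?_, ?_⟩,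
        ⟨?_, ?_⟩, ?_⟩
      all_goals intro e
      all_goals grind
    refine ⟨⟨a, b, u, w, hnd, hsu, hind 0 _ ?_, hind 1 _ ?_, hind 2 _ ?_⟩⟩
    all_goals symm
    all_goals refine Finset.eq_of_subset_of_card_le ?_ ?_
    · intro x hx; simp at hx
      rcases hx with rfl | rfl | rfl | rfl <;> assumption
    · rw [hcard, List.toFinset_card_of_nodup (by simp at hnd ⊢; grind)]; rfl
    · intro x hx; simp at hx
      rcases hx with rfl | rfl | rfl | rfl <;> assumption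
    · rw [hcard, List.toFinset_card_of_nodup (by simp at hnd ⊢; grind)]; rfl
    · intro x hx; simp at hx
      rcases hx with rfl | rfl | rfl | rfl <;> assumption
    · rw [hcard, List.toFinset_card_of_nodup (by simp at hnd ⊢; grind)]; rfl

theorem SVecs.Rhs' (V : SVecs ι M Λ Q k h) :
    Rhs (Q : ℚ) (V.g : ℚ) ((Q : ℚ) ^ 2 * ((Q : ℚ) ^ 2 - 1) ^ 2 * ((Q : ℚ) - 1) / (V.g : ℚ))
      ((Q : ℚ) ^ 2 * ((Q : ℚ) ^ 2 - 1) * ((Q : ℚ) - 1) * (3 * (Q : ℚ) - 1) / (V.g : ℚ))
      ((Q : ℚ) ^ 2 * ((Q : ℚ) ^ 2 - 1) ^ 2 * ((Q : ℚ) + 1) / (V.g : ℚ)) :=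
  ⟨V.rhs, by ring, by ring⟩

theorem SVecs.sub_le_two (V : SVecs ι M Λ Q k h) (m n : M) :
    ∑ x, (V.F1 n x - V.F1 m x) * (V.F1 n x - V.F1 m x) ≤ 2 := by
  have e : ∑ x, (V.F1 n x - V.F1 m x) * (V.F1 n x - V.F1 m x) =
      ∑ x, V.F1 n x * V.F1 n x + ∑ x, V.F1 m x * V.F1 m x - 2 * ∑ x, V.F1 n x * V.F1 m x := by
    rw [Finset.mul_sum, ← Finset.sum_add_distrib, ← Finset.sum_sub_distrib]
    exact Finset.sum_congr rfl fun x _ => by ring
  rw [e, V.F1F1, V.F1F1, V.F1F1, if_pos (Or.inl rfl), if_pos (Or.inl rfl)]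
  split_ifs <;> norm_num

theorem Orb.f1_strict {V : SVecs ι M Λ Q k h} {L : List ι} {m : M} (O : Orb V L m)
    (hTh : ∀ x ∈ L, V.Th m x = 0) :
    lsum L (V.Fv m 0) (V.F1 m) = 1 ∨ lsum L (V.F1 m) (V.F1 m) + 3 * lsum L (V.Fv m 0) (V.F1 m) ^ 2 ≤ 6 := by
  by_contra hne
  simp only [not_or, not_le] at hne
  apply hne.1
  have hat : ∀ j, V.F1 m (O.η j) = -(O.ε j * lsum L (V.Fv m 0) (V.F1 m)) := fun j => by
    rw [O.at_eta j (V.F1 m), show ∑ x, V.Fv m j x * V.F1 m x = 0 by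
      rw [← V.F1Fv m j]; exact Finset.sum_congr rfl fun x _ => mul_comm _ _]
    ring
  have nd : ([O.η 0, O.η 1, O.η 2] ++ L).Nodup := by
    refine List.nodup_append.2 ⟨by simp [O.inj.eq_iff], O.nd, ?_⟩
    intro x hx y hy e
    simp only [List.mem_cons, List.not_mem_nil, or_false] at hx
    rcases hx with rfl | rfl | rfl <;> exact O.notMem _ (e ▸ hy)
  have hout : ∀ x, x ∉ [O.η 0, O.η 1, O.η 2] ++ L → V.F1 m x = 0 := fun x hx => by
    refine eq_zero_of_lsum_eq nd _ ?_ hx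
    rw [V.F1F1, if_pos (Or.inl rfl)]
    have e : ∀ j, V.F1 m (O.η j) * V.F1 m (O.η j) = lsum L (V.Fv m 0) (V.F1 m) ^ 2 := fun j => by
      rw [hat]; linear_combination lsum L (V.Fv m 0) (V.F1 m) ^ 2 * O.hε j
    have e3 : lsum ([O.η 0, O.η 1, O.η 2] ++ L) (V.F1 m) (V.F1 m) =
        lsum L (V.F1 m) (V.F1 m) + 3 * lsum L (V.Fv m 0) (V.F1 m) ^ 2 := by
      simp only [lsum, List.map_append, List.sum_append, List.map_cons, List.map_nil, List.sum_cons,
        List.sum_nil, Int.cast_id, e]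
      ring
    omega
  have h1 := sum_eq_lsum nd (V.F1 m) (V.Th m) hout
  simp only [Int.cast_id] at h1
  rw [V.F1Th, if_pos (Or.inl rfl)] at h1
  have ht : ∀ j, V.Th m (O.η j) = O.ε j * (if j = 0 then 1 else -1) := fun j => by
    rw [O.at_eta j (V.Th m), lsum_eq_zero_of_zero _ _ hTh, V.FvTh, sub_zero]
    fin_cases j <;> simp [Ne.symm (V.wne m), Ne.symm (V.w2ne m), pow_two]
  simp only [lsum, List.map_append, List.sum_append, List.map_cons, List.map_nil, List.sum_cons,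
    List.sum_nil, Int.cast_id, hat, ht, Fin.isValue] at h1
  have h0 : (L.map fun x => V.F1 m x * V.Th m x).sum = 0 := by
    refine List.sum_eq_zero fun y hy => ?_
    obtain ⟨x, hx, rfl⟩ := List.mem_map.1 hy
    rw [hTh x hx, mul_zero]
  rw [h0] at h1
  simp only [Fin.reduceEq, ↓reduceIte] at h1
  have h4 := O.hε 0
  have h5 := O.hε 1
  have h6 := O.hε 2
  unfold lsum
  simp only [Int.cast_id]
  linear_combination -h1 + (L.map fun x => V.Fv m 0 x * V.F1 m x).sum * (h4 - h5 - h6)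

end CfsgLib.JT
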