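import Cfsg.Agent.JankoThompson.PatternBase

/-!
The signs of the three columns of the involution section agree where they overlap, so that they can be
absorbed into the degrees.
-/

set_option autoImplicit false

namespace CfsgLib.JT

universe u v w

open Classical

variable {ι : Type u} {M : Type v} {Λ : Type w} [Fintype ι] [Fintype M] [Fintype Λ] {Q k h : ℤ}

theorem Vecs.X_unit (V : Vecs ι M Λ Q k h) (i : Fin 3) (c : ι) :
    V.X i c = 0 ∨ V.X i c = 1 ∨ V.X i c = -1 := by
  by_contra hc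
  push Not at hc
  have h4 : 4 ≤ V.X i c * V.X i c := by
    rcases le_or_gt (V.X i c) 0 with h0 | h0
    · have : V.X i c ≤ -2 := by omega
      nlinarith
    · have : 2 ≤ V.X i c := by omega
      nlinarith
  have hL : [c].Nodup := List.nodup_singleton c
  have hz : ∀ x, x ∉ [c] → V.X i x = 0 := fun x hx =>
    eq_zero_of_lsum_eq hL (V.X i) (by rw [V.XX]; simpa [lsum] using h4) hx
  have hd := V.X_deg i
  have := sum_eq_lsum hL (V.X i) (fun x => (V.d x : ℤ)) hz
  simp [lsum, hd] at this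
  rcases this with h' | h'
  · exact hc.1 h'
  · exact absurd h' (V.d_pos c).ne'

/-- Two unit vectors with inner product two on few points agree there. -/
theorem units_agree {α : Type*} [Fintype α] (f g : α → ℤ) (hf : ∀ c, f c = 0 ∨ f c = 1 ∨ f c = -1)
    (hg : ∀ c, g c = 0 ∨ g c = 1 ∨ g c = -1) (hs : ∑ c, f c * g c = 2) :
    ((Finset.univ.filter fun c => f c * g c ≠ 0).card : ℤ) =
      2 + 2 * ((Finset.univ.filter fun c => f c * g c = -1).card : ℤ) := by
  have hv : ∀ c, f c * g c = 0 ∨ f c * g c = 1 ∨ f c * g c = -1 := fun c => by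
    rcases hf c with h1 | h1 | h1 <;> rcases hg c with h2 | h2 | h2 <;> simp [h1, h2]
  suffices ((Finset.univ.filter fun c => f c * g c ≠ 0).card : ℤ) =
      ∑ c, f c * g c + 2 * ((Finset.univ.filter fun c => f c * g c = -1).card : ℤ) by rwa [hs] at this
  rw [Finset.card_filter, Finset.card_filter, Nat.cast_sum, Nat.cast_sum, Finset.mul_sum,
    ← Finset.sum_add_distrib]
  refine Finset.sum_congr rfl fun c _ => ?_
  rcases hv c with h1 | h1 | h1 <;> simp [h1]

theorem Vecs.X_card (V : Vecs ι M Λ Q k h) (i : Fin 3) :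
    ((Finset.univ.filter fun c => V.X i c ≠ 0).card : ℤ) = 4 := by
  have h4 := V.XX i i
  rw [if_pos rfl] at h4
  rw [← h4, Finset.card_filter, Nat.cast_sum]
  refine Finset.sum_congr rfl fun c _ => ?_
  rcases V.X_unit i c with h1 | h1 | h1 <;> simp [h1]

theorem Vecs.X_agree (V : Vecs ι M Λ Q k h) (i j : Fin 3) (c : ι) : V.X i c * V.X j c ≠ -1 := by
  have h0 : ∀ j, j ≠ 0 → ∀ c, V.X 0 c * V.X j c ≠ -1 := by
    intro j hj c hc
    have hs := V.XX 0 j
    rw [if_neg (Ne.symm hj)] at hs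
    have h1 := units_agree _ _ (V.X_unit 0) (V.X_unit j) hs
    have hsub : (Finset.univ.filter fun x => V.X 0 x * V.X j x ≠ 0) ⊆
        (Finset.univ.filter fun x => V.X 0 x ≠ 0).erase V.o := by
      intro x hx
      simp only [Finset.mem_filter, Finset.mem_univ, true_and, mul_ne_zero_iff] at hx
      simp only [Finset.mem_erase, Finset.mem_filter, Finset.mem_univ, true_and]
      exact ⟨fun e => hx.2 (by rw [e, V.X_one, if_neg hj]), hx.1⟩
    have h2 := Finset.card_le_card hsub
    rw [Finset.card_erase_of_mem (by simp [V.X_one])] at h2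
    have h3 := V.X_card 0
    have h4 : 0 < (Finset.univ.filter fun x => V.X 0 x * V.X j x = -1).card :=
      Finset.card_pos.2 ⟨c, by simp [hc]⟩
    omega
  have h12 : ∀ c, V.X 1 c * V.X 2 c ≠ -1 := by
    intro c hc
    have hs := V.XX 1 2
    rw [if_neg (by decide)] at hs
    have h1 := units_agree _ _ (V.X_unit 1) (V.X_unit 2) hs
    have h2 : (Finset.univ.filter fun x => V.X 1 x * V.X 2 x ≠ 0).card ≤
        (Finset.univ.filter fun x => V.X 1 x ≠ 0).card :=
      Finset.card_le_card fun x hx => by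
        simp only [Finset.mem_filter, Finset.mem_univ, true_and, mul_ne_zero_iff] at hx ⊢
        exact hx.1
    have h3 := V.X_card 1
    have h4 : (Finset.univ.filter fun x => V.X 1 x * V.X 2 x = -1).card ≤ 1 := by omega
    have e : V.s c = c := Finset.card_le_one.1 h4 _ (by simp [V.s_X1, V.s_X2, mul_comm, hc]) _ (by simp [hc])
    have h5 : V.X 2 c = V.X 1 c := by rw [← V.s_X1 c, e]
    rw [h5] at hc
    nlinarith [mul_self_nonneg (V.X 1 c)]
  have hd : ∀ i c, V.X i c * V.X i c ≠ -1 := fun i c e => by nlinarith [mul_self_nonneg (V.X i c)]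
  fin_cases i <;> fin_cases j
  · exact hd 0 c
  · exact h0 1 (by decide) c
  · exact h0 2 (by decide) c
  · rw [mul_comm]; exact h0 1 (by decide) c
  · exact hd 1 c
  · exact h12 c
  · rw [mul_comm]; exact h0 2 (by decide) c
  · rw [mul_comm]; exact h12 c
  · exact hd 2 c

theorem Vecs.exists_signed (V : Vecs ι M Λ Q k h) : ∃ S : SVecs ι M Λ Q k h, S.g = V.g := by
  let σ : ι → ℤ := fun c => if V.X 0 c ≠ 0 then V.X 0 c else if V.X 1 c ≠ 0 then V.X 1 c
    else if V.X 2 c ≠ 0 then V.X 2 c else 1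
  have hσ : ∀ c, σ c = 1 ∨ σ c = -1 := fun c => by
    have h0 := V.X_unit 0 c
    have h1 := V.X_unit 1 c
    have h2 := V.X_unit 2 c
    simp only [σ]
    split_ifs with a b e <;> omega
  have hσσ : ∀ c, σ c * σ c = 1 := fun c => by rcases hσ c with e | e <;> simp [e]
  have hσo : σ V.o = 1 := by simp [σ, V.X_one]
  have key : ∀ a b c : ℤ, (a = 0 ∨ a = 1 ∨ a = -1) → (b = 0 ∨ b = 1 ∨ b = -1) → (c = 0 ∨ c = 1 ∨ c = -1) →
      a * b ≠ -1 → a * c ≠ -1 → b * c ≠ -1 →
      (∀ x ∈ [a, b, c], (if a ≠ 0 then a else if b ≠ 0 then b else if c ≠ 0 then c else 1) * x = 0 ∨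
        (if a ≠ 0 then a else if b ≠ 0 then b else if c ≠ 0 then c else 1) * x = 1) ∧
      ((if a ≠ 0 then a else if c ≠ 0 then c else if b ≠ 0 then b else 1) : ℤ) =
        if a ≠ 0 then a else if b ≠ 0 then b else if c ≠ 0 then c else 1 := by
    rintro a b c (rfl | rfl | rfl) (rfl | rfl | rfl) (rfl | rfl | rfl) <;> decide
  have hk' := fun c => key _ _ _ (V.X_unit 0 c) (V.X_unit 1 c) (V.X_unit 2 c) (V.X_agree 0 1 c)
    (V.X_agree 0 2 c) (V.X_agree 1 2 c)
  have h01 : ∀ i c, σ c * V.X i c = 0 ∨ σ c * V.X i c = 1 := fun i c =>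
    (hk' c).1 _ (by fin_cases i <;> simp)
  have hs : ∀ c, σ (V.s c) = σ c := fun c => by
    simp only [σ, V.s_X0, V.s_X1, V.s_X2]
    exact (hk' c).2
  have tw : ∀ (f g : ι → ℤ), ∑ c, σ c * f c * (σ c * g c) = ∑ c, f c * g c := fun f g =>
    Finset.sum_congr rfl fun c _ => by rcases hσ c with e | e <;> simp [e]
  have twq : ∀ (f : ι → ℤ), ∑ c, ((σ c * f c : ℤ) : ℚ) *
      (((σ c * V.z c : ℤ) : ℚ) ^ 2 / ((σ c * (V.d c : ℤ) : ℤ) : ℚ)) =
      ∑ c, (f c : ℚ) * (V.z c : ℚ) ^ 2 / (V.d c : ℚ) := fun f =>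
    Finset.sum_congr rfl fun c _ => by rcases hσ c with e | e <;> simp [e] <;> ring
  refine ⟨
    { hQ8 := V.hQ8, hQ := V.hQ, hk := V.hk, hh := V.hh, hk3 := V.hk3, hk1 := V.hk1
      o := V.o
      d := fun c => σ c * (V.d c : ℤ)
      d_ne := fun c => mul_ne_zero (by rcases hσ c with e | e <;> simp [e])
        (by exact_mod_cast (V.d_pos c).ne')
      d_o := by simp [hσo, V.d_o]
      X := fun i c => σ c * V.X i c
      X01 := h01
      Th := fun m c => σ c * V.Th m c
      Tl := fun l c => σ c * V.Tl l c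
      F1 := fun m c => σ c * V.F1 m c
      Fv := fun m j c => σ c * V.Fv m j c
      w := V.w, w3 := V.w3, wne := V.wne, m0 := V.m0
      XX := fun i j => by rw [tw, V.XX]
      X_one := fun i => by rw [hσo, one_mul, V.X_one]
      XTh := fun i m => by rw [tw, V.XTh]
      XTl := fun i l => by rw [tw, V.XTl]
      ThTh := fun m => by rw [tw, V.ThTh, if_pos rfl]
      TlTl := fun l => by rw [tw, V.TlTl, if_pos rfl]
      Th_one := fun m => by rw [V.Th_one, mul_zero]
      Tl_one := fun m => by rw [V.Tl_one, mul_zero]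
      F1_one := fun m => by rw [hσo, V.F1_one, mul_one]
      Fv_one := fun m j => by rw [V.Fv_one, mul_zero]
      F1X := fun m i => by rw [tw, V.F1X]
      FvX := fun m j i => by rw [tw, V.FvX]
      F1Tl := fun m l => by rw [tw, V.F1Tl]
      FvTl := fun m j l => by rw [tw, V.FvTl]
      F1Th := fun m n => by rw [tw, V.F1Th]
      FvTh := fun m j n => by rw [tw, V.FvTh]
      F1F1 := fun m n => by rw [tw, V.F1F1]
      F1Fv := fun m j => by rw [tw, V.F1Fv]
      FvFv := fun m j j' => by rw [tw, V.FvFv]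
      X_deg := fun i => by rw [tw (V.X i) (fun c => (V.d c : ℤ)), V.X_deg]
      F1_deg := fun m => by rw [tw (V.F1 m) (fun c => (V.d c : ℤ)), V.F1_deg]
      Fv_deg := fun m j => by rw [tw (V.Fv m j) (fun c => (V.d c : ℤ)), V.Fv_deg]
      z := fun c => σ c * V.z c
      z_eq := fun c => by rw [V.z_eq]; simp only [mul_add, Finset.mul_sum]; ring_nf
      s := V.s, s_o := V.s_o
      s_d := fun c => by rw [hs, V.s_d]
      s_X0 := fun c => by rw [hs, V.s_X0]
      s_X1 := fun c => by rw [hs, V.s_X1]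
      s_X2 := fun c => by rw [hs, V.s_X2]
      s_Th := fun m c => by rw [hs, V.s_Th]
      s_Tl := fun m c => by rw [hs, V.s_Tl]
      s_F1 := fun m c => by rw [hs, V.s_F1]
      s_Fv := fun m j c => by rw [hs, V.s_Fv]
      g := V.g, g_dvd := V.g_dvd, g_ne := V.g_ne
      pairsX0 := by rw [twq, V.pairsX0]
      pairsX1 := by rw [twq, V.pairsX1 1 (by decide)]
      pairsF1 := fun m => by rw [twq, V.pairsF1]
      pairsFv := fun m j => by rw [twq, V.pairsFv]
      congr := fun c κ hκ => by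
        have := V.congr c (σ c * κ) fun m => by
          rw [← hκ m, ← mul_assoc, hσσ, one_mul]
        have h2 := dvd_mul_of_dvd_right this (σ c)
        rwa [show σ c * ((V.d c : ℤ) + 3 * V.z c - 4 * (σ c * κ)) =
          σ c * (V.d c : ℤ) + 3 * (σ c * V.z c) - 4 * (σ c * σ c * κ) by ring, hσσ, one_mul] at h2 },
    rfl⟩

end CfsgLib.JT
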