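import Cfsg.Agent.TwoTimesPSL.Main
import Cfsg.Agent.Classical.SmallPSL
import Cfsg.Agent.Classical.PSLTwoSub
import Cfsg.Agent.Invol.ThompsonTransfer
import Cfsg.Agent.PSLClass.Main
import Cfsg.Agent.JankoThompson.Sect
import Cfsg.Agent.DGroup.Fusion
import Mathlib.GroupTheory.Perm.Sign

/-!
# Simple groups with abelian Sylow two-subgroups and an involution centraliser `C₂ × PSL₂(F)`:
the Sylow subgroup, the field, the classes of involutions.
-/

set_option autoImplicit false
set_option linter.style.haveILetI false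
set_option linter.unusedSectionVars false

namespace CfsgLib.JT

open Subgroup
open CfsgLib.Linear.SmallSub (P2)

universe u v

variable {G : Type u} [Group G] [Finite G] {F : Type v} [Field F] [Fintype F] {t : G}

/-- Twice the order for odd `q`, once for even `q`. -/
theorem card_P2_odd (hodd : Odd (Fintype.card F)) :
    2 * Nat.card (P2 F) = Fintype.card F * (Fintype.card F ^ 2 - 1) := by
  have h := CfsgLib.Linear.Small.card_psl_two (F := F) rfl
  obtain ⟨k, hk⟩ := hodd
  rw [hk] at h ⊢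
  have hg : Nat.gcd 2 (2 * k + 1 - 1) = 2 := by rw [show 2 * k + 1 - 1 = 2 * k by omega]; simp
  have h1 : 0 < 2 * k + 1 - 1 := by have := Fintype.one_lt_card (α := F); omega
  rw [hg, show (2 * k + 1) ^ 2 - (2 * k + 1) = (2 * k + 1 - 1) * (2 * k + 1) by
    rw [Nat.sub_mul, sq, one_mul]] at h
  refine Nat.eq_of_mul_eq_mul_left h1 ?_
  calc (2 * k + 1 - 1) * (2 * Nat.card (P2 F)) = 2 * ((2 * k + 1 - 1) * Nat.card (P2 F)) := by ring
    _ = _ := h
    _ = _ := by ring

theorem card_P2_even (heven : Even (Fintype.card F)) :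
    Nat.card (P2 F) = Fintype.card F * (Fintype.card F ^ 2 - 1) := by
  have h := CfsgLib.Linear.Small.card_psl_two (F := F) rfl
  have h2 := Fintype.one_lt_card (α := F)
  obtain ⟨k, hk⟩ := heven
  rw [hk] at h h2 ⊢
  have hg : Nat.gcd 2 (k + k - 1) = 1 := by
    exact Nat.coprime_two_left.2 ⟨k - 1, by omega⟩
  rw [hg, one_mul, show (k + k) ^ 2 - (k + k) = (k + k - 1) * (k + k) by rw [Nat.sub_mul, sq, one_mul]] at h
  refine Nat.eq_of_mul_eq_mul_left (show 0 < k + k - 1 by omega) ?_
  rw [h]; ring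

theorem eight_le_card_P2 (hq : 3 ≤ Fintype.card F) : 1 < Nat.card (P2 F) := by
  have h3 : 9 ≤ Fintype.card F ^ 2 := by nlinarith
  have : 24 ≤ Fintype.card F * (Fintype.card F ^ 2 - 1) := by
    calc 24 = 3 * 8 := rfl
      _ ≤ _ := Nat.mul_le_mul hq (by omega)
  rcases Nat.even_or_odd (Fintype.card F) with h | h
  · rw [card_P2_even h]; omega
  · have := card_P2_odd h; omega

/-- The group is not abelian. -/
theorem not_comm [IsSimpleGroup G] (ht : orderOf t = 2) (hq : 3 ≤ Fintype.card F)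
    (e : ↥(centralizer ({t} : Set G)) ≃* Multiplicative (ZMod 2) × P2 F) : ¬ IsMulCommutative G := by
  intro hc
  letI : CommGroup G := { (inferInstance : Group G) with mul_comm := fun a b => hc.1.1 a b }
  have htop : centralizer ({t} : Set G) = ⊤ :=
    eq_top_iff.2 fun g _ => mem_centralizer_singleton_iff.2 (hc.1.1 g t)
  have hp : (Nat.card G).Prime := IsSimpleGroup.prime_card
  have h := Nat.card_congr e.toEquiv
  rw [Nat.card_prod, show Nat.card (Multiplicative (ZMod 2)) = 2 by simp, htop, card_top] at h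
  rw [h] at hp
  exact Nat.not_prime_mul (by norm_num) (Nat.ne_of_gt (eight_le_card_P2 hq)) hp

/-- A Sylow subgroup inside the centraliser. -/
theorem exists_sylow_le (ht : orderOf t = 2)
    (hab : ∀ P : Sylow 2 G, ∀ a b : P, a * b = b * a) :
    ∃ S : Sylow 2 G, t ∈ S ∧ (S : Subgroup G) ≤ centralizer ({t} : Set G) := by
  haveI : Fact (Nat.Prime 2) := ⟨Nat.prime_two⟩
  obtain ⟨S, hS⟩ := (IsPGroup.of_card (G := zpowers t) (p := 2) (n := 1)
    (by rw [Nat.card_zpowers, ht]; rfl)).exists_le_sylow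
  have htS : t ∈ S := hS (mem_zpowers t)
  exact ⟨S, htS, fun x hx => mem_centralizer_singleton_iff.2
    (congrArg Subtype.val (hab S ⟨x, hx⟩ ⟨t, htS⟩))⟩

/-- The Sylow orders of `G` and of the centraliser agree. -/
theorem sylow_card_iff (ht : orderOf t = 2) (hab : ∀ P : Sylow 2 G, ∀ a b : P, a * b = b * a)
    (e : ↥(centralizer ({t} : Set G)) ≃* Multiplicative (ZMod 2) × P2 F) (S : Sylow 2 G) :
    Nat.card (S : Subgroup G) = 2 ^ (2 * Nat.card (P2 F)).factorization 2 := by
  haveI : Fact (Nat.Prime 2) := ⟨Nat.prime_two⟩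
  obtain ⟨S₀, -, hle⟩ := exists_sylow_le ht hab
  have hC : Nat.card (centralizer ({t} : Set G)) = 2 * Nat.card (P2 F) := by
    rw [Nat.card_congr e.toEquiv, Nat.card_prod, show Nat.card (Multiplicative (ZMod 2)) = 2 by simp]
  have h1 := card_dvd_of_le hle
  rw [hC, S₀.card_eq_multiplicity] at h1
  have h2 : (2 * Nat.card (P2 F)) ∣ Nat.card G := hC ▸ card_subgroup_dvd_card _
  have h3 := (Nat.Prime.pow_dvd_iff_le_factorization Nat.prime_two (by simp [Nat.card_pos.ne'])).1 h1
  have h4 := (Nat.factorization_le_iff_dvd (by simp [Nat.card_pos.ne']) Nat.card_pos.ne').2 h2 2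
  rw [S.card_eq_multiplicity, le_antisymm h3 h4]

/-- The hypothesis of `TwoTimesPSL.main`. -/
theorem closure_equiv [IsSimpleGroup (P2 F)] (hna : ¬ IsMulCommutative (P2 F))
    (e : ↥(centralizer ({t} : Set G)) ≃* Multiplicative (ZMod 2) × P2 F) :
    Nonempty (↥(closure {x : (↥(centralizer ({t} : Set G)) ⧸ Cfsg.oddCore ↥(centralizer ({t} : Set G))) |
        ∃ k : ℕ, orderOf x = 2 ^ k}) ≃* Multiplicative (ZMod 2) × P2 F) := by
  classical
  set O := Cfsg.oddCore ↥(centralizer ({t} : Set G)) with hOdef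
  haveI hON : O.Normal := CfsgLib.DGroup.normal_oddCore _
  have hOo : Odd (Nat.card O) := CfsgLib.DGroup.odd_oddCore _
  set f : ↥(centralizer ({t} : Set G)) →* P2 F :=
    (MonoidHom.snd _ _).comp e.toMonoidHom with hf
  have hfs : Function.Surjective f := fun l => ⟨e.symm (1, l), by simp [f]⟩
  haveI : (O.map f).Normal := hON.map f hfs
  have hO : O = ⊥ := by
    rw [eq_bot_iff_forall]
    intro x hx
    have hbot : O.map f = ⊥ := by
      refine (Subgroup.Normal.eq_bot_or_eq_top inferInstance).resolve_right fun h => ?_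
      have hodd : Odd (Nat.card (P2 F)) := by
        rw [← card_top (G := P2 F), ← h]
        exact hOo.of_dvd_nat (Subgroup.card_map_dvd _ _)
      exact hna ⟨⟨IsSimpleGroup.comm_iff_isSolvable.2 (CfsgLib.OddEnd.odd_solvable _ hodd)⟩⟩
    have h2 : (e x).2 = 1 := mem_bot.1 (hbot ▸ mem_map_of_mem f hx)
    have h3 : x * x = 1 := e.injective (by
      rw [map_mul, map_one]
      refine Prod.ext ?_ (by simp [h2])
      rcases mult_two_cases (e x).1 with h | h <;> simp [h] ; rfl)
    have ho : Odd (orderOf x) := hOo.of_dvd_nat (O.orderOf_dvd_natCard hx)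
    exact CfsgLib.DGroup.eq_one_of_sq h3 ho
  let φ : (↥(centralizer ({t} : Set G)) ⧸ O) ≃* Multiplicative (ZMod 2) × P2 F :=
    ((QuotientGroup.quotientMulEquivOfEq hO).trans QuotientGroup.quotientBot).trans e
  set S : Set (↥(centralizer ({t} : Set G)) ⧸ O) := {x | ∃ k : ℕ, orderOf x = 2 ^ k} with hS
  haveI hN : (closure S).Normal := by
    refine ⟨fun x hx g => ?_⟩
    have : (closure S).map (MulAut.conj g).toMonoidHom ≤ closure S := by
      rw [MonoidHom.map_closure, closure_le]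
      rintro _ ⟨y, ⟨k, hk⟩, rfl⟩
      exact subset_closure ⟨k, by
        rw [← hk]
        exact orderOf_injective (MulAut.conj g).toMonoidHom (MulAut.conj g).injective y⟩
    exact this ⟨x, hx, rfl⟩
  set K := (closure S).map φ.toMonoidHom with hK
  have hKN : K.Normal := hN.map _ φ.surjective
  have h2el : ∀ d : Multiplicative (ZMod 2) × P2 F, d * d = 1 → d ∈ K := fun d hd => by
    refine ⟨φ.symm d, subset_closure ?_, φ.apply_symm_apply d⟩
    by_cases h1 : d = 1
    · exact ⟨0, by subst h1; simp⟩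
    · refine ⟨1, ?_⟩
      rw [pow_one, MulEquiv.orderOf_eq]
      exact orderOf_eq_prime (by rw [sq, hd]) h1
  haveI : Fact (Nat.Prime 2) := ⟨Nat.prime_two⟩
  have h2 : 2 ∣ Nat.card (P2 F) := by
    by_contra h
    exact hna ⟨⟨IsSimpleGroup.comm_iff_isSolvable.2
      (CfsgLib.OddEnd.odd_solvable _ (Nat.odd_iff.2 (Nat.two_dvd_ne_zero.1 h)))⟩⟩
  obtain ⟨u, hu⟩ := exists_prime_orderOf_dvd_card' 2 h2
  have hu2 : u * u = 1 := by have h := pow_orderOf_eq_one u; rwa [hu, sq] at h
  have hr : K.comap (MonoidHom.inr (Multiplicative (ZMod 2)) (P2 F)) = ⊤ := by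
    refine ((hKN.comap _).eq_bot_or_eq_top).resolve_left fun h => ?_
    have : u ∈ (⊥ : Subgroup (P2 F)) := h ▸ h2el (1, u) (by simp [hu2])
    rw [mem_bot.1 this, orderOf_one] at hu
    norm_num at hu
  have htop : closure S = ⊤ := by
    rw [eq_top_iff]
    intro x _
    have hmem : φ x ∈ K := by
      have he : φ x = ((φ x).1, 1) * (1, (φ x).2) := by simp
      rw [he]
      refine mul_mem (h2el _ ?_) (?_ : (φ x).2 ∈ K.comap (MonoidHom.inr _ _))
      · rcases mult_two_cases (φ x).1 with h | h <;> simp [h] ; rfl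
      · rw [hr]; exact mem_top _
    obtain ⟨y, hy, hyx⟩ := hmem
    rwa [← φ.injective hyx]
  exact ⟨((MulEquiv.subgroupCongr htop).trans Subgroup.topEquiv).trans φ⟩

theorem isSimple_P2 (h4 : 4 ≤ Fintype.card F) :
    IsSimpleGroup (P2 F) ∧ ¬ IsMulCommutative (P2 F) := by
  haveI := CfsgLib.Linear.isSimpleGroup_PSL (ι := Fin 2) (F := F)
    (Or.inr (CfsgLib.Linear.Small.exists_sq_ne_one h4))
  refine ⟨inferInstance, fun h => ?_⟩
  have hc := CfsgLib.PSLClass.center_P2 (F := F) h4
  have : (⊤ : Subgroup (P2 F)) = ⊥ :=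
    hc ▸ (eq_top_iff.2 fun a _ => mem_center_iff.2 fun b => h.1.1 b a).symm
  exact top_ne_bot this

/-- The possible fields. -/
theorem field_cases [IsSimpleGroup G] (ht : orderOf t = 2)
    (hab : ∀ P : Sylow 2 G, ∀ a b : P, a * b = b * a) (hq : 3 ≤ Fintype.card F)
    (e : ↥(centralizer ({t} : Set G)) ≃* Multiplicative (ZMod 2) × P2 F) :
    Fintype.card F = 4 ∨ (Odd (Fintype.card F) ∧ (Fintype.card F % 8 = 3 ∨ Fintype.card F % 8 = 5)) := by
  rcases eq_or_lt_of_le hq with h3 | h3
  · exact Or.inr ⟨⟨1, h3.symm⟩, Or.inl (by omega)⟩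
  obtain ⟨hS, hna⟩ := isSimple_P2 (F := F) (by omega)
  haveI := hS
  obtain ⟨e'⟩ := closure_equiv hna e
  obtain ⟨S⟩ : Nonempty (Sylow 2 G) := inferInstance
  have h8 := (CfsgLib.TwoTimesPSL.main (not_comm ht hq e) t ht h3 e' S).1
  rw [sylow_card_iff ht hab e S, show (8 : ℕ) = 2 ^ 3 from rfl] at h8
  have h38 := Nat.pow_right_injective (le_refl 2) h8
  have hd : 2 ^ 3 ∣ 2 * Nat.card (P2 F) := h38 ▸ Nat.ordProj_dvd _ 2
  have hnd : ¬ 2 ^ 4 ∣ 2 * Nat.card (P2 F) := fun h => by
    have := (Nat.Prime.pow_dvd_iff_le_factorization Nat.prime_two (by simp [Nat.card_pos.ne'])).1 h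
    omega
  rcases Nat.even_or_odd (Fintype.card F) with hev | hodd
  · left
    haveI : Fact (Nat.Prime 2) := ⟨Nat.prime_two⟩
    obtain ⟨p, hp, n, hn⟩ := FiniteField.card' F
    have hp2 : p = 2 := by
      have h := hev.two_dvd
      rw [hn.2] at h
      exact ((Nat.prime_dvd_prime_iff_eq Nat.prime_two hn.1).1 (Nat.prime_two.dvd_of_dvd_pow h)).symm
    subst hp2
    rw [card_P2_even hev, hn.2] at hd hnd
    rcases (n : ℕ).eq_zero_or_pos with h0 | h0
    · rw [hn.2, h0] at hq; norm_num at hq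
    rw [hn.2] at h3 ⊢
    rcases (show (n : ℕ) = 1 ∨ (n : ℕ) = 2 ∨ 3 ≤ (n : ℕ) by omega) with h | h | h
    · rw [h] at h3; norm_num at h3
    · rw [h]; norm_num
    · exact absurd (mul_dvd_mul_left 2 (Dvd.dvd.mul_right (pow_dvd_pow 2 h) _)) (by
        rwa [show (2 : ℕ) ^ 4 = 2 * 2 ^ 3 by norm_num] at hnd)
  · right
    refine ⟨hodd, ?_⟩
    rw [card_P2_odd hodd] at hd hnd
    set q := Fintype.card F
    obtain ⟨a, r, hr, hqr⟩ : ∃ a r, r < 16 ∧ q = 16 * a + r :=
      ⟨q / 16, q % 16, Nat.mod_lt _ (by norm_num), (Nat.div_add_mod q 16).symm⟩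
    have h2 : q * (q ^ 2 - 1) % 16 = 8 := by
      obtain ⟨m, hm⟩ := hd
      have : ¬ 16 ∣ q * (q ^ 2 - 1) := hnd
      omega
    have hqq : q % 2 = 1 := Nat.odd_iff.1 hodd
    rw [Nat.mul_mod, show (q ^ 2 - 1) % 16 = ((q % 16) ^ 2 + 15) % 16 by
      have h1 : 1 ≤ q ^ 2 := Nat.one_le_pow _ _ (by omega)
      have h3 : q ^ 2 % 16 = (q % 16) ^ 2 % 16 := Nat.pow_mod q 2 16
      omega] at h2
    have hq16 : q % 16 = r := by omega
    rw [hq16] at h2
    interval_cases r <;> omega

/-- The Sylow subgroups are elementary of order eight. -/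
theorem sylow_eight [IsSimpleGroup G] (ht : orderOf t = 2)
    (hab : ∀ P : Sylow 2 G, ∀ a b : P, a * b = b * a) (hq : 3 ≤ Fintype.card F)
    (e : ↥(centralizer ({t} : Set G)) ≃* Multiplicative (ZMod 2) × P2 F) :
    ∀ P : Sylow 2 G, Nat.card (P : Subgroup G) = 8 ∧ ∀ x ∈ (P : Subgroup G), x * x = 1 := by
  rcases eq_or_lt_of_le hq with h3 | h3
  · haveI : Fact (Nat.Prime 2) := ⟨Nat.prime_two⟩
    intro P
    have hodd : Odd (Fintype.card F) := ⟨1, h3.symm⟩
    have h12 : Nat.card (P2 F) = 12 := by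
      have := card_P2_odd hodd
      rw [← h3] at this
      omega
    refine ⟨?_, ?_⟩
    · rw [sylow_card_iff ht hab e P, h12, show (2 * 12 : ℕ) = 2 ^ 3 * 3 by norm_num,
        Nat.factorization_mul (by norm_num) (by norm_num), Nat.Prime.factorization_pow Nat.prime_two,
        Finsupp.add_apply, Nat.Prime.factorization (by norm_num : Nat.Prime 3)]
      simp
    obtain ⟨S, -, hle⟩ := exists_sylow_le ht hab
    obtain ⟨g, rfl⟩ := MulAction.exists_smul_eq G S P
    intro x hx
    obtain ⟨y, hy, rfl⟩ := hx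
    obtain ⟨j, hj⟩ := S.isPGroup' ⟨y, hy⟩
    have hyj : y ^ 2 ^ j = 1 := by simpa using congrArg Subtype.val hj
    have hsq : (⟨y, hle hy⟩ : ↥(centralizer ({t} : Set G))) * ⟨y, hle hy⟩ = 1 := by
      refine e.injective ?_
      rw [map_mul, map_one]
      set d := e ⟨y, hle hy⟩ with hd
      refine Prod.ext ?_ ?_
      · rcases mult_two_cases d.1 with h | h <;> simp [h] <;> rfl
      have hpow : d.2 ^ 2 ^ j = 1 := by
        have : d ^ 2 ^ j = 1 := by
          rw [hd, ← map_pow, show (⟨y, hle hy⟩ : ↥(centralizer ({t} : Set G))) ^ 2 ^ j = 1 from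
            Subtype.ext (by simpa using hyj), map_one]
        simpa using congrArg Prod.snd this
      obtain ⟨T, hT⟩ := (IsPGroup.of_card (G := zpowers d.2) (p := 2)
        (n := (orderOf d.2).factorization 2) (by
          obtain ⟨i, -, hi⟩ := (Nat.dvd_prime_pow Nat.prime_two).1 (orderOf_dvd_of_pow_eq_one hpow)
          rw [Nat.card_zpowers, hi, Nat.Prime.factorization_pow Nat.prime_two, Finsupp.single_eq_same])).exists_le_sylow
      exact CfsgLib.Linear.FourGroups.klein_sq
        (CfsgLib.Linear.SylowTwoSL.isKleinFour_sylow_psl rfl (Or.inl (by omega)) T) (hT (mem_zpowers _))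
    show MulAut.conj g y * MulAut.conj g y = 1
    rw [← map_mul, show y * y = 1 from congrArg Subtype.val hsq, map_one]
  · obtain ⟨hS, hna⟩ := isSimple_P2 (F := F) (by omega)
    haveI := hS
    obtain ⟨e'⟩ := closure_equiv hna e
    intro P
    obtain ⟨h1, h2⟩ := CfsgLib.TwoTimesPSL.main (not_comm ht hq e) t ht h3 e' P
    exact ⟨h1, fun x hx => by rw [← sq]; exact h2 x hx⟩

/-- All involutions are conjugate. -/
theorem conj_of_invol [IsSimpleGroup G] (ht : orderOf t = 2)
    (hab : ∀ P : Sylow 2 G, ∀ a b : P, a * b = b * a) (hq : 3 ≤ Fintype.card F)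
    (hodd : Odd (Fintype.card F))
    (e : ↥(centralizer ({t} : Set G)) ≃* Multiplicative (ZMod 2) × P2 F) :
    ∀ x : G, orderOf x = 2 → IsConj t x := by
  haveI : Fact (Nat.Prime 2) := ⟨Nat.prime_two⟩
  have h8 : Fintype.card F % 8 = 3 ∨ Fintype.card F % 8 = 5 := by
    rcases field_cases ht hab hq e with h | h
    · rw [h] at hodd; exact absurd hodd (by decide)
    · exact h.2
  obtain ⟨V⟩ : Nonempty (Sylow 2 (P2 F)) := inferInstance
  have hV := CfsgLib.Linear.SylowTwoSL.isKleinFour_sylow_psl rfl h8 V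
  set ψ : Multiplicative (ZMod 2) × P2 F →* G :=
    (centralizer ({t} : Set G)).subtype.comp e.symm.toMonoidHom with hψ
  have hinj : Function.Injective ψ := Subtype.val_injective.comp e.symm.injective
  set T := ((⊤ : Subgroup (Multiplicative (ZMod 2))).prod (V : Subgroup (P2 F))).map ψ
  set Q := ((⊥ : Subgroup (Multiplicative (ZMod 2))).prod (V : Subgroup (P2 F))).map ψ
  have cT : Nat.card T = 8 := by
    rw [card_map_of_injective hinj, Nat.card_congr (Subgroup.prodEquiv _ _).toEquiv, Nat.card_prod,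
      card_top, show Nat.card (Multiplicative (ZMod 2)) = 2 by simp, hV.card_four]
  have cQ : Nat.card Q = 4 := by
    rw [card_map_of_injective hinj, Nat.card_congr (Subgroup.prodEquiv _ _).toEquiv, Nat.card_prod,
      card_bot, hV.card_four]
  have hQT : Q ≤ T := map_mono (prod_mono bot_le le_rfl)
  obtain ⟨S, hS⟩ := (IsPGroup.of_card (G := T) (p := 2) (n := 3) (by rw [cT]; rfl)).exists_le_sylow
  have hTS : T = (S : Subgroup G) := eq_of_le_of_card_ge hS (by rw [cT, (sylow_eight ht hab hq e S).1])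
  have hiodd : Odd T.index := by
    rw [hTS, ← Nat.not_even_iff_odd, even_iff_two_dvd]
    exact S.not_dvd_index
  have hrel : Q.relIndex T = 2 := by
    have h := Subgroup.card_mul_index (Q.subgroupOf T)
    rw [Nat.card_congr (subgroupOfEquivOfLe hQT).toEquiv, cQ, cT] at h
    show (Q.subgroupOf T).index = 2
    omega
  obtain ⟨v₀, hv₀, hv₁⟩ := (Subgroup.ne_bot_iff_exists_ne_one).1 (by
    intro h0
    have := hV.card_four
    rw [h0, card_bot] at this
    omega : (V : Subgroup (P2 F)) ≠ ⊥) |> fun ⟨x, hx⟩ =>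
      (⟨x.1, x.2, fun h => hx (Subtype.ext h)⟩ : ∃ v, v ∈ (V : Subgroup (P2 F)) ∧ v ≠ 1)
  have key : ∀ y : G, y * y = 1 → y ≠ 1 → IsConj (ψ (1, v₀)) y := by
    intro y hy hy1
    rcases CfsgLib.ThompsonTransfer.thompson_transfer T Q hiodd hrel hy with
      ⟨M, hM, hM2, hyM⟩ | ⟨g, hg⟩
    · exfalso
      rcases hM.eq_bot_or_eq_top with rfl | rfl
      · have h2 := Subgroup.card_subgroup_dvd_card T
        rw [cT, ← Subgroup.index_bot (G := G), hM2] at h2
        exact absurd (Nat.le_of_dvd (by norm_num) h2) (by norm_num)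
      · exact hyM (mem_top y)
    · obtain ⟨⟨a, v⟩, ⟨ha, hv⟩, hvy⟩ := hg
      obtain rfl : a = 1 := mem_bot.1 ha
      have hv1 : v ≠ 1 := by
        rintro rfl
        rw [show ((1 : Multiplicative (ZMod 2)), (1 : P2 F)) = 1 from rfl, map_one, eq_comm,
          conj_eq_one_iff] at hvy
        exact hy1 hvy
      obtain ⟨w, hw⟩ := isConj_iff.1 (CfsgLib.Linear.FourGroups.involutions_conj hodd
        (CfsgLib.Linear.FourGroups.klein_sq hV hv₀) hv₁
        (CfsgLib.Linear.FourGroups.klein_sq hV hv) hv1)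
      refine IsConj.trans (c := y) (isConj_iff.2 ⟨ψ (1, w), ?_⟩ : IsConj _ (ψ (1, v)))
        (isConj_iff.2 ⟨g, hvy.symm⟩).symm
      rw [← map_inv, ← map_mul, ← map_mul]
      simp [hw]
  have ht2 : t * t = 1 := by rw [← sq, ← ht, pow_orderOf_eq_one]
  have ht1 : t ≠ 1 := fun h => by rw [h, orderOf_one] at ht; exact absurd ht (by norm_num)
  intro x hx
  have hx2 : x * x = 1 := by rw [← sq, ← hx, pow_orderOf_eq_one]
  have hx1 : x ≠ 1 := fun h => by rw [h, orderOf_one] at hx; exact absurd hx (by norm_num)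
  exact (key t ht2 ht1).symm.trans (key x hx2 hx1)

theorem a4_center : ∀ a : alternatingGroup (Fin 4), (∀ b, b * a = a * b) → a = 1 := by
  decide +kernel

/-- The projective group has trivial centre. -/
theorem center_eq_bot (hq : 3 ≤ Fintype.card F) : center (P2 F) = ⊥ := by
  rcases eq_or_lt_of_le hq with h | h
  · obtain ⟨f⟩ := CfsgLib.Linear.Small.nonempty_psl_two_three (F := F) h.symm
    refine (eq_bot_iff_forall _).2 fun a ha => f.injective ?_
    rw [map_one]
    refine a4_center _ fun b => ?_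
    obtain ⟨c, rfl⟩ := f.surjective b
    rw [← map_mul, ← map_mul, mem_center_iff.1 ha c]
  · exact CfsgLib.PSLClass.center_P2 (by omega)

/-- The setting of the section. -/
theorem exists_ctx [IsSimpleGroup G] (ht : orderOf t = 2)
    (hab : ∀ P : Sylow 2 G, ∀ a b : P, a * b = b * a) (hq : 3 ≤ Fintype.card F)
    (hodd : Odd (Fintype.card F)) {L : Type*} [Group L] (f : P2 F ≃* L)
    (e : ↥(centralizer ({t} : Set G)) ≃* Multiplicative (ZMod 2) × P2 F) :
    ∃ K : Ctx G L, K.t = t := by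
  set z : ↥(centralizer ({t} : Set G)) := ⟨t, mem_centralizer_singleton_iff.2 rfl⟩ with hz
  have hcomm : ∀ c, c * z = z * c := fun c => Subtype.ext (mem_centralizer_singleton_iff.1 c.2)
  have h2 : (e z).2 = 1 := by
    rw [← mem_bot, ← center_eq_bot hq, mem_center_iff]
    intro l
    have := congrArg (fun c => (e c).2) (hcomm (e.symm (1, l)))
    simpa using this
  have h1 : (e z).1 = Multiplicative.ofAdd 1 := by
    refine (mult_two_cases _).resolve_left fun h => ?_
    have : z = 1 := e.injective (by rw [map_one]; exact Prod.ext h h2)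
    have h' : t = 1 := congrArg Subtype.val this
    rw [h', orderOf_one] at ht
    exact absurd ht (by norm_num)
  refine ⟨{ t := t, ht := ht, e := e.trans (MulEquiv.prodCongr (MulEquiv.refl _) f),
            et := ?_, conjInv := conj_of_invol ht hab hq hodd e }, rfl⟩
  show ((e z).1, f (e z).2) = _
  rw [h1, h2, MulEquiv.map_one]

end CfsgLib.JT
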