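import Cfsg.Prelude.Def_Characters
import Mathlib.GroupTheory.Perm.Basic
import Mathlib.Data.ZMod.Basic

/-!
Interfaces for simple groups with an involution centraliser `C₂ × PSL₂(q)`, `q ≡ ±3 (mod 8)`.
`Q = ±q ≡ 3 (mod 8)`, `4 k = Q + 1`, `2 h = Q - 1`; every formula is a polynomial identity in `Q`.
-/

set_option autoImplicit false

namespace CfsgLib.JT

universe u v w

open scoped ComplexConjugate
open Classical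

/-- The class functions on `L = PSL₂(q)` supported on elements of odd order, and the torus of the four group. -/
structure LFns (L : Type u) [Group L] [Fintype L] (p : ℕ) (Q k h : ℤ) where
  hp : p.Prime
  hodd : p ≠ 2
  hQ : ∃ n : ℕ, Q.natAbs = p ^ n
  hQ8 : Q % 8 = 3
  hk : 4 * k = Q + 1
  hh : 2 * h = Q - 1
  card : 2 * (Nat.card L : ℤ) = |Q| * (Q ^ 2 - 1)
  A : Subgroup L
  cardA : (Nat.card A : ℤ) = |k|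
  commA : ∀ a ∈ A, ∀ b ∈ A, a * b = b * a
  i0 : L
  j0 : L
  i0_ord : orderOf i0 = 2
  j0_ord : orderOf j0 = 2
  i0_A : ∀ a ∈ A, i0 * a = a * i0
  j0_A : ∀ a ∈ A, j0 * a * j0⁻¹ = a⁻¹
  i0_j0 : i0 * j0 = j0 * i0
  phi : Fin 3 → L → ℂ
  phiM : (↥A →* ℂˣ) → L → ℂ
  lamT : Type
  lamFin : Fintype lamT
  phiL : lamT → L → ℂ
  phi_gen : ∀ i, Cfsg.IsGeneralizedCharacter L (phi i)
  phiM_gen : ∀ μ, μ ≠ 1 → Cfsg.IsGeneralizedCharacter L (phiM μ)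
  phiL_gen : ∀ l, Cfsg.IsGeneralizedCharacter L (phiL l)
  phi_even : ∀ i x, Even (orderOf x) → phi i x = 0
  phiM_even : ∀ μ, μ ≠ 1 → ∀ x, Even (orderOf x) → phiM μ x = 0
  phiL_even : ∀ l x, Even (orderOf x) → phiL l x = 0
  phi_phi : ∀ i j, Cfsg.classInner (phi i) (phi j) = if i = j then 2 else 1
  phi_one : ∀ i, Cfsg.classInner (phi i) (fun _ => 1) = if i = 0 then 1 else 0
  phi_phiM : ∀ i μ, μ ≠ 1 → Cfsg.classInner (phi i) (phiM μ) = 0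
  phi_phiL : ∀ i l, Cfsg.classInner (phi i) (phiL l) = 0
  phiM_phiM : ∀ μ ν, μ ≠ 1 → ν ≠ 1 →
    Cfsg.classInner (phiM μ) (phiM ν) = if ν = μ ∨ ν = μ⁻¹ then 2 else 0
  phiM_one : ∀ μ, μ ≠ 1 → Cfsg.classInner (phiM μ) (fun _ => 1) = 0
  phiM_phiL : ∀ μ, μ ≠ 1 → ∀ l, Cfsg.classInner (phiM μ) (phiL l) = 0
  phiL_phiL : ∀ l l', Cfsg.classInner (phiL l) (phiL l') = if l = l' then 1 else 0
  phiL_one : ∀ l, Cfsg.classInner (phiL l) (fun _ => 1) = 0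
  phi_A : ∀ i, ∀ x : ↥A, x ≠ 1 → phi i (x : L) = if i = 0 then 0 else -2
  phiM_A : ∀ μ, μ ≠ 1 → ∀ x : ↥A, x ≠ 1 → phiM μ (x : L) = -2 * ((μ x : ℂ) + (μ x⁻¹ : ℂ))
  phiL_A : ∀ l, ∀ x : ↥A, x ≠ 1 → phiL l (x : L) = 0
  phiM_inv : ∀ μ, phiM μ⁻¹ = phiM μ
  /-- The indicator of the identity (for `2 |L|` because each pair `μ, μ⁻¹` occurs twice). -/
  delta : ∀ [Fintype (↥A →* ℂˣ)] (x : L), (if x = 1 then 2 * (Nat.card L : ℂ) else 0) =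
    2 * phi 0 x + 2 * (h : ℂ) * (phi 1 x + phi 2 x)
      + ((Q : ℂ) - 1) * (Finset.univ.filter fun μ : ↥A →* ℂˣ => μ ≠ 1).sum (fun μ => phiM μ x)
      + 2 * ((Q : ℂ) + 1) * (@Finset.univ lamT lamFin).sum (fun l => phiL l x)
  /-- A power map with non-square exponent on the `p`-part exchanges `phi 1` and `phi 2`. -/
  swap : ∀ a : ℕ, ¬ IsSquare (a : ZMod p) → (∀ d : ℕ, d ∣ Nat.card L → ¬ p ∣ d → a % d = 1 % d) →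
    ∀ x : L, phi 0 (x ^ a) = phi 0 x ∧ phi 1 (x ^ a) = phi 2 x ∧ phi 2 (x ^ a) = phi 1 x ∧
      (∀ μ, μ ≠ 1 → phiM μ (x ^ a) = phiM μ x) ∧ ∀ l, phiL l (x ^ a) = phiL l x
  /-- The weighted numbers of inverting involutions. -/
  pairs0 : 2 * ∑ s : L, phi 0 s * (Nat.card {x : L // orderOf x = 2 ∧ x * s * x⁻¹ = s⁻¹} : ℂ) =
    (Nat.card L : ℂ) * (|Q - 1| : ℤ)
  pairs1 : ∀ i, i ≠ 0 → 2 * ((|Q + 1| : ℤ) : ℂ) *
      ∑ s : L, phi i s * (Nat.card {x : L // orderOf x = 2 ∧ x * s * x⁻¹ = s⁻¹} : ℂ) =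
    (Nat.card L : ℂ) * ((3 * Q - 1 : ℤ) : ℂ)
  inverting_A : ∀ x : ↥A, x ≠ 1 →
    2 * (Nat.card {y : L // orderOf y = 2 ∧ y * (x : L) * y⁻¹ = (x : L)⁻¹} : ℤ) = |Q + 1|

/-- The free torus of a four group `V = ⟨t, i⟩`: `y` permutes the involutions, `r` inverts `A`. -/
structure FreeTorus {G : Type u} [Group G] (t i r y : G) (A : Subgroup G) : Prop where
  ht : orderOf t = 2
  hi : orderOf i = 2
  hne : t ≠ i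
  hti : t * i = i * t
  hA : Odd (Nat.card A)
  hA1 : A ≠ ⊥
  commA : ∀ a ∈ A, ∀ b ∈ A, a * b = b * a
  hAt : ∀ a ∈ A, t * a = a * t
  hAi : ∀ a ∈ A, i * a = a * i
  hr : r * r = 1
  hrt : r * t = t * r
  hri : r * i = i * r
  hrA : ∀ a ∈ A, r * a * r⁻¹ = a⁻¹
  hy3 : y ^ 3 = 1
  hyt : y * t * y⁻¹ = i
  hyi : y * i * y⁻¹ = t * i
  hyA : ∀ a ∈ A, y * a * y⁻¹ ∈ A
  hyr : y * r = r * y
  free : ∀ a ∈ A, y * a * y⁻¹ = a → a = 1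
  cent : ∀ a ∈ A, a ≠ 1 → ∀ g : G, g * a = a * g → g ∈ Subgroup.closure ({t, i} : Set G) ⊔ A
  norm : ∀ g : G, g ∈ Subgroup.normalizer ((Subgroup.closure ({t, i} : Set G) : Subgroup G) : Set G) →
    ∃ (m n : ℕ), ∃ w ∈ Subgroup.closure ({t, i} : Set G) ⊔ A, m < 2 ∧ n < 3 ∧ g = w * r ^ m * y ^ n

/-- The multiplicities of the irreducible characters (indexed by `ι`) in the functions of the involution
section (`X`, `Th`, `Tl`) and of the free torus (`F1`, `Fv`), with the counting equations. -/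
structure Vecs (ι : Type u) (M : Type v) (Λ : Type w) [Fintype ι] [Fintype M] [Fintype Λ] (Q k h : ℤ) where
  hQ8 : Q % 8 = 3
  hQ : 5 ≤ |Q|
  hk : 4 * k = Q + 1
  hh : 2 * h = Q - 1
  hk3 : ¬ (3 : ℤ) ∣ k
  hk1 : 1 < |k|
  o : ι
  d : ι → ℕ
  d_pos : ∀ c, 0 < d c
  d_o : d o = 1
  X : Fin 3 → ι → ℤ
  Th : M → ι → ℤ
  Tl : Λ → ι → ℤ
  F1 : M → ι → ℤ
  Fv : M → Fin 3 → ι → ℤ
  /-- the action of `y`; it has no fixed point -/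
  w : Equiv.Perm M
  w3 : ∀ m, w (w (w m)) = m
  wne : ∀ m, w m ≠ m
  m0 : M
  XX : ∀ i j, ∑ c, X i c * X j c = if i = j then 4 else 2
  X_one : ∀ i, X i o = if i = 0 then 1 else 0
  XTh : ∀ i m, ∑ c, X i c * Th m c = 0
  XTl : ∀ i l, ∑ c, X i c * Tl l c = 0
  ThTh : ∀ m n, ∑ c, Th m c * Th n c = if m = n then 4 else 0
  ThTl : ∀ m l, ∑ c, Th m c * Tl l c = 0
  TlTl : ∀ l l', ∑ c, Tl l c * Tl l' c = if l = l' then 2 else 0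
  Th_one : ∀ m, Th m o = 0
  Tl_one : ∀ l, Tl l o = 0
  F1_one : ∀ m, F1 m o = 1
  Fv_one : ∀ m j, Fv m j o = 0
  F1X : ∀ m i, ∑ c, F1 m c * X i c = if i = 0 then 0 else -3
  FvX : ∀ m j i, ∑ c, Fv m j c * X i c = if i = 0 then 0 else 1
  F1Tl : ∀ m l, ∑ c, F1 m c * Tl l c = 0
  FvTl : ∀ m j l, ∑ c, Fv m j c * Tl l c = 0
  F1Th : ∀ m n, ∑ c, F1 m c * Th n c = if n = m ∨ n = w m ∨ n = w (w m) then 1 else 0
  FvTh : ∀ m j n, ∑ c, Fv m j c * Th n c =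
    if n = (w ^ (j : ℕ)) m then 1 else if n = m ∨ n = w m ∨ n = w (w m) then -1 else 0
  F1F1 : ∀ m n, ∑ c, F1 m c * F1 n c = if n = m ∨ n = w m ∨ n = w (w m) then 7 else 6
  F1Fv : ∀ m n j, ∑ c, F1 m c * Fv n j c = 0
  FvFv : ∀ m j j', ∑ c, Fv m j c * Fv m j' c = if j = j' then 3 else 2
  FvFv' : ∀ m n j j', ¬ (n = m ∨ n = w m ∨ n = w (w m)) → ∑ c, Fv m j c * Fv n j' c = 2
  X_deg : ∀ i, ∑ c, X i c * (d c : ℤ) = 0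
  Th_deg : ∀ m, ∑ c, Th m c * (d c : ℤ) = 0
  Tl_deg : ∀ l, ∑ c, Tl l c * (d c : ℤ) = 0
  F1_deg : ∀ m, ∑ c, F1 m c * (d c : ℤ) = 0
  Fv_deg : ∀ m j, ∑ c, Fv m j c * (d c : ℤ) = 0
  /-- the value at `t`; each pair `μ, μ⁻¹` is one point of `M` -/
  z : ι → ℤ
  z_eq : ∀ c, z c = X 0 c + h * (X 1 c + X 2 c) + (Q - 1) * ∑ m, Th m c + (Q + 1) * ∑ l, Tl l c
  /-- the field automorphism -/
  s : Equiv.Perm ι
  s_o : s o = o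
  s_d : ∀ c, d (s c) = d c
  s_X0 : ∀ c, X 0 (s c) = X 0 c
  s_X1 : ∀ c, X 1 (s c) = X 2 c
  s_X2 : ∀ c, X 2 (s c) = X 1 c
  s_Th : ∀ m c, Th m (s c) = Th m c
  s_Tl : ∀ l c, Tl l (s c) = Tl l c
  s_F1 : ∀ m c, F1 m (s c) = F1 m c
  s_Fv : ∀ m j c, Fv m j (s c) = Fv m j c
  /-- the group order, negated if `Q < 0` -/
  g : ℤ
  g_ne : g ≠ 0
  g_dvd : Q * (Q ^ 2 - 1) ∣ g
  pairsX0 : ∑ c, (X 0 c : ℚ) * (z c : ℚ) ^ 2 / (d c : ℚ) =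
    (Q : ℚ) ^ 2 * ((Q : ℚ) ^ 2 - 1) ^ 2 * ((Q : ℚ) - 1) / (g : ℚ)
  pairsX1 : ∀ i, i ≠ 0 → ∑ c, (X i c : ℚ) * (z c : ℚ) ^ 2 / (d c : ℚ) =
    (Q : ℚ) ^ 2 * ((Q : ℚ) ^ 2 - 1) * ((Q : ℚ) - 1) * (3 * (Q : ℚ) - 1) / (g : ℚ)
  pairsF1 : ∀ m, ∑ c, (F1 m c : ℚ) * (z c : ℚ) ^ 2 / (d c : ℚ) =
    (Q : ℚ) ^ 2 * ((Q : ℚ) ^ 2 - 1) ^ 2 * ((Q : ℚ) + 1) / (g : ℚ)
  pairsFv : ∀ m j, ∑ c, (Fv m j c : ℚ) * (z c : ℚ) ^ 2 / (d c : ℚ) = 0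
  congr : ∀ c κ, (∀ m, F1 m c = κ) → k ∣ (d c : ℤ) + 3 * z c - 4 * κ

end CfsgLib.JT
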