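import Cfsg.Agent.JankoThompson.SectVec
import Mathlib.GroupTheory.NoncommCoprod

/-!
The torus `V × A` of a free torus, its automiser, and the pairs of involutions with product in it.
-/

set_option autoImplicit false
set_option linter.style.haveILetI false
set_option linter.unusedSectionVars false

namespace CfsgLib.JT

open CfsgLib.Char Finset
open scoped ComplexConjugate Classical

universe u v

/-- The four group. -/
abbrev V4 : Type := Multiplicative (ZMod 2) × Multiplicative (ZMod 2)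

/-- The three involutions of `V4` in the order permuted cyclically by `y`. -/
def vv : Fin 3 → V4 :=
  ![(Multiplicative.ofAdd 1, 1), (1, Multiplicative.ofAdd 1), (Multiplicative.ofAdd 1, Multiplicative.ofAdd 1)]

/-- The representatives of the automiser of the torus. -/
def repT {G : Type u} [Group G] (r y : G) (i : Fin 3 × Fin 2) : G := (y ^ (i.1 : ℕ) * r ^ (i.2 : ℕ))⁻¹

/-- The action of `y` on the four group. -/
def rho : V4 →* V4 where
  toFun v := (v.2, v.1 * v.2)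
  map_one' := rfl
  map_mul' := by decide

theorem eq_one_of_sq {A : Type*} [Group A] [Fintype A] (hodd : Odd (Fintype.card A)) {x : A}
    (h : x ^ 2 = 1) : x = 1 := by
  rcases (Nat.dvd_prime Nat.prime_two).1 (orderOf_dvd_of_pow_eq_one h) with e | e
  · exact orderOf_eq_one_iff.1 e
  · exact absurd (even_iff_two_dvd.2 (e ▸ orderOf_dvd_card)) (Nat.not_even_iff_odd.2 hodd)

theorem rho_three : ∀ v : V4, rho (rho (rho v)) = v := by decide

theorem V4_cases : ∀ v : V4, v = 1 ∨ ∃ j, v = vv j := by decide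

theorem V4_mul_self : ∀ v : V4, v * v = 1 := by decide

theorem rho_iterate_vv : ∀ (n j : Fin 3), (rho)^[(n : ℕ)] (vv j) = vv (j + n) := by decide

theorem rho_iterate_eq : ∀ n : Fin 3, (rho)^[(n : ℕ)] (vv 0) = vv 0 → n = 0 := by decide

/-- The character of a cyclic group of order two into `L` attached to an involution. -/
noncomputable def twoHom {L : Type v} [Group L] (g : L) (hg : g * g = 1) : Multiplicative (ZMod 2) →* L where
  toFun a := if a = 1 then 1 else g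
  map_one' := if_pos rfl
  map_mul' a b := by
    rcases mult_two_cases a with rfl | rfl <;> rcases mult_two_cases b with rfl | rfl <;> simp +decide [hg]

variable {G : Type u} [Group G] {L : Type v} [Group L] [Fintype L] {p : ℕ} {Q k h : ℤ}
variable (K : Ctx G L) (Lf : LFns L p Q k h)

theorem LFns.i0_sq : Lf.i0 * Lf.i0 = 1 := by
  rw [← sq, ← Lf.i0_ord, pow_orderOf_eq_one]

/-- `V4 × A` in `L`. -/
noncomputable def LFns.torL : Multiplicative (ZMod 2) × ↥Lf.A →* L :=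
  MonoidHom.noncommCoprod (twoHom Lf.i0 Lf.i0_sq) Lf.A.subtype fun a x => by
    rcases mult_two_cases a with rfl | rfl
    · rw [map_one]; exact Commute.one_left _
    · show Commute (if Multiplicative.ofAdd (1 : ZMod 2) = 1 then 1 else Lf.i0) (x : L)
      rw [if_neg (by decide)]
      exact Lf.i0_A x x.2

theorem LFns.torL_apply (a : Multiplicative (ZMod 2)) (x : ↥Lf.A) :
    Lf.torL (a, x) = (if a = 1 then 1 else Lf.i0) * (x : L) := rfl

theorem LFns.torL_inj : Function.Injective Lf.torL := by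
  rw [injective_iff_map_eq_one]
  rintro ⟨a, x⟩ hax
  rw [LFns.torL_apply] at hax
  rcases mult_two_cases a with rfl | rfl
  · rw [if_pos rfl, one_mul] at hax
    exact Prod.ext rfl (Subtype.ext hax)
  · rw [if_neg (by decide)] at hax
    exfalso
    have hmem : Lf.i0 ∈ Lf.A := by rw [mul_eq_one_iff_eq_inv.1 hax]; exact Lf.A.inv_mem x.2
    have h2 : orderOf (⟨Lf.i0, hmem⟩ : ↥Lf.A) = 2 := by
      rw [← Subgroup.orderOf_coe]; exact Lf.i0_ord
    have := h2 ▸ orderOf_dvd_natCard (⟨Lf.i0, hmem⟩ : ↥Lf.A)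
    rw [Nat.card_eq_fintype_card] at this
    exact (Nat.not_even_iff_odd.2 Lf.odd_card_A) (even_iff_two_dvd.2 this)

/-- The torus `V × A`. -/
noncomputable def Ctx.tor : V4 × ↥Lf.A →* G :=
  K.psi.comp (MonoidHom.prod ((MonoidHom.fst (Multiplicative (ZMod 2)) (Multiplicative (ZMod 2))).comp (MonoidHom.fst V4 ↥Lf.A))
    (Lf.torL.comp (MonoidHom.prod ((MonoidHom.snd (Multiplicative (ZMod 2)) (Multiplicative (ZMod 2))).comp (MonoidHom.fst V4 ↥Lf.A)) (MonoidHom.snd V4 ↥Lf.A))))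

theorem Ctx.tor_eq (v : V4) (x : ↥Lf.A) : K.tor Lf (v, x) = K.psi (v.1, Lf.torL (v.2, x)) := rfl

theorem Ctx.tor_inj : Function.Injective (K.tor Lf) := by
  rintro ⟨v, x⟩ ⟨w, z⟩ h
  rw [Ctx.tor_eq, Ctx.tor_eq] at h
  obtain ⟨h1, h2⟩ := Prod.ext_iff.1 (K.psi_inj h)
  obtain ⟨h3, h4⟩ := Prod.ext_iff.1 (Lf.torL_inj h2)
  exact Prod.ext (Prod.ext h1 h3) h4

theorem Ctx.tor_split (v : V4) (x : ↥Lf.A) : K.tor Lf (v, x) = K.tor Lf (v, 1) * K.tor Lf (1, x) := by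
  rw [← map_mul, Prod.mk_mul_mk, mul_one, one_mul]

theorem Ctx.tor_A (x : ↥Lf.A) : K.tor Lf (1, x) = K.emb x := by
  rw [Ctx.tor_eq, LFns.torL_apply, if_pos (show (1 : V4).2 = 1 from rfl), one_mul]; rfl

theorem Ctx.tor_t : K.tor Lf (vv 0, 1) = K.t := by
  rw [Ctx.tor_eq, show Lf.torL ((vv 0).2, 1) = 1 from map_one _]
  exact K.psi_t

theorem Ctx.tor_i : K.tor Lf (vv 1, 1) = K.emb Lf.i0 := by
  rw [Ctx.tor_eq, LFns.torL_apply, if_neg (by decide), OneMemClass.coe_one, mul_one]; rfl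

theorem Ctx.tor_vv0 (x : ↥Lf.A) : K.tor Lf (vv 0, x) = K.t * K.emb x := by
  rw [K.tor_split, K.tor_t, K.tor_A]

theorem Ctx.tor_ti : K.tor Lf (vv 2, 1) = K.t * K.emb Lf.i0 := by
  rw [← K.tor_i Lf, ← K.tor_t Lf, ← map_mul]
  congr 1
  refine Prod.ext ?_ (mul_one _).symm
  show vv 2 = vv 0 * vv 1
  decide

/-- The subgroup `⟨t, i⟩`. -/
abbrev Ctx.VG : Subgroup G := Subgroup.closure ({K.t, K.emb Lf.i0} : Set G)

theorem Ctx.tor_mem_VG (v : V4) : K.tor Lf (v, 1) ∈ K.VG Lf := by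
  have ht : K.t ∈ K.VG Lf := Subgroup.subset_closure (Set.mem_insert _ _)
  have hi : K.emb Lf.i0 ∈ K.VG Lf := Subgroup.subset_closure (Set.mem_insert_of_mem _ rfl)
  rcases V4_cases v with rfl | ⟨j, rfl⟩
  · exact (map_one (K.tor Lf)).symm ▸ (K.VG Lf).one_mem
  · fin_cases j
    · exact (K.tor_t Lf).symm ▸ ht
    · exact (K.tor_i Lf).symm ▸ hi
    · exact (K.tor_ti Lf).symm ▸ (K.VG Lf).mul_mem ht hi

theorem Ctx.mem_VG {g : G} (hg : g ∈ K.VG Lf) : ∃ v, K.tor Lf (v, 1) = g := by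
  have hle : K.VG Lf ≤ ((K.tor Lf).comp (MonoidHom.inl V4 ↥Lf.A)).range := by
    rw [Ctx.VG, Subgroup.closure_le]
    rintro z (rfl | rfl)
    · exact ⟨vv 0, K.tor_t Lf⟩
    · exact ⟨vv 1, K.tor_i Lf⟩
  exact hle hg

theorem Ctx.range_tor : (K.tor Lf).range = K.VG Lf ⊔ Lf.A.map K.emb := by
  refine le_antisymm ?_ (sup_le (fun g hg => ?_) ?_)
  · rintro _ ⟨⟨v, x⟩, rfl⟩
    rw [K.tor_split, K.tor_A]
    exact Subgroup.mul_mem_sup (K.tor_mem_VG Lf v) (Subgroup.mem_map_of_mem _ x.2)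
  · obtain ⟨v, rfl⟩ := K.mem_VG Lf hg
    exact ⟨_, rfl⟩
  · rintro _ ⟨x, hx, rfl⟩
    exact ⟨(1, ⟨x, hx⟩), K.tor_A Lf _⟩

variable {r y : G} (hF : FreeTorus K.t (K.emb Lf.i0) r y (Lf.A.map K.emb))
include hF

theorem Ctx.exists_omega : ∃ ω : ↥Lf.A →* ↥Lf.A, ∀ x : ↥Lf.A, y * K.emb (x : L) * y⁻¹ = K.emb (ω x : L) := by
  have hex : ∀ x : ↥Lf.A, ∃ z : ↥Lf.A, y * K.emb (x : L) * y⁻¹ = K.emb (z : L) := fun x => by
    obtain ⟨z, hz, hze⟩ := hF.hyA _ (Subgroup.mem_map_of_mem K.emb x.2)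
    exact ⟨⟨z, hz⟩, hze.symm⟩
  choose f hf using hex
  refine ⟨MonoidHom.mk' f fun a b => Subtype.ext (K.emb_inj ?_), hf⟩
  rw [Subgroup.coe_mul, map_mul, ← hf, ← hf, ← hf, Subgroup.coe_mul, map_mul]
  group

/-- The action of `y` on `A`. -/
noncomputable def Ctx.omega : ↥Lf.A →* ↥Lf.A := (K.exists_omega Lf hF).choose

theorem Ctx.omega_spec (x : ↥Lf.A) : y * K.emb (x : L) * y⁻¹ = K.emb (K.omega Lf hF x : L) :=
  (K.exists_omega Lf hF).choose_spec x

theorem Ctx.omega_three (x : ↥Lf.A) : K.omega Lf hF (K.omega Lf hF (K.omega Lf hF x)) = x := by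
  refine Subtype.ext (K.emb_inj ?_)
  rw [← K.omega_spec Lf hF, ← K.omega_spec Lf hF, ← K.omega_spec Lf hF]
  calc y * (y * (y * K.emb (x : L) * y⁻¹) * y⁻¹) * y⁻¹
      = y ^ 3 * K.emb (x : L) * (y ^ 3)⁻¹ := by
        rw [show y ^ 3 = y * (y * y) by rw [pow_succ, sq, mul_assoc], mul_inv_rev, mul_inv_rev]
        simp only [mul_assoc]
    _ = K.emb (x : L) := by rw [hF.hy3]; group

theorem Ctx.omega_free {x : ↥Lf.A} (h : K.omega Lf hF x = x) : x = 1 := by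
  have := hF.free _ (Subgroup.mem_map_of_mem K.emb x.2) (by rw [K.omega_spec Lf hF x, h])
  exact Subtype.ext (K.emb_inj (this.trans (map_one K.emb).symm))

/-- The action of `y`. -/
noncomputable def Ctx.yD : V4 × ↥Lf.A →* V4 × ↥Lf.A :=
  MonoidHom.prodMap rho (K.omega Lf hF)

theorem Ctx.y_conj (d : V4 × ↥Lf.A) : y * K.tor Lf d * y⁻¹ = K.tor Lf (K.yD Lf hF d) := by
  rcases d with ⟨v, x⟩
  show _ = K.tor Lf (rho v, K.omega Lf hF x)
  have hx : y * K.tor Lf (1, x) * y⁻¹ = K.tor Lf (1, K.omega Lf hF x) := by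
    rw [K.tor_A, K.tor_A, K.omega_spec Lf hF]
  have hv : y * K.tor Lf (v, 1) * y⁻¹ = K.tor Lf (rho v, 1) := by
    have h0 : y * K.tor Lf (vv 0, 1) * y⁻¹ = K.tor Lf (vv 1, 1) := by
      rw [K.tor_t, K.tor_i, hF.hyt]
    have h1 : y * K.tor Lf (vv 1, 1) * y⁻¹ = K.tor Lf (vv 2, 1) := by
      rw [K.tor_i, K.tor_ti, hF.hyi]
    rcases V4_cases v with rfl | ⟨j, rfl⟩
    · rw [show ((1 : V4), (1 : ↥Lf.A)) = 1 from rfl, map_one]
      rw [show rho (1 : V4) = 1 from map_one rho, show ((1 : V4), (1 : ↥Lf.A)) = 1 from rfl, map_one]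
      group
    · fin_cases j
      · exact h0.trans (by rfl)
      · exact h1.trans (by rfl)
      · calc y * K.tor Lf (vv 2, 1) * y⁻¹
            = (y * K.tor Lf (vv 0, 1) * y⁻¹) * (y * K.tor Lf (vv 1, 1) * y⁻¹) := by
              rw [K.tor_ti, K.tor_t, K.tor_i]; group
          _ = K.tor Lf ((vv 1, 1) * (vv 2, 1)) := by rw [h0, h1, map_mul]
          _ = _ := congrArg (K.tor Lf) (Prod.ext (show vv 1 * vv 2 = rho (vv 2) by decide) (one_mul (1 : ↥Lf.A)))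
  rw [K.tor_split Lf v x, K.tor_split Lf (rho v) (K.omega Lf hF x), ← hv, ← hx]
  group

theorem Ctx.r_conj (v : V4) (x : ↥Lf.A) : r * K.tor Lf (v, x) * r⁻¹ = K.tor Lf (v, x⁻¹) := by
  have hc : ∀ v : V4, r * K.tor Lf (v, 1) = K.tor Lf (v, 1) * r := by
    intro v
    rcases V4_cases v with rfl | ⟨j, rfl⟩
    · rw [show ((1 : V4), (1 : ↥Lf.A)) = 1 from rfl, map_one]; simp
    · fin_cases j
      · show r * K.tor Lf (vv 0, 1) = K.tor Lf (vv 0, 1) * r
        rw [K.tor_t, hF.hrt]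
      · show r * K.tor Lf (vv 1, 1) = K.tor Lf (vv 1, 1) * r
        rw [K.tor_i, hF.hri]
      · show r * K.tor Lf (vv 2, 1) = K.tor Lf (vv 2, 1) * r
        rw [K.tor_ti, ← mul_assoc, hF.hrt, mul_assoc, hF.hri, mul_assoc]
  rw [K.tor_split Lf v x, K.tor_split Lf v x⁻¹, ← mul_assoc, hc, mul_assoc (K.tor Lf (v, 1)) r,
    mul_assoc, K.tor_A, K.tor_A, hF.hrA _ (Subgroup.mem_map_of_mem K.emb x.2), InvMemClass.coe_inv, map_inv]

theorem Ctx.yD_iterate (n : ℕ) (v : V4) (x : ↥Lf.A) :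
    (K.yD Lf hF)^[n] (v, x) = ((rho)^[n] v, (K.omega Lf hF)^[n] x) := by
  induction n with
  | zero => rfl
  | succ n ih => rw [Function.iterate_succ_apply', ih, Function.iterate_succ_apply', Function.iterate_succ_apply']; rfl

theorem Ctx.y_pow_conj (n : ℕ) (d : V4 × ↥Lf.A) :
    y ^ n * K.tor Lf d * (y ^ n)⁻¹ = K.tor Lf ((K.yD Lf hF)^[n] d) := by
  induction n with
  | zero => simp
  | succ n ih => rw [Function.iterate_succ_apply', ← K.y_conj Lf hF, ← ih, pow_succ']; group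

/-- The action of the representatives. -/
noncomputable def Ctx.actT (i : Fin 3 × Fin 2) (d : V4 × ↥Lf.A) : V4 × ↥Lf.A :=
  (K.yD Lf hF)^[(i.1 : ℕ)] (d.1, if i.2 = 0 then d.2 else d.2⁻¹)

theorem Ctx.actT_spec (i : Fin 3 × Fin 2) (d : V4 × ↥Lf.A) :
    K.tor Lf (K.actT Lf hF i d) = (repT r y i)⁻¹ * K.tor Lf d * repT r y i := by
  rcases i with ⟨n, m⟩
  rcases d with ⟨v, x⟩
  rw [Ctx.actT, ← K.y_pow_conj Lf hF, repT]
  fin_cases m
  · simp
  · simp only [Fin.mk_one, Fin.isValue, one_ne_zero, if_false, pow_one]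
    rw [← K.r_conj Lf hF v x]
    group

theorem Ctx.r_not_mem : r ∉ (K.tor Lf).range := by
  rintro ⟨d, hd⟩
  refine hF.hA1 ((Subgroup.eq_bot_iff_forall _).2 ?_)
  rintro _ ⟨x, hx, rfl⟩
  have e := K.r_conj Lf hF 1 ⟨x, hx⟩
  rw [← hd, ← map_inv, ← map_mul, ← map_mul] at e
  have e2 := congrArg Prod.snd (K.tor_inj Lf e)
  simp only [Prod.snd_mul, Prod.snd_inv] at e2
  have hcm : d.2 * ⟨x, hx⟩ = ⟨x, hx⟩ * d.2 := Subtype.ext (Lf.commA _ d.2.2 _ hx)
  rw [hcm, mul_assoc, mul_inv_cancel, mul_one] at e2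
  have hxx : (⟨x, hx⟩ : ↥Lf.A) ^ 2 = 1 := by
    rw [sq]; nth_rw 2 [e2]; exact mul_inv_cancel _
  have hodd : Nat.Coprime (Nat.card ↥Lf.A) 2 := by
    rw [Nat.card_eq_fintype_card]; exact Lf.odd_card_A.coprime_two_right
  have h1 : (⟨x, hx⟩ : ↥Lf.A) = 1 := eq_one_of_sq Lf.odd_card_A hxx
  rw [show x = 1 from congrArg Subtype.val h1, map_one]

theorem Ctx.r_inv : r⁻¹ = r := inv_eq_of_mul_eq_one_right hF.hr

theorem Ctx.repT_inj (i j : Fin 3 × Fin 2) (hij : (repT r y i)⁻¹ * repT r y j ∈ (K.tor Lf).range) :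
    i = j := by
  obtain ⟨d, hd⟩ := hij
  have h1 := K.actT_spec Lf hF i (vv 0, 1)
  have h2 := K.actT_spec Lf hF j (vv 0, 1)
  have hfix : K.tor Lf d * K.tor Lf (K.actT Lf hF j (vv 0, 1)) = K.tor Lf (K.actT Lf hF i (vv 0, 1)) * K.tor Lf d := by
    rw [h1, h2, hd]; group
  rw [← map_mul, ← map_mul] at hfix
  have hv : (K.actT Lf hF j (vv 0, 1)).1 = (K.actT Lf hF i (vv 0, 1)).1 := by
    have := congrArg Prod.fst (K.tor_inj Lf hfix)
    simp only [Prod.fst_mul] at this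
    rw [mul_comm] at this
    exact mul_right_cancel this
  rcases i with ⟨n, m⟩
  rcases j with ⟨n', m'⟩
  simp only [Ctx.actT, K.yD_iterate Lf hF, rho_iterate_vv, zero_add] at hv
  obtain rfl : n' = n := (show Function.Injective vv by decide) hv
  rw [repT, repT] at hd
  have hm : (r ^ (m : ℕ)) * (r ^ (m' : ℕ))⁻¹ ∈ (K.tor Lf).range := by
    obtain ⟨d', hd'⟩ : ∃ d', K.tor Lf d' = y ^ (n' : ℕ) * K.tor Lf d * (y ^ (n' : ℕ))⁻¹ :=
      ⟨_, (K.y_pow_conj Lf hF _ d).symm⟩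
    have hy : y ^ (n' : ℕ) * r ^ (m : ℕ) = r ^ (m : ℕ) * y ^ (n' : ℕ) :=
      ((show Commute y r from hF.hyr).pow_pow _ _).eq
    have e : r ^ (m : ℕ) * (r ^ (m' : ℕ))⁻¹ = K.tor Lf d := by
      rw [hd, inv_inv, mul_inv_rev, hy, ← mul_assoc]
      have hy' : y ^ (n' : ℕ) * (r ^ (m' : ℕ))⁻¹ = (r ^ (m' : ℕ))⁻¹ * y ^ (n' : ℕ) :=
        ((show Commute y r from hF.hyr).pow_pow _ _).inv_right.eq
      rw [mul_assoc (r ^ (m : ℕ)), hy', ← mul_assoc, mul_inv_cancel_right]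
    exact ⟨d, e.symm⟩
  have hrn := K.r_not_mem Lf hF
  fin_cases m <;> fin_cases m' <;> first
    | rfl
    | (exfalso; apply hrn; simpa [K.r_inv Lf hF, -MonoidHom.mem_range] using hm)

theorem Ctx.tor_pow_two (d : V4 × ↥Lf.A) : K.tor Lf d ^ 2 = K.emb ((d.2 : L) ^ 2) := by
  rw [← map_pow, ← SubgroupClass.coe_pow, ← K.tor_A Lf]
  exact congrArg (K.tor Lf) (Prod.ext (by rw [Prod.pow_fst, sq, V4_mul_self]) (Prod.pow_snd d 2))

theorem Ctx.fusion (x : G) (d d' : V4 × ↥Lf.A) (_hd : d.2 ≠ 1) (hd' : d'.2 ≠ 1)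
    (hx : x⁻¹ * K.tor Lf d * x = K.tor Lf d') : ∃ i c, x = repT r y i * K.tor Lf c := by
  have hodd : Nat.Coprime (Nat.card ↥Lf.A) 2 := by
    rw [Nat.card_eq_fintype_card]; exact Lf.odd_card_A.coprime_two_right
  have hsq : ∀ z : ↥Lf.A, z ≠ 1 → z ^ 2 ≠ 1 := fun z hz e => hz (eq_one_of_sq Lf.odd_card_A e)
  have hne : K.emb (((d'.2 ^ 2 : ↥Lf.A)) : L) ≠ 1 := fun e =>
    hsq _ hd' (Subtype.ext (K.emb_inj (e.trans (map_one K.emb).symm)))
  have hmapsV : ∀ v : V4, ∃ w : V4, x⁻¹ * K.tor Lf (v, 1) * x = K.tor Lf (w, 1) := by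
    intro v
    have hcom : x⁻¹ * K.tor Lf (v, 1) * x * K.tor Lf d' ^ 2 = K.tor Lf d' ^ 2 * (x⁻¹ * K.tor Lf (v, 1) * x) := by
      have hc : K.tor Lf (v, 1) * K.tor Lf d = K.tor Lf d * K.tor Lf (v, 1) := by
        rw [← map_mul, ← map_mul]
        exact congrArg (K.tor Lf) (Prod.ext (mul_comm _ _) (by simp))
      rw [← hx, sq]
      calc x⁻¹ * K.tor Lf (v, 1) * x * (x⁻¹ * K.tor Lf d * x * (x⁻¹ * K.tor Lf d * x))
          = x⁻¹ * (K.tor Lf (v, 1) * (K.tor Lf d * K.tor Lf d)) * x := by group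
        _ = x⁻¹ * ((K.tor Lf d * K.tor Lf d) * K.tor Lf (v, 1)) * x := by
            rw [(Commute.mul_right (show Commute _ _ from hc) hc).eq]
        _ = _ := by group
    rw [K.tor_pow_two Lf hF, ← SubgroupClass.coe_pow] at hcom
    have hmem := hF.cent _ (Subgroup.mem_map_of_mem K.emb (d'.2 ^ 2).2) hne _ hcom
    rw [← K.range_tor Lf] at hmem
    obtain ⟨⟨w, z⟩, hw⟩ := hmem
    have h2 : K.tor Lf (w, z) ^ 2 = 1 := by
      rw [hw, sq]
      calc x⁻¹ * K.tor Lf (v, 1) * x * (x⁻¹ * K.tor Lf (v, 1) * x)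
          = x⁻¹ * (K.tor Lf (v, 1) * K.tor Lf (v, 1)) * x := by group
        _ = 1 := by rw [← map_mul, Prod.mk_mul_mk, V4_mul_self, mul_one,
              show ((1 : V4), (1 : ↥Lf.A)) = 1 from rfl, map_one]; group
    obtain rfl : z = 1 := by
      by_contra hz
      rw [← map_pow, ← map_one (K.tor Lf)] at h2
      exact hsq z hz (by simpa using congrArg Prod.snd (K.tor_inj Lf h2))
    exact ⟨w, hw.symm⟩
  have hnorm : x⁻¹ ∈ Subgroup.normalizer ((K.VG Lf : Subgroup G) : Set G) := by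
    have hinjw : Function.Injective fun v => (hmapsV v).choose := by
      intro v v' e
      have e1 := (hmapsV v).choose_spec
      have e2 := (hmapsV v').choose_spec
      simp only at e
      rw [e] at e1
      exact (Prod.ext_iff.1 (K.tor_inj Lf (mul_left_cancel (mul_right_cancel (e1.trans e2.symm))))).1
    refine Subgroup.mem_normalizer_iff.2 fun g => ⟨fun hg => ?_, fun hg => ?_⟩
    · obtain ⟨v, rfl⟩ := K.mem_VG Lf hg
      obtain ⟨w, hw⟩ := hmapsV v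
      rw [inv_inv, hw]
      exact K.tor_mem_VG Lf w
    · rw [inv_inv] at hg
      obtain ⟨w, hw⟩ := K.mem_VG Lf hg
      obtain ⟨v, hv⟩ := Finite.surjective_of_injective hinjw w
      simp only at hv
      have e := (hmapsV v).choose_spec
      rw [hv, hw] at e
      rw [show g = K.tor Lf (v, 1) from (mul_left_cancel (mul_right_cancel e)).symm]
      exact K.tor_mem_VG Lf v
  obtain ⟨m, n, w, hw, hm, hn, hxe⟩ := hF.norm _ hnorm
  rw [← K.range_tor Lf] at hw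
  obtain ⟨c, rfl⟩ := hw
  refine ⟨(⟨n, hn⟩, ⟨m, hm⟩), c⁻¹, ?_⟩
  rw [repT, map_inv, ← mul_inv_rev, ← inv_inv x, hxe, mul_assoc]
  show (K.tor Lf c * (r ^ m * y ^ n))⁻¹ = (K.tor Lf c * (y ^ n * r ^ m))⁻¹
  rw [((show Commute y r from hF.hyr).pow_pow _ _).eq]

theorem Ctx.invol_coset [Fintype G] (c : V4 × ↥Lf.A) : orderOf (r * K.tor Lf c) = 2 := by
  refine orderOf_eq_prime ?_ fun e => K.r_not_mem Lf hF ⟨c⁻¹, by rw [map_inv, ← eq_inv_of_mul_eq_one_left e]⟩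
  rcases c with ⟨v, x⟩
  calc (r * K.tor Lf (v, x)) ^ 2 = (r * K.tor Lf (v, x) * r⁻¹) * K.tor Lf (v, x) := by
        rw [sq, K.r_inv Lf hF]; group
    _ = 1 := by
        rw [K.r_conj Lf hF, ← map_mul, Prod.mk_mul_mk, V4_mul_self, inv_mul_cancel,
          show ((1 : V4), (1 : ↥Lf.A)) = 1 from rfl, map_one]

theorem Ctx.omega_pow_inv {n : Fin 3} {x : ↥Lf.A} (hx : x ≠ 1) {m : Fin 2}
    (e : (K.omega Lf hF)^[(n : ℕ)] (if m = 0 then x else x⁻¹) = x⁻¹) : n = 0 ∧ m = 1 := by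
  have hodd : Nat.Coprime (Nat.card ↥Lf.A) 2 := by
    rw [Nat.card_eq_fintype_card]; exact Lf.odd_card_A.coprime_two_right
  have hxi : x⁻¹ ≠ x := fun e2 => hx (eq_one_of_sq Lf.odd_card_A (by
    rw [sq]; nth_rw 1 [← e2]; exact inv_mul_cancel x))
  have h3 := K.omega_three Lf hF x
  have hfix := @Ctx.omega_free _ _ _ _ _ _ _ _ _ K Lf _ _ hF x
  have hxx : K.omega Lf hF x ≠ x⁻¹ := fun e1 => hxi (by
    rw [e1, map_inv, e1, inv_inv, e1] at h3; exact h3)
  have hxy : K.omega Lf hF x ≠ x := fun e1 => hx (hfix e1)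
  have h2i : K.omega Lf hF (K.omega Lf hF x) ≠ x⁻¹ := fun e2 => hxx (by
    rw [e2, map_inv] at h3; rw [← h3, inv_inv]; rw [h3])
  have h2 : K.omega Lf hF (K.omega Lf hF x) ≠ x := fun e2 => hxy (by rw [e2] at h3; exact h3)
  fin_cases n <;> fin_cases m <;> simp [Function.iterate_succ_apply'] at e ⊢
  · exact hxi e.symm
  · exact hxx e
  · exact hxy e
  · exact h2i e
  · exact h2 e

/-- Every element of the torus off `V` is inverted by exactly `4|k|` involutions. -/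
theorem Ctx.pairsN_tor [Fintype G] (d : V4 × ↥Lf.A) (hd : d.2 ≠ 1) :
    pairsN K.t (K.tor Lf d) = ((|Q + 1| : ℤ) : ℂ) := by
  have hcard : (Nat.card (V4 × ↥Lf.A) : ℤ) = |Q + 1| := by
    rw [Nat.card_prod, show Nat.card V4 = 4 by simp, Nat.cast_mul, Lf.cardA, ← Lf.hk, abs_mul]
    simp
  rw [← hcard, pairsN, Int.cast_natCast]
  congr 1
  refine (Nat.card_congr (Equiv.ofBijective (fun c : V4 × ↥Lf.A =>
    (⟨(r * K.tor Lf c, r * K.tor Lf c * K.tor Lf d), ?_⟩ :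
      {q : G × G // IsConj K.t q.1 ∧ IsConj K.t q.2 ∧ q.1 * q.2 = K.tor Lf d})) ⟨?_, ?_⟩)).symm
  · refine ⟨K.conjInv _ (K.invol_coset Lf hF c), K.conjInv _ ?_, ?_⟩
    · rw [mul_assoc, ← map_mul]; exact K.invol_coset Lf hF _
    · dsimp only
      have h2 := pow_orderOf_eq_one (r * K.tor Lf c)
      rw [K.invol_coset Lf hF c, sq] at h2
      rw [← mul_assoc, h2, one_mul]
  · intro c c' h
    exact K.tor_inj Lf (mul_left_cancel (congrArg (fun q => (q : _).val.1) h))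
  · rintro ⟨⟨a, b⟩, ha, hb, hab⟩
    have ha2 : a * a = 1 := by rw [← sq, ← K.isConj_iff_involution.1 ha, pow_orderOf_eq_one]
    have hb2 : b * b = 1 := by rw [← sq, ← K.isConj_iff_involution.1 hb, pow_orderOf_eq_one]
    have hinv : a⁻¹ * K.tor Lf d * a = K.tor Lf d⁻¹ := by
      rw [map_inv, ← hab, mul_inv_rev, inv_eq_of_mul_eq_one_right ha2, inv_eq_of_mul_eq_one_right hb2,
        ← mul_assoc, ha2, one_mul]
    obtain ⟨⟨n, m⟩, c, hc⟩ := K.fusion Lf hF a d d⁻¹ hd (by simpa using hd) hinv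
    subst hc
    have e := K.actT_spec Lf hF (n, m) d
    have e2 : K.tor Lf (c⁻¹ * K.actT Lf hF (n, m) d * c) = K.tor Lf d⁻¹ := by
      rw [map_mul, map_mul, map_inv, e, ← hinv]; group
    have e3 := congrArg Prod.snd (K.tor_inj Lf e2)
    simp only [Prod.snd_mul, Prod.snd_inv, Ctx.actT, K.yD_iterate Lf hF] at e3
    rw [show ∀ u w : ↥Lf.A, u⁻¹ * w * u = w from fun u w => by
      rw [mul_assoc, show w * u = u * w from Subtype.ext (Lf.commA _ w.2 _ u.2), inv_mul_cancel_left]] at e3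
    obtain ⟨rfl, rfl⟩ := K.omega_pow_inv Lf hF hd e3
    refine ⟨c, Subtype.ext ?_⟩
    have hrep : repT r y (0, 1) = r := by
      simp [repT, K.r_inv Lf hF]
    simp only [hrep] at hab ⊢
    refine Prod.ext rfl ?_
    rw [← hab, ← mul_assoc, ← hrep, ha2, one_mul]

end CfsgLib.JT
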