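import Cfsg.Agent.JankoThompson.TorusGroup

/-!
The virtual characters `((1 - μ) ν)^G` of the free torus and their inner products.
-/

set_option autoImplicit false
set_option linter.style.haveILetI false
set_option linter.unusedSectionVars false

namespace CfsgLib.JT

open CfsgLib.Char Finset
open scoped ComplexConjugate Classical

universe u v

theorem V4_card : Fintype.card V4 = 4 := by decide

theorem univ_V4 : (Finset.univ : Finset V4) = {1, vv 0, vv 1, vv 2} := by decide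

theorem sum_V4 {M : Type*} [AddCommMonoid M] (f : V4 → M) :
    ∑ v : V4, f v = f 1 + (f (vv 0) + (f (vv 1) + f (vv 2))) := by
  rw [univ_V4, Finset.sum_insert (by decide), Finset.sum_insert (by decide), Finset.sum_pair (by decide)]

/-- The three non-trivial characters of the four group: the `j`-th is positive on `vv j`. -/
noncomputable def nuChar : Fin 3 → V4 →* ℂˣ :=
  ![sgnTwo.comp (MonoidHom.snd _ _), sgnTwo.comp (MonoidHom.fst _ _),
    sgnTwo.comp (MonoidHom.fst _ _) * sgnTwo.comp (MonoidHom.snd _ _)]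

theorem nuChar_vv (j i : Fin 3) : (nuChar j (vv i) : ℂ) = if i = j then 1 else -1 := by
  fin_cases j <;> fin_cases i <;> simp +decide [nuChar, vv, sgnTwo]

theorem nuChar_ne_one (j : Fin 3) : nuChar j ≠ 1 := by
  intro e
  have h := nuChar_vv j (j + 1)
  have hne : j + 1 ≠ j := (show ∀ i : Fin 3, i + 1 ≠ i by decide) j
  rw [e, if_neg hne, MonoidHom.one_apply, Units.val_one] at h
  norm_num at h

theorem sum_nuChar (j : Fin 3) : ∑ v : V4, (nuChar j v : ℂ) = 0 := by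
  rw [sum_V4, map_one, Units.val_one, nuChar_vv, nuChar_vv, nuChar_vv]
  fin_cases j <;> simp +decide

theorem nuChar_rho (n j : Fin 3) (v : V4) : nuChar j ((rho)^[(n : ℕ)] v) = nuChar (j - n) v := by
  rcases V4_cases v with rfl | ⟨i, rfl⟩
  · rw [iterate_map_one, map_one, map_one]
  · refine Units.ext ?_
    rw [rho_iterate_vv, nuChar_vv, nuChar_vv]
    exact if_congr (eq_sub_iff_add_eq).symm rfl rfl

theorem nuChar_inj {i j : Fin 3} (h : nuChar i = nuChar j) : i = j := by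
  have h1 := nuChar_vv i i
  rw [h, nuChar_vv, if_pos rfl] at h1
  by_contra hne
  rw [if_neg hne] at h1
  norm_num at h1

theorem sum_one_sub_mul {A : Type v} [Group A] [Fintype A] {μ ν : A →* ℂˣ} (hμ : μ ≠ 1) (hν : ν ≠ 1) :
    ∑ x : A, (1 - (μ x : ℂ)) * conj (1 - (ν x : ℂ)) = (Fintype.card A : ℂ) * (if μ = ν then 2 else 1) := by
  have h1 : ∀ x : A, (1 - (μ x : ℂ)) * conj (1 - (ν x : ℂ)) =
      1 - (μ x : ℂ) - ((ν⁻¹) x : ℂ) + ((μ * ν⁻¹) x : ℂ) := by
    intro x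
    rw [map_sub, map_one, SL2C.conj_char, MonoidHom.mul_apply, Units.val_mul]; ring
  rw [Finset.sum_congr rfl fun x _ => h1 x, Finset.sum_add_distrib, Finset.sum_sub_distrib,
    Finset.sum_sub_distrib, SL2C.sum_char, SL2C.sum_char, SL2C.sum_char, if_neg hμ, if_neg (inv_ne_one' hν)]
  have hiff : μ * ν⁻¹ = 1 ↔ μ = ν := by
    constructor
    · intro e
      refine MonoidHom.ext fun x => ?_
      have := DFunLike.congr_fun e x
      rw [MonoidHom.mul_apply, MonoidHom.inv_apply, MonoidHom.one_apply, mul_inv_eq_one] at this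
      exact this
    · rintro rfl
      exact MonoidHom.ext fun x => by simp
  simp only [hiff, Finset.sum_const, Finset.card_univ, nsmul_eq_mul, mul_one]
  split_ifs <;> ring

theorem sum_one_sub_mul_pair {A : Type v} [Group A] [Fintype A] (hodd : Odd (Fintype.card A))
    {μ ν : A →* ℂˣ} (hμ : μ ≠ 1) (hν : ν ≠ 1) :
    ∑ x : A, (1 - (μ x : ℂ)) * conj ((ν x : ℂ) + (ν x⁻¹ : ℂ)) =
      -(Fintype.card A : ℂ) * (if ν = μ ∨ ν = μ⁻¹ then 1 else 0) := by
  have h1 : ∀ x : A, (1 - (μ x : ℂ)) * conj ((ν x : ℂ) + (ν x⁻¹ : ℂ)) =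
      ((ν⁻¹) x : ℂ) + (ν x : ℂ) - ((μ * ν⁻¹) x : ℂ) - ((μ * ν) x : ℂ) := by
    intro x
    rw [map_add, SL2C.conj_char, SL2C.conj_char, MonoidHom.mul_apply, MonoidHom.mul_apply, Units.val_mul,
      Units.val_mul, map_inv, show ((ν⁻¹ x)⁻¹ : ℂˣ) = ν x by rw [MonoidHom.inv_apply, inv_inv]]
    ring
  rw [Finset.sum_congr rfl fun x _ => h1 x, Finset.sum_sub_distrib, Finset.sum_sub_distrib,
    Finset.sum_add_distrib, SL2C.sum_char, SL2C.sum_char, SL2C.sum_char, SL2C.sum_char, if_neg hν,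
    if_neg (inv_ne_one' hν)]
  have hiff : μ * ν⁻¹ = 1 ↔ ν = μ := by
    constructor
    · intro e
      refine MonoidHom.ext fun x => ?_
      have := DFunLike.congr_fun e x
      rw [MonoidHom.mul_apply, MonoidHom.inv_apply, MonoidHom.one_apply, mul_inv_eq_one] at this
      exact this.symm
    · rintro rfl
      exact MonoidHom.ext fun x => by simp
  have hiff' : μ * ν = 1 ↔ ν = μ⁻¹ := by
    constructor
    · intro e
      refine MonoidHom.ext fun x => ?_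
      have := DFunLike.congr_fun e x
      rw [MonoidHom.mul_apply, MonoidHom.one_apply] at this
      rw [MonoidHom.inv_apply]
      exact eq_inv_of_mul_eq_one_right this
    · rintro rfl
      exact MonoidHom.ext fun x => by simp
  simp only [hiff, hiff']
  by_cases h2 : ν = μ
  · have h3 : ν ≠ μ⁻¹ := fun e => inv_ne_self hodd hμ (e.symm.trans h2)
    rw [if_pos h2, if_neg h3, if_pos (Or.inl h2)]; ring
  · by_cases h3 : ν = μ⁻¹
    · rw [if_neg h2, if_pos h3, if_pos (Or.inr h3)]; ring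
    · rw [if_neg h2, if_neg h3, if_neg (by tauto)]; ring

variable {G : Type u} [Group G] {L : Type v} [Group L] [Fintype L] {p : ℕ} {Q k h : ℤ}
variable (K : Ctx G L) (Lf : LFns L p Q k h)

/-- The function `ν (1 - μ)` on the torus. -/
noncomputable def fnT (ν : V4 →* ℂˣ) (μ : ↥Lf.A →* ℂˣ) : V4 × ↥Lf.A → ℂ :=
  fun d => (ν d.1 : ℂ) * (1 - (μ d.2 : ℂ))

theorem fnT_gen (ν : V4 →* ℂˣ) (μ : ↥Lf.A →* ℂˣ) : Cfsg.IsGeneralizedCharacter (V4 × ↥Lf.A) (fnT Lf ν μ) := by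
  have e : fnT Lf ν μ = (fun d : V4 × ↥Lf.A => ((ν.comp (MonoidHom.fst V4 ↥Lf.A)) d : ℂ)) -
      fun d => ((ν.comp (MonoidHom.fst V4 ↥Lf.A) * μ.comp (MonoidHom.snd V4 ↥Lf.A)) d : ℂ) := by
    funext d
    simp [fnT, Pi.sub_apply, mul_sub]
  rw [e]
  exact IsGeneralized.sub (IsCharacter.isGeneralized (isCharacter_ofHom _))
    (IsCharacter.isGeneralized (isCharacter_ofHom _))

theorem fnT_zero (ν : V4 →* ℂˣ) (μ : ↥Lf.A →* ℂˣ) (d : V4 × ↥Lf.A) (hd : d ∉ {d : V4 × ↥Lf.A | d.2 ≠ 1}) :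
    fnT Lf ν μ d = 0 := by
  simp only [Set.mem_ofPred_eq, not_not] at hd
  simp [fnT, hd]

theorem natCard_torus : (Nat.card (V4 × ↥Lf.A) : ℂ) = 4 * (Fintype.card ↥Lf.A : ℂ) := by
  rw [Nat.card_eq_fintype_card, Fintype.card_prod, V4_card, Nat.cast_mul, Nat.cast_ofNat]

variable {r y : G} (hF : FreeTorus K.t (K.emb Lf.i0) r y (Lf.A.map K.emb))
variable [Fintype G]

/-- The virtual character of `ν (1 - μ)`. -/
noncomputable def Ctx.Tf (ν : V4 →* ℂˣ) (μ : ↥Lf.A →* ℂˣ) : G → ℂ :=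
  indH (K.tor Lf) (K.tor_inj Lf) (fnT Lf ν μ)

theorem Ctx.Tf_gen (ν : V4 →* ℂˣ) (μ : ↥Lf.A →* ℂˣ) : Cfsg.IsGeneralizedCharacter G (K.Tf Lf ν μ) :=
  isGeneralized_indH _ _ (fnT_gen Lf ν μ)

theorem Ctx.Tf_at_one (ν : V4 →* ℂˣ) (μ : ↥Lf.A →* ℂˣ) : K.Tf Lf ν μ 1 = 0 :=
  indH_one _ _ _ (by simp [fnT])

theorem Ctx.inner_Tf (ν : V4 →* ℂˣ) (μ : ↥Lf.A →* ℂˣ) {χ : G → ℂ} (hχ : Cfsg.IsClassFunction G χ) :
    Cfsg.classInner (K.Tf Lf ν μ) χ = (4 * (Fintype.card ↥Lf.A : ℂ))⁻¹ *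
      ∑ x : ↥Lf.A, (1 - (μ x : ℂ)) * ∑ v : V4, (ν v : ℂ) * conj (χ (K.tor Lf (v, x))) := by
  rw [Ctx.Tf, classInner_indH _ _ _ hχ, classInner_def, natCard_torus, Fintype.sum_prod_type, Finset.sum_comm]
  congr 1
  refine Finset.sum_congr rfl fun x _ => ?_
  rw [Finset.mul_sum]
  exact Finset.sum_congr rfl fun v _ => by simp only [fnT]; ring

theorem Ctx.inner_Tf_one (ν : V4 →* ℂˣ) {μ : ↥Lf.A →* ℂˣ} (hμ : μ ≠ 1) :
    Cfsg.classInner (K.Tf Lf ν μ) (fun _ => 1) = if ν = 1 then 1 else 0 := by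
  rw [K.inner_Tf Lf ν μ (IsIrrCharacter.isClassFunction isIrrCharacter_one)]
  simp only [map_one, mul_one, ← Finset.sum_mul, SL2C.sum_char, Finset.sum_sub_distrib, if_neg hμ,
    Finset.sum_const, Finset.card_univ, nsmul_eq_mul, sub_zero, V4_card]
  have hA : (Fintype.card ↥Lf.A : ℂ) ≠ 0 := Nat.cast_ne_zero.2 Fintype.card_ne_zero
  split_ifs
  · field_simp; push_cast; ring
  · ring

include hF

/-- The translation of the characters by `y`. -/
noncomputable def Ctx.wRep (n : ℕ) (μ : ↥Lf.A →* ℂˣ) : ↥Lf.A →* ℂˣ :=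
  (fun η : ↥Lf.A →* ℂˣ => η.comp (K.omega Lf hF))^[n] μ

theorem Ctx.wRep_apply (n : ℕ) (μ : ↥Lf.A →* ℂˣ) (x : ↥Lf.A) :
    K.wRep Lf hF n μ x = μ ((K.omega Lf hF)^[n] x) := by
  induction n generalizing x with
  | zero => rfl
  | succ n ih =>
    rw [Ctx.wRep, Function.iterate_succ_apply', MonoidHom.comp_apply, ← Ctx.wRep, ih,
      ← Function.iterate_succ_apply]

theorem Ctx.comp_omega_ne_one {μ : ↥Lf.A →* ℂˣ} (hμ : μ ≠ 1) : μ.comp (K.omega Lf hF) ≠ 1 := by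
  intro e
  refine hμ (MonoidHom.ext fun x => ?_)
  rw [← K.omega_three Lf hF x]
  exact DFunLike.congr_fun e _

/-- The action of `y` on pairs of characters. -/
noncomputable def Ctx.wFun : Pair ↥Lf.A → Pair ↥Lf.A :=
  Quotient.map (fun μ => ⟨μ.1.comp (K.omega Lf hF), K.comp_omega_ne_one Lf hF μ.2⟩) fun μ ν h => by
    rcases h with h | h
    · left
      exact MonoidHom.ext fun x => by simp [h]
    · right
      exact MonoidHom.ext fun x => by simp [h]

theorem Ctx.wFun_rel (m : Pair ↥Lf.A) :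
    (K.wFun Lf hF m).rep = m.rep.comp (K.omega Lf hF) ∨ (K.wFun Lf hF m).rep = (m.rep.comp (K.omega Lf hF))⁻¹ := by
  have e : K.wFun Lf hF m = Quotient.mk (pairSetoid ↥Lf.A) ⟨m.rep.comp (K.omega Lf hF), K.comp_omega_ne_one Lf hF m.rep_ne⟩ := by
    conv_lhs => rw [← Pair.mk_rep m m.rep_ne]
    rfl
  exact Quotient.exact (e.symm.trans (Pair.mk_rep _ (K.wFun Lf hF m).rep_ne).symm)

theorem Ctx.wFun_rel_iterate (m : Pair ↥Lf.A) (n : ℕ) :
    ((K.wFun Lf hF)^[n] m).rep = K.wRep Lf hF n m.rep ∨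
      ((K.wFun Lf hF)^[n] m).rep = (K.wRep Lf hF n m.rep)⁻¹ := by
  induction n with
  | zero => exact Or.inl rfl
  | succ n ih =>
    rw [Function.iterate_succ_apply', Ctx.wRep, Function.iterate_succ_apply', ← Ctx.wRep]
    rcases K.wFun_rel Lf hF ((K.wFun Lf hF)^[n] m) with h1 | h1 <;> rcases ih with h2 | h2
    · exact Or.inl (by rw [h1, h2])
    · exact Or.inr (by rw [h1, h2]; exact MonoidHom.ext fun x => by simp)
    · exact Or.inr (by rw [h1, h2])
    · exact Or.inl (by rw [h1, h2]; exact MonoidHom.ext fun x => by simp)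

theorem Ctx.eq_wFun_iterate_iff (m q : Pair ↥Lf.A) (n : ℕ) :
    m = (K.wFun Lf hF)^[n] q ↔ (m.rep = K.wRep Lf hF n q.rep ∨ m.rep = (K.wRep Lf hF n q.rep)⁻¹) := by
  rw [Pair.eq_iff]
  rcases K.wFun_rel_iterate Lf hF q n with e | e <;> rw [e]
  · constructor
    · rintro (h | h)
      · exact Or.inl h.symm
      · exact Or.inr (MonoidHom.ext fun x => by rw [MonoidHom.inv_apply, DFunLike.congr_fun h x, MonoidHom.inv_apply, inv_inv])
    · rintro (h | h)
      · exact Or.inl h.symm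
      · exact Or.inr (MonoidHom.ext fun x => by rw [h]; simp)
  · constructor
    · rintro (h | h)
      · exact Or.inr h.symm
      · exact Or.inl (MonoidHom.ext fun x => by
          have := DFunLike.congr_fun h x
          simp only [MonoidHom.inv_apply, inv_inj] at this
          exact this.symm)
    · rintro (h | h)
      · exact Or.inr (by rw [h])
      · exact Or.inl h.symm

theorem Ctx.wFun_three (m : Pair ↥Lf.A) :
    K.wFun Lf hF (K.wFun Lf hF (K.wFun Lf hF m)) = m := by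
  symm
  refine (K.eq_wFun_iterate_iff Lf hF m m 3).2 (Or.inl (MonoidHom.ext fun x => ?_))
  rw [K.wRep_apply Lf hF]
  exact congrArg m.rep (K.omega_three Lf hF x).symm

theorem Ctx.wFun_ne (m : Pair ↥Lf.A) : K.wFun Lf hF m ≠ m := by
  intro e
  rcases (K.eq_wFun_iterate_iff Lf hF m m 1).1 e.symm with h1 | h1
  · -- a character fixed by `y` is trivial, as `x ↦ x⁻¹ ω x` is bijective
    have hinj : Function.Injective fun x : ↥Lf.A => x⁻¹ * K.omega Lf hF x := by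
      intro a b hab
      simp only at hab
      have hc : ∀ u w : ↥Lf.A, u * w = w * u := fun u w => Subtype.ext (Lf.commA _ u.2 _ w.2)
      have hfix : K.omega Lf hF (a * b⁻¹) = a * b⁻¹ := by
        rw [map_mul, map_inv]
        calc K.omega Lf hF a * (K.omega Lf hF b)⁻¹
            = (a * (a⁻¹ * K.omega Lf hF a)) * (b * (b⁻¹ * K.omega Lf hF b))⁻¹ := by group
          _ = a * b⁻¹ := by rw [hab]; group
      exact mul_inv_eq_one.1 (K.omega_free Lf hF hfix)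
    refine m.rep_ne (MonoidHom.ext fun z => ?_)
    obtain ⟨x, hx⟩ := Finite.surjective_of_injective hinj z
    have h2 := DFunLike.congr_fun h1 x
    rw [K.wRep_apply Lf hF] at h2
    simp only [Function.iterate_one] at h2
    rw [← hx, map_mul, map_inv, ← h2, inv_mul_cancel, MonoidHom.one_apply]
  · refine inv_ne_self Lf.odd_card_A m.rep_ne (MonoidHom.ext fun x => ?_)
    have e1 : ∀ z, m.rep (K.omega Lf hF z) = (m.rep z)⁻¹ := by
      intro z
      have h2 := DFunLike.congr_fun h1 z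
      rw [MonoidHom.inv_apply, K.wRep_apply Lf hF, Function.iterate_one] at h2
      rw [h2, inv_inv]
    rw [MonoidHom.inv_apply]
    nth_rw 2 [← K.omega_three Lf hF x]
    rw [e1, e1, e1, inv_inv]

/-- The action of `y` as a permutation. -/
noncomputable def Ctx.wPerm : Equiv.Perm (Pair ↥Lf.A) :=
  ⟨K.wFun Lf hF, fun m => K.wFun Lf hF (K.wFun Lf hF m), fun m => K.wFun_three Lf hF m,
    fun m => K.wFun_three Lf hF m⟩

theorem Ctx.wPerm_pow (n : ℕ) (m : Pair ↥Lf.A) : (K.wPerm Lf hF ^ n) m = (K.wFun Lf hF)^[n] m := by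
  rw [← Equiv.Perm.iterate_eq_pow]; rfl

theorem Ctx.wFun_iterate_unique (m : Pair ↥Lf.A) {a b : Fin 3}
    (e : (K.wFun Lf hF)^[(a : ℕ)] m = (K.wFun Lf hF)^[(b : ℕ)] m) : a = b := by
  have h1 := K.wFun_ne Lf hF m
  have h3 := K.wFun_three Lf hF m
  have h2 : K.wFun Lf hF (K.wFun Lf hF m) ≠ m := fun e2 => h1 (by rw [e2] at h3; exact h3)
  have h4 : K.wFun Lf hF (K.wFun Lf hF m) ≠ K.wFun Lf hF m := K.wFun_ne Lf hF _
  fin_cases a <;> fin_cases b <;> simp [Function.iterate_succ_apply'] at e ⊢ <;>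
    first | exact h1 e | exact h1 e.symm | exact h2 e | exact h2 e.symm | exact h4 e | exact h4 e.symm

theorem Ctx.inner_Tf_Tf (ν ν' : V4 →* ℂˣ) {μ μ' : ↥Lf.A →* ℂˣ} (hμ : μ ≠ 1) (hμ' : μ' ≠ 1) :
    Cfsg.classInner (K.Tf Lf ν μ) (K.Tf Lf ν' μ') =
      ∑ n : Fin 3, (if ∀ v, ν v = ν' ((rho)^[(n : ℕ)] v) then
        (2 : ℂ) + (if μ = K.wRep Lf hF n μ' ∨ μ = (K.wRep Lf hF n μ')⁻¹ then 1 else 0) else 0) := by
  rw [Ctx.Tf, Ctx.Tf, classInner_indH_indH (K.tor Lf) (K.tor_inj Lf) (fnT Lf ν μ) (fnT Lf ν' μ')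
    (IsGeneralized.isClassFunction (fnT_gen Lf ν' μ')) {d : V4 × ↥Lf.A | d.2 ≠ 1} (fnT_zero Lf ν μ) (fnT_zero Lf ν' μ')
    (repT r y) (K.actT Lf hF) (K.actT_spec Lf hF) (K.repT_inj Lf hF) (fun x d hd d' hd' e => K.fusion Lf hF x d d' hd hd' e),
    Fintype.sum_prod_type]
  refine Finset.sum_congr rfl fun n _ => ?_
  have hA : (Fintype.card ↥Lf.A : ℂ) ≠ 0 := Nat.cast_ne_zero.2 Fintype.card_ne_zero
  have hw : K.wRep Lf hF (n : ℕ) μ' ≠ 1 := by
    intro e
    refine hμ' (MonoidHom.ext fun x => ?_)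
    have hsurj : Function.Surjective (K.omega Lf hF)^[(n : ℕ)] :=
      Function.Surjective.iterate (fun z => ⟨_, K.omega_three Lf hF z⟩) _
    obtain ⟨z, rfl⟩ := hsurj x
    rw [← K.wRep_apply Lf hF, e]; rfl
  have key : ∀ η : ↥Lf.A →* ℂˣ, η ≠ 1 →
      (Nat.card (V4 × ↥Lf.A) : ℂ)⁻¹ * ∑ d : V4 × ↥Lf.A, fnT Lf ν μ d * conj ((ν' ((rho)^[(n : ℕ)] d.1) : ℂ) * (1 - (η d.2 : ℂ))) =
        if ∀ v, ν v = ν' ((rho)^[(n : ℕ)] v) then (if μ = η then 2 else 1) else 0 := by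
    intro η hη
    set ν'' : V4 →* ℂˣ := MonoidHom.mk' (fun v => ν' ((rho)^[(n : ℕ)] v)) fun a b => by rw [iterate_map_mul, map_mul]
    rw [natCard_torus, Fintype.sum_prod_type,
      Finset.sum_congr rfl (g := fun v : V4 => (((ν * ν''⁻¹) v : ℂˣ) : ℂ) * ∑ x : ↥Lf.A, (1 - (μ x : ℂ)) * conj (1 - (η x : ℂ)))
        (fun v _ => ?_), ← Finset.sum_mul, SL2C.sum_char, sum_one_sub_mul hμ hη]
    · have hiff : ν * ν''⁻¹ = 1 ↔ ∀ v, ν v = ν' ((rho)^[(n : ℕ)] v) := by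
        constructor
        · intro e v
          have := DFunLike.congr_fun e v
          rwa [MonoidHom.mul_apply, MonoidHom.inv_apply, MonoidHom.one_apply, mul_inv_eq_one] at this
        · intro e
          refine MonoidHom.ext fun v => ?_
          rw [MonoidHom.mul_apply, MonoidHom.inv_apply, MonoidHom.one_apply, mul_inv_eq_one, e v]; rfl
      simp only [hiff, V4_card, Nat.cast_ofNat]
      split_ifs <;> field_simp <;> ring
    · rw [Finset.mul_sum]
      refine Finset.sum_congr rfl fun x _ => ?_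
      simp only [fnT, map_mul, SL2C.conj_char, MonoidHom.mul_apply, Units.val_mul]
      rw [show (ν'⁻¹) ((rho)^[(n : ℕ)] v) = ν''⁻¹ v from rfl]
      ring
  rw [Fin.sum_univ_two]
  simp only [classInner_def, Ctx.actT, if_true, Fin.reduceEq, if_false, K.yD_iterate Lf hF, fnT]
  simp only [← K.wRep_apply Lf hF]
  have e2 : ∀ x : ↥Lf.A, K.wRep Lf hF (n : ℕ) μ' x⁻¹ = (K.wRep Lf hF (n : ℕ) μ')⁻¹ x := fun x => by
    rw [map_inv, MonoidHom.inv_apply]
  simp only [e2]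
  have k1 := key _ hw
  have k2 := key _ (inv_ne_one' hw)
  simp only [fnT] at k1 k2
  rw [k1, k2]
  by_cases hv : ∀ v, ν v = ν' ((rho)^[(n : ℕ)] v)
  · rw [if_pos hv, if_pos hv, if_pos hv]
    by_cases h1 : μ = K.wRep Lf hF (n : ℕ) μ'
    · have h2 : μ ≠ (K.wRep Lf hF (n : ℕ) μ')⁻¹ := fun e => inv_ne_self Lf.odd_card_A hw (e.symm.trans h1)
      rw [if_pos h1, if_neg h2, if_pos (Or.inl h1)]
    · by_cases h2 : μ = (K.wRep Lf hF (n : ℕ) μ')⁻¹
      · rw [if_neg h1, if_pos h2, if_pos (Or.inr h2)]; norm_num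
      · rw [if_neg h1, if_neg h2, if_neg (by tauto)]; norm_num
  · rw [if_neg hv, if_neg hv, if_neg hv, add_zero]

/-- A class function at the `n`-th involution coset is its value at a conjugate in the coset of `t`. -/
theorem Ctx.apply_tor_vv {χ : G → ℂ} (hχ : Cfsg.IsClassFunction G χ) (n : Fin 3) (x : ↥Lf.A) :
    χ (K.tor Lf (vv n, x)) = χ (K.t * K.emb ((K.omega Lf hF)^[2 * (n : ℕ)] x : L)) := by
  have e := K.y_pow_conj Lf hF (n : ℕ) (vv 0, (K.omega Lf hF)^[2 * (n : ℕ)] x)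
  rw [K.yD_iterate Lf hF, rho_iterate_vv, zero_add, ← Function.iterate_add_apply,
    show (n : ℕ) + 2 * (n : ℕ) = 3 * (n : ℕ) by ring] at e
  have h3 : (K.omega Lf hF)^[3 * (n : ℕ)] x = x := by
    rw [Function.iterate_mul, show (K.omega Lf hF)^[3] = id from funext fun z => K.omega_three Lf hF z,
      Function.iterate_id, id]
  rw [h3, K.tor_vv0] at e
  rw [← e]
  exact hχ _ _

theorem Ctx.omega_iterate_ne_one {x : ↥Lf.A} (hx : x ≠ 1) (n : ℕ) : (K.omega Lf hF)^[n] x ≠ 1 := by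
  induction n with
  | zero => exact hx
  | succ n ih =>
    rw [Function.iterate_succ_apply']
    exact fun e => ih (by rw [← K.omega_three Lf hF ((K.omega Lf hF)^[n] x), e, map_one, map_one])

/-- The inner product with a function of the section, constant on the coset of each involution. -/
theorem Ctx.inner_Tf_sect (ν : V4 →* ℂˣ) {μ : ↥Lf.A →* ℂˣ} {Φ : L → ℂ} (hc : Cfsg.IsClassFunction L Φ)
    (h0 : ∀ x, Even (orderOf x) → Φ x = 0) :
    Cfsg.classInner (K.Tf Lf ν μ) (K.sect Φ) = (2 * (Fintype.card ↥Lf.A : ℂ))⁻¹ *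
      ∑ j : Fin 3, (ν (vv j) : ℂ) * ∑ x : ↥Lf.A, (1 - (μ x : ℂ)) * conj (Φ ((K.omega Lf hF)^[2 * (j : ℕ)] x : L)) := by
  have hodd : ∀ x : ↥Lf.A, Odd (orderOf (x : L)) := fun x => by
    rw [Subgroup.orderOf_coe, ← Nat.not_even_iff_odd]
    exact fun he => Nat.not_even_iff_odd.2 Lf.odd_card_A (he.trans_dvd (orderOf_dvd_card))
  rw [K.inner_Tf Lf ν μ (show Cfsg.IsClassFunction G (K.sect Φ) from isClassFunction_indH _ _ _)]
  have hsum : ∀ x : ↥Lf.A, ∑ v : V4, (ν v : ℂ) * conj (K.sect Φ (K.tor Lf (v, x))) =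
      ∑ j : Fin 3, (ν (vv j) : ℂ) * (2 * conj (Φ ((K.omega Lf hF)^[2 * (j : ℕ)] x : L))) := by
    intro x
    have h1 : K.sect Φ (K.tor Lf (1, x)) = 0 := by
      rw [K.tor_A]
      refine K.sect_eq_zero_of_odd h0 ?_
      rw [orderOf_injective K.emb K.emb_inj]; exact hodd x
    rw [sum_V4, h1, map_zero, mul_zero, zero_add, Fin.sum_univ_three, add_assoc]
    simp only [K.apply_tor_vv Lf hF (χ := K.sect Φ) (isClassFunction_indH _ _ _),
      K.sect_apply hc h0 (hodd _), map_mul, Complex.conj_ofNat]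
  simp only [hsum, Finset.mul_sum]
  rw [Finset.sum_comm]
  refine Finset.sum_congr rfl fun j _ => Finset.sum_congr rfl fun x _ => ?_
  field_simp
  ring

theorem Ctx.inner_Tf_pairs (ν : V4 →* ℂˣ) {μ : ↥Lf.A →* ℂˣ} (hμ : μ ≠ 1) :
    Cfsg.classInner (K.Tf Lf ν μ) (pairsN K.t) = if ν = 1 then ((|Q + 1| : ℤ) : ℂ) else 0 := by
  rw [K.inner_Tf Lf ν μ (isClassFunction_pairsN K.t)]
  have hsum : ∀ x : ↥Lf.A, (1 - (μ x : ℂ)) * ∑ v : V4, (ν v : ℂ) * conj (pairsN K.t (K.tor Lf (v, x))) =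
      (1 - (μ x : ℂ)) * (((|Q + 1| : ℤ) : ℂ) * ∑ v : V4, (ν v : ℂ)) := by
    intro x
    by_cases hx : x = 1
    · simp [hx]
    · rw [Finset.mul_sum _ _ ((|Q + 1| : ℤ) : ℂ)]
      congr 1
      refine Finset.sum_congr rfl fun v _ => ?_
      rw [K.pairsN_tor Lf hF (v, x) hx, map_intCast]; ring
  rw [Finset.sum_congr rfl fun x _ => hsum x, ← Finset.sum_mul, Finset.sum_sub_distrib, SL2C.sum_char,
    SL2C.sum_char, if_neg hμ, Finset.sum_const, Finset.card_univ, nsmul_eq_mul, V4_card]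
  have hA : (Fintype.card ↥Lf.A : ℂ) ≠ 0 := Nat.cast_ne_zero.2 Fintype.card_ne_zero
  split_ifs
  · field_simp; push_cast; ring
  · ring

theorem Ctx.inner_Tf_inv {μ : ↥Lf.A →* ℂˣ} {χ : G → ℂ} (hχ : Cfsg.IsClassFunction G χ) :
    Cfsg.classInner (K.Tf Lf 1 μ⁻¹) χ = Cfsg.classInner (K.Tf Lf 1 μ) χ := by
  rw [K.inner_Tf Lf 1 _ hχ, K.inner_Tf Lf 1 _ hχ]
  congr 1
  refine Fintype.sum_equiv (Equiv.inv ↥Lf.A) _ _ fun x => ?_
  rw [Equiv.inv_apply, MonoidHom.inv_apply, ← map_inv μ x]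
  congr 1
  refine Finset.sum_congr rfl fun v _ => ?_
  rw [← K.r_conj Lf hF v x, hχ]

end CfsgLib.JT
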